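import Mathlib
import Cfsg.Agent.Lib.Helper20.QuatLift

set_option autoImplicit false
set_option linter.style.haveILetI false
set_option linter.unusedSimpArgs false
set_option linter.unusedSectionVars false

namespace Cfsg.Agent.Lib.Helper20

namespace SL23

open QuaternionGroup

/-- the order-3 map of `Q8`: `a ↦ x`, `x ↦ a * x` -/
def phiFun : QuaternionGroup 2 → QuaternionGroup 2
  | a k => (xa 0) ^ k.val
  | xa k => (a 1 * xa 0) * (xa 0) ^ k.val

theorem phiFun_mul : ∀ u v : QuaternionGroup 2, phiFun (u * v) = phiFun u * phiFun v := by decide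

theorem phiFun_cube : ∀ q : QuaternionGroup 2, phiFun (phiFun (phiFun q)) = q := by decide

theorem phiFun_a1 : phiFun (a 1) = xa 0 := by decide

theorem phiFun_xa0 : phiFun (xa 0) = a 1 * xa 0 := by decide

theorem quat2_pow_four : ∀ q : QuaternionGroup 2, q ^ 4 = 1 := by decide

/-- the automorphism of order 3 of `Q8` -/
def phi0 : MulAut (QuaternionGroup 2) where
  toFun := phiFun
  invFun := fun q => phiFun (phiFun q)
  left_inv := phiFun_cube
  right_inv := phiFun_cube
  map_mul' := phiFun_mul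

theorem phi0_apply (q : QuaternionGroup 2) : phi0 q = phiFun q := rfl

theorem phi0_cube : phi0 ^ 3 = 1 := by
  ext q
  show phiFun (phiFun (phiFun q)) = q
  exact phiFun_cube q

/-- the homomorphism from the cyclic group of order 3 determined by an element of order dividing 3 -/
def zmod3Hom {H : Type*} [Group H] (x : H) (hx : x ^ 3 = 1) : Multiplicative (ZMod 3) →* H :=
  MonoidHom.mk' (fun k => x ^ (Multiplicative.toAdd k).val) (by
    intro u v
    show x ^ ((Multiplicative.toAdd u + Multiplicative.toAdd v : ZMod 3)).val = _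
    rw [ZMod.val_add, ← pow_add, ← pow_eq_pow_mod _ hx])

theorem zmod3Hom_apply {H : Type*} [Group H] (x : H) (hx : x ^ 3 = 1) (k : Multiplicative (ZMod 3)) :
    zmod3Hom x hx k = x ^ (Multiplicative.toAdd k).val := rfl

/-- the action of the cyclic group of order 3 on `Q8` -/
def phi : Multiplicative (ZMod 3) →* MulAut (QuaternionGroup 2) := zmod3Hom phi0 phi0_cube

/-- the concrete model `Q8 ⋊ Z3` of `SL(2,3)` -/
abbrev Model : Type := QuaternionGroup 2 ⋊[phi] Multiplicative (ZMod 3)

theorem quat_hom_ext {Y : Type*} [Group Y] {n : ℕ} [NeZero n] (f f' : QuaternionGroup n →* Y)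
    (h1 : f (a 1) = f' (a 1)) (h2 : f (xa 0) = f' (xa 0)) : f = f' := by
  ext q
  rcases q with k | k
  · have : (a k : QuaternionGroup n) = a 1 ^ k.val := by
      rw [QuaternionGroup.a_one_pow, ZMod.natCast_zmod_val]
    rw [this, map_pow, map_pow, h1]
  · have : (xa k : QuaternionGroup n) = xa 0 * a 1 ^ k.val := by
      rw [QuaternionGroup.a_one_pow, QuaternionGroup.xa_mul_a, zero_add, ZMod.natCast_zmod_val]
    rw [this, map_mul, map_mul, map_pow, map_pow, h1, h2]

section Recognize

variable {Y : Type*} [Group Y] (i g : Y)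

/-- the data recognizing `SL(2,3)` -/
structure Data (i g : Y) : Prop where
  hi4 : i ^ 4 = 1
  hi2 : i ^ 2 ≠ 1
  hg3 : g ^ 3 = 1
  hg1 : g ≠ 1
  h1 : (g * i * g⁻¹) * (g * i * g⁻¹) = i ^ 2
  h2 : (g * i * g⁻¹) * i * (g * i * g⁻¹)⁻¹ = i⁻¹
  h3 : g * (g * i * g⁻¹) * g⁻¹ = i * (g * i * g⁻¹)

variable {i g}

namespace Data

variable (d : Data i g)
include d

theorem orderOf_i : orderOf i = 2 * 2 := by
  have := orderOf_eq_prime_pow (x := i) (p := 2) (n := 1) (by simpa using d.hi2)
    (by simpa using d.hi4)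
  simpa using this

theorem j_not_mem : g * i * g⁻¹ ∉ Subgroup.zpowers i := by
  intro hj
  obtain ⟨k, hk⟩ := Subgroup.mem_zpowers_iff.mp hj
  have h2 := d.h2
  rw [← hk] at h2
  have h3 : i ^ k * i * (i ^ k)⁻¹ = i := by
    rw [← zpow_add_one, ← zpow_neg, ← zpow_add]
    simp
  rw [h3] at h2
  apply d.hi2
  rw [pow_two]
  calc i * i = i * i⁻¹ := by rw [← h2]
    _ = 1 := mul_inv_cancel i

/-- the homomorphism `Q8 → Y` -/
def fn : QuaternionGroup 2 →* Y :=
  quatLift (g * i * g⁻¹) i 2 (by simpa using d.hi4) d.h1 d.h2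

theorem fn_a1 : d.fn (a 1) = i := by
  show i ^ (((1 : ZMod (2 * 2)).cast : ℤ)) = i
  have : (((1 : ZMod (2 * 2)).cast : ℤ)) = 1 := by decide
  rw [this, zpow_one]

theorem fn_xa0 : d.fn (xa 0) = g * i * g⁻¹ := by
  show g * i * g⁻¹ * i ^ (((0 : ZMod (2 * 2)).cast : ℤ)) = g * i * g⁻¹
  have : (((0 : ZMod (2 * 2)).cast : ℤ)) = 0 := by decide
  rw [this, zpow_zero, mul_one]

theorem fn_injective : Function.Injective d.fn :=
  quatLift_injective (g * i * g⁻¹) i 2 d.orderOf_i d.h1 d.h2 d.j_not_mem

theorem compat_one : d.fn.comp phi0.toMonoidHom = (MulAut.conj g).toMonoidHom.comp d.fn := by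
  apply quat_hom_ext
  · show d.fn (phiFun (a 1)) = g * d.fn (a 1) * g⁻¹
    rw [phiFun_a1, d.fn_xa0, d.fn_a1]
  · show d.fn (phiFun (xa 0)) = g * d.fn (xa 0) * g⁻¹
    rw [phiFun_xa0, map_mul, d.fn_xa0, d.fn_a1, d.h3]

theorem compat_pow (n : ℕ) (q : QuaternionGroup 2) :
    d.fn ((phi0 ^ n) q) = g ^ n * d.fn q * (g ^ n)⁻¹ := by
  induction n generalizing q with
  | zero => simp
  | succ n ih =>
    rw [pow_succ, MulAut.mul_apply, ih, pow_succ]
    have := DFunLike.congr_fun d.compat_one q
    simp only [MonoidHom.comp_apply, MulEquiv.coe_toMonoidHom, MulAut.conj_apply] at this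
    rw [this]
    group

theorem compat (k : Multiplicative (ZMod 3)) :
    d.fn.comp (phi k).toMonoidHom = (MulAut.conj (zmod3Hom g d.hg3 k)).toMonoidHom.comp d.fn := by
  ext q
  simp only [MonoidHom.comp_apply, MulEquiv.coe_toMonoidHom, MulAut.conj_apply]
  show d.fn ((phi0 ^ (Multiplicative.toAdd k).val) q) = _
  rw [d.compat_pow, zmod3Hom_apply]

/-- the homomorphism from the model -/
def Psi : Model →* Y := SemidirectProduct.lift d.fn (zmod3Hom g d.hg3) d.compat

theorem Psi_apply (x : Model) : d.Psi x = d.fn x.left * zmod3Hom g d.hg3 x.right := by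
  rw [← SemidirectProduct.inl_left_mul_inr_right x, map_mul]
  simp [Psi]

theorem Psi_injective : Function.Injective d.Psi := by
  rw [injective_iff_map_eq_one]
  intro x hx
  rw [d.Psi_apply, zmod3Hom_apply] at hx
  set t := g ^ (Multiplicative.toAdd x.right).val with ht
  have ht3 : t ^ 3 = 1 := by rw [ht, ← pow_mul, mul_comm, pow_mul, d.hg3, one_pow]
  have ht' : t = d.fn (x.left⁻¹) := by
    rw [map_inv]
    exact (eq_inv_of_mul_eq_one_right hx)
  have ht4 : t ^ 4 = 1 := by
    rw [ht', ← map_pow, quat2_pow_four, map_one]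
  have ht1 : t = 1 := by
    calc t = t ^ 4 * (t ^ 3)⁻¹ := by group
      _ = 1 := by rw [ht4, ht3]; simp
  have hk : (Multiplicative.toAdd x.right).val = 0 := by
    have hlt : (Multiplicative.toAdd x.right).val < 3 := ZMod.val_lt _
    rw [ht] at ht1
    rcases h : (Multiplicative.toAdd x.right).val with _ | _ | _ | n
    · rfl
    · exfalso
      rw [h] at ht1
      exact d.hg1 (by simpa using ht1)
    · exfalso
      rw [h] at ht1
      apply d.hg1
      calc g = g ^ 3 * (g ^ 2)⁻¹ := by group
        _ = 1 := by rw [d.hg3, show (0 + 1 + 1 : ℕ) = 2 from rfl] at *; simp [ht1]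
    · omega
  have hr : x.right = 1 := by
    have : Multiplicative.toAdd x.right = 0 := (ZMod.val_eq_zero _).mp hk
    exact this
  have hl : x.left = 1 := by
    rw [ht1, mul_one] at hx
    exact (injective_iff_map_eq_one d.fn).mp d.fn_injective _ hx
  ext
  · exact hl
  · exact hr

theorem Psi_surjective (hgen : Subgroup.closure ({i, g} : Set Y) = ⊤) :
    Function.Surjective d.Psi := by
  rw [← MonoidHom.range_eq_top, eq_top_iff, ← hgen, Subgroup.closure_le]
  intro y hy
  rcases hy with rfl | rfl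
  · refine ⟨SemidirectProduct.inl (a 1), ?_⟩
    simp [Psi, d.fn_a1]
  · refine ⟨SemidirectProduct.inr (Multiplicative.ofAdd 1), ?_⟩
    simp only [Psi, SemidirectProduct.lift_inr, zmod3Hom_apply]
    have : (Multiplicative.toAdd (Multiplicative.ofAdd (1 : ZMod 3))).val = 1 := by decide
    rw [this, pow_one]

/-- recognition with a generation hypothesis -/
noncomputable def equivOfGen (hgen : Subgroup.closure ({i, g} : Set Y) = ⊤) : Model ≃* Y :=
  MulEquiv.ofBijective d.Psi ⟨d.Psi_injective, d.Psi_surjective hgen⟩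

/-- recognition with a cardinality hypothesis -/
noncomputable def equivOfCard [Finite Y] (hcard : Nat.card Y = 24) : Model ≃* Y :=
  MulEquiv.ofBijective d.Psi (by
    have hM : Nat.card Model = 24 := by
      rw [SemidirectProduct.card, Nat.card_eq_fintype_card, Nat.card_eq_fintype_card,
        QuaternionGroup.card]
      simp
    haveI : Finite Model := Nat.finite_of_card_ne_zero (by rw [hM]; norm_num)
    rw [Nat.bijective_iff_injective_and_card]
    exact ⟨d.Psi_injective, by rw [hM, hcard]⟩)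

end Data

end Recognize

/-- data in `SL(2,3)` -/
def i0 : Matrix.SpecialLinearGroup (Fin 2) (ZMod 3) := ⟨!![0, -1; 1, 0], by decide⟩

/-- data in `SL(2,3)` -/
def g0 : Matrix.SpecialLinearGroup (Fin 2) (ZMod 3) := ⟨!![1, 1; 0, 1], by decide⟩

theorem sl23_data : Data i0 g0 where
  hi4 := by decide
  hi2 := by decide
  hg3 := by decide
  hg1 := by decide
  h1 := by decide
  h2 := by decide
  h3 := by decide

theorem card_sl23 : Nat.card (Matrix.SpecialLinearGroup (Fin 2) (ZMod 3)) = 24 := by
  rw [Nat.card_eq_fintype_card]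
  decide

/-- the model is isomorphic to `SL(2,3)` -/
noncomputable def modelEquiv : Model ≃* Matrix.SpecialLinearGroup (Fin 2) (ZMod 3) :=
  sl23_data.equivOfCard card_sl23

/-- recognition of `SL(2,3)` from generators -/
theorem nonempty_equiv_sl23 {Y : Type*} [Group Y] {i g : Y} (d : Data i g)
    (hgen : Subgroup.closure ({i, g} : Set Y) = ⊤) :
    Nonempty (Y ≃* Matrix.SpecialLinearGroup (Fin 2) (ZMod 3)) :=
  ⟨(d.equivOfGen hgen).symm.trans modelEquiv⟩

end SL23

end Cfsg.Agent.Lib.Helper20
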