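import Mathlib

set_option autoImplicit false
set_option linter.style.haveILetI false
set_option linter.unusedSimpArgs false

namespace Cfsg.Agent.Lib.Helper20

section

variable {N V M : Type*} [Group N] [Group V] [Group M]

/-- an element mapping to an involution forces an even index of the kernel -/
theorem two_dvd_index_ker (ψ : N →* M) (a : N) (h1 : ψ a ≠ 1) (h2 : ψ (a * a) = 1) :
    2 ∣ ψ.ker.index := by
  rw [Subgroup.index_ker]
  have ho : orderOf (⟨ψ a, a, rfl⟩ : ψ.range) = 2 := by
    apply orderOf_eq_prime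
    · apply Subtype.ext
      rw [pow_two]
      show ψ a * ψ a = 1
      rw [← map_mul, h2]
    · intro h
      exact h1 (congrArg Subtype.val h)
  rw [← ho]
  exact orderOf_dvd_natCard _

/-- if the kernel has index two, the hom takes only two values -/
theorem index_ker_two_cases (ψ : N →* M) (h : ψ.ker.index = 2) (n₀ : N) (hn₀ : ψ n₀ ≠ 1) (w : N) :
    ψ w = 1 ∨ ψ w = ψ n₀ := by
  by_cases hw : ψ w = 1
  · exact Or.inl hw
  · right
    have h1 : n₀⁻¹ * w ∈ ψ.ker := by
      rw [Subgroup.mul_mem_iff_of_index_two h]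
      constructor
      · intro h2
        exfalso
        apply hn₀
        have := ψ.ker.inv_mem h2
        rw [inv_inv] at this
        exact MonoidHom.mem_ker.mp this
      · intro h2
        exact absurd (MonoidHom.mem_ker.mp h2) hw
    rw [MonoidHom.mem_ker, map_mul, map_inv, inv_mul_eq_one] at h1
    exact h1.symm

/-- automorphisms permute the non-identity elements -/
def autToPerm (V : Type*) [Group V] : MulAut V →* Equiv.Perm {v : V // v ≠ 1} where
  toFun α := α.toEquiv.subtypeEquiv (fun v => (MulEquiv.map_ne_one_iff α).symm)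
  map_one' := by ext v; rfl
  map_mul' := fun α β => by ext v; rfl

theorem autToPerm_injective (V : Type*) [Group V] : Function.Injective (autToPerm V) := by
  intro α β h
  ext v
  by_cases hv : v = 1
  · rw [hv, map_one, map_one]
  · have := congrArg (fun σ => ((σ ⟨v, hv⟩ : {v : V // v ≠ 1}) : V)) h
    exact this

theorem card_mulAut_dvd_six [Finite V] (h : Nat.card V = 4) : Nat.card (MulAut V) ∣ 6 := by
  classical
  have h1 := Subgroup.card_dvd_of_injective (autToPerm V) (autToPerm_injective V)
  rw [Nat.card_perm] at h1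
  have h2 : Nat.card {v : V // v ≠ 1} = 3 := by
    have := Nat.card_congr (Equiv.optionSubtypeNe (1 : V))
    rw [Finite.card_option] at this
    omega
  rw [h2] at h1
  exact h1

theorem index_ker_dvd_six [Finite V] (h : Nat.card V = 4) (ψ : N →* MulAut V) :
    ψ.ker.index ∣ 6 := by
  rw [Subgroup.index_ker]
  exact (Subgroup.card_subgroup_dvd_card ψ.range).trans (card_mulAut_dvd_six h)

theorem even_dvd_six {n : ℕ} (h2 : 2 ∣ n) (h6 : n ∣ 6) : n = 2 ∨ n = 6 := by
  have h := Nat.le_of_dvd (by norm_num) h6
  interval_cases n <;> omega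

/-- an automorphism group of a Klein four-group whose order is divisible by three is transitive on
the non-identity elements -/
theorem kleinAct_transitive [IsKleinFour V] [Finite N] (ψ : N →* MulAut V)
    (h3 : 3 ∣ ψ.ker.index) (c d : V) (hc : c ≠ 1) (hd : d ≠ 1) : ∃ w : N, ψ w c = d := by
  haveI : Fact (Nat.Prime 3) := ⟨Nat.prime_three⟩
  have hcomm : ∀ a b : V, a * b = b * a := fun a b =>
    (IsKleinFour.isMulCommutative (G := V)).is_comm.comm a b
  rw [Subgroup.index_ker] at h3
  haveI : Finite ψ.range := Finite.of_surjective ψ.rangeRestrict ψ.rangeRestrict_surjective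
  obtain ⟨σ, hσ⟩ := exists_prime_orderOf_dvd_card' 3 h3
  obtain ⟨g, hg⟩ := σ.2
  set α : MulAut V := ψ g with hα
  have hα3 : α ^ 3 = 1 := by
    have h1 : σ ^ 3 = 1 := by rw [← hσ]; exact pow_orderOf_eq_one σ
    have h2 := congrArg Subtype.val h1
    rw [SubmonoidClass.coe_pow, ← hg] at h2
    exact h2
  have hα1 : α ≠ 1 := by
    intro h
    have : σ = 1 := Subtype.ext (by rw [← hg]; exact h)
    rw [this, orderOf_one] at hσ
    omega
  have key : ∀ β : MulAut V, β ≠ 1 → β ^ 3 = 1 → ∀ c : V, c ≠ 1 → β c ≠ c := by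
    intro β hβ1 hβ3 c hc hfix
    obtain ⟨d, hd1, hdc⟩ : ∃ d : V, d ≠ 1 ∧ d ≠ c := by
      by_contra hne
      push Not at hne
      have hsub : (Set.univ : Set V) ⊆ {1, c} := by
        intro v _
        by_cases hv : v = 1
        · left; exact hv
        · right; exact hne v hv
      have h1 := Set.ncard_le_ncard hsub (Set.toFinite _)
      rw [Set.ncard_univ, IsKleinFour.card_four] at h1
      have h2 := Set.ncard_insert_le (1 : V) {c}
      rw [Set.ncard_singleton] at h2
      omega
    have hβd1 : β d ≠ 1 := (MulEquiv.map_ne_one_iff β).mpr hd1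
    have hβdc : β d ≠ c := by
      intro h
      apply hdc
      apply β.injective
      rw [h, hfix]
    by_cases hβd : β d = d
    · apply hβ1
      ext v
      show β v = v
      by_cases hv1 : v = 1
      · rw [hv1, map_one]
      by_cases hvc : v = c
      · rw [hvc, hfix]
      by_cases hvd : v = d
      · rw [hvd, hβd]
      have := IsKleinFour.eq_mul_of_ne_all hc hd1 (Ne.symm hdc) hv1 hvc hvd
      rw [this, map_mul, hfix, hβd]
    · have h2 : β d = c * d := IsKleinFour.eq_mul_of_ne_all hc hd1 (Ne.symm hdc) hβd1 hβdc hβd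
      have hβ2 : β * β = 1 := by
        ext v
        show β (β v) = v
        by_cases hv1 : v = 1
        · rw [hv1, map_one, map_one]
        by_cases hvc : v = c
        · rw [hvc, hfix, hfix]
        have hcc : c * c = 1 := IsKleinFour.mul_self c
        have hdd : β (β d) = d := by
          rw [h2, map_mul, hfix, h2, ← mul_assoc, hcc, one_mul]
        by_cases hvd : v = d
        · rw [hvd, hdd]
        have := IsKleinFour.eq_mul_of_ne_all hc hd1 (Ne.symm hdc) hv1 hvc hvd
        rw [this, map_mul, map_mul, hfix, hfix, hdd]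
      apply hβ1
      calc β = β ^ 3 * (β * β)⁻¹ := by group
        _ = 1 := by rw [hβ3, hβ2]; simp
  by_cases hcd : c = d
  · exact ⟨1, by rw [map_one, hcd]; rfl⟩
  have hαc1 : α c ≠ 1 := (MulEquiv.map_ne_one_iff α).mpr hc
  have hαcc : α c ≠ c := key α hα1 hα3 c hc
  by_cases h1 : α c = d
  · exact ⟨g, h1⟩
  have h2 : α c = c * d := IsKleinFour.eq_mul_of_ne_all hc hd hcd hαc1 hαcc h1
  have hdd : d * d = 1 := IsKleinFour.mul_self d
  have he1 : c * d ≠ 1 := by
    intro h
    apply hcd
    calc c = c * (d * d) := by rw [hdd, mul_one]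
      _ = (c * d) * d := by rw [mul_assoc]
      _ = d := by rw [h, one_mul]
  have hαe1 : α (c * d) ≠ 1 := (MulEquiv.map_ne_one_iff α).mpr he1
  have hαee : α (c * d) ≠ c * d := key α hα1 hα3 _ he1
  by_cases h3 : α (c * d) = d
  · refine ⟨g * g, ?_⟩
    rw [map_mul]
    show α (α c) = d
    rw [h2, h3]
  exfalso
  have hdcd : d ≠ c * d := by
    intro h
    apply hc
    calc c = (c * d) * d := by rw [mul_assoc, hdd, mul_one]
      _ = d * d := by rw [← h]
      _ = 1 := hdd
  have h4 : α (c * d) = c := by
    have := IsKleinFour.eq_mul_of_ne_all hd he1 hdcd hαe1 h3 hαee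
    rw [this, hcomm c d, ← mul_assoc, hdd, one_mul]
  have h5 : (α * α) c = c := by
    show α (α c) = c
    rw [h2, h4]
  refine key (α * α) ?_ ?_ c hc h5
  · intro h
    apply hα1
    calc α = α ^ 3 * (α * α)⁻¹ := by group
      _ = 1 := by rw [hα3, h]; simp
  · calc (α * α) ^ 3 = α ^ 3 * α ^ 3 := by
          simp only [pow_succ, pow_zero, one_mul, mul_assoc]
      _ = 1 := by rw [hα3]; simp

end

end Cfsg.Agent.Lib.Helper20
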