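import Mathlib
import Cfsg.Prelude.Def_CaseTheorems

set_option autoImplicit false

namespace Cfsg.Agent.Lib.Helper20

open scoped commutatorElement

/-- quasidihedral presentation data: `x` of order `8q`, `y` an involution with `y x y⁻¹ = x^(4q-1)`,
`|S| = 16 q`. For a quasidihedral 2-group `q = 2^(n-3)`. -/
structure QD (S : Type*) [Group S] (q : ℕ) (x y : S) : Prop where
  hq : 0 < q
  card : Nat.card S = 16 * q
  ox : orderOf x = 8 * q
  oy : orderOf y = 2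
  rel : y * x * y⁻¹ = x ^ ((4 * q - 1 : ℤ))

theorem exists_QD_of_isQuasiDihedral {S : Type*} [Group S] (h : Cfsg.IsQuasiDihedral S) :
    ∃ (k : ℕ) (x y : S), QD S (2 ^ k) x y ∧ Nat.card S = 2 ^ (k + 4) := by
  obtain ⟨n, hn, hcard, x, y, hx, hy, hrel⟩ := h
  obtain ⟨k, rfl⟩ : ∃ k, n = k + 3 := ⟨n - 3, by omega⟩
  refine ⟨k, x, y, ⟨by positivity, ?_, ?_, hy, ?_⟩, ?_⟩
  · rw [hcard]; ring
  · rw [hx]; ring
  · rw [hrel]
    have h1 : k + 3 - 1 = k + 2 := by omega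
    rw [h1, ← zpow_natCast]
    congr 1
    have : 1 ≤ 2 ^ (k + 2) := Nat.one_le_two_pow
    rw [Nat.cast_sub this]
    push_cast
    ring
  · rw [hcard]

namespace QD

variable {S : Type*} [Group S] {q : ℕ} {x y : S}

theorem finite (h : QD S q x y) : Finite S := by
  apply Nat.finite_of_card_ne_zero
  rw [h.card]
  have := h.hq
  omega

theorem y_mul_self (h : QD S q x y) : y * y = 1 := by
  have := pow_orderOf_eq_one y
  rw [h.oy] at this
  simpa [pow_two] using this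

theorem y_inv (h : QD S q x y) : y⁻¹ = y := inv_eq_of_mul_eq_one_right h.y_mul_self

theorem qpos (h : QD S q x y) : (0 : ℤ) < q := by exact_mod_cast h.hq

theorem zpow_eq_iff (h : QD S q x y) {i j : ℤ} : x ^ i = x ^ j ↔ (8 * q : ℤ) ∣ i - j := by
  rw [zpow_eq_zpow_iff_modEq, h.ox, Int.modEq_iff_dvd, ← dvd_neg, neg_sub]
  push_cast
  rfl

theorem zpow_eq_one_iff (h : QD S q x y) {i : ℤ} : x ^ i = 1 ↔ (8 * q : ℤ) ∣ i := by
  have := h.zpow_eq_iff (i := i) (j := 0)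
  simpa using this

theorem conj_zpow (h : QD S q x y) (i : ℤ) : y * x ^ i * y⁻¹ = x ^ ((4 * q - 1) * i : ℤ) := by
  rw [← _root_.conj_zpow, h.rel, ← zpow_mul]

theorem y_mul_zpow (h : QD S q x y) (i : ℤ) : y * x ^ i = x ^ ((4 * q - 1) * i : ℤ) * y := by
  rw [← h.conj_zpow i]; group

theorem y_not_mem (h : QD S q x y) : y ∉ Subgroup.zpowers x := by
  intro hy
  obtain ⟨i, hi⟩ := Subgroup.mem_zpowers_iff.mp hy
  have h1 : y * x * y⁻¹ = x := by
    rw [← hi]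
    have : Commute (x ^ i) x := (Commute.refl x).zpow_left i
    rw [this.eq, mul_assoc, mul_inv_cancel, mul_one]
  rw [h.rel] at h1
  have h2 : x ^ ((4 * q - 1 : ℤ)) = x ^ (1 : ℤ) := by rw [h1, zpow_one]
  rw [h.zpow_eq_iff] at h2
  have hq := h.qpos
  have := Int.le_of_dvd (by omega) h2
  omega

theorem index_zpowers (h : QD S q x y) : (Subgroup.zpowers x).index = 2 := by
  have h1 := Subgroup.card_mul_index (Subgroup.zpowers x)
  rw [Nat.card_zpowers, h.ox, h.card] at h1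
  have hq := h.hq
  have : 8 * q * (Subgroup.zpowers x).index = 8 * q * 2 := by rw [h1]; ring
  exact Nat.eq_of_mul_eq_mul_left (by omega) this

theorem cases (h : QD S q x y) (g : S) : (∃ i : ℤ, g = x ^ i) ∨ ∃ i : ℤ, g = x ^ i * y := by
  by_cases hg : g ∈ Subgroup.zpowers x
  · obtain ⟨i, hi⟩ := Subgroup.mem_zpowers_iff.mp hg
    exact Or.inl ⟨i, hi.symm⟩
  · right
    have h1 : g * y⁻¹ ∈ Subgroup.zpowers x := by
      rw [Subgroup.mul_mem_iff_of_index_two h.index_zpowers]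
      constructor
      · intro h'; exact absurd h' hg
      · intro h'; rw [h.y_inv] at h'; exact absurd h' h.y_not_mem
    obtain ⟨i, hi⟩ := Subgroup.mem_zpowers_iff.mp h1
    exact ⟨i, by rw [hi]; group⟩

theorem xy_ne_x (h : QD S q x y) (i j : ℤ) : x ^ i * y ≠ x ^ j := by
  intro he
  apply h.y_not_mem
  have : y = x ^ (j - i) := by
    rw [sub_eq_neg_add, zpow_add, ← he, ← mul_assoc, ← zpow_add, neg_add_cancel, zpow_zero, one_mul]
  rw [this]
  exact Subgroup.zpow_mem_zpowers x _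

theorem xy_not_mem (h : QD S q x y) (i : ℤ) : x ^ i * y ∉ Subgroup.zpowers x := by
  intro hm
  obtain ⟨j, hj⟩ := Subgroup.mem_zpowers_iff.mp hm
  exact h.xy_ne_x i j hj.symm

theorem mul_xy_x (h : QD S q x y) (i j : ℤ) :
    (x ^ i * y) * x ^ j = x ^ (i + (4 * q - 1) * j : ℤ) * y := by
  rw [mul_assoc, h.y_mul_zpow, ← mul_assoc, ← zpow_add]

theorem mul_xy_xy (h : QD S q x y) (i j : ℤ) :
    (x ^ i * y) * (x ^ j * y) = x ^ (i + (4 * q - 1) * j : ℤ) := by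
  rw [← mul_assoc, h.mul_xy_x, mul_assoc, h.y_mul_self, mul_one]

theorem mul_x_xy (i j : ℤ) : x ^ i * (x ^ j * y) = x ^ (i + j : ℤ) * y := by
  rw [← mul_assoc, ← zpow_add]

theorem inv_xy (h : QD S q x y) (i : ℤ) : (x ^ i * y)⁻¹ = x ^ (-(4 * q - 1) * i : ℤ) * y := by
  rw [mul_inv_rev, h.y_inv, ← zpow_neg, h.y_mul_zpow]
  congr 2
  ring

theorem xy_mul_self (h : QD S q x y) (i : ℤ) : (x ^ i * y) * (x ^ i * y) = x ^ (4 * q * i : ℤ) := by
  rw [h.mul_xy_xy]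
  congr 1
  ring

theorem conj_x_xy (h : QD S q x y) (k i : ℤ) :
    x ^ k * (x ^ i * y) * (x ^ k)⁻¹ = x ^ (i + (2 - 4 * q) * k : ℤ) * y := by
  rw [← zpow_neg, mul_x_xy, h.mul_xy_x]
  congr 2
  ring

theorem conj_xy_x (h : QD S q x y) (k i : ℤ) :
    (x ^ k * y) * x ^ i * (x ^ k * y)⁻¹ = x ^ ((4 * q - 1) * i : ℤ) := by
  rw [mul_inv_rev, h.y_inv]
  have : x ^ k * y * x ^ i * (y * (x ^ k)⁻¹) = x ^ k * (y * x ^ i * y⁻¹) * (x ^ k)⁻¹ := by
    rw [h.y_inv]; group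
  rw [this, h.conj_zpow, ← zpow_neg, ← zpow_add, ← zpow_add]
  congr 1
  ring

theorem conj_xy_xy (h : QD S q x y) (k i : ℤ) :
    (x ^ k * y) * (x ^ i * y) * (x ^ k * y)⁻¹ = x ^ ((4 * q - 1) * i + (2 - 4 * q) * k : ℤ) * y := by
  rw [h.mul_xy_xy, h.inv_xy, ← mul_assoc, ← zpow_add]
  congr 2
  ring

/-- `x^(4q)` is central -/
theorem central (h : QD S q x y) (g : S) : g * x ^ (4 * q : ℤ) = x ^ (4 * q : ℤ) * g := by
  rcases h.cases g with ⟨i, rfl⟩ | ⟨i, rfl⟩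
  · rw [← zpow_add, ← zpow_add, add_comm]
  · rw [h.mul_xy_x, mul_x_xy]
    congr 1
    rw [h.zpow_eq_iff]
    refine ⟨2 * q - 1, ?_⟩
    ring

theorem x4q_ne_one (h : QD S q x y) : x ^ (4 * q : ℤ) ≠ 1 := by
  rw [Ne, h.zpow_eq_one_iff]
  intro hd
  have hq := h.qpos
  have := Int.le_of_dvd (by omega) hd
  omega

theorem x4q_mul_self (h : QD S q x y) : x ^ (4 * q : ℤ) * x ^ (4 * q : ℤ) = 1 := by
  rw [← zpow_add, h.zpow_eq_one_iff]
  exact ⟨1, by ring⟩

theorem orderOf_xy_even (h : QD S q x y) {i : ℤ} (hi : 2 ∣ i) : orderOf (x ^ i * y) = 2 := by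
  apply orderOf_eq_prime
  · rw [pow_two, h.xy_mul_self, h.zpow_eq_one_iff]
    obtain ⟨c, rfl⟩ := hi
    exact ⟨c, by ring⟩
  · intro he
    exact h.xy_ne_x i 0 (by rw [he, zpow_zero])

theorem xy_mul_self_odd (h : QD S q x y) {i : ℤ} (hi : ¬ 2 ∣ i) :
    (x ^ i * y) * (x ^ i * y) = x ^ (4 * q : ℤ) := by
  rw [h.xy_mul_self, h.zpow_eq_iff]
  have : i % 2 = 1 := by omega
  refine ⟨(i - 1) / 2, ?_⟩
  have h2 : i - 1 = 2 * ((i - 1) / 2) := by omega
  calc 4 * (q : ℤ) * i - 4 * q = 4 * q * (i - 1) := by ring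
    _ = 4 * q * (2 * ((i - 1) / 2)) := by rw [← h2]
    _ = 8 * q * ((i - 1) / 2) := by ring

theorem orderOf_xy_odd (h : QD S q x y) {i : ℤ} (hi : ¬ 2 ∣ i) : orderOf (x ^ i * y) = 4 := by
  have h2 : (x ^ i * y) ^ 2 = x ^ (4 * q : ℤ) := by rw [pow_two, h.xy_mul_self_odd hi]
  have := orderOf_eq_prime_pow (x := x ^ i * y) (p := 2) (n := 1) (by
    rw [pow_one, h2]; exact h.x4q_ne_one) (by
    have : (x ^ i * y) ^ 2 ^ (1 + 1) = ((x ^ i * y) ^ 2) ^ 2 := by rw [← pow_mul]; norm_num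
    rw [this, h2, pow_two, h.x4q_mul_self])
  simpa using this

/-- the unique involution of `⟨x⟩` -/
theorem orderOf_zpow_eq_two_iff (h : QD S q x y) {i : ℤ} :
    orderOf (x ^ i) = 2 ↔ x ^ i = x ^ (4 * q : ℤ) := by
  constructor
  · intro ho
    have h1 : (x ^ i) ^ 2 = 1 := by rw [← ho]; exact pow_orderOf_eq_one _
    have h2 : x ^ i ≠ 1 := by
      intro he; rw [he, orderOf_one] at ho; omega
    rw [← zpow_natCast, ← zpow_mul, h.zpow_eq_one_iff] at h1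
    rw [Ne, h.zpow_eq_one_iff] at h2
    rw [h.zpow_eq_iff]
    obtain ⟨c, hc⟩ := h1
    have hq := h.qpos
    have hi : i = 4 * q * c := by
      have : i * 2 = (4 * q * c) * 2 := by push_cast at hc; rw [hc]; ring
      exact mul_right_cancel₀ (by norm_num) this
    have hc2 : ¬ 2 ∣ c := by
      rintro ⟨d, rfl⟩
      apply h2
      exact ⟨d, by rw [hi]; ring⟩
    have : c % 2 = 1 := by omega
    refine ⟨(c - 1) / 2, ?_⟩
    have h3 : c - 1 = 2 * ((c - 1) / 2) := by omega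
    calc i - 4 * q = 4 * q * (c - 1) := by rw [hi]; ring
      _ = 4 * q * (2 * ((c - 1) / 2)) := by rw [← h3]
      _ = 8 * q * ((c - 1) / 2) := by ring
  · intro he
    rw [he]
    apply orderOf_eq_prime
    · rw [pow_two, h.x4q_mul_self]
    · exact h.x4q_ne_one

theorem x2q_mul_self (h : QD S q x y) : x ^ (2 * q : ℤ) * x ^ (2 * q : ℤ) = x ^ (4 * q : ℤ) := by
  rw [← zpow_add]; congr 1; ring

theorem orderOf_x2q (h : QD S q x y) : orderOf (x ^ (2 * q : ℤ)) = 4 := by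
  have h2 : (x ^ (2 * q : ℤ)) ^ 2 = x ^ (4 * q : ℤ) := by rw [pow_two, h.x2q_mul_self]
  have := orderOf_eq_prime_pow (x := x ^ (2 * q : ℤ)) (p := 2) (n := 1) (by
    rw [pow_one, h2]; exact h.x4q_ne_one) (by
    have : (x ^ (2 * q : ℤ)) ^ 2 ^ (1 + 1) = ((x ^ (2 * q : ℤ)) ^ 2) ^ 2 := by
      rw [← pow_mul]; norm_num
    rw [this, h2, pow_two, h.x4q_mul_self])
  simpa using this

theorem orderOf_zpow_eq_four (h : QD S q x y) {i : ℤ} (ho : orderOf (x ^ i) = 4) :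
    x ^ i = x ^ (2 * q : ℤ) ∨ x ^ i = x ^ (-(2 * q) : ℤ) := by
  have h1 : (x ^ i) ^ 4 = 1 := by rw [← ho]; exact pow_orderOf_eq_one _
  have h2 : (x ^ i) ^ 2 ≠ 1 := by
    intro he
    have := orderOf_dvd_of_pow_eq_one he
    rw [ho] at this
    omega
  rw [← zpow_natCast, ← zpow_mul, h.zpow_eq_one_iff] at h1
  rw [Ne, ← zpow_natCast, ← zpow_mul, h.zpow_eq_one_iff] at h2
  obtain ⟨c, hc⟩ := h1
  have hq := h.qpos
  have hi : i = 2 * q * c := by
    have : i * 4 = (2 * q * c) * 4 := by push_cast at hc; rw [hc]; ring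
    exact mul_right_cancel₀ (by norm_num) this
  have hc2 : ¬ 2 ∣ c := by
    rintro ⟨d, rfl⟩
    apply h2
    exact ⟨d, by rw [hi]; push_cast; ring⟩
  have hc4 : c % 4 = 1 ∨ c % 4 = 3 := by omega
  rcases hc4 with h4 | h4
  · left
    rw [h.zpow_eq_iff]
    refine ⟨(c - 1) / 4, ?_⟩
    have h3 : c - 1 = 4 * ((c - 1) / 4) := by omega
    calc i - 2 * q = 2 * q * (c - 1) := by rw [hi]; ring
      _ = 2 * q * (4 * ((c - 1) / 4)) := by rw [← h3]
      _ = 8 * q * ((c - 1) / 4) := by ring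
  · right
    rw [h.zpow_eq_iff]
    refine ⟨(c + 1) / 4, ?_⟩
    have h3 : c + 1 = 4 * ((c + 1) / 4) := by omega
    calc i - -(2 * q) = 2 * q * (c + 1) := by rw [hi]; ring
      _ = 2 * q * (4 * ((c + 1) / 4)) := by rw [← h3]
      _ = 8 * q * ((c + 1) / 4) := by ring

/-- all `x^i y` with `i` of the same parity are conjugate -/
theorem isConj_xy (h : QD S q x y) {i j : ℤ} (hij : 2 ∣ i - j) : IsConj (x ^ i * y) (x ^ j * y) := by
  rw [isConj_iff]
  obtain ⟨d, hd⟩ := hij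
  refine ⟨x ^ (-(1 + 2 * q) * d : ℤ), ?_⟩
  rw [h.conj_x_xy]
  congr 1
  rw [h.zpow_eq_iff]
  refine ⟨q * d, ?_⟩
  have : i = j + 2 * d := by omega
  rw [this]; ring

theorem conj_mem_zpowers (h : QD S q x y) (c : S) (i : ℤ) :
    c * x ^ i * c⁻¹ ∈ Subgroup.zpowers x := by
  rcases h.cases c with ⟨k, rfl⟩ | ⟨k, rfl⟩
  · have : x ^ k * x ^ i * (x ^ k)⁻¹ = x ^ i := by
      rw [← zpow_neg, ← zpow_add, ← zpow_add]; congr 1; ring
    rw [this]; exact Subgroup.zpow_mem_zpowers x _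
  · rw [h.conj_xy_x]; exact Subgroup.zpow_mem_zpowers x _

theorem not_isConj_x_xy (h : QD S q x y) (i j : ℤ) : ¬ IsConj (x ^ i) (x ^ j * y) := by
  rw [isConj_iff]
  rintro ⟨c, hc⟩
  have := h.conj_mem_zpowers c i
  rw [hc] at this
  exact h.xy_not_mem j this

theorem eq_top_of_mem (h : QD S q x y) (K : Subgroup S) (hx : x ∈ K) (hy : y ∈ K) : K = ⊤ := by
  rw [eq_top_iff]
  intro g _
  rcases h.cases g with ⟨i, rfl⟩ | ⟨i, rfl⟩
  · exact K.zpow_mem hx i
  · exact K.mul_mem (K.zpow_mem hx i) hy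

theorem x_sq_mem_commutator (h : QD S q x y) : x ^ (2 : ℤ) ∈ commutator S := by
  have h1 : x ^ (4 * q - 2 : ℤ) ∈ commutator S := by
    have : x ^ (4 * q - 2 : ℤ) = ⁅y, x⁆ := by
      rw [commutatorElement_def, h.rel, ← zpow_neg_one, ← zpow_add]
      congr 1
      ring
    rw [this]
    exact Subgroup.commutator_mem_commutator (Subgroup.mem_top y) (Subgroup.mem_top x)
  have h2 : x ^ (2 : ℤ) = (x ^ (4 * q - 2 : ℤ)) ^ (-(1 + 2 * q) : ℤ) := by
    rw [← zpow_mul, h.zpow_eq_iff]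
    exact ⟨q, by ring⟩
  rw [h2]
  exact Subgroup.zpow_mem _ h1 _

theorem zpow_even_mem_commutator (h : QD S q x y) {i : ℤ} (hi : 2 ∣ i) : x ^ i ∈ commutator S := by
  obtain ⟨c, rfl⟩ := hi
  rw [zpow_mul]
  exact Subgroup.zpow_mem _ h.x_sq_mem_commutator _

end QD

/-- if `i` is odd and `8q = 2^(k+3)`, then `x ∈ ⟨x^i⟩` -/
theorem QD.x_mem_zpowers_odd {S : Type*} [Group S] {k : ℕ} {x y : S} (h : QD S (2 ^ k) x y) {i : ℤ}
    (hi : ¬ 2 ∣ i) : x ∈ Subgroup.zpowers (x ^ i) := by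
  have hcop : IsCoprime i ((2 : ℤ) ^ (k + 3)) := by
    apply IsCoprime.pow_right
    refine ⟨1, -(i / 2), ?_⟩
    omega
  obtain ⟨a, b, hab⟩ := hcop
  have : x = (x ^ i) ^ a := by
    rw [← zpow_mul]
    conv_lhs => rw [← zpow_one x]
    rw [h.zpow_eq_iff]
    refine ⟨b, ?_⟩
    have : (1 : ℤ) - i * a = b * 2 ^ (k + 3) := by rw [← hab]; ring
    rw [this]
    push_cast
    ring
  exact Subgroup.mem_zpowers_iff.mpr ⟨a, this.symm⟩

/-- the subgroup `⟨x², x^ε y⟩` of index two -/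
def QD.maxSub {S : Type*} [Group S] {q : ℕ} {x y : S} (h : QD S q x y) (ε : ℤ) : Subgroup S where
  carrier := {g | ∃ j : ℤ, g = x ^ (2 * j) ∨ g = x ^ (2 * j + ε) * y}
  one_mem' := ⟨0, Or.inl (by simp)⟩
  mul_mem' := by
    rintro a b ⟨j, rfl | rfl⟩ ⟨l, rfl | rfl⟩
    · exact ⟨j + l, Or.inl (by rw [← zpow_add]; congr 1; ring)⟩
    · exact ⟨j + l, Or.inr (by rw [QD.mul_x_xy]; congr 2; ring)⟩
    · exact ⟨j + (4 * q - 1) * l, Or.inr (by rw [h.mul_xy_x]; congr 2; ring)⟩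
    · exact ⟨j + (4 * q - 1) * l + 2 * q * ε, Or.inl (by rw [h.mul_xy_xy]; congr 1; ring)⟩
  inv_mem' := by
    rintro a ⟨j, rfl | rfl⟩
    · exact ⟨-j, Or.inl (by rw [← zpow_neg]; congr 1; ring)⟩
    · exact ⟨-(4 * q - 1) * j - 2 * q * ε, Or.inr (by rw [h.inv_xy]; congr 2; ring)⟩

theorem QD.mem_maxSub {S : Type*} [Group S] {q : ℕ} {x y : S} (h : QD S q x y) (ε : ℤ) (g : S) :
    g ∈ h.maxSub ε ↔ ∃ j : ℤ, g = x ^ (2 * j) ∨ g = x ^ (2 * j + ε) * y := Iff.rfl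

theorem QD.zpow_mem_maxSub_iff {S : Type*} [Group S] {q : ℕ} {x y : S} (h : QD S q x y) (ε i : ℤ) :
    x ^ i ∈ h.maxSub ε ↔ 2 ∣ i := by
  rw [h.mem_maxSub]
  constructor
  · rintro ⟨j, hj | hj⟩
    · rw [h.zpow_eq_iff] at hj
      obtain ⟨c, hc⟩ := hj
      exact ⟨j + 4 * q * c, by linear_combination hc⟩
    · exact absurd hj.symm (h.xy_ne_x _ _)
  · rintro ⟨c, rfl⟩
    exact ⟨c, Or.inl rfl⟩

theorem QD.xy_mem_maxSub_iff {S : Type*} [Group S] {q : ℕ} {x y : S} (h : QD S q x y) (ε i : ℤ) :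
    x ^ i * y ∈ h.maxSub ε ↔ 2 ∣ i - ε := by
  rw [h.mem_maxSub]
  constructor
  · rintro ⟨j, hj | hj⟩
    · exact absurd hj (h.xy_ne_x _ _)
    · have := mul_right_cancel hj
      rw [h.zpow_eq_iff] at this
      obtain ⟨c, hc⟩ := this
      exact ⟨j + 4 * q * c, by linear_combination hc⟩
  · rintro ⟨c, hc⟩
    exact ⟨c, Or.inr (by congr 2; linear_combination hc)⟩

theorem QD.isCoatom_maxSub {S : Type*} [Group S] {k : ℕ} {x y : S} (h : QD S (2 ^ k) x y) (ε : ℤ) :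
    IsCoatom (h.maxSub ε) := by
  constructor
  · intro he
    have : x ^ (1 : ℤ) ∈ h.maxSub ε := by rw [he]; exact Subgroup.mem_top _
    rw [h.zpow_mem_maxSub_iff] at this
    omega
  · intro K hK
    obtain ⟨g, hgK, hgM⟩ := SetLike.exists_of_lt hK
    have hxK : x ∈ K := by
      rcases h.cases g with ⟨i, rfl⟩ | ⟨i, rfl⟩
      · rw [h.zpow_mem_maxSub_iff] at hgM
        exact (Subgroup.zpowers_le.mpr hgK) (h.x_mem_zpowers_odd hgM)
      · rw [h.xy_mem_maxSub_iff] at hgM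
        have h1 : x ^ ε * y ∈ K := hK.le ((h.xy_mem_maxSub_iff ε ε).mpr (by simp))
        have h2 : x ^ (i - ε) ∈ K := by
          have : x ^ (i - ε) = (x ^ i * y) * (x ^ ε * y)⁻¹ := by
            rw [mul_inv_rev, mul_assoc, ← mul_assoc y, mul_inv_cancel, one_mul, ← zpow_neg, ← zpow_add]
            congr 1
          rw [this]
          exact K.mul_mem hgK (K.inv_mem h1)
        exact (Subgroup.zpowers_le.mpr h2) (h.x_mem_zpowers_odd hgM)
    have hyK : y ∈ K := by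
      have h1 : x ^ ε * y ∈ K := hK.le ((h.xy_mem_maxSub_iff ε ε).mpr (by simp))
      have : y = (x ^ ε)⁻¹ * (x ^ ε * y) := by group
      rw [this]
      exact K.mul_mem (K.inv_mem (K.zpow_mem hxK ε)) h1
    exact h.eq_top_of_mem K hxK hyK

/-- a normal subgroup containing some `x^i y` contains `x^2` -/
theorem QD.x_sq_mem_of_normal {S : Type*} [Group S] {q : ℕ} {x y : S} (h : QD S q x y)
    (N : Subgroup S) [N.Normal] {i : ℤ} (hgN : x ^ i * y ∈ N) : x ^ (2 : ℤ) ∈ N := by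
  have hN1 : x ^ (1 : ℤ) * (x ^ i * y) * (x ^ (1 : ℤ))⁻¹ ∈ N :=
    Subgroup.Normal.conj_mem inferInstance _ hgN _
  rw [h.conj_x_xy] at hN1
  have hN2 : x ^ (2 - 4 * q : ℤ) ∈ N := by
    have : x ^ (2 - 4 * q : ℤ) = (x ^ (i + (2 - 4 * q) * 1 : ℤ) * y) * (x ^ i * y)⁻¹ := by
      rw [mul_inv_rev, mul_assoc, ← mul_assoc y, mul_inv_cancel, one_mul, ← zpow_neg, ← zpow_add]
      congr 1
      ring
    rw [this]
    exact N.mul_mem hN1 (N.inv_mem hgN)
  have : x ^ (2 : ℤ) = (x ^ (2 - 4 * q : ℤ)) ^ (1 + 2 * q : ℤ) := by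
    rw [← zpow_mul, h.zpow_eq_iff]
    exact ⟨q, by ring⟩
  rw [this]
  exact N.zpow_mem hN2 _

theorem isCoatom_of_index_two {G : Type*} [Group G] {H : Subgroup G} (h : H.index = 2) :
    IsCoatom H := by
  constructor
  · intro he
    rw [he, Subgroup.index_top] at h
    omega
  · intro K hK
    obtain ⟨g, hgK, hgH⟩ := SetLike.exists_of_lt hK
    rw [eq_top_iff]
    intro a _
    by_cases ha : a ∈ H
    · exact hK.le ha
    · have h1 : a * g⁻¹ ∈ H := by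
        rw [Subgroup.mul_mem_iff_of_index_two h]
        constructor
        · intro h'; exact absurd h' ha
        · intro h'; exact absurd (H.inv_mem_iff.mp h') hgH
      have : a = (a * g⁻¹) * g := by group
      rw [this]
      exact K.mul_mem (hK.le h1) hgK

theorem isCyclic_of_le_zpowers {G : Type*} [Group G] {N : Subgroup G} {x : G}
    (h : N ≤ Subgroup.zpowers x) : IsCyclic N := by
  have : IsCyclic (N.subgroupOf (Subgroup.zpowers x)) := inferInstance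
  exact (Subgroup.subgroupOfEquivOfLe h).isCyclic.mp this

/-- counting conjugacy classes: two classes -/
theorem card_classes_eq_two {S : Type*} [Group S] (P : S → Prop) (a b : S) (ha : P a) (hb : P b)
    (hab : ¬ IsConj a b) (hall : ∀ t, P t → IsConj t a ∨ IsConj t b) :
    Nat.card {C : ConjClasses S // ∃ t : S, P t ∧ ConjClasses.mk t = C} = 2 := by
  rw [Nat.card_eq_two_iff]
  refine ⟨⟨ConjClasses.mk a, a, ha, rfl⟩, ⟨ConjClasses.mk b, b, hb, rfl⟩, ?_, ?_⟩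
  · intro he
    apply hab
    have := congrArg Subtype.val he
    exact ConjClasses.mk_eq_mk_iff_isConj.mp this
  · rw [Set.eq_univ_iff_forall]
    rintro ⟨C, t, ht, rfl⟩
    rcases hall t ht with h1 | h1
    · left
      apply Subtype.ext
      exact ConjClasses.mk_eq_mk_iff_isConj.mpr h1
    · right
      apply Subtype.ext
      exact ConjClasses.mk_eq_mk_iff_isConj.mpr h1

end Cfsg.Agent.Lib.Helper20
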