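import Mathlib
import Cfsg.Agent.Lib.Helper20.QD

set_option autoImplicit false
set_option linter.style.haveILetI false

namespace Cfsg.Agent.Lib.Helper20

namespace QD

variable {S : Type*} [Group S] {q : ℕ} {x y : S}

theorem zpow_mem_one_z_iff (h : QD S q x y) (j : ℤ) :
    (x ^ j = 1 ∨ x ^ j = x ^ (4 * q : ℤ)) ↔ (4 * q : ℤ) ∣ j := by
  rw [h.zpow_eq_one_iff, h.zpow_eq_iff]
  constructor
  · rintro (⟨c, hc⟩ | ⟨c, hc⟩)
    · exact ⟨2 * c, by rw [hc]; ring⟩
    · exact ⟨2 * c + 1, by linear_combination hc⟩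
  · rintro ⟨c, hc⟩
    rcases Int.even_or_odd' c with ⟨d, hd | hd⟩
    · left; exact ⟨d, by rw [hc, hd]; ring⟩
    · right; exact ⟨d, by rw [hc, hd]; ring⟩

/-- structure of Klein four-subgroups of a quasidihedral group -/
theorem klein_struct (h : QD S q x y) (T : Subgroup S) [IsKleinFour T] :
    ∃ i : ℤ, 2 ∣ i ∧ (∀ j : ℤ, x ^ j ∈ T ↔ (4 * q : ℤ) ∣ j) ∧
      (∀ j : ℤ, x ^ j * y ∈ T ↔ (4 * q : ℤ) ∣ j - i) := by
  have hsq : ∀ t ∈ T, t * t = 1 := by
    intro t ht
    have := IsKleinFour.mul_self (⟨t, ht⟩ : T)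
    exact congrArg Subtype.val this
  have hcard : Nat.card T = 4 := IsKleinFour.card_four
  haveI := h.finite
  -- powers of x in T
  have hxT : ∀ j : ℤ, x ^ j ∈ T → (x ^ j = 1 ∨ x ^ j = x ^ (4 * q : ℤ)) := by
    intro j hj
    by_cases h1 : x ^ j = 1
    · exact Or.inl h1
    · right
      apply h.orderOf_zpow_eq_two_iff.mp
      apply orderOf_eq_prime
      · rw [pow_two]; exact hsq _ hj
      · exact h1
  have hxyT : ∀ j : ℤ, x ^ j * y ∈ T → 2 ∣ j := by
    intro j hj
    by_contra hodd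
    have := hsq _ hj
    rw [h.xy_mul_self_odd hodd] at this
    exact h.x4q_ne_one this
  -- some element outside ⟨x⟩
  have hex : ∃ i : ℤ, x ^ i * y ∈ T := by
    by_contra hne
    push Not at hne
    have hle : T ≤ Subgroup.zpowers (x ^ (4 * q : ℤ)) := by
      intro t ht
      rcases h.cases t with ⟨j, rfl⟩ | ⟨j, rfl⟩
      · rcases hxT j ht with h1 | h1
        · rw [h1]; exact Subgroup.one_mem _
        · rw [h1]; exact Subgroup.mem_zpowers _
      · exact absurd ht (hne j)
    have := Subgroup.card_le_of_le hle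
    rw [hcard, Nat.card_zpowers, h.orderOf_zpow_eq_two_iff.mpr rfl] at this
    omega
  obtain ⟨i, hi⟩ := hex
  have hi2 := hxyT i hi
  have hginv : (x ^ i * y)⁻¹ = x ^ i * y := inv_eq_of_mul_eq_one_right (hsq _ hi)
  -- z ∈ T
  have hz : x ^ (4 * q : ℤ) ∈ T := by
    by_contra hz
    have hle : T ≤ Subgroup.zpowers (x ^ i * y) := by
      intro t ht
      rcases h.cases t with ⟨j, rfl⟩ | ⟨j, rfl⟩
      · rcases hxT j ht with h1 | h1
        · rw [h1]; exact Subgroup.one_mem _
        · rw [h1] at ht; exact absurd ht hz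
      · have h2 : (x ^ j * y) * (x ^ i * y) ∈ T := T.mul_mem ht hi
        rw [h.mul_xy_xy] at h2
        rcases hxT _ h2 with h1 | h1
        · have h3 : (x ^ j * y) * (x ^ i * y) = 1 := by rw [h.mul_xy_xy, h1]
          have h4 : x ^ j * y = (x ^ i * y)⁻¹ := eq_inv_of_mul_eq_one_left h3
          rw [h4, hginv]
          exact Subgroup.mem_zpowers _
        · rw [h1] at h2; exact absurd h2 hz
    have := Subgroup.card_le_of_le hle
    rw [hcard, Nat.card_zpowers, h.orderOf_xy_even hi2] at this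
    omega
  refine ⟨i, hi2, ?_, ?_⟩
  · intro j
    rw [← h.zpow_mem_one_z_iff]
    constructor
    · exact hxT j
    · rintro (h1 | h1)
      · rw [h1]; exact T.one_mem
      · rw [h1]; exact hz
  · intro j
    constructor
    · intro hj
      have h2 : (x ^ j * y) * (x ^ i * y) ∈ T := T.mul_mem hj hi
      rw [h.mul_xy_xy] at h2
      have h3 := (h.zpow_mem_one_z_iff _).mp (hxT _ h2)
      obtain ⟨c, hc⟩ := h3
      obtain ⟨d, hd⟩ := hi2
      exact ⟨c - 2 * d, by rw [hd] at hc ⊢; linear_combination hc⟩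
    · rintro ⟨c, hc⟩
      have : x ^ j * y = (x ^ (4 * q : ℤ)) ^ c * (x ^ i * y) := by
        rw [← zpow_mul, ← mul_assoc, ← zpow_add]
        congr 2
        linear_combination hc
      rw [this]
      exact T.mul_mem (T.zpow_mem hz _) hi

end QD

end Cfsg.Agent.Lib.Helper20
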