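import Mathlib
import Cfsg.Agent.Lib.Helper20.QD

set_option autoImplicit false
set_option linter.style.haveILetI false

namespace Cfsg.Agent.Lib.Helper20

open QuaternionGroup in
theorem quat2_invol : ∀ t : QuaternionGroup 2, t * t = 1 → t = 1 ∨ t = a 2 := by
  decide

open QuaternionGroup in
theorem quat2_exp : ∀ t : QuaternionGroup 2, t ^ 4 = 1 := by
  decide

/-- abstract properties of a subgroup isomorphic to the quaternion group of order 8 -/
theorem quat2_props {S : Type*} [Group S] (Q : Subgroup S) (e : Q ≃* QuaternionGroup 2) :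
    Nat.card Q = 8 ∧ (∀ t ∈ Q, t ^ 4 = 1) ∧
    (∀ s ∈ Q, ∀ t ∈ Q, s * s = 1 → t * t = 1 → s ≠ 1 → t ≠ 1 → s = t) ∧
    (∃ u ∈ Q, ∃ v ∈ Q, orderOf u = 4 ∧ orderOf v = 4 ∧ orderOf (u * v) = 4) := by
  refine ⟨?_, ?_, ?_, ?_⟩
  · rw [Nat.card_congr e.toEquiv, Nat.card_eq_fintype_card, QuaternionGroup.card]
  · intro t ht
    have h1 := quat2_exp (e ⟨t, ht⟩)
    rw [← map_pow, map_eq_one_iff e e.injective] at h1
    exact congrArg Subtype.val h1
  · intro s hs t ht hss htt hs1 ht1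
    have key : ∀ r : S, ∀ hr : r ∈ Q, r * r = 1 → r ≠ 1 → e ⟨r, hr⟩ = QuaternionGroup.a 2 := by
      intro r hr hrr hr1
      have h1 : e ⟨r, hr⟩ * e ⟨r, hr⟩ = 1 := by
        rw [← map_mul, map_eq_one_iff e e.injective]
        exact Subtype.ext hrr
      rcases quat2_invol _ h1 with h2 | h2
      · rw [map_eq_one_iff e e.injective] at h2
        exact absurd (congrArg Subtype.val h2) hr1
      · exact h2
    have := e.injective ((key s hs hss hs1).trans (key t ht htt ht1).symm)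
    exact congrArg Subtype.val this
  · refine ⟨e.symm (QuaternionGroup.a 1), (e.symm _).2, e.symm (QuaternionGroup.xa 0),
      (e.symm _).2, ?_, ?_, ?_⟩
    · rw [Subgroup.orderOf_coe, MulEquiv.orderOf_eq, QuaternionGroup.orderOf_a_one]
    · rw [Subgroup.orderOf_coe, MulEquiv.orderOf_eq, QuaternionGroup.orderOf_xa]
    · rw [← Subgroup.coe_mul, Subgroup.orderOf_coe, ← map_mul, MulEquiv.orderOf_eq,
        QuaternionGroup.a_mul_xa, QuaternionGroup.orderOf_xa]

namespace QD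

variable {S : Type*} [Group S] {q : ℕ} {x y : S}

/-- structure of quaternion subgroups of order 8 of a quasidihedral group -/
theorem quat_struct (h : QD S q x y) (Q : Subgroup S) (e : Q ≃* QuaternionGroup 2) :
    ∃ i : ℤ, ¬ 2 ∣ i ∧ (∀ j : ℤ, x ^ j ∈ Q ↔ (2 * q : ℤ) ∣ j) ∧
      (∀ j : ℤ, x ^ j * y ∈ Q ↔ (2 * q : ℤ) ∣ j - i) := by
  obtain ⟨hcard, hexp, huniq, u, hu, v, hv, hou, hov, houv⟩ := quat2_props Q e
  haveI := h.finite
  have hq := h.qpos
  -- x^(2q) ∈ Q
  have hx2q : x ^ (2 * q : ℤ) ∈ Q := by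
    have key : ∀ w ∈ Q, ∀ j : ℤ, w = x ^ j → orderOf w = 4 → x ^ (2 * q : ℤ) ∈ Q := by
      intro w hw j hj ho
      rw [hj] at ho hw
      rcases h.orderOf_zpow_eq_four ho with h1 | h1
      · rw [← h1]; exact hw
      · have : x ^ (2 * q : ℤ) = (x ^ j)⁻¹ := by rw [h1, zpow_neg, inv_inv]
        rw [this]; exact Q.inv_mem hw
    rcases h.cases u with ⟨j, hj⟩ | ⟨j, hj⟩
    · exact key u hu j hj hou
    · rcases h.cases v with ⟨l, hl⟩ | ⟨l, hl⟩
      · exact key v hv l hl hov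
      · refine key (u * v) (Q.mul_mem hu hv) (j + (4 * q - 1) * l) ?_ houv
        rw [hj, hl, h.mul_xy_xy]
  have hxQ : ∀ j : ℤ, x ^ j ∈ Q ↔ (2 * q : ℤ) ∣ j := by
    intro j
    constructor
    · intro hj
      have h1 := hexp _ hj
      rw [← zpow_natCast, ← zpow_mul, h.zpow_eq_one_iff] at h1
      obtain ⟨c, hc⟩ := h1
      refine ⟨c, ?_⟩
      have : 4 * j = 4 * (2 * q * c) := by push_cast at hc; linear_combination hc
      exact mul_left_cancel₀ (by norm_num) this
    · rintro ⟨c, rfl⟩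
      rw [zpow_mul]
      exact Q.zpow_mem hx2q c
  have hex : ∃ i : ℤ, x ^ i * y ∈ Q := by
    by_contra hne
    push Not at hne
    have hle : Q ≤ Subgroup.zpowers (x ^ (2 * q : ℤ)) := by
      intro t ht
      rcases h.cases t with ⟨j, rfl⟩ | ⟨j, rfl⟩
      · obtain ⟨c, rfl⟩ := (hxQ j).mp ht
        rw [zpow_mul x (2 * q : ℤ) c]
        exact Subgroup.zpow_mem_zpowers _ _
      · exact absurd ht (hne j)
    have := Subgroup.card_le_of_le hle
    rw [hcard, Nat.card_zpowers, h.orderOf_x2q] at this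
    omega
  obtain ⟨i, hi⟩ := hex
  have hxyQ : ∀ j : ℤ, x ^ j * y ∈ Q ↔ (2 * q : ℤ) ∣ j - i := by
    intro j
    constructor
    · intro hj
      have h2 : (x ^ j * y) * (x ^ i * y) ∈ Q := Q.mul_mem hj hi
      rw [h.mul_xy_xy, hxQ] at h2
      obtain ⟨c, hc⟩ := h2
      exact ⟨c - 2 * i, by linear_combination hc⟩
    · rintro ⟨c, hc⟩
      have : x ^ j * y = x ^ (2 * q * c : ℤ) * (x ^ i * y) := by
        rw [← mul_assoc, ← zpow_add]
        congr 2
        linear_combination hc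
      rw [this]
      exact Q.mul_mem ((hxQ _).mpr ⟨c, rfl⟩) hi
  refine ⟨i, ?_, hxQ, hxyQ⟩
  intro hi2
  -- two distinct involutions
  have h1 : x ^ (4 * q : ℤ) ∈ Q := (hxQ _).mpr ⟨2, by ring⟩
  have h2 := huniq _ hi _ h1 (by
    have := h.orderOf_xy_even hi2
    rw [← pow_two, ← this]; exact pow_orderOf_eq_one _) h.x4q_mul_self (by
    intro he
    have := h.orderOf_xy_even hi2
    rw [he, orderOf_one] at this
    omega) h.x4q_ne_one
  exact h.xy_ne_x _ _ h2

end QD

end Cfsg.Agent.Lib.Helper20
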