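import Mathlib
import Cfsg.Agent.Lib.Helper20.KleinAct

set_option autoImplicit false
set_option linter.style.haveILetI false
set_option linter.unusedSimpArgs false

namespace Cfsg.Agent.Lib.Helper20

open QuaternionGroup in
theorem quat2_inner : ∀ a' b' : QuaternionGroup 2,
    ((a 1)⁻¹ * a' = 1 ∨ (a 1)⁻¹ * a' = a 2) → ((xa 0)⁻¹ * b' = 1 ∨ (xa 0)⁻¹ * b' = a 2) →
    ∃ q₀ : QuaternionGroup 2, a' = q₀ * a 1 * q₀⁻¹ ∧ b' = q₀ * xa 0 * q₀⁻¹ := by decide

open QuaternionGroup in
theorem quat2_center : ∀ t : QuaternionGroup 2, (∀ s, s * t = t * s) ↔ (t = 1 ∨ t = a 2) := by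
  decide

open QuaternionGroup in
theorem quat2_gen : ∀ t : QuaternionGroup 2,
    ∃ i j : Fin 4, t = a 1 ^ (i : ℕ) * xa 0 ^ (j : ℕ) := by decide

open QuaternionGroup in
theorem quat2_sq : ∀ t : QuaternionGroup 2, t * t = 1 ∨ t * t = a 2 := by decide

open QuaternionGroup in
theorem quat2_a2_ne : (a 2 : QuaternionGroup 2) ≠ 1 := by decide

section

variable {P : Type*} [Group P]

theorem quat2_mem_center_iff (e : P ≃* QuaternionGroup 2) (t : P) :
    t ∈ Subgroup.center P ↔ t = 1 ∨ t = e.symm (QuaternionGroup.a 2) := by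
  rw [Subgroup.mem_center_iff]
  constructor
  · intro h
    have h0 := (quat2_center (e t)).mp (fun s => by
      have h1 := h (e.symm s)
      have h2 := congrArg e h1
      simpa using h2)
    rcases h0 with h1 | h1
    · left; exact (map_eq_one_iff e e.injective).mp h1
    · right; rw [← h1]; simp
  · rintro (rfl | rfl)
    · intro s; simp
    · intro s
      apply e.injective
      rw [map_mul, map_mul, e.apply_symm_apply]
      exact (quat2_center _).mpr (Or.inr rfl) (e s)

theorem quat2_card_center (e : P ≃* QuaternionGroup 2) : Nat.card (Subgroup.center P) = 2 := by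
  rw [Nat.card_eq_two_iff]
  refine ⟨1, ⟨e.symm (QuaternionGroup.a 2), (quat2_mem_center_iff e _).mpr (Or.inr rfl)⟩, ?_, ?_⟩
  · intro h
    have h1 := congrArg Subtype.val h
    have h2 : e.symm (QuaternionGroup.a 2) = 1 := h1.symm
    rw [map_eq_one_iff e.symm e.symm.injective] at h2
    exact quat2_a2_ne h2
  · rw [Set.eq_univ_iff_forall]
    rintro ⟨t, ht⟩
    rcases (quat2_mem_center_iff e t).mp ht with h1 | h1
    · left; exact Subtype.ext h1
    · right; exact Subtype.ext h1

theorem quat2_card (e : P ≃* QuaternionGroup 2) : Nat.card P = 8 := by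
  rw [Nat.card_congr e.toEquiv, Nat.card_eq_fintype_card, QuaternionGroup.card]

theorem quat2_card_quot (e : P ≃* QuaternionGroup 2) : Nat.card (P ⧸ Subgroup.center P) = 4 := by
  have h1 := Subgroup.card_eq_card_quotient_mul_card_subgroup (Subgroup.center P)
  rw [quat2_card e, quat2_card_center e] at h1
  omega

theorem quat2_finite (e : P ≃* QuaternionGroup 2) : Finite P :=
  Finite.of_equiv _ e.symm.toEquiv

theorem quat2_isKleinFour (e : P ≃* QuaternionGroup 2) : IsKleinFour (P ⧸ Subgroup.center P) where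
  card_four := quat2_card_quot e
  exponent_two := by
    have h1 : Monoid.exponent (P ⧸ Subgroup.center P) ∣ 2 := by
      apply Monoid.exponent_dvd_of_forall_pow_eq_one
      intro t
      induction t using QuotientGroup.induction_on with
      | H t =>
        rw [← QuotientGroup.mk_pow, QuotientGroup.eq_one_iff, quat2_mem_center_iff e, pow_two]
        rcases quat2_sq (e t) with h2 | h2
        · left
          rw [← map_mul, map_eq_one_iff e e.injective] at h2
          exact h2
        · right
          rw [← map_mul] at h2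
          rw [← h2]; simp
    have h2 : Monoid.exponent (P ⧸ Subgroup.center P) ≠ 1 := by
      intro h
      rw [Monoid.exp_eq_one_iff] at h
      have := quat2_card_quot e
      rw [Nat.card_eq_one_iff_unique.mpr ⟨h, ⟨1⟩⟩] at this
      omega
    have h3 := Nat.le_of_dvd (by norm_num) h1
    have h4 : Monoid.exponent (P ⧸ Subgroup.center P) ≠ 0 := by
      intro h; rw [h] at h1; omega
    omega

/-- hom `Aut P → Aut (P / Z(P))` -/
noncomputable def autCenterQuot (P : Type*) [Group P] :
    MulAut P →* MulAut (P ⧸ Subgroup.center P) where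
  toFun α := QuotientGroup.congr (Subgroup.center P) (Subgroup.center P) α
      (Subgroup.characteristic_iff_map_eq.mp inferInstance α)
  map_one' := by
    ext t
    induction t using QuotientGroup.induction_on with
    | H t => rfl
  map_mul' := fun α β => by
    ext t
    induction t using QuotientGroup.induction_on with
    | H t => rfl

theorem autCenterQuot_mk (α : MulAut P) (t : P) :
    autCenterQuot P α (QuotientGroup.mk t) = QuotientGroup.mk (α t) := rfl

end

section

variable {G : Type*} [Group G]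

/-- the action of `N_G(Q)` on `Q / Z(Q)` -/
noncomputable def quatAct (Q : Subgroup G) :
    Subgroup.normalizer (Q : Set G) →* MulAut (Q ⧸ Subgroup.center Q) :=
  (autCenterQuot Q).comp Q.normalizerMonoidHom

theorem quatAct_mk (Q : Subgroup G) (g : Subgroup.normalizer (Q : Set G)) (t : Q) :
    quatAct Q g (QuotientGroup.mk t) = QuotientGroup.mk (Q.normalizerMonoidHom g t) := rfl

theorem quatAct_eq_one_iff (Q : Subgroup G) (g : Subgroup.normalizer (Q : Set G)) :
    quatAct Q g = 1 ↔ ∀ t : Q, t⁻¹ * Q.normalizerMonoidHom g t ∈ Subgroup.center Q := by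
  constructor
  · intro hg t
    have h1 := DFunLike.congr_fun hg (QuotientGroup.mk t)
    rw [quatAct_mk] at h1
    exact QuotientGroup.eq.mp h1.symm
  · intro h
    ext t
    induction t using QuotientGroup.induction_on with
    | H t =>
      rw [quatAct_mk]
      exact (QuotientGroup.eq.mpr (h t)).symm

theorem quatAct_ker_le (Q : Subgroup G) (e : Q ≃* QuaternionGroup 2)
    (g : Subgroup.normalizer (Q : Set G)) (hg : quatAct Q g = 1) :
    ∃ t₀ ∈ Q, t₀⁻¹ * (g : G) ∈ Subgroup.centralizer (Q : Set G) := by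
  rw [quatAct_eq_one_iff] at hg
  set φ := Q.normalizerMonoidHom g with hφ
  set u : Q := e.symm (QuaternionGroup.a 1) with hu
  set v : Q := e.symm (QuaternionGroup.xa 0) with hv
  have hconv : ∀ t : Q, t⁻¹ * φ t ∈ Subgroup.center Q →
      ((e t)⁻¹ * e (φ t) = 1 ∨ (e t)⁻¹ * e (φ t) = QuaternionGroup.a 2) := by
    intro t ht
    rcases (quat2_mem_center_iff e _).mp ht with h1 | h1
    · left
      rw [← map_inv, ← map_mul, h1, map_one]
    · right
      rw [← map_inv, ← map_mul, h1, e.apply_symm_apply]
  have h1 := hconv u (hg u)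
  have h2 := hconv v (hg v)
  rw [hu, e.apply_symm_apply] at h1
  rw [hv, e.apply_symm_apply] at h2
  obtain ⟨q₀, hq1, hq2⟩ := quat2_inner _ _ h1 h2
  set t₀ : Q := e.symm q₀ with ht₀
  have hφu : φ u = t₀ * u * t₀⁻¹ := by
    apply e.injective
    rw [map_mul, map_mul, map_inv, ht₀, e.apply_symm_apply, hu, e.apply_symm_apply]
    exact hq1
  have hφv : φ v = t₀ * v * t₀⁻¹ := by
    apply e.injective
    rw [map_mul, map_mul, map_inv, ht₀, e.apply_symm_apply, hv, e.apply_symm_apply]
    exact hq2
  have hφu' : (g : G) * (u : G) * (g : G)⁻¹ = (t₀ : G) * (u : G) * (t₀ : G)⁻¹ := by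
    have := congrArg Subtype.val hφu
    exact this
  have hφv' : (g : G) * (v : G) * (g : G)⁻¹ = (t₀ : G) * (v : G) * (t₀ : G)⁻¹ := by
    have := congrArg Subtype.val hφv
    exact this
  refine ⟨t₀, t₀.2, ?_⟩
  set c : G := (t₀ : G)⁻¹ * (g : G) with hc
  have hcu : Commute c (u : G) := by
    show c * u = u * c
    have : c * u * c⁻¹ = u := by
      rw [hc]
      calc (t₀ : G)⁻¹ * g * u * ((t₀ : G)⁻¹ * g)⁻¹
          = (t₀ : G)⁻¹ * ((g : G) * u * (g : G)⁻¹) * t₀ := by group
        _ = u := by rw [hφu']; group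
    calc c * u = (c * u * c⁻¹) * c := by group
      _ = u * c := by rw [this]
  have hcv : Commute c (v : G) := by
    show c * v = v * c
    have : c * v * c⁻¹ = v := by
      rw [hc]
      calc (t₀ : G)⁻¹ * g * v * ((t₀ : G)⁻¹ * g)⁻¹
          = (t₀ : G)⁻¹ * ((g : G) * v * (g : G)⁻¹) * t₀ := by group
        _ = v := by rw [hφv']; group
    calc c * v = (c * v * c⁻¹) * c := by group
      _ = v * c := by rw [this]
  rw [Subgroup.mem_centralizer_iff]
  intro t ht
  obtain ⟨i, j, hij⟩ := quat2_gen (e ⟨t, ht⟩)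
  have ht' : (⟨t, ht⟩ : Q) = u ^ (i : ℕ) * v ^ (j : ℕ) := by
    apply e.injective
    rw [hij, map_mul, map_pow, map_pow, hu, hv, e.apply_symm_apply, e.apply_symm_apply]
  have ht'' : t = (u : G) ^ (i : ℕ) * (v : G) ^ (j : ℕ) := by
    have := congrArg Subtype.val ht'
    simpa using this
  rw [ht'']
  exact (((hcu.pow_right _).mul_right (hcv.pow_right _)).eq).symm

theorem le_quatAct_ker (Q : Subgroup G) (e : Q ≃* QuaternionGroup 2) :
    Q ⊔ Subgroup.centralizer (Q : Set G) ≤ (quatAct Q).ker.map (Subgroup.normalizer (Q : Set G)).subtype := by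
  haveI := quat2_isKleinFour e
  rw [sup_le_iff]
  constructor
  · intro t₀ ht₀
    refine ⟨⟨t₀, Subgroup.le_normalizer ht₀⟩, ?_, rfl⟩
    rw [SetLike.mem_coe, MonoidHom.mem_ker]
    ext t
    induction t using QuotientGroup.induction_on with
    | H t =>
      rw [quatAct_mk]
      have h1 : Q.normalizerMonoidHom ⟨t₀, Subgroup.le_normalizer ht₀⟩ t
          = ⟨t₀, ht₀⟩ * t * ⟨t₀, ht₀⟩⁻¹ := by
        apply Subtype.ext
        rfl
      rw [h1, QuotientGroup.mk_mul, QuotientGroup.mk_mul, QuotientGroup.mk_inv]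
      have hcomm := (IsKleinFour.isMulCommutative (G := Q ⧸ Subgroup.center Q)).is_comm.comm
      show _ = (QuotientGroup.mk t : Q ⧸ Subgroup.center Q)
      rw [hcomm (QuotientGroup.mk _) (QuotientGroup.mk t), mul_assoc, mul_inv_cancel, mul_one]
  · intro c hc
    refine ⟨⟨c, Subgroup.centralizer_le_normalizer _ hc⟩, ?_, rfl⟩
    rw [SetLike.mem_coe, MonoidHom.mem_ker]
    ext t
    induction t using QuotientGroup.induction_on with
    | H t =>
      rw [quatAct_mk]
      have h1 : Q.normalizerMonoidHom ⟨c, Subgroup.centralizer_le_normalizer _ hc⟩ t = t := by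
        apply Subtype.ext
        show c * (t : G) * c⁻¹ = t
        rw [Subgroup.mem_centralizer_iff] at hc
        rw [← hc t t.2, mul_assoc, mul_inv_cancel, mul_one]
      rw [h1]
      rfl

theorem quatAct_ker (Q : Subgroup G) (e : Q ≃* QuaternionGroup 2) :
    (quatAct Q).ker = (Q ⊔ Subgroup.centralizer (Q : Set G)).subgroupOf
      (Subgroup.normalizer (Q : Set G)) := by
  ext g
  rw [Subgroup.mem_subgroupOf, MonoidHom.mem_ker]
  constructor
  · intro hg
    obtain ⟨t₀, ht₀, hc⟩ := quatAct_ker_le Q e g hg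
    have : (g : G) = t₀ * (t₀⁻¹ * (g : G)) := by group
    rw [this]
    exact Subgroup.mul_mem_sup ht₀ hc
  · intro hg
    obtain ⟨g', hg', hgg'⟩ := le_quatAct_ker Q e hg
    have : g' = g := Subtype.ext hgg'
    rw [← this]
    exact MonoidHom.mem_ker.mp hg'

theorem quatAct_relIndex (Q : Subgroup G) (e : Q ≃* QuaternionGroup 2) :
    (Q ⊔ Subgroup.centralizer (Q : Set G)).relIndex (Subgroup.normalizer (Q : Set G))
      = (quatAct Q).ker.index := by
  rw [quatAct_ker Q e]
  rfl

theorem normalizerMonoidHom_relIndex (T : Subgroup G) :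
    (Subgroup.centralizer (T : Set G)).relIndex (Subgroup.normalizer (T : Set G))
      = T.normalizerMonoidHom.ker.index := by
  rw [Subgroup.normalizerMonoidHom_ker]
  rfl

end

end Cfsg.Agent.Lib.Helper20
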