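import Mathlib
import Cfsg.Agent.Lib.Helper20.QD
import Cfsg.Agent.Lib.Helper20.QDKlein
import Cfsg.Agent.Lib.Helper20.QDQuat
import Cfsg.Agent.Lib.Helper20.KleinAct
import Cfsg.Agent.Lib.Helper20.QuatAct

set_option autoImplicit false
set_option linter.style.haveILetI false
set_option linter.unusedSimpArgs false

namespace Cfsg.Agent.Lib.Helper20

theorem isKleinFour_of_mulEquiv {A B : Type*} [Group A] [Group B] (e : A ≃* B) [IsKleinFour A] :
    IsKleinFour B where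
  card_four := by rw [← Nat.card_congr e.toEquiv]; exact IsKleinFour.card_four
  exponent_two := by rw [← Monoid.exponent_eq_of_mulEquiv e]; exact IsKleinFour.exponent_two

section

variable {G : Type*} [Group G]

theorem mem_normalizer_of_subgroupOf {S T : Subgroup G} (hTS : T ≤ S) (g : S)
    (hg : g ∈ Subgroup.normalizer ((T.subgroupOf S : Subgroup S) : Set S)) :
    (g : G) ∈ Subgroup.normalizer (T : Set G) := by
  rw [Subgroup.mem_normalizer_iff] at hg ⊢
  intro n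
  constructor
  · intro hn
    have := (hg ⟨n, hTS hn⟩).mp (by rw [Subgroup.mem_subgroupOf]; exact hn)
    rw [Subgroup.mem_subgroupOf] at this
    exact this
  · intro hn
    have hnS : n ∈ S := by
      have h1 : (g : G) * n * (g : G)⁻¹ ∈ S := hTS hn
      have : n = (g : G)⁻¹ * ((g : G) * n * (g : G)⁻¹) * (g : G) := by group
      rw [this]
      exact S.mul_mem (S.mul_mem (S.inv_mem g.2) h1) g.2
    have := (hg ⟨n, hnS⟩).mpr (by rw [Subgroup.mem_subgroupOf]; exact hn)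
    rw [Subgroup.mem_subgroupOf] at this
    exact this

/-- membership in the normalizer of a finite subgroup, one-sided -/
theorem mem_normalizer_of_forall {T : Subgroup G} [Finite T] (g : G)
    (hg : ∀ t ∈ T, g * t * g⁻¹ ∈ T) : g ∈ Subgroup.normalizer (T : Set G) := by
  have hfin : Finite (T : Set G) := inferInstance
  apply Subgroup.mem_normalizer_fintype
  exact hg

end

namespace QD

variable {S : Type*} [Group S] {q : ℕ} {x y : S}

/-- `x^(2q)` normalizes every Klein four-subgroup -/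
theorem x2q_conj_mem_klein (h : QD S q x y) (T : Subgroup S) [IsKleinFour T] (t : S) (ht : t ∈ T) :
    x ^ (2 * q : ℤ) * t * (x ^ (2 * q : ℤ))⁻¹ ∈ T := by
  obtain ⟨i, ⟨d, hd⟩, hxT, hxyT⟩ := h.klein_struct T
  rcases h.cases t with ⟨l, rfl⟩ | ⟨l, rfl⟩
  · have : x ^ (2 * q : ℤ) * x ^ l * (x ^ (2 * q : ℤ))⁻¹ = x ^ l := by
      rw [← zpow_neg, ← zpow_add, ← zpow_add]; congr 1; ring
    rw [this]; exact ht
  · rw [h.conj_x_xy]
    rw [hxyT] at ht ⊢
    obtain ⟨c, hc⟩ := ht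
    exact ⟨c + 1 - 2 * q, by linear_combination hc⟩

/-- `x^(2q)` moves every element `x^l y` -/
theorem x2q_conj_ne (h : QD S q x y) (l : ℤ) :
    x ^ (2 * q : ℤ) * (x ^ l * y) * (x ^ (2 * q : ℤ))⁻¹ ≠ x ^ l * y := by
  rw [h.conj_x_xy]
  intro he
  have h2 := mul_right_cancel he
  rw [h.zpow_eq_iff] at h2
  obtain ⟨c, hc⟩ := h2
  have hq := h.qpos
  have h1 : (1 : ℤ) = 2 * (q + c) := by
    have : (4 * q : ℤ) * 1 = 4 * q * (2 * (q + c)) := by linear_combination hc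
    exact mul_left_cancel₀ (by omega) this
  omega

/-- `x^q` normalizes every quaternion subgroup of order 8 -/
theorem xq_conj_mem_quat (h : QD S q x y) (Q : Subgroup S) (e : Q ≃* QuaternionGroup 2) (t : S)
    (ht : t ∈ Q) : x ^ (q : ℤ) * t * (x ^ (q : ℤ))⁻¹ ∈ Q := by
  obtain ⟨i, hi, hxQ, hxyQ⟩ := h.quat_struct Q e
  rcases h.cases t with ⟨l, rfl⟩ | ⟨l, rfl⟩
  · have : x ^ (q : ℤ) * x ^ l * (x ^ (q : ℤ))⁻¹ = x ^ l := by
      rw [← zpow_neg, ← zpow_add, ← zpow_add]; congr 1; ring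
    rw [this]; exact ht
  · rw [h.conj_x_xy]
    rw [hxyQ] at ht ⊢
    obtain ⟨c, hc⟩ := ht
    exact ⟨c + 1 - 2 * q, by linear_combination hc⟩

/-- powers of `x` commuting with some `x^l y` -/
theorem zpow_comm_xy (h : QD S q x y) {m l : ℤ} (hc : x ^ m * (x ^ l * y) = (x ^ l * y) * x ^ m) :
    (4 * q : ℤ) ∣ m := by
  rw [h.mul_xy_x, QD.mul_x_xy] at hc
  have h2 := mul_right_cancel hc
  rw [h.zpow_eq_iff] at h2
  obtain ⟨c', hc'⟩ := h2
  have h3 : (2 * q - 1 : ℤ) * m = 4 * q * (-c') := by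
    have : 2 * ((2 * q - 1 : ℤ) * m) = 2 * (4 * q * (-c')) := by linear_combination (-1 : ℤ) * hc'
    exact mul_left_cancel₀ (by norm_num) this
  exact ⟨(2 * q - 1) * (-c') - (q - 1) * m, by linear_combination (2 * (q : ℤ) - 1) * h3⟩

end QD

section

variable {G : Type*} [Group G] {S : Subgroup G} {q : ℕ} {x y : S}

theorem QD.klein_x2q_mem (h : QD S q x y) (T : Subgroup G) [IsKleinFour T] (hTS : T ≤ S) :
    ((x ^ (2 * q : ℤ) : S) : G) ∈ Subgroup.normalizer (T : Set G) := by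
  haveI : IsKleinFour (T.subgroupOf S) :=
    isKleinFour_of_mulEquiv (Subgroup.subgroupOfEquivOfLe hTS).symm
  haveI : Finite T := IsKleinFour.instFinite
  apply mem_normalizer_of_forall
  intro t ht
  have := h.x2q_conj_mem_klein (T.subgroupOf S) ⟨t, hTS ht⟩ (by rw [Subgroup.mem_subgroupOf]; exact ht)
  rw [Subgroup.mem_subgroupOf] at this
  exact this

/-- the image of `x^(2q)` in `Aut T` is an involution -/
theorem QD.klein_x2q_spec (h : QD S q x y) (T : Subgroup G) [IsKleinFour T] (hTS : T ≤ S) :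
    T.normalizerMonoidHom ⟨_, h.klein_x2q_mem T hTS⟩ ≠ 1 ∧
    T.normalizerMonoidHom (⟨_, h.klein_x2q_mem T hTS⟩ * ⟨_, h.klein_x2q_mem T hTS⟩) = 1 := by
  haveI : IsKleinFour (T.subgroupOf S) :=
    isKleinFour_of_mulEquiv (Subgroup.subgroupOfEquivOfLe hTS).symm
  obtain ⟨i, ⟨d, hd⟩, hxT, hxyT⟩ := h.klein_struct (T.subgroupOf S)
  have hgT : x ^ i * y ∈ T.subgroupOf S := (hxyT i).mpr (by simp)
  rw [Subgroup.mem_subgroupOf] at hgT
  constructor
  · intro hone
    have h1 := DFunLike.congr_fun hone ⟨_, hgT⟩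
    have h2 := congrArg Subtype.val h1
    have h3 : ((x ^ (2 * q : ℤ) * (x ^ i * y) * (x ^ (2 * q : ℤ))⁻¹ : S) : G) = ((x ^ i * y : S) : G) :=
      h2
    exact h.x2q_conj_ne i (Subtype.ext h3)
  · ext t
    show ((x ^ (2 * q : ℤ) : S) : G) * ((x ^ (2 * q : ℤ) : S) : G) * (t : G) *
      (((x ^ (2 * q : ℤ) : S) : G) * ((x ^ (2 * q : ℤ) : S) : G))⁻¹ = (t : G)
    have h1 : ((x ^ (2 * q : ℤ) : S) : G) * ((x ^ (2 * q : ℤ) : S) : G) = ((x ^ (4 * q : ℤ) : S) : G) := by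
      rw [← Subgroup.coe_mul, h.x2q_mul_self]
    rw [h1]
    have h2 := h.central ⟨t, hTS t.2⟩
    have h3 := congrArg Subtype.val h2
    have h4 : (t : G) * ((x ^ (4 * q : ℤ) : S) : G) = ((x ^ (4 * q : ℤ) : S) : G) * (t : G) := h3
    rw [← h4, mul_assoc, mul_inv_cancel, mul_one]

theorem QD.quat_xq_mem (h : QD S q x y) (Q : Subgroup G) (hQS : Q ≤ S) (e : Q ≃* QuaternionGroup 2) :
    ((x ^ (q : ℤ) : S) : G) ∈ Subgroup.normalizer (Q : Set G) := by
  haveI : Finite Q := quat2_finite e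
  apply mem_normalizer_of_forall
  intro t ht
  have := h.xq_conj_mem_quat (Q.subgroupOf S) ((Subgroup.subgroupOfEquivOfLe hQS).trans e)
    ⟨t, hQS ht⟩ (by rw [Subgroup.mem_subgroupOf]; exact ht)
  rw [Subgroup.mem_subgroupOf] at this
  exact this

/-- the image of `x^q` in `Aut (Q/Z(Q))` is an involution -/
theorem QD.quat_xq_spec (h : QD S q x y) (Q : Subgroup G) (hQS : Q ≤ S) (e : Q ≃* QuaternionGroup 2) :
    quatAct Q ⟨_, h.quat_xq_mem Q hQS e⟩ ≠ 1 ∧
    quatAct Q (⟨_, h.quat_xq_mem Q hQS e⟩ * ⟨_, h.quat_xq_mem Q hQS e⟩) = 1 := by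
  obtain ⟨i, hi, hxQ, hxyQ⟩ := h.quat_struct (Q.subgroupOf S)
    ((Subgroup.subgroupOfEquivOfLe hQS).trans e)
  have hgQ : x ^ i * y ∈ Q.subgroupOf S := (hxyQ i).mpr (by simp)
  rw [Subgroup.mem_subgroupOf] at hgQ
  have hq := h.qpos
  constructor
  · intro hone
    rw [quatAct_eq_one_iff] at hone
    have h1 := hone ⟨_, hgQ⟩
    rw [Subgroup.mem_center_iff] at h1
    have h2 := h1 ⟨_, hgQ⟩
    have h3 := congrArg Subtype.val h2
    -- translate to S
    have h4 : ((x ^ i * y) * ((x ^ i * y)⁻¹ * (x ^ (q : ℤ) * (x ^ i * y) * (x ^ (q : ℤ))⁻¹)) : S)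
        = ((x ^ i * y)⁻¹ * (x ^ (q : ℤ) * (x ^ i * y) * (x ^ (q : ℤ))⁻¹)) * (x ^ i * y) := by
      apply Subtype.ext
      exact h3
    rw [h.conj_x_xy, h.inv_xy, h.mul_xy_xy] at h4
    have h5 := h.zpow_comm_xy h4.symm
    obtain ⟨c, hc⟩ := h5
    -- (4q-1)(2-4q) q = 4 q c  (after simplification) : parity contradiction
    have h6 : (4 * q - 1 : ℤ) * (1 - 2 * q) = 2 * c := by
      have : (2 * q : ℤ) * ((4 * q - 1 : ℤ) * (1 - 2 * q)) = 2 * q * (2 * c) := by
        linear_combination hc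
      exact mul_left_cancel₀ (by omega) this
    have h7 : (4 * q - 1 : ℤ) * (1 - 2 * q) = 2 * (-4 * q * q + 3 * q - 1) + 1 := by ring
    omega
  · have hmem : ((x ^ (q : ℤ) : S) : G) * ((x ^ (q : ℤ) : S) : G) ∈ Q := by
      have h1 : x ^ (2 * q : ℤ) ∈ Q.subgroupOf S := (hxQ _).mpr (dvd_refl _)
      rw [Subgroup.mem_subgroupOf] at h1
      have h2 : ((x ^ (q : ℤ) : S) : G) * ((x ^ (q : ℤ) : S) : G) = ((x ^ (2 * q : ℤ) : S) : G) := by
        rw [← Subgroup.coe_mul, ← zpow_add]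
        congr 2
        ring
      rw [h2]; exact h1
    have : (⟨_, h.quat_xq_mem Q hQS e⟩ * ⟨_, h.quat_xq_mem Q hQS e⟩ :
        Subgroup.normalizer (Q : Set G)) ∈ (quatAct Q).ker := by
      rw [quatAct_ker Q e, Subgroup.mem_subgroupOf]
      exact Subgroup.mem_sup_left hmem
    exact MonoidHom.mem_ker.mp this

end

end Cfsg.Agent.Lib.Helper20
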