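import Mathlib
import Cfsg.Prelude.Def_TwoFusion

set_option autoImplicit false

namespace Cfsg.Agent.Lib.Helper20

variable {G : Type*} [Group G]

theorem conj_inv_pow {z r : G} (h : z * r * z⁻¹ = r⁻¹) (j : ℕ) :
    z * r ^ j * z⁻¹ = (r ^ j)⁻¹ := by
  rw [← conj_pow, h, inv_pow]

theorem invol_mul_self {z : G} (hz : orderOf z = 2) : z * z = 1 := by
  have := pow_orderOf_eq_one z
  rw [hz] at this
  simpa [pow_two] using this

theorem invol_inv {z : G} (hz : orderOf z = 2) : z⁻¹ = z :=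
  inv_eq_of_mul_eq_one_right (invol_mul_self hz)

theorem invol_ne_one {z : G} (hz : orderOf z = 2) : z ≠ 1 := by
  intro h
  rw [h, orderOf_one] at hz
  omega

theorem orderOf_conj' (g z : G) : orderOf (g * z * g⁻¹) = orderOf z := by
  have := orderOf_injective (MulAut.conj g).toMonoidHom (MulAut.conj g).injective z
  simpa using this

/-- the product of an involution with another involution is inverted by it -/
theorem invol_conj_mul {z t : G} (hz : z * z = 1) (ht : t * t = 1) :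
    z * (z * t) * z⁻¹ = (z * t)⁻¹ := by
  have hzi : z⁻¹ = z := inv_eq_of_mul_eq_one_right hz
  have hti : t⁻¹ = t := inv_eq_of_mul_eq_one_right ht
  rw [mul_inv_rev, hzi, hti, ← mul_assoc, hz, one_mul]

/-- dihedral conjugation: if `z` inverts `c` then `c * z * c⁻¹ = c * c * z`. -/
theorem conj_of_inverted {z c : G} (hz : z * z = 1) (h : z * c * z⁻¹ = c⁻¹) :
    c * z * c⁻¹ = c * c * z := by
  have hzi : z⁻¹ = z := inv_eq_of_mul_eq_one_right hz
  have h2 : z * c⁻¹ * z⁻¹ = c := by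
    have := congrArg (fun x => x⁻¹) h
    simpa [mul_assoc] using this
  rw [hzi] at h2
  calc c * z * c⁻¹ = c * (z * c⁻¹ * z) * z := by simp [mul_assoc, hz]
    _ = c * c * z := by rw [h2]

/-- `z * r ^ (2 j) = (r ^ j)⁻¹ * z * r ^ j` when `z` inverts `r`. -/
theorem invol_mul_pow_even {z r : G} (hz : z * z = 1) (h : z * r * z⁻¹ = r⁻¹) (j : ℕ) :
    (r ^ j)⁻¹ * z * ((r ^ j)⁻¹)⁻¹ = z * r ^ (j + j) := by
  have hzi : z⁻¹ = z := inv_eq_of_mul_eq_one_right hz
  have h1 := conj_inv_pow h j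
  rw [hzi] at h1
  rw [inv_inv, ← h1, pow_add]
  simp only [mul_assoc]
  rw [← mul_assoc z z, hz, one_mul]

theorem invol_mul_pow_odd {z r : G} (hz : z * z = 1) (h : z * r * z⁻¹ = r⁻¹) (j : ℕ) :
    (r ^ j)⁻¹ * (z * r) * ((r ^ j)⁻¹)⁻¹ = z * r ^ (j + j + 1) := by
  have e := invol_mul_pow_even hz h j
  rw [inv_inv] at e ⊢
  calc (r ^ j)⁻¹ * (z * r) * r ^ j = ((r ^ j)⁻¹ * z * r ^ j) * r := by
        simp only [mul_assoc]
        rw [← pow_succ, ← pow_succ']
    _ = z * r ^ (j + j + 1) := by rw [e, pow_succ, mul_assoc]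

/-- abstract dihedral lemma: if the involution `z` inverts `r` of even order `2k`, then `z * r ^ k` is an
involution commuting with `z`, different from `z`, conjugate to `z` or to `z * r` by a power of `r`. -/
theorem dihedral_even {z r : G} (hz : z * z = 1) (h : z * r * z⁻¹ = r⁻¹) {k : ℕ}
    (hk : orderOf r = k + k) (hkpos : 0 < k) :
    Commute z (z * r ^ k) ∧ z * r ^ k ≠ z ∧
      ∃ c : G, c * z * c⁻¹ = z * r ^ k ∨ c * (z * r) * c⁻¹ = z * r ^ k := by
  have hzi : z⁻¹ = z := inv_eq_of_mul_eq_one_right hz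
  have hu1 : r ^ k ≠ 1 := by
    intro h
    have h1 := orderOf_dvd_of_pow_eq_one h
    have := Nat.le_of_dvd hkpos h1
    omega
  have hu2 : r ^ k * r ^ k = 1 := by
    rw [← pow_add, ← hk, pow_orderOf_eq_one]
  have hzu : z * r ^ k * z⁻¹ = r ^ k := by
    rw [conj_inv_pow h]
    exact inv_eq_of_mul_eq_one_right hu2
  refine ⟨?_, ?_, ?_⟩
  · have : z * r ^ k = r ^ k * z := by
      have := congrArg (fun x => x * z) hzu
      simpa [mul_assoc, hzi, hz] using this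
    show z * (z * r ^ k) = z * r ^ k * z
    rw [mul_assoc, ← this]
  · intro h3
    apply hu1
    have := congrArg (fun x => z * x) h3
    simpa [← mul_assoc, hz] using this
  · rcases Nat.even_or_odd' k with ⟨j, hj | hj⟩
    · refine ⟨(r ^ j)⁻¹, Or.inl ?_⟩
      rw [invol_mul_pow_even hz h j, hj, two_mul]
    · refine ⟨(r ^ j)⁻¹, Or.inr ?_⟩
      rw [invol_mul_pow_odd hz h j, hj, two_mul]

theorem conj_mul_self {z : G} (hz2 : z * z = 1) (g : G) :
    (g * z * g⁻¹) * (g * z * g⁻¹) = 1 := by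
  have : (g * z * g⁻¹) * (g * z * g⁻¹) = g * (z * z) * g⁻¹ := by group
  rw [this, hz2, mul_one, mul_inv_cancel]

theorem isolated_odd_orderOf_mul [Finite G] {z : G} (hz : Cfsg.IsIsolatedInvolution z) (g : G) :
    Odd (orderOf (z * (g * z * g⁻¹))) := by
  have hz2 : z * z = 1 := invol_mul_self hz.1
  have hzi : z⁻¹ = z := invol_inv hz.1
  have ht2 := conj_mul_self hz2 g
  have hinv := invol_conj_mul hz2 ht2
  by_contra hodd
  rw [Nat.not_odd_iff_even] at hodd
  obtain ⟨k, hk⟩ := hodd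
  have hkpos : 0 < k := by
    have := orderOf_pos (z * (g * z * g⁻¹))
    omega
  obtain ⟨hcomm, hne, c, hc | hc⟩ := dihedral_even hz2 hinv hk hkpos
  · have h3 := hz.2 c (by rw [hc]; exact hcomm)
    rw [hc] at h3
    exact hne h3
  · have e : z * (z * (g * z * g⁻¹)) = g * z * g⁻¹ := by
      rw [← mul_assoc, hz2, one_mul]
    rw [e] at hc
    have hc' : (c * g) * z * (c * g)⁻¹ = z * (z * (g * z * g⁻¹)) ^ k := by
      rw [← hc]; group
    have h3 := hz.2 (c * g) (by rw [hc']; exact hcomm)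
    rw [hc'] at h3
    exact hne h3

theorem odd_of_dvd_odd {a b : ℕ} (h : a ∣ b) (hb : Odd b) : Odd a := by
  obtain ⟨c, rfl⟩ := h
  exact (Nat.odd_mul.mp hb).1

/-- For an isolated involution `z` and a conjugate `t = g z g⁻¹` there is `c` in `⟨z t⟩`, of odd order,
inverted by `z`, with `c z c⁻¹ = t`. -/
theorem isolated_exists_conj [Finite G] {z : G} (hz : Cfsg.IsIsolatedInvolution z) (g : G) :
    ∃ c : G, c ∈ Subgroup.zpowers (z * (g * z * g⁻¹)) ∧ Odd (orderOf c) ∧ z * c * z⁻¹ = c⁻¹ ∧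
      c * z * c⁻¹ = g * z * g⁻¹ := by
  have hz2 : z * z = 1 := invol_mul_self hz.1
  have hzi : z⁻¹ = z := invol_inv hz.1
  have ht2 := conj_mul_self hz2 g
  have hinv := invol_conj_mul hz2 ht2
  have hodd := isolated_odd_orderOf_mul hz g
  obtain ⟨j, hj⟩ := hodd
  have hmem : ((z * (g * z * g⁻¹)) ^ (j + 1))⁻¹ ∈ Subgroup.zpowers (z * (g * z * g⁻¹)) :=
    Subgroup.inv_mem _ (Subgroup.pow_mem _ (Subgroup.mem_zpowers _) _)
  have hcinv : z * ((z * (g * z * g⁻¹)) ^ (j + 1))⁻¹ * z⁻¹ = (((z * (g * z * g⁻¹)) ^ (j + 1))⁻¹)⁻¹ := by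
    rw [← conj_inv, conj_inv_pow hinv (j + 1)]
  refine ⟨((z * (g * z * g⁻¹)) ^ (j + 1))⁻¹, hmem, ?_, hcinv, ?_⟩
  · exact odd_of_dvd_odd (orderOf_dvd_of_mem_zpowers hmem) ⟨j, hj⟩
  · rw [conj_of_inverted hz2 hcinv, ← mul_inv_rev, ← pow_add]
    have : (z * (g * z * g⁻¹)) ^ (j + 1 + (j + 1)) = z * (g * z * g⁻¹) := by
      have e : j + 1 + (j + 1) = orderOf (z * (g * z * g⁻¹)) + 1 := by omega
      rw [e, pow_succ, pow_orderOf_eq_one, one_mul]
    rw [this, mul_inv_rev, hzi]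
    have : (g * z * g⁻¹)⁻¹ = g * z * g⁻¹ := inv_eq_of_mul_eq_one_right ht2
    rw [this, mul_assoc, hz2, mul_one]

theorem eq_one_of_odd_of_mul_self {r : G} (ho : Odd (orderOf r)) (h : r * r = 1) : r = 1 := by
  have h2 : orderOf r ∣ 2 := orderOf_dvd_of_pow_eq_one (by rw [pow_two, h])
  have h3 : orderOf r = 1 := by
    have := Nat.le_of_dvd (by norm_num) h2
    obtain ⟨j, hj⟩ := ho
    interval_cases h4 : orderOf r
    · omega
    · rfl
    · omega
  exact orderOf_eq_one_iff.mp h3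

/-- an element of odd order which inverts `r` centralizes `r`, so `r * r = 1`. -/
theorem mul_self_of_odd_inverts {w r : G} (hw : Odd (orderOf w)) (h : w * r * w⁻¹ = r⁻¹) :
    r * r = 1 := by
  have h2 : Commute (w ^ 2) r := by
    show w ^ 2 * r = r * w ^ 2
    have h' : w * r⁻¹ * w⁻¹ = r := by rw [← conj_inv, h, inv_inv]
    have : w ^ 2 * r * (w ^ 2)⁻¹ = r := by
      calc w ^ 2 * r * (w ^ 2)⁻¹ = w * (w * r * w⁻¹) * w⁻¹ := by rw [pow_two]; group
        _ = r := by rw [h, h']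
    calc w ^ 2 * r = w ^ 2 * r * (w ^ 2)⁻¹ * w ^ 2 := by group
      _ = r * w ^ 2 := by rw [this]
  obtain ⟨j, hj⟩ := hw
  have h3 : Commute ((w ^ 2) ^ j) r := h2.pow_left j
  have h4 : (w ^ 2) ^ j * w = 1 := by
    rw [← pow_mul, ← pow_succ, ← hj, pow_orderOf_eq_one]
  have h5 : (w ^ 2) ^ j = w⁻¹ := eq_inv_of_mul_eq_one_left h4
  rw [h5] at h3
  have h6 : Commute w r := by
    have := h3.inv_left
    simpa using this
  have h7 : r = r⁻¹ := by
    rw [← h, h6.eq, mul_assoc, mul_inv_cancel, mul_one]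
  calc r * r = r * r⁻¹ := by rw [← h7]
    _ = 1 := mul_inv_cancel r

theorem eq_of_mul_self_eq_of_odd {a b : G} (ha : Odd (orderOf a)) (hb : Odd (orderOf b))
    (h : a * a = b * b) : a = b := by
  have h' : a ^ 2 = b ^ 2 := by rw [pow_two, pow_two, h]
  have oa : orderOf (a ^ 2) = orderOf a :=
    Nat.Coprime.orderOf_pow (Nat.Coprime.symm (Nat.coprime_two_left.mpr ha))
  have ob : orderOf (b ^ 2) = orderOf b :=
    Nat.Coprime.orderOf_pow (Nat.Coprime.symm (Nat.coprime_two_left.mpr hb))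
  have hab : orderOf a = orderOf b := by rw [← oa, ← ob, h']
  obtain ⟨j, hj⟩ := ha
  have e1 : a = (a ^ 2) ^ (j + 1) := by
    rw [← pow_mul]
    have : 2 * (j + 1) = orderOf a + 1 := by omega
    rw [this, pow_succ, pow_orderOf_eq_one, one_mul]
  have e2 : b = (b ^ 2) ^ (j + 1) := by
    rw [← pow_mul]
    have : 2 * (j + 1) = orderOf b + 1 := by omega
    rw [this, pow_succ, pow_orderOf_eq_one, one_mul]
  rw [e1, e2, h']

/-- a conjugate of an isolated involution is isolated -/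
theorem isolated_conj {z : G} (hz : Cfsg.IsIsolatedInvolution z) (g : G) :
    Cfsg.IsIsolatedInvolution (g * z * g⁻¹) := by
  refine ⟨by rw [orderOf_conj', hz.1], ?_⟩
  intro x hx
  have h1 : Commute z ((g⁻¹ * x * g) * z * (g⁻¹ * x * g)⁻¹) := by
    have hx' : (g * z * g⁻¹) * (x * (g * z * g⁻¹) * x⁻¹) = (x * (g * z * g⁻¹) * x⁻¹) * (g * z * g⁻¹) := hx
    show z * ((g⁻¹ * x * g) * z * (g⁻¹ * x * g)⁻¹) = ((g⁻¹ * x * g) * z * (g⁻¹ * x * g)⁻¹) * z
    have e1 : z * ((g⁻¹ * x * g) * z * (g⁻¹ * x * g)⁻¹)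
        = g⁻¹ * ((g * z * g⁻¹) * (x * (g * z * g⁻¹) * x⁻¹)) * g := by group
    have e2 : ((g⁻¹ * x * g) * z * (g⁻¹ * x * g)⁻¹) * z
        = g⁻¹ * ((x * (g * z * g⁻¹) * x⁻¹) * (g * z * g⁻¹)) * g := by group
    rw [e1, e2, hx']
  have h2 := hz.2 _ h1
  calc x * (g * z * g⁻¹) * x⁻¹ = g * ((g⁻¹ * x * g) * z * (g⁻¹ * x * g)⁻¹) * g⁻¹ := by group
    _ = g * z * g⁻¹ := by rw [h2]

/-- the product of two conjugates of an isolated involution has odd order -/
theorem isolated_odd_orderOf_mul' [Finite G] {z : G} (hz : Cfsg.IsIsolatedInvolution z) (g h : G) :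
    Odd (orderOf ((g * z * g⁻¹) * (h * z * h⁻¹))) := by
  have := isolated_odd_orderOf_mul (isolated_conj hz g) (h * g⁻¹)
  have e : h * g⁻¹ * (g * z * g⁻¹) * (h * g⁻¹)⁻¹ = h * z * h⁻¹ := by group
  rwa [e] at this

end Cfsg.Agent.Lib.Helper20
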