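import Mathlib
import Cfsg.Agent.Lib.Helper20.ConjMap
import Cfsg.Agent.Lib.Helper20.QDSylow

set_option autoImplicit false
set_option linter.style.haveILetI false
set_option linter.unusedSimpArgs false

namespace Cfsg.Agent.Lib.Helper20

section

variable {G : Type*} [Group G]

/-- a `p`-subgroup of a subgroup `M₀ ≥ S` can be conjugated into the Sylow subgroup `S` inside `M₀` -/
theorem sylow_conj_into [Finite G] {p : ℕ} [Fact p.Prime] (S : Sylow p G)
    (M₀ : Subgroup G) (hSM : (S : Subgroup G) ≤ M₀) (P : Subgroup G) (hP : IsPGroup p P)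
    (hPM : P ≤ M₀) : ∃ c ∈ M₀, ∀ t ∈ P, c * t * c⁻¹ ∈ (S : Subgroup G) := by
  have hP' : IsPGroup p (P.subgroupOf M₀) := hP.comap_subtype
  obtain ⟨R, hR⟩ := hP'.exists_le_sylow
  obtain ⟨c, hc⟩ := MulAction.exists_smul_eq M₀ R (S.subtype hSM)
  refine ⟨c, c.2, ?_⟩
  intro t ht
  have h1 : (⟨t, hPM ht⟩ : M₀) ∈ (R : Subgroup M₀) :=
    hR (by rw [Subgroup.mem_subgroupOf]; exact ht)
  have h2 : c * ⟨t, hPM ht⟩ * c⁻¹ ∈ ((c • R : Sylow p M₀) : Subgroup M₀) := by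
    rw [sylow_smul_coe]; exact conj_mem_map_conj h1
  rw [hc, Sylow.coe_subtype, Subgroup.mem_subgroupOf] at h2
  exact h2

/-- an element of `p`-power order is conjugate into any given Sylow `p`-subgroup -/
theorem exists_conj_mem_sylow [Finite G] {p : ℕ} [Fact p.Prime] (S : Sylow p G) (t : G) (m : ℕ)
    (ht : orderOf t = p ^ m) : ∃ g : G, g * t * g⁻¹ ∈ (S : Subgroup G) := by
  have hP : IsPGroup p (Subgroup.zpowers t) := by
    apply IsPGroup.of_card (n := m)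
    rw [Nat.card_zpowers, ht]
  obtain ⟨c, -, hc⟩ := sylow_conj_into S ⊤ le_top (Subgroup.zpowers t) hP le_top
  exact ⟨c, hc t (Subgroup.mem_zpowers t)⟩

/-- control of fusion: if all `G`-conjugates of `A` inside `S` are `S`-conjugate to `A`,
then fusion of an element of `A` into a set `B₀` stabilized by a subgroup `M₀ ≥ S` is
realized in `N_G(A)` -/
theorem control_fusion [Finite G] {p : ℕ} [Fact p.Prime] (S : Sylow p G) (A : Subgroup G)
    (hA : IsPGroup p A)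
    (hconj : ∀ g : G, (∀ t ∈ A, g * t * g⁻¹ ∈ (S : Subgroup G)) →
      ∃ s ∈ (S : Subgroup G), ∀ t ∈ A, s * (g * t * g⁻¹) * s⁻¹ ∈ A)
    (M₀ : Subgroup G) (hSM : (S : Subgroup G) ≤ M₀) (B₀ : Set G)
    (hB : ∀ c ∈ M₀, ∀ b ∈ B₀, c * b * c⁻¹ ∈ B₀) (a g₀ : G) (hb : g₀ * a * g₀⁻¹ ∈ B₀)
    (hAM : ∀ t ∈ A, g₀ * t * g₀⁻¹ ∈ M₀) :
    ∃ w ∈ Subgroup.normalizer (A : Set G), w * a * w⁻¹ ∈ B₀ := by
  have hP : IsPGroup p (A.map (MulAut.conj g₀).toMonoidHom) := hA.map _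
  have hPM : A.map (MulAut.conj g₀).toMonoidHom ≤ M₀ := by
    rintro _ ⟨t, ht, rfl⟩
    exact hAM t ht
  obtain ⟨c, hcM, hc⟩ := sylow_conj_into S M₀ hSM _ hP hPM
  have hg : ∀ t ∈ A, (c * g₀) * t * (c * g₀)⁻¹ ∈ (S : Subgroup G) := by
    intro t ht
    have := hc (g₀ * t * g₀⁻¹) (conj_mem_map_conj ht)
    have e : (c * g₀) * t * (c * g₀)⁻¹ = c * (g₀ * t * g₀⁻¹) * c⁻¹ := by group
    rw [e]; exact this
  obtain ⟨s, hsS, hs⟩ := hconj (c * g₀) hg
  refine ⟨s * (c * g₀), ?_, ?_⟩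
  · haveI : Finite A := inferInstance
    apply mem_normalizer_of_forall
    intro t ht
    have e : s * (c * g₀) * t * (s * (c * g₀))⁻¹ = s * ((c * g₀) * t * (c * g₀)⁻¹) * s⁻¹ := by group
    rw [e]; exact hs t ht
  · have e : s * (c * g₀) * a * (s * (c * g₀))⁻¹ = (s * c) * (g₀ * a * g₀⁻¹) * (s * c)⁻¹ := by group
    rw [e]
    exact hB _ (M₀.mul_mem (hSM hsS) hcM) _ hb

/-- a Sylow `2`-subgroup is not contained in a subgroup of index two -/
theorem sylow_not_le_of_index_two [Finite G] (S : Sylow 2 G) (H : Subgroup G) (hH : H.index = 2) :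
    ¬ (S : Subgroup G) ≤ H := by
  intro hle
  haveI : Fact (Nat.Prime 2) := ⟨Nat.prime_two⟩
  have h1 := Subgroup.index_dvd_of_le hle
  rw [hH] at h1
  exact S.not_dvd_index h1

theorem conj_mem_of_index_two {H : Subgroup G} (hH : H.index = 2) {a : G} (ha : a ∈ H) (g : G) :
    g * a * g⁻¹ ∈ H := by
  haveI := Subgroup.normal_of_index_eq_two hH
  exact Subgroup.Normal.conj_mem inferInstance a ha g

theorem mem_of_isConj_of_index_two {H : Subgroup G} (hH : H.index = 2) {a b : G} (ha : a ∈ H)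
    (hab : IsConj a b) : b ∈ H := by
  obtain ⟨g, hg⟩ := isConj_iff.mp hab
  rw [← hg]
  exact conj_mem_of_index_two hH ha g

theorem mul_mem_of_index_two {H : Subgroup G} (hH : H.index = 2) {a b : G} (ha : a ∉ H)
    (hb : b ∉ H) : a * b ∈ H := by
  rw [Subgroup.mul_mem_iff_of_index_two hH]
  exact ⟨fun h => absurd h ha, fun h => absurd h hb⟩

/-- counting conjugacy classes: one class -/
theorem card_classes_eq_one (P : G → Prop) (a : G) (ha : P a)
    (hall : ∀ t, P t → IsConj t a) :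
    Nat.card {C : ConjClasses G // ∃ t : G, P t ∧ ConjClasses.mk t = C} = 1 := by
  rw [Nat.card_eq_one_iff_unique]
  refine ⟨⟨?_⟩, ⟨⟨ConjClasses.mk a, a, ha, rfl⟩⟩⟩
  rintro ⟨C, t, ht, rfl⟩ ⟨C', t', ht', rfl⟩
  apply Subtype.ext
  exact ConjClasses.mk_eq_mk_iff_isConj.mpr ((hall t ht).trans (hall t' ht').symm)

theorem isConj_of_conj_eq {a b g : G} (h : g * a * g⁻¹ = b) : IsConj a b :=
  isConj_iff.mpr ⟨g, h⟩

end

end Cfsg.Agent.Lib.Helper20
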