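import Mathlib
import Cfsg.Prelude.Def_CaseTheorems
import Cfsg.Agent.Lib.Helper20.Isolated
import Cfsg.Agent.Lib.Helper20.SylowFusion
import Cfsg.Agent.Lib.Helper20.QDSylow

set_option autoImplicit false
set_option linter.style.haveILetI false
set_option linter.unusedSimpArgs false
set_option linter.unusedSectionVars false

namespace Cfsg.Agent.Lib.Helper20

section

variable {G : Type*} [Group G]

theorem isPGroup_zpowers_of_orderOf {p : ℕ} (t : G) (m : ℕ) (ht : orderOf t = p ^ m) :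
    IsPGroup p (Subgroup.zpowers t) := by
  apply IsPGroup.of_card (n := m)
  rw [Nat.card_zpowers, ht]

/-- a finite cyclic group has an element of every order dividing its order -/
theorem exists_orderOf_eq_of_dvd_card [Finite G] [IsCyclic G] (d : ℕ) (hd : d ∣ Nat.card G) :
    ∃ g : G, orderOf g = d := by
  obtain ⟨g, hg⟩ := IsCyclic.exists_ofOrder_eq_natCard (α := G)
  obtain ⟨e, he⟩ := hd
  have hpos : 0 < Nat.card G := Nat.card_pos
  have he0 : e ≠ 0 := by
    rintro rfl
    simp at he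
    omega
  refine ⟨g ^ e, ?_⟩
  rw [orderOf_pow_of_dvd he0 (by rw [hg, he]; exact dvd_mul_left e d), hg, he]
  exact Nat.mul_div_cancel _ (Nat.pos_of_ne_zero he0)

/-- the order of a Sylow `2`-subgroup from a factorization of the group order -/
theorem sylow_two_card_of_eq [Finite G] (P : Sylow 2 G) (k m : ℕ) (hm : Odd m)
    (h : Nat.card G = 2 ^ k * m) : Nat.card P = 2 ^ k := by
  obtain ⟨j, hj⟩ := IsPGroup.exists_card_eq P.2
  have h1 : 2 ^ k ∣ Nat.card P := by
    apply P.pow_dvd_card_of_pow_dvd_card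
    rw [h]
    exact dvd_mul_right _ _
  have h2 : Nat.card P ∣ 2 ^ k * m := by
    rw [← h]
    exact Subgroup.card_subgroup_dvd_card _
  rw [hj] at h1 h2 ⊢
  have h3 : k ≤ j := (Nat.pow_dvd_pow_iff_le_right (by norm_num)).mp h1
  have h4 : (2 ^ j).Coprime m := by
    apply Nat.Coprime.pow_left
    rw [Nat.coprime_two_left]
    exact hm
  have h5 : 2 ^ j ∣ 2 ^ k := h4.dvd_of_dvd_mul_right h2
  have h6 : j ≤ k := (Nat.pow_dvd_pow_iff_le_right (by norm_num)).mp h5
  rw [le_antisymm h6 h3]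

theorem conj_zpow' (c t : G) (i : ℤ) : c * t ^ i * c⁻¹ = (c * t * c⁻¹) ^ i := by
  rw [conj_zpow]

theorem conj_pow' (c t : G) (i : ℕ) : c * t ^ i * c⁻¹ = (c * t * c⁻¹) ^ i := by
  rw [conj_pow]

/-- if a finite group contains elements satisfying the quasi-dihedral relations for `2 ^ (n+1)` and
its Sylow `2`-subgroups have that order, they are quasi-dihedral -/
theorem isQuasiDihedral_sylow_of_elements [Finite G] (P : Sylow 2 G) (n : ℕ) (hn : 3 ≤ n)
    (hcard : Nat.card P = 2 ^ (n + 1)) (x y : G) (hx : orderOf x = 2 ^ n) (hy : orderOf y = 2)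
    (hrel : y * x * y⁻¹ = x ^ (2 ^ (n - 1) - 1)) : Cfsg.IsQuasiDihedral (P : Subgroup G) := by
  have hX : IsPGroup 2 (Subgroup.zpowers x) := isPGroup_zpowers_of_orderOf x n hx
  have hY : IsPGroup 2 (Subgroup.zpowers y) := isPGroup_zpowers_of_orderOf y 1 (by simpa using hy)
  have hnorm : Subgroup.zpowers y ≤ Subgroup.normalizer (Subgroup.zpowers x : Set G) := by
    rw [Subgroup.zpowers_le]
    apply mem_normalizer_of_forall
    intro t ht
    obtain ⟨i, rfl⟩ := Subgroup.mem_zpowers_iff.mp ht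
    rw [conj_zpow', hrel]
    exact Subgroup.zpow_mem _ (Subgroup.pow_mem _ (Subgroup.mem_zpowers x) _) _
  have hH : IsPGroup 2 (Subgroup.zpowers y ⊔ Subgroup.zpowers x : Subgroup G) :=
    IsPGroup.to_sup_of_normal_right' hY hX hnorm
  obtain ⟨c, -, hc⟩ := sylow_conj_into P ⊤ le_top _ hH le_top
  have hxm := hc x ((le_sup_right : Subgroup.zpowers x ≤ Subgroup.zpowers y ⊔ Subgroup.zpowers x)
    (Subgroup.mem_zpowers x))
  have hym := hc y ((le_sup_left : Subgroup.zpowers y ≤ Subgroup.zpowers y ⊔ Subgroup.zpowers x)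
    (Subgroup.mem_zpowers y))
  refine ⟨n, hn, hcard, ⟨c * x * c⁻¹, hxm⟩, ⟨c * y * c⁻¹, hym⟩, ?_, ?_, ?_⟩
  · rw [Subgroup.orderOf_mk, orderOf_conj', hx]
  · rw [Subgroup.orderOf_mk, orderOf_conj', hy]
  · apply Subtype.ext
    simp only [Subgroup.coe_mul, Subgroup.coe_inv, Subgroup.coe_pow]
    rw [← conj_pow', ← hrel]
    group

/-- if a finite group contains elements satisfying the wreathed relations for `2 ^ (2n+1)` and
its Sylow `2`-subgroups have that order, they are wreathed -/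
theorem isWreathed_sylow_of_elements [Finite G] (P : Sylow 2 G) (n : ℕ) (hn : 2 ≤ n)
    (hcard : Nat.card P = 2 ^ (2 * n + 1)) (x y z : G) (hx : orderOf x = 2 ^ n)
    (hxy : x * y = y * x) (hdisj : Subgroup.zpowers x ⊓ Subgroup.zpowers y = ⊥)
    (hz : orderOf z = 2) (hrel : z * x * z⁻¹ = y) : Cfsg.IsWreathed (P : Subgroup G) := by
  have hzz : z * z = 1 := invol_mul_self hz
  have hzi : z⁻¹ = z := invol_inv hz
  have hrel' : z * y * z⁻¹ = x := by
    rw [← hrel, hzi]
    calc z * (z * x * z) * z = (z * z) * x * (z * z) := by group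
      _ = x := by rw [hzz]; group
  have hyo : orderOf y = 2 ^ n := by rw [← hrel, orderOf_conj', hx]
  have hX : IsPGroup 2 (Subgroup.zpowers x) := isPGroup_zpowers_of_orderOf x n hx
  have hY : IsPGroup 2 (Subgroup.zpowers y) := isPGroup_zpowers_of_orderOf y n hyo
  have hZ : IsPGroup 2 (Subgroup.zpowers z) := isPGroup_zpowers_of_orderOf z 1 (by simpa using hz)
  have hnorm1 : Subgroup.zpowers x ≤ Subgroup.normalizer (Subgroup.zpowers y : Set G) := by
    rw [Subgroup.zpowers_le]
    apply mem_normalizer_of_forall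
    intro t ht
    obtain ⟨i, rfl⟩ := Subgroup.mem_zpowers_iff.mp ht
    rw [conj_zpow']
    have : x * y * x⁻¹ = y := by rw [hxy]; group
    rw [this]
    exact Subgroup.zpow_mem _ (Subgroup.mem_zpowers y) _
  have hB : IsPGroup 2 (Subgroup.zpowers x ⊔ Subgroup.zpowers y : Subgroup G) :=
    IsPGroup.to_sup_of_normal_right' hX hY hnorm1
  have hBfin : Finite (Subgroup.zpowers x ⊔ Subgroup.zpowers y : Subgroup G) := inferInstance
  have hnorm2 : Subgroup.zpowers z ≤
      Subgroup.normalizer ((Subgroup.zpowers x ⊔ Subgroup.zpowers y : Subgroup G) : Set G) := by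
    rw [Subgroup.zpowers_le]
    apply mem_normalizer_of_forall
    intro t ht
    have hle : (Subgroup.zpowers x ⊔ Subgroup.zpowers y).map (MulAut.conj z).toMonoidHom ≤
        Subgroup.zpowers x ⊔ Subgroup.zpowers y := by
      rw [Subgroup.map_sup, MonoidHom.map_zpowers, MonoidHom.map_zpowers]
      simp only [MulEquiv.coe_toMonoidHom, MulAut.conj_apply, hrel, hrel']
      exact le_of_eq (sup_comm _ _)
    exact hle (conj_mem_map_conj ht)
  have hH : IsPGroup 2
      (Subgroup.zpowers z ⊔ (Subgroup.zpowers x ⊔ Subgroup.zpowers y) : Subgroup G) :=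
    IsPGroup.to_sup_of_normal_right' hZ hB hnorm2
  obtain ⟨c, -, hc⟩ := sylow_conj_into P ⊤ le_top _ hH le_top
  have hxm := hc x (le_sup_right (a := Subgroup.zpowers z)
    (le_sup_left (b := Subgroup.zpowers y) (Subgroup.mem_zpowers x)))
  have hym := hc y (le_sup_right (a := Subgroup.zpowers z)
    (le_sup_right (a := Subgroup.zpowers x) (Subgroup.mem_zpowers y)))
  have hzm := hc z (le_sup_left (b := Subgroup.zpowers x ⊔ Subgroup.zpowers y)
    (Subgroup.mem_zpowers z))
  refine ⟨n, hn, hcard, ⟨c * x * c⁻¹, hxm⟩, ⟨c * y * c⁻¹, hym⟩, ⟨c * z * c⁻¹, hzm⟩, ?_, ?_, ?_, ?_, ?_⟩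
  · rw [Subgroup.orderOf_mk, orderOf_conj', hx]
  · apply Subtype.ext
    simp only [Subgroup.coe_mul]
    calc c * x * c⁻¹ * (c * y * c⁻¹) = c * (x * y) * c⁻¹ := by group
      _ = c * (y * x) * c⁻¹ := by rw [hxy]
      _ = c * y * c⁻¹ * (c * x * c⁻¹) := by group
  · rw [eq_bot_iff]
    intro s hs
    obtain ⟨h1, h2⟩ := Subgroup.mem_inf.mp hs
    obtain ⟨i, hi⟩ := Subgroup.mem_zpowers_iff.mp h1
    obtain ⟨j, hj⟩ := Subgroup.mem_zpowers_iff.mp h2
    have e1 : (s : G) = c * x ^ i * c⁻¹ := by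
      rw [← hi]
      simp only [Subgroup.coe_zpow]
      rw [conj_zpow']
    have e2 : (s : G) = c * y ^ j * c⁻¹ := by
      rw [← hj]
      simp only [Subgroup.coe_zpow]
      rw [conj_zpow']
    have e3 : x ^ i = y ^ j := by
      have := e1.symm.trans e2
      have h3 : c⁻¹ * (c * x ^ i * c⁻¹) * c = c⁻¹ * (c * y ^ j * c⁻¹) * c := by rw [this]
      simpa [mul_assoc] using h3
    have e4 : x ^ i ∈ Subgroup.zpowers x ⊓ Subgroup.zpowers y := by
      refine Subgroup.mem_inf.mpr ⟨Subgroup.zpow_mem _ (Subgroup.mem_zpowers x) _, ?_⟩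
      rw [e3]
      exact Subgroup.zpow_mem _ (Subgroup.mem_zpowers y) _
    rw [hdisj, Subgroup.mem_bot] at e4
    rw [Subgroup.mem_bot]
    apply Subtype.ext
    rw [e1, e4]
    simp
  · rw [Subgroup.orderOf_mk, orderOf_conj', hz]
  · apply Subtype.ext
    simp only [Subgroup.coe_mul, Subgroup.coe_inv]
    rw [← hrel]
    group

end

end Cfsg.Agent.Lib.Helper20
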