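import Mathlib
import Cfsg.Agent.Lib.Helper1.QuatCent
import Cfsg.Agent.Lib.Helper20.SL23
import Cfsg.Agent.Lib.Helper20.QDSylow
import Cfsg.Agent.Lib.Helper20.SylowRealize

set_option autoImplicit false
set_option linter.style.haveILetI false
set_option linter.unusedSimpArgs false
set_option linter.unusedSectionVars false

namespace Cfsg.Agent.Lib.Helper20

namespace QuatSec

open QuaternionGroup

section Quat

variable {N : ℕ}

/-- the cyclic subgroup of index 2 of the generalized quaternion group -/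
def aSub (N : ℕ) : Subgroup (QuaternionGroup N) where
  carrier := {q | ∃ k, q = a k}
  mul_mem' := by
    rintro _ _ ⟨k, rfl⟩ ⟨l, rfl⟩
    exact ⟨k + l, a_mul_a k l⟩
  one_mem' := ⟨0, one_def⟩
  inv_mem' := by
    rintro _ ⟨k, rfl⟩
    refine ⟨-k, ?_⟩
    apply inv_eq_of_mul_eq_one_right
    rw [a_mul_a, add_neg_cancel, a_zero]

theorem mem_aSub {q : QuaternionGroup N} : q ∈ aSub N ↔ ∃ k, q = a k := Iff.rfl

theorem a_mem_aSub (k : ZMod (2 * N)) : (a k : QuaternionGroup N) ∈ aSub N := ⟨k, rfl⟩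

theorem xa_not_mem_aSub (k : ZMod (2 * N)) : (xa k : QuaternionGroup N) ∉ aSub N := by
  rintro ⟨l, hl⟩
  cases hl

theorem exists_xa_of_not_mem {q : QuaternionGroup N} (hq : q ∉ aSub N) : ∃ k, q = xa k := by
  rcases q with k | k
  · exact (hq (a_mem_aSub k)).elim
  · exact ⟨k, rfl⟩

theorem aSub_eq_zpowers [NeZero N] : aSub N = Subgroup.zpowers (a 1 : QuaternionGroup N) := by
  apply le_antisymm
  · rintro _ ⟨k, rfl⟩
    have : (a k : QuaternionGroup N) = a 1 ^ k.val := by
      rw [QuaternionGroup.a_one_pow, ZMod.natCast_zmod_val]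
    rw [this]
    exact Subgroup.pow_mem _ (Subgroup.mem_zpowers _) _
  · rw [Subgroup.zpowers_le]
    exact a_mem_aSub 1

instance isCyclic_aSub [NeZero N] : IsCyclic (aSub N) := by
  rw [aSub_eq_zpowers]
  infer_instance

theorem xa_mul_self (k : ZMod (2 * N)) : (xa k * xa k : QuaternionGroup N) = a N := by
  rw [xa_mul_xa]
  simp

theorem xa_conj_a (k l : ZMod (2 * N)) :
    (xa k * a l * (xa k)⁻¹ : QuaternionGroup N) = (a l)⁻¹ := by
  have h1 : (a l : QuaternionGroup N)⁻¹ = a (-l) := by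
    apply inv_eq_of_mul_eq_one_right
    rw [a_mul_a, add_neg_cancel, a_zero]
  rw [mul_inv_eq_iff_eq_mul, h1, xa_mul_a, a_mul_xa]
  congr 1
  ring

theorem a_N_ne_one [NeZero N] : (a (N : ZMod (2 * N)) : QuaternionGroup N) ≠ 1 := by
  rw [one_def]
  intro h
  have h1 : ((N : ℕ) : ZMod (2 * N)) = 0 := by
    injection h
  rw [ZMod.natCast_eq_zero_iff] at h1
  have hN : 0 < N := Nat.pos_of_ne_zero (NeZero.ne N)
  have := Nat.le_of_dvd hN h1
  omega

theorem a_N_mul_self : (a (N : ZMod (2 * N)) * a (N : ZMod (2 * N)) : QuaternionGroup N) = 1 := by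
  rw [a_mul_a, one_def]
  congr 1
  rw [← Nat.cast_add, ← two_mul]
  exact ZMod.natCast_self _

theorem invol_cases [NeZero N] (q : QuaternionGroup N) (hq : q * q = 1) :
    q = 1 ∨ q = a (N : ZMod (2 * N)) := by
  rcases q with k | k
  · rw [a_mul_a, one_def] at hq
    have h1 : k + k = 0 := by injection hq
    rcases Cfsg.Agent.Lib.Helper1.zmod_two_mul_add_self_eq_zero k h1 with h | h
    · left; rw [h, a_zero]
    · right; rw [h]
  · exfalso
    rw [xa_mul_self] at hq
    exact a_N_ne_one hq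

end Quat

section GQ

variable {G : Type*} [Group G]

/-- abstract structure of a generalized quaternion subgroup `T` with cyclic subgroup `A` of index 2 -/
structure GQ (T A : Subgroup G) (z : G) : Prop where
  le : A ≤ T
  cyc : IsCyclic A
  z_ne : z ≠ 1
  z_sq : z * z = 1
  sq : ∀ t ∈ T, t ∉ A → t * t = z
  inv : ∀ t ∈ T, t ∉ A → ∀ u ∈ A, t * u * t⁻¹ = u⁻¹
  idx : ∀ s ∈ T, ∀ t ∈ T, s ∉ A → t ∉ A → t * s ∈ A
  invol : ∀ t ∈ T, t * t = 1 → t = 1 ∨ t = z

theorem gq_of_equiv (T : Subgroup G) (N : ℕ) [NeZero N] (e : T ≃* QuaternionGroup N) :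
    ∃ (A : Subgroup G) (z : G), GQ T A z := by
  set A : Subgroup G := ((aSub N).comap e.toMonoidHom).map T.subtype with hA
  set z : G := ((e.symm (a (N : ZMod (2 * N))) : T) : G) with hz
  have hmem : ∀ t (ht : t ∈ T), t ∈ A ↔ e ⟨t, ht⟩ ∈ aSub N := by
    intro t ht
    rw [hA, Subgroup.mem_map]
    constructor
    · rintro ⟨y, hy, rfl⟩
      exact hy
    · intro h
      exact ⟨⟨t, ht⟩, h, rfl⟩
  have hcoe : ∀ (x y : T), (x : G) = y → e x = e y := by
    intro x y h
    rw [Subtype.ext h]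
  refine ⟨A, z, ⟨?_, ?_, ?_, ?_, ?_, ?_, ?_, ?_⟩⟩
  · rw [hA]
    rintro _ ⟨y, -, rfl⟩
    exact y.2
  · have e1 : ((aSub N).comap e.toMonoidHom) ≃* aSub N :=
      (e.subgroupMap ((aSub N).comap e.toMonoidHom)).trans
        (MulEquiv.subgroupCongr (by
          ext q
          simp only [Subgroup.mem_map, Subgroup.mem_comap]
          constructor
          · rintro ⟨y, hy, rfl⟩
            exact hy
          · intro hq
            exact ⟨e.symm q, by simpa using hq, by simp⟩))
    have e2 : ((aSub N).comap e.toMonoidHom) ≃* A :=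
      Subgroup.equivMapOfInjective _ T.subtype T.subtype_injective
    have : IsCyclic ((aSub N).comap e.toMonoidHom) :=
      isCyclic_of_surjective e1.symm e1.symm.surjective
    exact isCyclic_of_surjective e2 e2.surjective
  · intro h
    have h1 : (e.symm (a (N : ZMod (2 * N))) : T) = 1 := Subtype.ext h
    have h2 : e (e.symm (a (N : ZMod (2 * N)))) = e 1 := by rw [h1]
    rw [e.apply_symm_apply, map_one] at h2
    exact a_N_ne_one h2
  · have : (e.symm (a (N : ZMod (2 * N))) * e.symm (a (N : ZMod (2 * N))) : T) = 1 := by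
      rw [← map_mul, a_N_mul_self, map_one]
    have h2 := congrArg (Subtype.val) this
    simpa using h2
  · intro t ht htA
    rw [hmem t ht] at htA
    obtain ⟨k, hk⟩ := exists_xa_of_not_mem htA
    have : (⟨t, ht⟩ * ⟨t, ht⟩ : T) = e.symm (a (N : ZMod (2 * N))) := by
      apply e.injective
      rw [map_mul, hk, xa_mul_self, e.apply_symm_apply]
    have h2 := congrArg (Subtype.val) this
    simpa using h2
  · intro t ht htA u hu
    have huT : u ∈ T := by
      rw [hA] at hu
      obtain ⟨y, -, rfl⟩ := hu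
      exact y.2
    rw [hmem t ht] at htA
    rw [hmem u huT] at hu
    obtain ⟨k, hk⟩ := exists_xa_of_not_mem htA
    obtain ⟨l, hl⟩ := hu
    have : (⟨t, ht⟩ * ⟨u, huT⟩ * ⟨t, ht⟩⁻¹ : T) = ⟨u, huT⟩⁻¹ := by
      apply e.injective
      rw [map_mul, map_mul, map_inv, map_inv, hk, hl, xa_conj_a]
    have h2 := congrArg (Subtype.val) this
    simpa using h2
  · intro s hs t ht hsA htA
    rw [hmem s hs] at hsA
    rw [hmem t ht] at htA
    rw [hmem (t * s) (T.mul_mem ht hs)]
    obtain ⟨k, hk⟩ := exists_xa_of_not_mem hsA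
    obtain ⟨l, hl⟩ := exists_xa_of_not_mem htA
    have : e ⟨t * s, T.mul_mem ht hs⟩ = e (⟨t, ht⟩ * ⟨s, hs⟩) := rfl
    rw [this, map_mul, hk, hl, xa_mul_xa]
    exact a_mem_aSub _
  · intro t ht htt
    have h1 : e ⟨t, ht⟩ * e ⟨t, ht⟩ = 1 := by
      rw [← map_mul]
      have : (⟨t, ht⟩ * ⟨t, ht⟩ : T) = 1 := Subtype.ext htt
      rw [this, map_one]
    rcases invol_cases _ h1 with h | h
    · left
      have : (⟨t, ht⟩ : T) = 1 := by
        apply e.injective
        rw [h, map_one]
      exact congrArg Subtype.val this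
    · right
      have : (⟨t, ht⟩ : T) = e.symm (a (N : ZMod (2 * N))) := by
        apply e.injective
        rw [h, e.apply_symm_apply]
      exact congrArg Subtype.val this

end GQ

end QuatSec

end Cfsg.Agent.Lib.Helper20
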