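import Mathlib
import Cfsg.Agent.Lib.Helper20.QuatSec

set_option autoImplicit false
set_option linter.style.haveILetI false
set_option linter.unusedSimpArgs false
set_option linter.unusedSectionVars false

namespace Cfsg.Agent.Lib.Helper20

namespace QuatSec

section Lemmas

variable {G : Type*} [Group G]

theorem odd_two_pow_eq_one {m k : ℕ} (hm : Odd m) (h : m = 2 ^ k) : m = 1 := by
  rcases Nat.eq_zero_or_pos k with rfl | hk
  · simpa using h
  · exfalso
    have : Even (2 ^ k) := (Nat.even_pow' (by omega)).mpr even_two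
    rw [← h] at this
    exact (Nat.not_even_iff_odd.mpr hm) this

/-- an element of odd order normalizing a cyclic `2`-group centralizes it -/
theorem centralizes_of_cyclic [Finite G] (B : Subgroup G) (hcyc : IsCyclic B) (hB2 : IsPGroup 2 B)
    (g : G) (hg : g ∈ Subgroup.normalizer (B : Set G)) (hodd : Odd (orderOf g)) :
    ∀ b ∈ B, g * b * g⁻¹ = b := by
  haveI := hcyc
  have h2 : Fact (Nat.Prime 2) := ⟨Nat.prime_two⟩
  have hAut : IsPGroup 2 (MulAut B) := by
    obtain ⟨s, hs⟩ := IsPGroup.exists_card_eq hB2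
    rcases Nat.eq_zero_or_pos s with rfl | hspos
    · apply IsPGroup.of_card (n := 0)
      rw [IsCyclic.card_mulAut, hs]
      simp
    · apply IsPGroup.of_card (n := s - 1)
      rw [IsCyclic.card_mulAut, hs, Nat.totient_prime_pow Nat.prime_two hspos]
      simp
  set ψ : MulAut B := B.normalizerMonoidHom ⟨g, hg⟩ with hψ
  have h1 : orderOf ψ ∣ orderOf g := by
    have := orderOf_map_dvd B.normalizerMonoidHom (⟨g, hg⟩ : Subgroup.normalizer (B : Set G))
    rwa [Subgroup.orderOf_mk] at this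
  obtain ⟨k, hk⟩ := hAut ψ
  have hfin : Finite (MulAut B) := by
    apply Nat.finite_of_card_ne_zero
    rw [IsCyclic.card_mulAut]
    exact (Nat.totient_pos.mpr Nat.card_pos).ne'
  have h3 : orderOf ψ = 1 := by
    obtain ⟨k', hk'⟩ := (Nat.dvd_prime_pow Nat.prime_two).mp (orderOf_dvd_of_pow_eq_one hk)
    exact odd_two_pow_eq_one (odd_of_dvd_odd h1 hodd) hk'.2
  rw [orderOf_eq_one_iff] at h3
  intro b hb
  have h4 : ψ ⟨b, hb⟩ = ⟨b, hb⟩ := by rw [h3]; rfl
  have h5 := congrArg Subtype.val h4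
  exact h5

/-- an element of odd order centralizing a subgroup of index 2 of a `2`-group it normalizes
centralizes the whole group -/
theorem centralizes_of_index_two (Q A : Subgroup G) (hQ2 : IsPGroup 2 Q) (g : G)
    (hg : g ∈ Subgroup.normalizer (Q : Set G)) (hodd : Odd (orderOf g))
    (hc : ∀ u ∈ A, g * u * g⁻¹ = u)
    (hidx : ∀ s ∈ Q, ∀ t ∈ Q, s ∉ A → t ∉ A → t * s⁻¹ ∈ A) (hAQ : A ≤ Q) :
    ∀ q ∈ Q, g * q * g⁻¹ = q := by
  intro q hq
  by_cases hqA : q ∈ A
  · exact hc q hqA
  · have hq' : g * q * g⁻¹ ∈ Q := (Subgroup.mem_normalizer_iff.mp hg q).mp hq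
    have hq'A : g * q * g⁻¹ ∉ A := by
      intro h
      apply hqA
      have h1 := hc _ h
      have h2 : g * q * g⁻¹ = q := by
        have : g * (g * q * g⁻¹) * g⁻¹ = g * q * g⁻¹ := h1
        calc g * q * g⁻¹ = g⁻¹ * (g * (g * q * g⁻¹) * g⁻¹) * g := by group
          _ = g⁻¹ * (g * q * g⁻¹) * g := by rw [this]
          _ = q := by group
      rw [← h2]
      exact h
    set c := g * q * g⁻¹ * q⁻¹ with hcdef
    have hcA : c ∈ A := hidx q hq _ hq' hqA hq'A
    have hgc : g * c * g⁻¹ = c := hc c hcA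
    have hrel : g * q * g⁻¹ = c * q := by rw [hcdef]; group
    have hpow : ∀ k : ℕ, g ^ k * q * (g ^ k)⁻¹ = c ^ k * q := by
      intro k
      induction k with
      | zero => simp
      | succ k ih =>
        have hgck : g * c ^ k * g⁻¹ = c ^ k := by rw [conj_pow', hgc]
        calc g ^ (k + 1) * q * (g ^ (k + 1))⁻¹ = g * (g ^ k * q * (g ^ k)⁻¹) * g⁻¹ := by
              rw [pow_succ']; group
          _ = g * (c ^ k * q) * g⁻¹ := by rw [ih]
          _ = (g * c ^ k * g⁻¹) * (g * q * g⁻¹) := by group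
          _ = c ^ k * (c * q) := by rw [hgck, hrel]
          _ = c ^ (k + 1) * q := by rw [pow_succ]; group
    have h1 := hpow (orderOf g)
    rw [pow_orderOf_eq_one] at h1
    simp only [one_mul, inv_one, mul_one] at h1
    have h2 : c ^ orderOf g = 1 := by
      have : c ^ orderOf g * q = 1 * q := by rw [← h1, one_mul]
      exact mul_right_cancel this
    have h3 : orderOf c ∣ orderOf g := orderOf_dvd_of_pow_eq_one h2
    obtain ⟨k, hk⟩ := hQ2 ⟨c, hAQ hcA⟩
    have h4 : c ^ 2 ^ k = 1 := by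
      have := congrArg Subtype.val hk
      simpa using this
    obtain ⟨k', hk'⟩ := (Nat.dvd_prime_pow Nat.prime_two).mp (orderOf_dvd_of_pow_eq_one h4)
    have h5 : orderOf c = 1 := odd_two_pow_eq_one (odd_of_dvd_odd h3 hodd) hk'.2
    rw [orderOf_eq_one_iff] at h5
    rw [hrel, h5, one_mul]

/-- an element of odd order lies in the subgroup generated by its square -/
theorem mem_zpowers_sq_of_odd (g : G) (hodd : Odd (orderOf g)) : g ∈ Subgroup.zpowers (g ^ 2) := by
  obtain ⟨m, hm⟩ := hodd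
  have : g = (g ^ 2) ^ (m + 1) := by
    rw [← pow_mul]
    have : 2 * (m + 1) = orderOf g + 1 := by omega
    rw [this, pow_succ, pow_orderOf_eq_one, one_mul]
  have hmem : (g ^ 2) ^ (m + 1) ∈ Subgroup.zpowers (g ^ 2) :=
    Subgroup.pow_mem _ (Subgroup.mem_zpowers _) _
  rwa [← this] at hmem

theorem commute_of_commute_sq (g x : G) (hodd : Odd (orderOf g)) (h : Commute (g ^ 2) x) :
    Commute g x := by
  obtain ⟨k, hk⟩ := Subgroup.mem_zpowers_iff.mp (mem_zpowers_sq_of_odd g hodd)
  rw [← hk]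
  exact h.zpow_left k

end Lemmas

end QuatSec

end Cfsg.Agent.Lib.Helper20
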