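import Mathlib
import Cfsg.Agent.Lib.Helper20.QuatSec3

set_option autoImplicit false
set_option linter.style.haveILetI false
set_option linter.unusedSimpArgs false
set_option linter.unusedSectionVars false

namespace Cfsg.Agent.Lib.Helper20

namespace QuatSec

section Section

variable {G : Type*} [Group G]

theorem Rel.commute_cube {i g : G} (r : Rel i g) : Commute (g ^ 3) i := by
  have e1 : g ^ 3 * i * (g ^ 3)⁻¹ = g * (g * (g * i * g⁻¹) * g⁻¹) * g⁻¹ := by
    rw [pow_succ, pow_two]
    simp only [mul_inv_rev, mul_assoc]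
  have e2 : g * (i * (g * i * g⁻¹)) * g⁻¹ = (g * i * g⁻¹) * (g * (g * i * g⁻¹) * g⁻¹) := by
    simp only [mul_assoc, inv_mul_cancel_left]
  have e3 : (g * i * g⁻¹) * (i * (g * i * g⁻¹)) = i := by
    calc (g * i * g⁻¹) * (i * (g * i * g⁻¹))
        = ((g * i * g⁻¹) * i * (g * i * g⁻¹)⁻¹) * ((g * i * g⁻¹) * (g * i * g⁻¹)) := by
          generalize g * i * g⁻¹ = j
          simp only [mul_assoc, inv_mul_cancel_left]
      _ = i⁻¹ * i ^ 2 := by rw [r.h2, r.h1]
      _ = i := by rw [pow_two, inv_mul_cancel_left]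
  have e4 : g ^ 3 * i * (g ^ 3)⁻¹ = i := by
    rw [e1, r.h3, e2, r.h3, e3]
  show g ^ 3 * i = i * g ^ 3
  calc g ^ 3 * i = (g ^ 3 * i * (g ^ 3)⁻¹) * g ^ 3 := by simp only [mul_assoc, inv_mul_cancel, mul_one]
    _ = i * g ^ 3 := by rw [e4]

theorem section_of_rel {i g : G} (r : Rel i g) (hodd : Odd (orderOf g)) :
    ∃ (H K : Subgroup G) (_ : (K.subgroupOf H).Normal),
      Nonempty ((H ⧸ K.subgroupOf H) ≃* Matrix.SpecialLinearGroup (Fin 2) (ZMod 3)) := by
  set H : Subgroup G := Subgroup.closure ({i, g} : Set G) with hH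
  set K : Subgroup G := Subgroup.zpowers (g ^ 3) with hKdef
  have hiH : i ∈ H := Subgroup.subset_closure (by simp)
  have hgH : g ∈ H := Subgroup.subset_closure (by simp)
  have hcomm : ∀ x ∈ H, Commute x (g ^ 3) := by
    intro x hx
    have hle : H ≤ Subgroup.centralizer ({g ^ 3} : Set G) := by
      rw [hH, Subgroup.closure_le]
      intro y hy
      rw [SetLike.mem_coe, Subgroup.mem_centralizer_iff]
      intro c hc
      rw [Set.mem_singleton_iff] at hc
      subst hc
      rcases hy with rfl | rfl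
      · exact r.commute_cube.eq
      · exact ((Commute.refl y).pow_left 3).eq
    have := Subgroup.mem_centralizer_iff.mp (hle hx) (g ^ 3) (Set.mem_singleton _)
    exact this.symm
  have hcommK : ∀ x ∈ H, ∀ c ∈ K, x * c * x⁻¹ = c := by
    intro x hx c hc
    obtain ⟨k, rfl⟩ := Subgroup.mem_zpowers_iff.mp hc
    exact conj_eq_self_of_commute ((hcomm x hx).zpow_right k)
  have hK : (K.subgroupOf H).Normal := by
    refine ⟨fun c hc x => ?_⟩
    rw [Subgroup.mem_subgroupOf] at hc ⊢
    have := hcommK x x.2 c hc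
    simp only [Subgroup.coe_mul, Subgroup.coe_inv]
    rw [this]
    exact hc
  refine ⟨H, K, hK, ?_⟩
  set π : H →* H ⧸ K.subgroupOf H := QuotientGroup.mk' (K.subgroupOf H) with hπ
  have hπ1 : ∀ x : H, π x = 1 ↔ (x : G) ∈ K := by
    intro x
    rw [hπ, QuotientGroup.mk'_apply, QuotientGroup.eq_one_iff, Subgroup.mem_subgroupOf]
  set ib : H := ⟨i, hiH⟩ with hib
  set gb : H := ⟨g, hgH⟩ with hgb
  have hoddK : ∀ c ∈ K, Odd (orderOf c) := by
    intro c hc
    have h1 : orderOf c ∣ orderOf (g ^ 3) := orderOf_dvd_of_mem_zpowers hc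
    have h2 : orderOf (g ^ 3) ∣ orderOf g := orderOf_pow_dvd 3
    exact odd_of_dvd_odd (h1.trans h2) hodd
  have d : SL23.Data (π ib) (π gb) := by
    refine ⟨?_, ?_, ?_, ?_, ?_, ?_, ?_⟩
    · rw [← map_pow]
      have : ib ^ 4 = 1 := Subtype.ext (by simpa using r.hi4)
      rw [this, map_one]
    · rw [← map_pow, Ne, hπ1]
      intro hmem
      have hcoe : ((ib ^ 2 : H) : G) = i ^ 2 := by simp [hib]
      rw [hcoe] at hmem
      have h1 := hoddK _ hmem
      have h2 : orderOf (i ^ 2) = 2 := by
        apply orderOf_eq_prime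
        · rw [← pow_mul]; exact r.hi4
        · exact r.hi2
      rw [h2] at h1
      exact (by decide : ¬ Odd 2) h1
    · rw [← map_pow, hπ1]
      have hcoe : ((gb ^ 3 : H) : G) = g ^ 3 := by simp [hgb]
      rw [hcoe]
      exact Subgroup.mem_zpowers _
    · rw [Ne, hπ1]
      intro hmem
      have hcoe : ((gb : H) : G) = g := rfl
      rw [hcoe] at hmem
      obtain ⟨k, hk⟩ := Subgroup.mem_zpowers_iff.mp hmem
      have hc : Commute g i := by
        rw [← hk]
        exact r.commute_cube.zpow_left k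
      have h2 := r.h2
      rw [conj_eq_self_of_commute hc, conj_eq_self_of_commute (Commute.refl i)] at h2
      apply r.hi2
      rw [pow_two]
      calc i * i = i * i⁻¹ := by rw [← h2]
        _ = 1 := mul_inv_cancel i
    · rw [← map_inv, ← map_mul, ← map_mul, ← map_mul, ← map_pow]
      congr 1
      apply Subtype.ext
      simpa [hib, hgb] using r.h1
    · rw [← map_inv, ← map_mul, ← map_mul, ← map_inv, ← map_mul, ← map_mul, ← map_inv]
      congr 1
      apply Subtype.ext
      simpa [hib, hgb] using r.h2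
    · rw [← map_inv, ← map_mul, ← map_mul, ← map_mul, ← map_mul, ← map_mul]
      congr 1
      apply Subtype.ext
      simpa [hib, hgb] using r.h3
  have hgen : Subgroup.closure ({π ib, π gb} : Set (H ⧸ K.subgroupOf H)) = ⊤ := by
    have h1 : Subgroup.closure ({ib, gb} : Set H) = ⊤ := by
      have h2 := Subgroup.closure_closure_coe_preimage (k := ({i, g} : Set G))
      have h3 : ((↑) : Subgroup.closure ({i, g} : Set G) → G) ⁻¹' ({i, g} : Set G) =
          ({ib, gb} : Set H) := by
        ext x
        simp only [Set.mem_preimage, Set.mem_insert_iff, Set.mem_singleton_iff, hib, hgb,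
          Subtype.ext_iff]
      rw [h3] at h2
      exact h2
    have h4 : Subgroup.map π (Subgroup.closure ({ib, gb} : Set H)) = ⊤ := by
      rw [h1, ← MonoidHom.range_eq_map, MonoidHom.range_eq_top]
      exact QuotientGroup.mk'_surjective _
    rw [MonoidHom.map_closure, Set.image_pair] at h4
    exact h4
  exact SL23.nonempty_equiv_sl23 d hgen

end Section

end QuatSec

end Cfsg.Agent.Lib.Helper20
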