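import Mathlib
import Cfsg.Agent.Lib.Helper20.SL23

set_option autoImplicit false
set_option linter.style.haveILetI false
set_option linter.unusedSimpArgs false
set_option linter.unusedSectionVars false

namespace Cfsg.Agent.Lib.Helper20

namespace SL23

open QuaternionGroup

/-- pairs in `Q8` satisfying the quaternion relations -/
def relPairs : Finset (QuaternionGroup 2 × QuaternionGroup 2) :=
  Finset.univ.filter (fun p => p.1 ^ 2 ≠ 1 ∧ p.2 * p.2 = p.1 ^ 2 ∧ p.2 * p.1 * p.2⁻¹ = p.1⁻¹)

theorem card_relPairs : relPairs.card = 24 := by decide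

theorem quat2_center : ∀ c : QuaternionGroup 2, c * a 1 = a 1 * c → c * xa 0 = xa 0 * c →
    c = 1 ∨ c = a 1 ^ 2 := by decide

section

variable {G : Type*} [Group G] {i g : G}

theorem Data.exists_fn_eq (d : Data i g) (R : Subgroup G)
    (hgen : ∀ q ∈ R, q ∉ Subgroup.zpowers i → q * (g * i * g⁻¹)⁻¹ ∈ Subgroup.zpowers i) :
    ∀ q ∈ R, ∃ c, d.fn c = q := by
  intro q hq
  by_cases hqi : q ∈ Subgroup.zpowers i
  · obtain ⟨k, rfl⟩ := Subgroup.mem_zpowers_iff.mp hqi
    exact ⟨a 1 ^ k, by rw [map_zpow, d.fn_a1]⟩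
  · obtain ⟨k, hk⟩ := Subgroup.mem_zpowers_iff.mp (hgen q hq hqi)
    refine ⟨a 1 ^ k * xa 0, ?_⟩
    rw [map_mul, map_zpow, d.fn_a1, d.fn_xa0, hk]
    group

/-- if `R = ⟨i, j⟩` is normal and contains its centralizer, then `|G| ≤ 48` -/
theorem Data.card_le (d : Data i g) [Finite G] (R : Subgroup G) [hRn : R.Normal] (hi : i ∈ R)
    (hgen : ∀ q ∈ R, q ∉ Subgroup.zpowers i → q * (g * i * g⁻¹)⁻¹ ∈ Subgroup.zpowers i)
    (hcent : Subgroup.centralizer (R : Set G) ≤ R) : Nat.card G ≤ 48 := by
  classical
  haveI : Fintype G := Fintype.ofFinite G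
  have hjR : g * i * g⁻¹ ∈ R := hRn.conj_mem i hi g
  have hrange := d.exists_fn_eq R hgen
  set F : G → G × G := fun h => (h * i * h⁻¹, h * (g * i * g⁻¹) * h⁻¹) with hF
  set P : Finset (G × G) := relPairs.image (Prod.map d.fn d.fn) with hP
  have hPc : P.card ≤ 24 := Finset.card_image_le.trans_eq card_relPairs
  have hFP : ∀ h, F h ∈ P := by
    intro h
    obtain ⟨u, hu⟩ := hrange _ (hRn.conj_mem i hi h)
    obtain ⟨v, hv⟩ := hrange _ (hRn.conj_mem _ hjR h)
    rw [hP, Finset.mem_image]
    refine ⟨(u, v), ?_, ?_⟩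
    · rw [relPairs, Finset.mem_filter]
      refine ⟨Finset.mem_univ _, ?_, ?_, ?_⟩
      · intro h2
        have h3 : d.fn (u ^ 2) = 1 := by rw [h2, map_one]
        rw [map_pow, hu] at h3
        apply d.hi2
        have : i ^ 2 = h⁻¹ * (h * i * h⁻¹) ^ 2 * h := by
          rw [pow_two, pow_two]; group
        rw [this, h3]
        group
      · apply d.fn_injective
        rw [map_mul, map_pow, hu, hv]
        have h1 := d.h1
        calc h * (g * i * g⁻¹) * h⁻¹ * (h * (g * i * g⁻¹) * h⁻¹)
            = h * ((g * i * g⁻¹) * (g * i * g⁻¹)) * h⁻¹ := by group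
          _ = h * i ^ 2 * h⁻¹ := by rw [h1]
          _ = (h * i * h⁻¹) ^ 2 := by rw [pow_two, pow_two]; group
      · apply d.fn_injective
        rw [map_mul, map_mul, map_inv, map_inv, hu, hv]
        have h2 := d.h2
        calc h * (g * i * g⁻¹) * h⁻¹ * (h * i * h⁻¹) * (h * (g * i * g⁻¹) * h⁻¹)⁻¹
            = h * ((g * i * g⁻¹) * i * (g * i * g⁻¹)⁻¹) * h⁻¹ := by group
          _ = h * i⁻¹ * h⁻¹ := by rw [h2]
          _ = (h * i * h⁻¹)⁻¹ := by group
    · simp only [Prod.map, hu, hv, hF]
  have hfib : ∀ p ∈ Finset.univ.image F, (Finset.univ.filter (fun x => F x = p)).card ≤ 2 := by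
    intro p hp
    obtain ⟨h, -, rfl⟩ := Finset.mem_image.mp hp
    have hsub : Finset.univ.filter (fun x => F x = F h) ⊆ {h, h * i ^ 2} := by
      intro x hx
      rw [Finset.mem_filter] at hx
      have hx' := hx.2
      simp only [hF, Prod.mk.injEq] at hx'
      obtain ⟨hx1, hx2⟩ := hx'
      have hci : (h⁻¹ * x) * i = i * (h⁻¹ * x) := by
        calc (h⁻¹ * x) * i = h⁻¹ * (x * i * x⁻¹) * x := by group
          _ = h⁻¹ * (h * i * h⁻¹) * x := by rw [hx1]
          _ = i * (h⁻¹ * x) := by group
      have hcj : (h⁻¹ * x) * (g * i * g⁻¹) = (g * i * g⁻¹) * (h⁻¹ * x) := by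
        calc (h⁻¹ * x) * (g * i * g⁻¹) = h⁻¹ * (x * (g * i * g⁻¹) * x⁻¹) * x := by group
          _ = h⁻¹ * (h * (g * i * g⁻¹) * h⁻¹) * x := by rw [hx2]
          _ = (g * i * g⁻¹) * (h⁻¹ * x) := by group
      have hcR : h⁻¹ * x ∈ Subgroup.centralizer (R : Set G) := by
        rw [Subgroup.mem_centralizer_iff]
        intro q hq
        have hczp : ∀ k : ℤ, i ^ k * (h⁻¹ * x) = (h⁻¹ * x) * i ^ k := by
          intro k
          have : Commute (h⁻¹ * x) i := hci
          exact (this.zpow_right k).eq.symm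
        by_cases hqi : q ∈ Subgroup.zpowers i
        · obtain ⟨k, rfl⟩ := Subgroup.mem_zpowers_iff.mp hqi
          exact hczp k
        · obtain ⟨k, hk⟩ := Subgroup.mem_zpowers_iff.mp (hgen q hq hqi)
          have hq' : q = i ^ k * (g * i * g⁻¹) := by rw [hk]; group
          rw [hq', mul_assoc, ← hcj, ← mul_assoc, hczp k, mul_assoc]
      obtain ⟨c', hc'⟩ := hrange _ (hcent hcR)
      have h1 : c' * a 1 = a 1 * c' := by
        apply d.fn_injective
        rw [map_mul, map_mul, hc', d.fn_a1]
        exact hci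
      have h2 : c' * xa 0 = xa 0 * c' := by
        apply d.fn_injective
        rw [map_mul, map_mul, hc', d.fn_xa0]
        exact hcj
      rw [Finset.mem_insert, Finset.mem_singleton]
      rcases quat2_center c' h1 h2 with h3 | h3
      · left
        rw [h3, map_one] at hc'
        have : x = h * (h⁻¹ * x) := by group
        rw [this, ← hc', mul_one]
      · right
        rw [h3, map_pow, d.fn_a1] at hc'
        have : x = h * (h⁻¹ * x) := by group
        rw [this, ← hc']
    exact (Finset.card_le_card hsub).trans Finset.card_le_two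
  have h1 := Finset.card_le_mul_card_image (s := (Finset.univ : Finset G)) (f := F) 2 hfib
  have h2 : (Finset.univ.image F).card ≤ P.card := by
    apply Finset.card_le_card
    intro p hp
    obtain ⟨h, -, rfl⟩ := Finset.mem_image.mp hp
    exact hFP h
  rw [Nat.card_eq_fintype_card, ← Finset.card_univ]
  omega

/-- the subgroup generated by `i, g` is isomorphic to `SL(2,3)` -/
theorem Data.nonempty_equiv_closure (d : Data i g) :
    Nonempty (↥(Subgroup.closure ({i, g} : Set G)) ≃* Matrix.SpecialLinearGroup (Fin 2) (ZMod 3)) := by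
  set H : Subgroup G := Subgroup.closure ({i, g} : Set G) with hH
  have hiH : i ∈ H := Subgroup.subset_closure (by simp)
  have hgH : g ∈ H := Subgroup.subset_closure (by simp)
  set ib : H := ⟨i, hiH⟩ with hib
  set gb : H := ⟨g, hgH⟩ with hgb
  have d' : Data ib gb := by
    refine ⟨?_, ?_, ?_, ?_, ?_, ?_, ?_⟩
    · apply Subtype.ext
      simpa [hib] using d.hi4
    · intro h
      apply d.hi2
      have := congrArg Subtype.val h
      simpa [hib] using this
    · apply Subtype.ext
      simpa [hgb] using d.hg3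
    · intro h
      apply d.hg1
      have := congrArg Subtype.val h
      simpa [hgb] using this
    · apply Subtype.ext
      simpa [hib, hgb] using d.h1
    · apply Subtype.ext
      simpa [hib, hgb] using d.h2
    · apply Subtype.ext
      simpa [hib, hgb] using d.h3
  have h1 : Subgroup.closure ({ib, gb} : Set H) = ⊤ := by
    have h2 := Subgroup.closure_closure_coe_preimage (k := ({i, g} : Set G))
    have h3 : ((↑) : Subgroup.closure ({i, g} : Set G) → G) ⁻¹' ({i, g} : Set G) =
        ({ib, gb} : Set H) := by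
      ext x
      simp only [Set.mem_preimage, Set.mem_insert_iff, Set.mem_singleton_iff, hib, hgb,
        Subtype.ext_iff]
    rw [h3] at h2
    exact h2
  exact nonempty_equiv_sl23 d' h1

/-- under the hypotheses of `Data.card_le`, the subgroup `⟨i, g⟩ ≅ SL(2,3)` is normal -/
theorem Data.normal_closure (d : Data i g) [Finite G] (R : Subgroup G) [hRn : R.Normal] (hi : i ∈ R)
    (hgen : ∀ q ∈ R, q ∉ Subgroup.zpowers i → q * (g * i * g⁻¹)⁻¹ ∈ Subgroup.zpowers i)
    (hcent : Subgroup.centralizer (R : Set G) ≤ R) :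
    (Subgroup.closure ({i, g} : Set G)).Normal := by
  have hle := d.card_le R hi hgen hcent
  obtain ⟨e⟩ := d.nonempty_equiv_closure
  set U : Subgroup G := Subgroup.closure ({i, g} : Set G) with hU
  have hUc : Nat.card U = 24 := by
    rw [Nat.card_congr e.toEquiv, card_sl23]
  have h1 := U.card_mul_index
  have h2 : U.index ≠ 0 := Subgroup.index_ne_zero_of_finite
  have h3 : U.index = 1 ∨ U.index = 2 := by
    rw [hUc] at h1
    have : U.index ≤ 2 := by
      by_contra hlt
      push Not at hlt
      nlinarith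
    omega
  rcases h3 with h3 | h3
  · rw [Subgroup.index_eq_one] at h3
    rw [h3]
    infer_instance
  · exact Subgroup.normal_of_index_eq_two h3

end

end SL23

end Cfsg.Agent.Lib.Helper20
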