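import Mathlib
import Cfsg.Prelude.Def_LieExceptional

set_option autoImplicit false

/-!
# A criterion for a `(B, N)`-pair from root subgroups

`B`, `N` subgroups of `G` generating `G`, `B ⊓ N` normalised by `N`, representatives `s i ∈ N` of
the simple reflections, and for each `i` a "root subgroup" `X i ≤ B` such that

* `B = (B ∩ s⁻¹ B s) X` (factorisation `hfac`),
* for every `n ∈ N`, either `n⁻¹ X n ≤ B` or `(s n)⁻¹ X (s n) ≤ B` (`hpos`),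
* `s X s⁻¹ ⊆ B ∪ B s B` (the rank one identity `hrk1`),
* `s X s⁻¹ ⊄ B` (`hne`).

Then `(B, N, {s i})` is a `(B, N)`-pair.
-/

namespace Cfsg.Agent.Lib.Helper20.BNCrit

open Subgroup

variable {G : Type*} [Group G]

theorem mem_dc {B : Subgroup G} {n g : G} :
    g ∈ DoubleCoset.doubleCoset n (B : Set G) B ↔ ∃ x ∈ B, ∃ y ∈ B, g = x * n * y := by
  rw [DoubleCoset.mem_doubleCoset]
  simp only [SetLike.mem_coe]

/-- the double coset axiom from the root subgroup data -/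
theorem mul_mem_union_of_root (B N : Subgroup G) (s : G) (X : Subgroup G)
    (hsq : s * s ∈ B)
    (hfac : ∀ b ∈ B, ∃ c ∈ B, ∃ x ∈ X, b = c * x ∧ s * c * s⁻¹ ∈ B)
    (hpos : ∀ n ∈ N, (∀ x ∈ X, n⁻¹ * x * n ∈ B) ∨ (∀ x ∈ X, (s * n)⁻¹ * x * (s * n) ∈ B))
    (hrk1 : ∀ x ∈ X, s * x * s⁻¹ ∈ B ∨ ∃ b₁ ∈ B, ∃ b₂ ∈ B, s * x * s⁻¹ = b₁ * s * b₂)
    (n : G) (hn : n ∈ N) (b : G) (hb : b ∈ B) :
    s * b * n ∈ DoubleCoset.doubleCoset (s * n) (B : Set G) B ∪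
      DoubleCoset.doubleCoset n (B : Set G) B := by
  obtain ⟨c, hc, x, hx, rfl, hcs⟩ := hfac b hb
  rcases hpos n hn with h1 | h2
  · left
    rw [mem_dc]
    refine ⟨s * c * s⁻¹, hcs, n⁻¹ * x * n, h1 x hx, ?_⟩
    group
  · rcases hrk1 x hx with h3 | ⟨b₁, hb₁, b₂, hb₂, h3⟩
    · left
      rw [mem_dc]
      refine ⟨s * c * s⁻¹ * (s * x * s⁻¹), B.mul_mem hcs h3, 1, B.one_mem, ?_⟩
      group
    · right
      obtain ⟨c₂, hc₂, x₂, hx₂, rfl, hcs₂⟩ := hfac b₂ hb₂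
      rw [mem_dc]
      refine ⟨s * c * s⁻¹ * (b₁ * (s * c₂ * s⁻¹) * (s * s)),
        B.mul_mem hcs (B.mul_mem (B.mul_mem hb₁ hcs₂) hsq),
        (s * n)⁻¹ * x₂ * (s * n), h2 x₂ hx₂, ?_⟩
      have e : s * (c * x) * n = s * c * s⁻¹ * (s * x * s⁻¹) * (s * n) := by group
      rw [e, h3]
      group

/-- **The criterion.** -/
theorem exists_bnPair_of_root (B N : Subgroup G) {ι : Type*} (s : ι → G) (X : ι → Subgroup G)
    (hgen : B ⊔ N = ⊤)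
    (hT : ∀ n ∈ N, ∀ t ∈ B ⊓ N, n * t * n⁻¹ ∈ B)
    (hsN : ∀ i, s i ∈ N)
    (hsq : ∀ i, s i * s i ∈ B)
    (hinj : ∀ i j, (s i)⁻¹ * s j ∈ B → i = j)
    (hcl : Subgroup.closure (Set.range s) ⊔ (B ⊓ N) = N)
    (hXB : ∀ i, X i ≤ B)
    (hfac : ∀ i, ∀ b ∈ B, ∃ c ∈ B, ∃ x ∈ X i, b = c * x ∧ s i * c * (s i)⁻¹ ∈ B)
    (hpos : ∀ i, ∀ n ∈ N, (∀ x ∈ X i, n⁻¹ * x * n ∈ B) ∨
      (∀ x ∈ X i, (s i * n)⁻¹ * x * (s i * n) ∈ B))
    (hrk1 : ∀ i, ∀ x ∈ X i, s i * x * (s i)⁻¹ ∈ B ∨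
      ∃ b₁ ∈ B, ∃ b₂ ∈ B, s i * x * (s i)⁻¹ = b₁ * s i * b₂)
    (hne : ∀ i, ∃ x ∈ X i, s i * x * (s i)⁻¹ ∉ B) :
    ∃ P : Cfsg.BNPair G, P.B = B ∧ P.N = N ∧ P.S = Set.range s := by
  refine ⟨{ B := B
            N := N
            S := Set.range s
            sup_eq_top := hgen
            conj_mem := hT
            subset := ?_
            sq_mem := ?_
            inj := ?_
            closure_sup := hcl
            mul_mem_union := ?_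
            conj_ne := ?_ }, rfl, rfl, rfl⟩
  · rintro _ ⟨i, rfl⟩
    exact hsN i
  · rintro _ ⟨i, rfl⟩
    exact hsq i
  · rintro _ ⟨i, rfl⟩ _ ⟨j, rfl⟩ h
    rw [hinj i j h]
  · rintro _ ⟨i, rfl⟩ n hn b hb
    exact mul_mem_union_of_root B N (s i) (X i) (hsq i) (hfac i) (hpos i) (hrk1 i) n hn b hb
  · rintro _ ⟨i, rfl⟩ h
    obtain ⟨x, hx, hxs⟩ := hne i
    apply hxs
    have h1 : s i * x * s i ∈ (B : Set G) := by
      rw [← h]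
      exact ⟨x, hXB i hx, rfl⟩
    have e : s i * x * (s i)⁻¹ = s i * x * s i * (s i * s i)⁻¹ := by group
    rw [e]
    exact B.mul_mem h1 (B.inv_mem (hsq i))

end Cfsg.Agent.Lib.Helper20.BNCrit
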