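import Mathlib

set_option autoImplicit false
set_option linter.style.haveILetI false
set_option linter.unusedSimpArgs false
set_option linter.unusedSectionVars false

/-!
# Pattern subgroups of `SL_n(K)`, `K` a finite field

Block triangular subgroups, the upper unitriangular subgroup, and the abelian unipotent radicals
`RK k` of the maximal parabolics.
-/

namespace Cfsg.Agent.Lib.Helper20.PslF

open Matrix Subgroup

/-- in a finite group a submonoid is closed under inverses -/
theorem inv_mem_of_submonoid {G : Type*} [Group G] [Finite G] (M : Submonoid G) {g : G}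
    (hg : g ∈ M) : g⁻¹ ∈ M := by
  have h := pow_orderOf_eq_one g
  have hpos : 0 < orderOf g := orderOf_pos g
  have e : g⁻¹ = g ^ (orderOf g - 1) := by
    apply inv_eq_of_mul_eq_one_right
    rw [← pow_succ', Nat.sub_add_cancel hpos, h]
  rw [e]
  exact pow_mem hg _

/-- the subgroup of a finite group with the carrier of a submonoid -/
def subgroupOfSubmonoid {G : Type*} [Group G] [Finite G] (M : Submonoid G) : Subgroup G :=
  { M with inv_mem' := fun hg => inv_mem_of_submonoid M hg }

theorem mem_subgroupOfSubmonoid {G : Type*} [Group G] [Finite G] (M : Submonoid G) (g : G) :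
    g ∈ subgroupOfSubmonoid M ↔ g ∈ M := Iff.rfl

variable {n : ℕ} {K : Type*} [Field K] [Fintype K]

/-- `SL_n(K)` -/
abbrev SLn (n : ℕ) (K : Type*) [Field K] := Matrix.SpecialLinearGroup (Fin n) K

/-- the underlying matrix -/
def mt (g : SLn n K) : Matrix (Fin n) (Fin n) K := g.1

theorem mt_mul (g h : SLn n K) : mt (g * h) = mt g * mt h := rfl

theorem mt_one : mt (1 : SLn n K) = 1 := rfl

theorem mt_ext {g h : SLn n K} (e : mt g = mt h) : g = h := Subtype.ext e

theorem mt_det (g : SLn n K) : (mt g).det = 1 := g.2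

theorem mt_mul_inv (g : SLn n K) : mt g * mt g⁻¹ = 1 := by
  rw [← mt_mul, mul_inv_cancel, mt_one]

theorem mt_inv_mul (g : SLn n K) : mt g⁻¹ * mt g = 1 := by
  rw [← mt_mul, inv_mul_cancel, mt_one]

theorem mt_pow (g : SLn n K) (m : ℕ) : mt (g ^ m) = mt g ^ m := by
  induction m with
  | zero => rw [pow_zero, pow_zero, mt_one]
  | succ m ih => rw [pow_succ, pow_succ, mt_mul, ih]

theorem mt_transvection {i j : Fin n} (hij : i ≠ j) (c : K) :
    mt (SpecialLinearGroup.transvection hij c) = Matrix.transvection i j c := rfl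

/-- block triangular subgroup -/
def BT {α : Type*} [LinearOrder α] (b : Fin n → α) : Subgroup (SLn n K) :=
  subgroupOfSubmonoid
    { carrier := {g | BlockTriangular (mt g) b}
      mul_mem' := fun {g h} hg hh => by
        show BlockTriangular (mt (g * h)) b
        rw [mt_mul]
        exact hg.mul hh
      one_mem' := by
        show BlockTriangular (mt (1 : SLn n K)) b
        rw [mt_one]
        exact blockTriangular_one }

theorem mem_BT {α : Type*} [LinearOrder α] (b : Fin n → α) (g : SLn n K) :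
    g ∈ BT b ↔ ∀ x y : Fin n, b y < b x → (mt g) x y = 0 :=
  ⟨fun h x y hxy => h hxy, fun h x y hxy => h x y hxy⟩

/-- upper triangular matrices (the Borel subgroup) -/
def UT : Subgroup (SLn n K) := BT (id : Fin n → Fin n)

theorem mem_UT (g : SLn n K) :
    g ∈ (UT : Subgroup (SLn n K)) ↔ ∀ x y : Fin n, y < x → (mt g) x y = 0 :=
  mem_BT _ g

/-- the block function of the maximal parabolic `P_k` -/
def blk (k : ℕ) (x : Fin n) : ℕ := if (x : ℕ) < k then 0 else 1

theorem blk_lt (k : ℕ) (x y : Fin n) : blk k y < blk k x ↔ (y : ℕ) < k ∧ k ≤ (x : ℕ) := by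
  unfold blk
  split_ifs <;> omega

/-- the maximal parabolic `P_k` -/
def PK (k : ℕ) : Subgroup (SLn n K) := BT (blk k)

theorem mem_PK (k : ℕ) (g : SLn n K) :
    g ∈ (PK k : Subgroup (SLn n K)) ↔
      ∀ x y : Fin n, (y : ℕ) < k → k ≤ (x : ℕ) → (mt g) x y = 0 := by
  unfold PK
  rw [mem_BT]
  constructor
  · intro h x y h1 h2
    exact h x y ((blk_lt k x y).mpr ⟨h1, h2⟩)
  · intro h x y hxy
    obtain ⟨h1, h2⟩ := (blk_lt k x y).mp hxy
    exact h x y h1 h2

theorem UT_le_PK (k : ℕ) : (UT : Subgroup (SLn n K)) ≤ PK k := by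
  intro g hg
  rw [mem_PK]
  intro x y h1 h2
  exact (mem_UT g).mp hg x y (by
    rw [Fin.lt_def]; omega)

/-- diagonal entries multiply on upper triangular matrices -/
theorem UT_diag_mul {g h : SLn n K} (hg : g ∈ (UT : Subgroup (SLn n K)))
    (hh : h ∈ (UT : Subgroup (SLn n K))) (x : Fin n) :
    (mt (g * h)) x x =
      (mt g) x x * (mt h) x x := by
  rw [mt_mul, Matrix.mul_apply]
  apply Finset.sum_eq_single x
  · intro z _ hz
    rcases lt_or_gt_of_ne hz with h1 | h1
    · rw [(mem_UT g).mp hg x z h1, zero_mul]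
    · rw [(mem_UT h).mp hh z x h1, mul_zero]
  · intro hx
    exact absurd (Finset.mem_univ x) hx

/-- the upper unitriangular subgroup -/
def UU : Subgroup (SLn n K) :=
  subgroupOfSubmonoid
    { carrier := {g | g ∈ (UT : Subgroup (SLn n K)) ∧
        ∀ x : Fin n, (mt g) x x = 1}
      mul_mem' := fun {g h} hg hh => by
        refine ⟨mul_mem hg.1 hh.1, fun x => ?_⟩
        rw [UT_diag_mul hg.1 hh.1, hg.2, hh.2, one_mul]
      one_mem' := by
        refine ⟨one_mem _, fun x => ?_⟩
        rw [mt_one, Matrix.one_apply_eq] }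

theorem mem_UU (g : SLn n K) :
    g ∈ (UU : Subgroup (SLn n K)) ↔ (∀ x y : Fin n, y < x → (mt g) x y = 0) ∧
      ∀ x : Fin n, (mt g) x x = 1 := by
  constructor
  · intro h
    exact ⟨(mem_UT g).mp h.1, h.2⟩
  · intro h
    exact ⟨(mem_UT g).mpr h.1, h.2⟩

theorem UU_le_UT : (UU : Subgroup (SLn n K)) ≤ UT := fun _ h => h.1

/-- the position pattern of the unipotent radical of `P_k` -/
def Ak (k : ℕ) (x y : Fin n) : Prop := (x : ℕ) < k ∧ k ≤ (y : ℕ)

/-- the unipotent radical of `P_k` -/
def RK (k : ℕ) : Subgroup (SLn n K) :=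
  subgroupOfSubmonoid
    { carrier := {g | ∀ x y : Fin n, ¬ Ak k x y →
        (mt g) x y = (1 : Matrix (Fin n) (Fin n) K) x y}
      mul_mem' := fun {g h} hg hh => by
        intro x y hxy
        rw [mt_mul, Matrix.mul_apply]
        by_cases hx : (x : ℕ) < k
        · have hy : (y : ℕ) < k := by
            by_contra hy
            exact hxy ⟨hx, not_lt.mp hy⟩
          rw [Finset.sum_eq_single y]
          · rw [hh y y (fun h => by unfold Ak at h; omega), Matrix.one_apply_eq, mul_one]
            exact hg x y hxy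
          · intro z _ hz
            rw [hh z y (fun h => by unfold Ak at h; omega), Matrix.one_apply_ne hz, mul_zero]
          · intro hy'
            exact absurd (Finset.mem_univ y) hy'
        · rw [Finset.sum_eq_single x]
          · rw [hg x x (fun h => by unfold Ak at h; omega), Matrix.one_apply_eq, one_mul]
            exact hh x y hxy
          · intro z _ hz
            rw [hg x z (fun h => by unfold Ak at h; omega), Matrix.one_apply_ne hz.symm, zero_mul]
          · intro hx'
            exact absurd (Finset.mem_univ x) hx'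
      one_mem' := by
        intro x y _
        rw [mt_one] }

theorem mem_RK (k : ℕ) (g : SLn n K) :
    g ∈ (RK k : Subgroup (SLn n K)) ↔ ∀ x y : Fin n, ¬ Ak k x y →
        (mt g) x y = (1 : Matrix (Fin n) (Fin n) K) x y := Iff.rfl

theorem RK_le_UU (k : ℕ) : (RK k : Subgroup (SLn n K)) ≤ UU := by
  intro g hg
  rw [mem_UU]
  refine ⟨fun x y hxy => ?_, fun x => ?_⟩
  · rw [(mem_RK k g).mp hg x y (fun h => by
      unfold Ak at h; rw [Fin.lt_def] at hxy; omega), Matrix.one_apply_ne (ne_of_gt hxy)]
  · rw [(mem_RK k g).mp hg x x (fun h => by unfold Ak at h; omega), Matrix.one_apply_eq]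

/-- `P_k` normalizes its unipotent radical -/
theorem PK_conj_RK (k : ℕ) {g r : SLn n K} (hg : g ∈ (PK k : Subgroup (SLn n K)))
    (hr : r ∈ (RK k : Subgroup (SLn n K))) : g * r * g⁻¹ ∈ (RK k : Subgroup (SLn n K)) := by
  have hg' : g⁻¹ ∈ (PK k : Subgroup (SLn n K)) := inv_mem hg
  rw [mem_RK]
  intro x y hxy
  set N : Matrix (Fin n) (Fin n) K := (mt r) - 1 with hN
  have hNz : ∀ a b : Fin n, ¬ Ak k a b → N a b = 0 := by
    intro a b hab
    rw [hN, Matrix.sub_apply, (mem_RK k r).mp hr a b hab, sub_self]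
  have e1 : (mt r) = 1 + N := by rw [hN]; abel
  have e2 : (mt (g * r * g⁻¹)) =
      1 + (mt g) * N * (mt g⁻¹) := by
    have h1 : (mt (g * g⁻¹)) = 1 := by
      rw [mul_inv_cancel, mt_one]
    rw [mt_mul] at h1
    rw [mt_mul, mt_mul, e1, mul_add, add_mul, mul_one, h1]
  rw [e2, Matrix.add_apply]
  have e3 : (mt g * N *
      (mt g⁻¹)) x y = 0 := by
    rw [Matrix.mul_apply]
    apply Finset.sum_eq_zero
    intro w _
    rw [Matrix.mul_apply, Finset.sum_mul]
    apply Finset.sum_eq_zero
    intro z _
    by_cases hzw : Ak k z w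
    · by_cases hx : (x : ℕ) < k
      · have hy : (y : ℕ) < k := by
          by_contra hy
          exact hxy ⟨hx, not_lt.mp hy⟩
        rw [(mem_PK k g⁻¹).mp hg' w y hy hzw.2, mul_zero]
      · rw [(mem_PK k g).mp hg x z hzw.1 (not_lt.mp hx), zero_mul, zero_mul]
    · rw [hNz z w hzw, mul_zero, zero_mul]
  rw [e3, add_zero]

theorem PK_le_normalizer_RK (k : ℕ) :
    (PK k : Subgroup (SLn n K)) ≤ normalizer ((RK k : Subgroup (SLn n K)) : Set (SLn n K)) := by
  intro g hg
  rw [mem_normalizer_iff]
  intro r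
  constructor
  · exact PK_conj_RK k hg
  · intro h
    have := PK_conj_RK k (inv_mem hg) h
    have e : g⁻¹ * (g * r * g⁻¹) * g⁻¹⁻¹ = r := by group
    rwa [e] at this

end Cfsg.Agent.Lib.Helper20.PslF
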