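import Mathlib
import Cfsg.Agent.Lib.Helper20.PslPat

set_option autoImplicit false
set_option linter.style.haveILetI false
set_option linter.unusedSimpArgs false
set_option linter.unusedSectionVars false

/-!
# The upper unitriangular subgroup is a Sylow `p`-subgroup of `SL_n(K)`, `char K = p`
-/

namespace Cfsg.Agent.Lib.Helper20.PslF

open Matrix Subgroup

variable {n : ℕ} {K : Type*} [Field K] [Fintype K]

/-- the transvection `1 + c E_{ij}` -/
abbrev tv {i j : Fin n} (hij : i ≠ j) (c : K) : SLn n K := SpecialLinearGroup.transvection hij c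

theorem mt_tv_apply {i j : Fin n} (hij : i ≠ j) (c : K) (x y : Fin n) :
    mt (tv hij c) x y = (if x = y then 1 else 0) + (if i = x ∧ j = y then c else 0) := by
  rw [mt_transvection]
  unfold Matrix.transvection
  rw [Matrix.add_apply, Matrix.one_apply, Matrix.single_apply]

theorem tv_mem_UU {i j : Fin n} (h : i < j) (c : K) :
    tv (ne_of_lt h) c ∈ (UU : Subgroup (SLn n K)) := by
  rw [mem_UU]
  refine ⟨fun x y hxy => ?_, fun x => ?_⟩
  · have h3 : ¬ (i = x ∧ j = y) := by
      rintro ⟨rfl, rfl⟩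
      exact absurd h (not_lt.mpr hxy.le)
    rw [mt_tv_apply, if_neg (ne_of_gt hxy), if_neg h3, add_zero]
  · have h3 : ¬ (i = x ∧ j = x) := by
      rintro ⟨rfl, h2⟩
      exact absurd h2 (ne_of_gt h)
    rw [mt_tv_apply, if_pos rfl, if_neg h3, add_zero]

theorem tv_mem_PK (k : ℕ) {i j : Fin n} (hij : i ≠ j) (h : ¬ ((j : ℕ) < k ∧ k ≤ (i : ℕ))) (c : K) :
    tv hij c ∈ (PK k : Subgroup (SLn n K)) := by
  rw [mem_PK]
  intro x y h1 h2
  have hxy : x ≠ y := by
    intro e; rw [e] at h2; omega
  have h3 : ¬ (i = x ∧ j = y) := by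
    rintro ⟨rfl, rfl⟩
    exact h ⟨h1, h2⟩
  rw [mt_tv_apply, if_neg hxy, if_neg h3, add_zero]

theorem tv_mem_RK (k : ℕ) {i j : Fin n} (hij : i ≠ j) (h : (i : ℕ) < k ∧ k ≤ (j : ℕ)) (c : K) :
    tv hij c ∈ (RK k : Subgroup (SLn n K)) := by
  rw [mem_RK]
  intro x y hxy
  have h2 : ¬ (i = x ∧ j = y) := by
    rintro ⟨rfl, rfl⟩
    exact hxy h
  rw [mt_tv_apply, Matrix.one_apply, if_neg h2, add_zero]

section pgroup

variable [NeZero n] (p : ℕ) [Fact p.Prime] [CharP K p]

theorem UU_pow_eq_one {u : SLn n K} (hu : u ∈ (UU : Subgroup (SLn n K))) : u ^ p ^ n = 1 := by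
  rw [mem_UU] at hu
  set N : Matrix (Fin n) (Fin n) K := mt u - 1 with hN
  have hNz : ∀ x y : Fin n, ¬ x < y → N x y = 0 := by
    intro x y hxy
    rw [hN, Matrix.sub_apply]
    rcases lt_or_eq_of_le (not_lt.mp hxy) with h | h
    · rw [hu.1 x y h, Matrix.one_apply_ne (ne_of_gt h), sub_zero]
    · rw [h, hu.2, Matrix.one_apply_eq, sub_self]
  have claim : ∀ m : ℕ, ∀ x y : Fin n, (y : ℕ) < (x : ℕ) + m → (N ^ m) x y = 0 := by
    intro m
    induction m with
    | zero =>
      intro x y h
      rw [pow_zero, Matrix.one_apply_ne]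
      intro e; rw [e] at h; omega
    | succ m ih =>
      intro x y h
      rw [pow_succ, Matrix.mul_apply]
      apply Finset.sum_eq_zero
      intro z _
      by_cases hz : (z : ℕ) < (x : ℕ) + m
      · rw [ih x z hz, zero_mul]
      · rw [hNz z y (by rw [Fin.lt_def]; omega), mul_zero]
  have hNn : N ^ n = 0 := by
    ext x y
    rw [claim n x y (by have := y.2; omega), Matrix.zero_apply]
  have hle : n ≤ p ^ n := (Nat.lt_pow_self (Fact.out : p.Prime).one_lt).le
  have hNp : N ^ p ^ n = 0 := by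
    rw [← Nat.sub_add_cancel hle, pow_add, hNn, mul_zero]
  apply mt_ext
  rw [mt_pow, mt_one]
  have e : mt u = 1 + N := by rw [hN]; abel
  rw [e, add_pow_char_pow_of_commute p n (Commute.one_left N), one_pow, hNp, add_zero]

theorem UU_isPGroup : IsPGroup p (UU : Subgroup (SLn n K)) := by
  rintro ⟨u, hu⟩
  refine ⟨n, Subtype.ext ?_⟩
  simpa using UU_pow_eq_one p hu

end pgroup

/-- the normalizer of the unitriangular group consists of upper triangular matrices -/
theorem normalizer_UU_le :
    normalizer ((UU : Subgroup (SLn n K)) : Set (SLn n K)) ≤ UT := by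
  intro g hg
  have key : ∀ d : ℕ, ∀ i : Fin n, n - (i : ℕ) = d → ∀ k : Fin n, k < i → mt g i k = 0 := by
    intro d
    induction d using Nat.strong_induction_on with
    | _ d ih =>
      intro i hi k hki
      have hrows : ∀ m : Fin n, i < m → ∀ l : Fin n, l < m → mt g m l = 0 := by
        intro m him l hlm
        have him' : (i : ℕ) < (m : ℕ) := him
        have := m.2
        exact ih (n - (m : ℕ)) (by omega) m rfl l hlm
      have hT : tv (ne_of_lt hki) (1 : K) ∈ (UU : Subgroup (SLn n K)) := tv_mem_UU hki 1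
      have hu : g * tv (ne_of_lt hki) (1 : K) * g⁻¹ ∈ (UU : Subgroup (SLn n K)) :=
        (mem_normalizer_iff.mp hg _).mp hT
      set u := g * tv (ne_of_lt hki) (1 : K) * g⁻¹ with hu_def
      have e : u * g = g * tv (ne_of_lt hki) (1 : K) := by
        rw [hu_def]; group
      have e1 : mt (u * g) i i = mt (g * tv (ne_of_lt hki) (1 : K)) i i := by rw [e]
      rw [mem_UU] at hu
      have l1 : mt (u * g) i i = mt g i i := by
        rw [mt_mul, Matrix.mul_apply, Finset.sum_eq_single i]
        · rw [hu.2 i, one_mul]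
        · intro m _ hmi
          rcases lt_or_gt_of_ne hmi with h | h
          · rw [hu.1 i m h, zero_mul]
          · rw [hrows m h i h, mul_zero]
        · intro hi'
          exact absurd (Finset.mem_univ i) hi'
      have l2 : mt (g * tv (ne_of_lt hki) (1 : K)) i i = mt g i i + 1 * mt g i k := by
        rw [mt_mul, mt_transvection]
        exact Matrix.mul_transvection_apply_same k i i 1 (mt g)
      rw [l1, l2, one_mul] at e1
      have := congrArg (fun t => t - mt g i i) e1
      simpa using this.symm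
  rw [mem_UT]
  intro x y hxy
  exact key _ x rfl y hxy

theorem UT_diag_ne_zero {g : SLn n K} (hg : g ∈ (UT : Subgroup (SLn n K))) (x : Fin n) :
    mt g x x ≠ 0 := by
  have hup : (mt g).IsUpperTriangular := by
    intro i j hij
    exact (mem_UT g).mp hg i j hij
  have hdet := Matrix.det_of_isUpperTriangular hup
  rw [mt_det] at hdet
  intro h0
  have : ∏ i, mt g i i = 0 := Finset.prod_eq_zero (Finset.mem_univ x) h0
  rw [this] at hdet
  exact one_ne_zero hdet

theorem UT_pow_diag {g : SLn n K} (hg : g ∈ (UT : Subgroup (SLn n K))) (m : ℕ) (x : Fin n) :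
    mt (g ^ m) x x = (mt g x x) ^ m := by
  induction m with
  | zero => rw [pow_zero, pow_zero, mt_one, Matrix.one_apply_eq]
  | succ m ih => rw [pow_succ, pow_succ, UT_diag_mul (pow_mem hg m) hg, ih]

theorem UT_pow_card_mem_UU {g : SLn n K} (hg : g ∈ (UT : Subgroup (SLn n K))) :
    g ^ (Fintype.card K - 1) ∈ (UU : Subgroup (SLn n K)) := by
  rw [mem_UU]
  refine ⟨(mem_UT _).mp (pow_mem hg _), fun x => ?_⟩
  rw [UT_pow_diag hg, FiniteField.pow_card_sub_one_eq_one _ (UT_diag_ne_zero hg x)]

section sylow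

variable [NeZero n] (p : ℕ) [Fact p.Prime] [CharP K p]

theorem not_dvd_index_UU : ¬ p ∣ (UU : Subgroup (SLn n K)).index := by
  intro hdvd
  obtain ⟨m, hm⟩ := IsPGroup.iff_card.mp (UU_isPGroup (n := n) (K := K) p)
  have hcard : p ^ (m + 1) ∣ Nat.card (SLn n K) := by
    rw [← Subgroup.card_mul_index (UU : Subgroup (SLn n K)), hm, pow_succ]
    exact Nat.mul_dvd_mul_left _ hdvd
  haveI : ((UU : Subgroup (SLn n K)).comap (normalizer ((UU : Subgroup (SLn n K)) :
      Set (SLn n K))).subtype).Normal := Subgroup.normal_in_normalizer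
  have h1 := Sylow.prime_dvd_card_quotient_normalizer hcard hm
  obtain ⟨xbar, hx⟩ := exists_prime_orderOf_dvd_card' p h1
  obtain ⟨x, rfl⟩ := QuotientGroup.mk_surjective xbar
  have hxUT : (x : SLn n K) ∈ (UT : Subgroup (SLn n K)) := normalizer_UU_le x.2
  have hpow : ((x ^ (Fintype.card K - 1) : normalizer ((UU : Subgroup (SLn n K)) : Set (SLn n K))) :
      (normalizer ((UU : Subgroup (SLn n K)) : Set (SLn n K))) ⧸
        (UU : Subgroup (SLn n K)).comap (normalizer ((UU : Subgroup (SLn n K)) :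
          Set (SLn n K))).subtype) = 1 := by
    rw [QuotientGroup.eq_one_iff, mem_comap]
    exact UT_pow_card_mem_UU hxUT
  have hd : p ∣ Fintype.card K - 1 := by
    rw [← hx]
    apply orderOf_dvd_of_pow_eq_one
    rw [← QuotientGroup.mk_pow]
    exact hpow
  obtain ⟨f, -, hq⟩ := FiniteField.card K p
  have hd2 : p ∣ Fintype.card K := by
    rw [hq]
    exact dvd_pow_self p f.ne_zero
  have hpos : 0 < Fintype.card K := Fintype.card_pos
  have hd3 : p ∣ Fintype.card K - (Fintype.card K - 1) := Nat.dvd_sub hd2 hd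
  have e : Fintype.card K - (Fintype.card K - 1) = 1 := by omega
  rw [e] at hd3
  exact (Fact.out : p.Prime).one_lt.ne' (Nat.dvd_one.mp hd3)

/-- the upper unitriangular group as a Sylow subgroup -/
noncomputable def UUs : Sylow p (SLn n K) :=
  IsPGroup.toSylow (UU_isPGroup p) (not_dvd_index_UU p)

theorem coe_UUs : ((UUs p : Sylow p (SLn n K)) : Subgroup (SLn n K)) = UU := rfl

end sylow

end Cfsg.Agent.Lib.Helper20.PslF
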