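import Mathlib
import Cfsg.Agent.Lib.Helper20.PslSyl

set_option autoImplicit false
set_option linter.style.haveILetI false
set_option linter.unusedSimpArgs false
set_option linter.unusedSectionVars false

/-!
# Conjugating transvections by diagonal and monomial matrices
-/

namespace Cfsg.Agent.Lib.Helper20.PslF

open Matrix Subgroup

variable {n : ℕ} {K : Type*} [Field K] [Fintype K]

theorem diagonal_mul_transvection (f : Fin n → K) {a b : Fin n} (hab : a ≠ b) (c : K)
    (hf : f b ≠ 0) :
    diagonal f * Matrix.transvection a b c =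
      Matrix.transvection a b (f a * c * (f b)⁻¹) * diagonal f := by
  ext x y
  rw [Matrix.diagonal_mul, Matrix.mul_diagonal]
  unfold Matrix.transvection
  rw [Matrix.add_apply, Matrix.add_apply, Matrix.one_apply, Matrix.single_apply,
    Matrix.single_apply]
  by_cases h : a = x ∧ b = y
  · obtain ⟨rfl, rfl⟩ := h
    rw [if_neg hab, if_pos ⟨rfl, rfl⟩, if_pos ⟨rfl, rfl⟩, zero_add, zero_add]
    field_simp
  · simp only [if_neg h, add_zero]
    by_cases hxy : x = y
    · rw [hxy, if_pos rfl, mul_one, one_mul]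
    · rw [if_neg hxy, mul_zero, zero_mul]

/-- conjugating a transvection by a diagonal element -/
theorem diag_conj_tv (f : Fin n → K) (hf : ∀ x, f x ≠ 0) {d : SLn n K} (hd : mt d = diagonal f)
    {a b : Fin n} (hab : a ≠ b) (c : K) :
    d * tv hab c * d⁻¹ = tv hab (f a * c * (f b)⁻¹) := by
  rw [mul_inv_eq_iff_eq_mul]
  apply mt_ext
  rw [mt_mul, mt_mul, hd, mt_transvection, mt_transvection]
  exact diagonal_mul_transvection f hab c (hf b)

/-- permutation matrix -/
def pm (τ : Equiv.Perm (Fin n)) : Matrix (Fin n) (Fin n) K :=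
  (1 : Matrix (Fin n) (Fin n) K).submatrix τ.symm id

theorem pm_apply (τ : Equiv.Perm (Fin n)) (x y : Fin n) :
    (pm τ : Matrix (Fin n) (Fin n) K) x y = if x = τ y then 1 else 0 := by
  unfold pm
  rw [Matrix.submatrix_apply, Matrix.one_apply, id]
  by_cases h : x = τ y
  · rw [if_pos h, if_pos]
    rw [h, Equiv.symm_apply_apply]
  · rw [if_neg h, if_neg]
    intro h2
    apply h
    rw [← h2, Equiv.apply_symm_apply]

theorem pm_mul_transvection (τ : Equiv.Perm (Fin n)) (a b : Fin n) (c : K) :
    (pm τ : Matrix (Fin n) (Fin n) K) * Matrix.transvection a b c =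
      Matrix.transvection (τ a) (τ b) c * pm τ := by
  unfold Matrix.transvection
  rw [mul_add, add_mul, mul_one, one_mul]
  congr 1
  ext x y
  by_cases hy : y = b
  · subst hy
    rw [Matrix.mul_single_apply_same, pm_apply]
    by_cases hx : x = τ a
    · subst hx
      rw [Matrix.single_mul_apply_same, pm_apply, if_pos rfl, if_pos rfl, one_mul, mul_one]
    · rw [Matrix.single_mul_apply_of_ne _ _ _ _ _ hx, if_neg hx, zero_mul]
  · rw [Matrix.mul_single_apply_of_ne _ _ _ _ _ hy]
    by_cases hx : x = τ a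
    · subst hx
      rw [Matrix.single_mul_apply_same, pm_apply, if_neg, mul_zero]
      intro h
      exact hy (τ.injective h).symm
    · rw [Matrix.single_mul_apply_of_ne _ _ _ _ _ hx]

/-- the sign of a permutation in `K` -/
def eps (τ : Equiv.Perm (Fin n)) : K := (((Equiv.Perm.sign τ : ℤˣ) : ℤ) : K)

theorem eps_mul_self (τ : Equiv.Perm (Fin n)) : (eps τ : K) * eps τ = 1 := by
  unfold eps
  rw [← Int.cast_mul, ← Units.val_mul, Int.units_mul_self, Units.val_one, Int.cast_one]

theorem eps_ne_zero (τ : Equiv.Perm (Fin n)) : (eps τ : K) ≠ 0 := by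
  intro h
  have := eps_mul_self (K := K) τ
  rw [h, zero_mul] at this
  exact zero_ne_one this

/-- the diagonal sign vector -/
def sgv (τ : Equiv.Perm (Fin n)) (z : Fin n) : Fin n → K := fun y => if y = z then eps τ else 1

theorem sgv_ne_zero (τ : Equiv.Perm (Fin n)) (z x : Fin n) : (sgv τ z x : K) ≠ 0 := by
  unfold sgv
  split_ifs
  · exact eps_ne_zero τ
  · exact one_ne_zero

/-- a monomial matrix of determinant one attached to a permutation -/
noncomputable def monoSL (τ : Equiv.Perm (Fin n)) (z : Fin n) : SLn n K :=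
  ⟨pm τ * diagonal (sgv τ z), by
    rw [Matrix.det_mul, Matrix.det_diagonal]
    unfold pm sgv
    rw [Matrix.det_permute, Matrix.det_one, mul_one, Finset.prod_ite_eq' Finset.univ z,
      if_pos (Finset.mem_univ z), Equiv.Perm.sign_symm]
    exact eps_mul_self τ⟩

theorem mt_monoSL (τ : Equiv.Perm (Fin n)) (z : Fin n) :
    mt (monoSL τ z : SLn n K) = pm τ * diagonal (sgv τ z) := rfl

theorem mt_monoSL_apply (τ : Equiv.Perm (Fin n)) (z x y : Fin n) :
    mt (monoSL τ z : SLn n K) x y = if x = τ y then sgv τ z y else 0 := by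
  rw [mt_monoSL, Matrix.mul_diagonal, pm_apply]
  split_ifs <;> simp

/-- conjugating a transvection by a monomial element -/
theorem monoSL_conj (τ : Equiv.Perm (Fin n)) (z : Fin n) {a b : Fin n} (hab : a ≠ b) (c : K) :
    (monoSL τ z : SLn n K) * tv hab c * (monoSL τ z)⁻¹ =
      tv (fun h => hab (τ.injective h)) (sgv τ z a * c * (sgv τ z b)⁻¹) := by
  rw [mul_inv_eq_iff_eq_mul]
  apply mt_ext
  rw [mt_mul, mt_mul, mt_monoSL, mt_transvection, mt_transvection, Matrix.mul_assoc,
    diagonal_mul_transvection (sgv τ z) hab c (sgv_ne_zero τ z b), ← Matrix.mul_assoc,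
    pm_mul_transvection, Matrix.mul_assoc]

end Cfsg.Agent.Lib.Helper20.PslF
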