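import Mathlib
import Cfsg.Agent.Lib.Helper20.PslConj

set_option autoImplicit false
set_option linter.style.haveILetI false
set_option linter.unusedSimpArgs false
set_option linter.unusedSectionVars false

/-!
# The radicals `RK k` are centric (modulo scalars) and radical
-/

namespace Cfsg.Agent.Lib.Helper20.PslF

open Matrix Subgroup

variable {n : ℕ} {K : Type*} [Field K] [Fintype K]

/-- an element of `SL_n` from a matrix of determinant one -/
def mkSL (M : Matrix (Fin n) (Fin n) K) (h : M.det = 1) : SLn n K := ⟨M, h⟩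

theorem mt_mkSL (M : Matrix (Fin n) (Fin n) K) (h : M.det = 1) : mt (mkSL M h) = M := rfl

/-- a scalar matrix of determinant one -/
noncomputable def scal (lam : K) (h : lam ^ n = 1) : SLn n K :=
  ⟨Matrix.scalar (Fin n) lam, by
    rw [Matrix.scalar_apply, Matrix.det_diagonal, Finset.prod_const, Finset.card_univ,
      Fintype.card_fin, h]⟩

theorem mt_scal (lam : K) (h : lam ^ n = 1) : mt (scal lam h) = Matrix.scalar (Fin n) lam := rfl

theorem scal_mem_center (lam : K) (h : lam ^ n = 1) :
    scal lam h ∈ Subgroup.center (SLn n K) := by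
  rw [Matrix.SpecialLinearGroup.mem_center_iff]
  exact ⟨lam, by rw [Fintype.card_fin]; exact h, rfl⟩

/-- the centralizer of `RK k` is `Z · RK k` -/
theorem centralizer_RK {k : ℕ} (hk0 : 0 < k) (hkn : k < n) {c : SLn n K}
    (hc : c ∈ centralizer ((RK k : Subgroup (SLn n K)) : Set (SLn n K))) :
    ∃ z ∈ Subgroup.center (SLn n K), ∃ r ∈ (RK k : Subgroup (SLn n K)), c = z * r := by
  rw [mem_centralizer_iff] at hc
  set a0 : Fin n := ⟨0, by omega⟩ with ha0
  set b0 : Fin n := ⟨k, hkn⟩ with hb0
  have hcomm : ∀ (a b : Fin n) (hab : a ≠ b), (a : ℕ) < k → k ≤ (b : ℕ) →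
      Matrix.transvection a b (1 : K) * mt c = mt c * Matrix.transvection a b (1 : K) := by
    intro a b hab h1 h2
    have := hc _ (tv_mem_RK k hab ⟨h1, h2⟩ (1 : K))
    have e := congrArg mt this
    rwa [mt_mul, mt_mul, mt_transvection] at e
  -- columns `a < k` are diagonal
  have hcol : ∀ (a x : Fin n), (a : ℕ) < k → x ≠ a → mt c x a = 0 := by
    intro a x ha hxa
    have hab : a ≠ b0 := by
      intro e; rw [e, hb0] at ha; exact lt_irrefl _ ha
    have e : (Matrix.transvection a b0 (1 : K) * mt c) x b0 =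
        (mt c * Matrix.transvection a b0 (1 : K)) x b0 := by rw [hcomm a b0 hab ha le_rfl]
    rw [Matrix.transvection_mul_apply_of_ne _ _ _ _ hxa, Matrix.mul_transvection_apply_same,
      one_mul] at e
    have := congrArg (fun t => t - mt c x b0) e
    simpa using this.symm
  -- rows `b ≥ k` are diagonal
  have hrow : ∀ (b y : Fin n), k ≤ (b : ℕ) → y ≠ b → mt c b y = 0 := by
    intro b y hb hyb
    have hab : a0 ≠ b := by
      intro e; rw [← e, ha0] at hb; simp at hb; omega
    have e : (Matrix.transvection a0 b (1 : K) * mt c) a0 y =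
        (mt c * Matrix.transvection a0 b (1 : K)) a0 y := by rw [hcomm a0 b hab hk0 hb]
    rw [Matrix.transvection_mul_apply_same, Matrix.mul_transvection_apply_of_ne _ _ _ _ hyb,
      one_mul] at e
    have := congrArg (fun t => t - mt c a0 y) e
    simpa using this
  -- equal diagonal entries
  have hdiag : ∀ (a b : Fin n), (a : ℕ) < k → k ≤ (b : ℕ) → mt c a a = mt c b b := by
    intro a b ha hb
    have hab : a ≠ b := by
      intro e; rw [e] at ha; omega
    have e : (Matrix.transvection a b (1 : K) * mt c) a b =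
        (mt c * Matrix.transvection a b (1 : K)) a b := by rw [hcomm a b hab ha hb]
    rw [Matrix.transvection_mul_apply_same, Matrix.mul_transvection_apply_same, one_mul,
      one_mul] at e
    have := congrArg (fun t => t - mt c a b) e
    simpa using this.symm
  set lam : K := mt c a0 a0 with hlam
  have hd : ∀ x : Fin n, mt c x x = lam := by
    intro x
    by_cases hx : (x : ℕ) < k
    · rw [hdiag x b0 hx le_rfl, hlam, hdiag a0 b0 hk0 le_rfl]
    · rw [hlam, hdiag a0 x hk0 (not_lt.mp hx)]
  have hoff : ∀ x y : Fin n, x ≠ y → ¬ Ak k x y → mt c x y = 0 := by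
    intro x y hxy hA
    by_cases hy : (y : ℕ) < k
    · exact hcol y x hy hxy
    · have hx : k ≤ (x : ℕ) := by
        by_contra hx
        exact hA ⟨not_le.mp hx, not_lt.mp hy⟩
      exact hrow x y hx hxy.symm
  have hup : (mt c).IsUpperTriangular := by
    intro i j hij
    have hij' : j < i := hij
    apply hoff i j (ne_of_gt hij')
    rintro ⟨h1, h2⟩
    rw [Fin.lt_def] at hij'
    omega
  have hlamn : lam ^ n = 1 := by
    have hdet := Matrix.det_of_isUpperTriangular hup
    rw [mt_det] at hdet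
    rw [hdet]
    simp only [hd, Finset.prod_const, Finset.card_univ, Fintype.card_fin]
  have hlam0 : lam ≠ 0 := by
    intro h
    rw [h, zero_pow (by omega)] at hlamn
    exact zero_ne_one hlamn
  have hdetr : (lam⁻¹ • mt c).det = 1 := by
    rw [Matrix.det_smul, mt_det, mul_one, Fintype.card_fin, inv_pow, hlamn, inv_one]
  refine ⟨scal lam hlamn, scal_mem_center lam hlamn, mkSL (lam⁻¹ • mt c) hdetr, ?_, ?_⟩
  · rw [mem_RK]
    intro x y hA
    rw [mt_mkSL, Matrix.smul_apply, smul_eq_mul]
    by_cases hxy : x = y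
    · rw [hxy, hd, inv_mul_cancel₀ hlam0, Matrix.one_apply_eq]
    · rw [hoff x y hxy hA, mul_zero, Matrix.one_apply_ne hxy]
  · apply mt_ext
    rw [mt_mul, mt_scal, mt_mkSL]
    rw [Matrix.scalar_apply, ← Matrix.smul_eq_diagonal_mul, smul_smul, mul_inv_cancel₀ hlam0,
      one_smul]

/-- the double reversal permutation attached to `k` -/
def revk (k : ℕ) (hk : k ≤ n) (x : Fin n) : Fin n :=
  if h : (x : ℕ) < k then ⟨k - 1 - x, by omega⟩ else ⟨n + k - 1 - x, by have := x.2; omega⟩

theorem revk_val_lt {k : ℕ} (hk : k ≤ n) {x : Fin n} (h : (x : ℕ) < k) :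
    ((revk k hk x : Fin n) : ℕ) = k - 1 - x := by
  unfold revk; rw [dif_pos h]

theorem revk_val_ge {k : ℕ} (hk : k ≤ n) {x : Fin n} (h : ¬ (x : ℕ) < k) :
    ((revk k hk x : Fin n) : ℕ) = n + k - 1 - x := by
  unfold revk; rw [dif_neg h]

theorem revk_invol (k : ℕ) (hk : k ≤ n) : Function.Involutive (revk (n := n) k hk) := by
  intro x
  apply Fin.ext
  by_cases h : (x : ℕ) < k
  · have h1 := revk_val_lt hk h
    have h2 : ((revk k hk x : Fin n) : ℕ) < k := by omega
    rw [revk_val_lt hk h2, h1]; omega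
  · have h1 := revk_val_ge hk h
    have := x.2
    have h2 : ¬ ((revk k hk x : Fin n) : ℕ) < k := by omega
    rw [revk_val_ge hk h2, h1]; omega

/-- the permutation -/
def revP (k : ℕ) (hk : k ≤ n) : Equiv.Perm (Fin n) := (revk_invol (n := n) k hk).toPerm _

theorem revP_apply (k : ℕ) (hk : k ≤ n) (x : Fin n) : revP k hk x = revk k hk x := rfl

theorem monoSL_mul_apply (τ : Equiv.Perm (Fin n)) (z : Fin n) (M : Matrix (Fin n) (Fin n) K)
    (a y : Fin n) : (mt (monoSL τ z : SLn n K) * M) (τ a) y = sgv τ z a * M a y := by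
  rw [Matrix.mul_apply, Finset.sum_eq_single a]
  · rw [mt_monoSL_apply, if_pos rfl]
  · intro w _ hw
    rw [mt_monoSL_apply, if_neg, zero_mul]
    intro h
    exact hw (τ.injective h).symm
  · intro h
    exact absurd (Finset.mem_univ a) h

theorem mul_monoSL_apply (τ : Equiv.Perm (Fin n)) (z : Fin n) (M : Matrix (Fin n) (Fin n) K)
    (x y : Fin n) : (M * mt (monoSL τ z : SLn n K)) x y = M x (τ y) * sgv τ z y := by
  rw [Matrix.mul_apply, Finset.sum_eq_single (τ y)]
  · rw [mt_monoSL_apply, if_pos rfl]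
  · intro w _ hw
    rw [mt_monoSL_apply, if_neg hw, mul_zero]
  · intro h
    exact absurd (Finset.mem_univ _) h

theorem monoSL_revP_mem_PK (k : ℕ) (hk : k ≤ n) (z : Fin n) :
    (monoSL (revP k hk) z : SLn n K) ∈ (PK k : Subgroup (SLn n K)) := by
  rw [mem_PK]
  intro x y h1 h2
  rw [mt_monoSL_apply, if_neg]
  intro e
  have := congrArg Fin.val e
  rw [revP_apply, revk_val_lt hk h1] at this
  omega

section radical

variable [NeZero n] (p : ℕ) [Fact p.Prime] [CharP K p]

/-- `RK k` is radical: `O_p(N(RK k)) ≤ RK k` -/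
theorem radical_RK {k : ℕ} (hkn : k ≤ n) (Kt : Subgroup (SLn n K))
    (h2 : normalizer ((RK k : Subgroup (SLn n K)) : Set (SLn n K)) ≤ normalizer (Kt : Set (SLn n K)))
    (h3 : IsPGroup p Kt) : Kt ≤ RK k := by
  have hPN : (PK k : Subgroup (SLn n K)) ≤ normalizer (Kt : Set (SLn n K)) :=
    (PK_le_normalizer_RK k).trans h2
  have hUN : (UU : Subgroup (SLn n K)) ≤ normalizer (Kt : Set (SLn n K)) :=
    (UU_le_UT.trans (UT_le_PK k)).trans hPN
  have hsup : IsPGroup p ((UU : Subgroup (SLn n K)) ⊔ Kt : Subgroup (SLn n K)) :=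
    IsPGroup.to_sup_of_normal_right' (UU_isPGroup p) h3 hUN
  have hmax := (UUs (n := n) (K := K) p).is_maximal' hsup (by rw [coe_UUs]; exact le_sup_left)
  rw [coe_UUs] at hmax
  have hKU : Kt ≤ UU := by
    rw [← hmax]; exact le_sup_right
  set w : SLn n K := monoSL (revP k hkn) ⟨0, Nat.pos_of_neZero n⟩ with hw
  have hwN : w ∈ normalizer (Kt : Set (SLn n K)) := hPN (monoSL_revP_mem_PK k hkn _)
  intro g hg
  have hg' : w⁻¹ * g * w⁻¹⁻¹ ∈ Kt := (mem_normalizer_iff.mp (inv_mem hwN) g).mp hg
  rw [inv_inv] at hg'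
  set g' : SLn n K := w⁻¹ * g * w with hg'def
  have hgU := (mem_UU g).mp (hKU hg)
  have hg'U := (mem_UU g').mp (hKU hg')
  have e : w * g' = g * w := by rw [hg'def]; group
  have em : mt w * mt g' = mt g * mt w := by rw [← mt_mul, ← mt_mul, e]
  rw [mem_RK]
  intro x y hA
  by_cases hxy : x = y
  · rw [hxy, hgU.2, Matrix.one_apply_eq]
  rw [Matrix.one_apply_ne hxy]
  rcases lt_or_gt_of_ne hxy with hlt | hgt
  · -- x < y, both on the same side of k
    set a : Fin n := revP k hkn x with ha
    set b : Fin n := revP k hkn y with hb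
    have hxa : revP k hkn a = x := revk_invol k hkn x
    have hyb : revP k hkn b = y := revk_invol k hkn y
    have e1 : (mt w * mt g') x b = (mt g * mt w) x b := by rw [em]
    rw [← hxa, monoSL_mul_apply, mul_monoSL_apply, hxa, hyb] at e1
    have hba : b < a := by
      rw [Fin.lt_def, ha, hb, revP_apply, revP_apply]
      rw [Fin.lt_def] at hlt
      by_cases hx : (x : ℕ) < k
      · have hy : (y : ℕ) < k := by
          by_contra hy
          exact hA ⟨hx, not_lt.mp hy⟩
        rw [revk_val_lt hkn hx, revk_val_lt hkn hy]; omega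
      · have hy : ¬ (y : ℕ) < k := by omega
        have := y.2
        rw [revk_val_ge hkn hx, revk_val_ge hkn hy]; omega
    rw [hg'U.1 a b hba, mul_zero] at e1
    rcases mul_eq_zero.mp e1.symm with h | h
    · exact h
    · exact absurd h (sgv_ne_zero _ _ _)
  · exact hgU.1 x y hgt

end radical

end Cfsg.Agent.Lib.Helper20.PslF
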