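import Mathlib

set_option autoImplicit false
set_option linter.style.haveILetI false
set_option linter.unusedSimpArgs false
set_option linter.unusedSectionVars false

/-!
# Hermitian algebra for the antidiagonal form

The form `h(x, y) = ∑ x_i σ(y_{rev i})` on `K^n`, rank one operators, the adjoint and the
Eichler (Siegel) transformations.
-/

namespace Cfsg.Agent.Lib.Helper20.SuF

open Matrix

/-- an involution of a field, with the existence properties we need -/
structure Inv (K : Type*) [Field K] where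
  /-- the involution -/
  sg : K →+* K
  invol : ∀ x, sg (sg x) = x
  nontriv : ∃ a, sg a ≠ a
  tr_surj : ∀ x, sg x = x → ∃ y, y + sg y = x
  nm_surj : ∀ x, x ≠ 0 → sg x = x → ∃ t, t * sg t = x

variable {n : ℕ} {K : Type*} [Field K] (F : Inv K)

theorem Inv.sg_eq_zero {x : K} (h : F.sg x = 0) : x = 0 := by
  have := congrArg F.sg h
  rwa [F.invol, map_zero] at this

theorem Inv.sg_ne_zero {x : K} (h : x ≠ 0) : F.sg x ≠ 0 := fun h0 => h (F.sg_eq_zero h0)

theorem Inv.sg_injective : Function.Injective F.sg := by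
  intro x y h
  have := congrArg F.sg h
  rwa [F.invol, F.invol] at this

/-- the basis vectors -/
def eb (a : Fin n) : Fin n → K := fun x => if x = a then 1 else 0

theorem eb_apply (a x : Fin n) : (eb a : Fin n → K) x = if x = a then 1 else 0 := rfl

theorem eb_same (a : Fin n) : (eb a : Fin n → K) a = 1 := by rw [eb_apply, if_pos rfl]

theorem eb_ne {a x : Fin n} (h : x ≠ a) : (eb a : Fin n → K) x = 0 := by rw [eb_apply, if_neg h]

/-- the hermitian form -/
def hf (x y : Fin n → K) : K := ∑ i, x i * F.sg (y (Fin.rev i))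

theorem hf_add_left (x x' y : Fin n → K) : hf F (x + x') y = hf F x y + hf F x' y := by
  unfold hf
  rw [← Finset.sum_add_distrib]
  exact Finset.sum_congr rfl (fun i _ => by rw [Pi.add_apply, add_mul])

theorem hf_add_right (x y y' : Fin n → K) : hf F x (y + y') = hf F x y + hf F x y' := by
  unfold hf
  rw [← Finset.sum_add_distrib]
  exact Finset.sum_congr rfl (fun i _ => by rw [Pi.add_apply, map_add, mul_add])

theorem hf_smul_left (c : K) (x y : Fin n → K) : hf F (c • x) y = c * hf F x y := by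
  unfold hf
  rw [Finset.mul_sum]
  exact Finset.sum_congr rfl (fun i _ => by rw [Pi.smul_apply, smul_eq_mul, mul_assoc])

theorem hf_smul_right (c : K) (x y : Fin n → K) : hf F x (c • y) = F.sg c * hf F x y := by
  unfold hf
  rw [Finset.mul_sum]
  exact Finset.sum_congr rfl (fun i _ => by
    rw [Pi.smul_apply, smul_eq_mul, map_mul]; ring)

theorem hf_zero_left (y : Fin n → K) : hf F 0 y = 0 := by
  unfold hf
  exact Finset.sum_eq_zero (fun i _ => by rw [Pi.zero_apply, zero_mul])

theorem hf_zero_right (x : Fin n → K) : hf F x 0 = 0 := by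
  unfold hf
  exact Finset.sum_eq_zero (fun i _ => by rw [Pi.zero_apply, map_zero, mul_zero])

theorem hf_neg_left (x y : Fin n → K) : hf F (-x) y = - hf F x y := by
  have := hf_smul_left F (-1) x y
  rwa [neg_one_smul, neg_one_mul] at this

theorem hf_neg_right (x y : Fin n → K) : hf F x (-y) = - hf F x y := by
  have := hf_smul_right F (-1) x y
  rwa [neg_one_smul, map_neg, map_one, neg_one_mul] at this

theorem hf_sub_left (x x' y : Fin n → K) : hf F (x - x') y = hf F x y - hf F x' y := by
  rw [sub_eq_add_neg, hf_add_left, hf_neg_left, ← sub_eq_add_neg]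

theorem hf_sub_right (x y y' : Fin n → K) : hf F x (y - y') = hf F x y - hf F x y' := by
  rw [sub_eq_add_neg, hf_add_right, hf_neg_right, ← sub_eq_add_neg]

theorem hf_conj (x y : Fin n → K) : F.sg (hf F x y) = hf F y x := by
  unfold hf
  rw [map_sum, ← Equiv.sum_comp (Fin.revPerm : Equiv.Perm (Fin n))
    (fun i => y i * F.sg (x (Fin.rev i)))]
  refine Finset.sum_congr rfl (fun i _ => ?_)
  rw [Fin.revPerm_apply, Fin.rev_rev, map_mul, F.invol, mul_comm]

theorem hf_eb_right (x : Fin n → K) (a : Fin n) : hf F x (eb a) = x (Fin.rev a) := by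
  unfold hf
  rw [Finset.sum_eq_single (Fin.rev a)]
  · rw [Fin.rev_rev, eb_same, map_one, mul_one]
  · intro i _ hi
    have : Fin.rev i ≠ a := fun h => hi (by rw [← h, Fin.rev_rev])
    rw [eb_ne this, map_zero, mul_zero]
  · intro h
    exact absurd (Finset.mem_univ _) h

theorem hf_eb_left (a : Fin n) (y : Fin n → K) : hf F (eb a) y = F.sg (y (Fin.rev a)) := by
  rw [← hf_conj, hf_eb_right]

theorem hf_eb_eb (a b : Fin n) : hf F (eb a : Fin n → K) (eb b) = if a = Fin.rev b then 1 else 0 := by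
  rw [hf_eb_right, eb_apply]
  by_cases h : a = Fin.rev b
  · rw [if_pos h, if_pos h.symm]
  · rw [if_neg h, if_neg (fun h2 => h h2.symm)]

/-- the rank one operator `x ↦ h(x, b) a` -/
def Rm (a b : Fin n → K) : Matrix (Fin n) (Fin n) K :=
  Matrix.of fun i j => a i * F.sg (b (Fin.rev j))

theorem Rm_apply (a b : Fin n → K) (i j : Fin n) : Rm F a b i j = a i * F.sg (b (Fin.rev j)) := rfl

theorem Rm_mulVec (a b x : Fin n → K) : Rm F a b *ᵥ x = hf F x b • a := by
  funext i
  rw [Matrix.mulVec, dotProduct, Pi.smul_apply, smul_eq_mul]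
  unfold hf
  rw [Finset.sum_mul]
  exact Finset.sum_congr rfl (fun j _ => by rw [Rm_apply]; ring)

theorem Rm_mul_Rm (a b c d : Fin n → K) : Rm F a b * Rm F c d = hf F c b • Rm F a d := by
  ext i j
  rw [Matrix.mul_apply, Matrix.smul_apply, smul_eq_mul]
  unfold hf
  rw [Finset.sum_mul]
  exact Finset.sum_congr rfl (fun k _ => by rw [Rm_apply, Rm_apply, Rm_apply]; ring)

theorem mul_Rm (G : Matrix (Fin n) (Fin n) K) (a b : Fin n → K) :
    G * Rm F a b = Rm F (G *ᵥ a) b := by
  ext i j
  rw [Matrix.mul_apply, Rm_apply, Matrix.mulVec, dotProduct, Finset.sum_mul]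
  exact Finset.sum_congr rfl (fun k _ => by rw [Rm_apply]; ring)

/-- the adjoint with respect to the form -/
def adj (M : Matrix (Fin n) (Fin n) K) : Matrix (Fin n) (Fin n) K :=
  Matrix.of fun i j => F.sg (M (Fin.rev j) (Fin.rev i))

theorem adj_apply (M : Matrix (Fin n) (Fin n) K) (i j : Fin n) :
    adj F M i j = F.sg (M (Fin.rev j) (Fin.rev i)) := rfl

theorem adj_mul (M N : Matrix (Fin n) (Fin n) K) : adj F (M * N) = adj F N * adj F M := by
  ext i j
  rw [adj_apply, Matrix.mul_apply, Matrix.mul_apply, map_sum,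
    ← Equiv.sum_comp (Fin.revPerm : Equiv.Perm (Fin n))
      (fun l => adj F N i l * adj F M l j)]
  refine Finset.sum_congr rfl (fun k _ => ?_)
  rw [Fin.revPerm_apply, adj_apply, adj_apply, Fin.rev_rev, map_mul, mul_comm]

theorem adj_one : adj F (1 : Matrix (Fin n) (Fin n) K) = 1 := by
  ext i j
  rw [adj_apply]
  by_cases h : i = j
  · rw [h, Matrix.one_apply_eq, Matrix.one_apply_eq, map_one]
  · rw [Matrix.one_apply_ne h, Matrix.one_apply_ne (fun h2 => h (Fin.rev_injective h2).symm),
      map_zero]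

theorem adj_adj (M : Matrix (Fin n) (Fin n) K) : adj F (adj F M) = M := by
  ext i j
  rw [adj_apply, adj_apply, F.invol, Fin.rev_rev, Fin.rev_rev]

theorem adj_add (M N : Matrix (Fin n) (Fin n) K) : adj F (M + N) = adj F M + adj F N := by
  ext i j
  rw [adj_apply, Matrix.add_apply, Matrix.add_apply, map_add, adj_apply, adj_apply]

theorem adj_sub (M N : Matrix (Fin n) (Fin n) K) : adj F (M - N) = adj F M - adj F N := by
  ext i j
  rw [adj_apply, Matrix.sub_apply, Matrix.sub_apply, map_sub, adj_apply, adj_apply]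

theorem adj_smul (c : K) (M : Matrix (Fin n) (Fin n) K) : adj F (c • M) = F.sg c • adj F M := by
  ext i j
  rw [adj_apply, Matrix.smul_apply, Matrix.smul_apply, smul_eq_mul, smul_eq_mul, map_mul, adj_apply]

theorem adj_Rm (a b : Fin n → K) : adj F (Rm F a b) = Rm F b a := by
  ext i j
  rw [adj_apply, Rm_apply, Rm_apply, map_mul, F.invol, Fin.rev_rev, mul_comm]

theorem adj_injective : Function.Injective (adj F : Matrix (Fin n) (Fin n) K → _) := by
  intro M N h
  have := congrArg (adj F) h
  rwa [adj_adj, adj_adj] at this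

theorem adj_mulVec_apply (G : Matrix (Fin n) (Fin n) K) (b : Fin n → K) (j : Fin n) :
    F.sg ((adj F G *ᵥ b) (Fin.rev j)) = ∑ k, F.sg (b (Fin.rev k)) * G k j := by
  rw [Matrix.mulVec, dotProduct, map_sum,
    ← Equiv.sum_comp (Fin.revPerm : Equiv.Perm (Fin n))
      (fun l => F.sg (adj F G (Fin.rev j) l * b l))]
  refine Finset.sum_congr rfl (fun k _ => ?_)
  rw [Fin.revPerm_apply, map_mul, adj_apply, F.invol, Fin.rev_rev, Fin.rev_rev, mul_comm]

theorem Rm_mul (a b : Fin n → K) (G : Matrix (Fin n) (Fin n) K) :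
    Rm F a b * G = Rm F a (adj F G *ᵥ b) := by
  ext i j
  rw [Matrix.mul_apply, Rm_apply, adj_mulVec_apply, Finset.mul_sum]
  exact Finset.sum_congr rfl (fun k _ => by rw [Rm_apply]; ring)

theorem hf_mulVec_left (M : Matrix (Fin n) (Fin n) K) (x y : Fin n → K) :
    hf F (M *ᵥ x) y = hf F x (adj F M *ᵥ y) := by
  unfold hf
  simp_rw [adj_mulVec_apply, Matrix.mulVec, dotProduct, Finset.sum_mul, Finset.mul_sum]
  rw [Finset.sum_comm]
  exact Finset.sum_congr rfl (fun j _ => Finset.sum_congr rfl (fun i _ => by ring))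

theorem hf_unitary {G : Matrix (Fin n) (Fin n) K} (hG : adj F G * G = 1) (x y : Fin n → K) :
    hf F (G *ᵥ x) (G *ᵥ y) = hf F x y := by
  rw [hf_mulVec_left, Matrix.mulVec_mulVec, hG, Matrix.one_mulVec]

theorem Rm_add_left (a a' b : Fin n → K) : Rm F (a + a') b = Rm F a b + Rm F a' b := by
  ext i j
  rw [Matrix.add_apply, Rm_apply, Rm_apply, Rm_apply, Pi.add_apply, add_mul]

theorem Rm_add_right (a b b' : Fin n → K) : Rm F a (b + b') = Rm F a b + Rm F a b' := by
  ext i j
  rw [Matrix.add_apply, Rm_apply, Rm_apply, Rm_apply, Pi.add_apply, map_add, mul_add]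

theorem Rm_smul_left (c : K) (a b : Fin n → K) : Rm F (c • a) b = c • Rm F a b := by
  ext i j
  rw [Matrix.smul_apply, Rm_apply, Rm_apply, Pi.smul_apply, smul_eq_mul, smul_eq_mul, mul_assoc]

theorem Rm_smul_right (c : K) (a b : Fin n → K) : Rm F a (c • b) = F.sg c • Rm F a b := by
  ext i j
  rw [Matrix.smul_apply, Rm_apply, Rm_apply, Pi.smul_apply, smul_eq_mul, smul_eq_mul, map_mul]
  ring

theorem Rm_neg_left (a b : Fin n → K) : Rm F (-a) b = - Rm F a b := by
  have := Rm_smul_left F (-1) a b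
  rwa [neg_one_smul, neg_one_smul] at this

theorem Rm_neg_right (a b : Fin n → K) : Rm F a (-b) = - Rm F a b := by
  have := Rm_smul_right F (-1) a b
  rwa [neg_one_smul, map_neg, map_one, neg_one_smul] at this

theorem Rm_zero_left (b : Fin n → K) : Rm F 0 b = 0 := by
  ext i j
  rw [Rm_apply, Pi.zero_apply, zero_mul, Matrix.zero_apply]

theorem Rm_zero_right (a : Fin n → K) : Rm F a 0 = 0 := by
  ext i j
  rw [Rm_apply, Pi.zero_apply, map_zero, mul_zero, Matrix.zero_apply]

/-- the Eichler transformation `x ↦ x + h(x,u) w - h(x,w) u + c h(x,u) u` -/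
def Sm (u w : Fin n → K) (c : K) : Matrix (Fin n) (Fin n) K :=
  1 + Rm F w u - Rm F u w + c • Rm F u u

theorem Sm_apply (u w : Fin n → K) (c : K) (i j : Fin n) :
    Sm F u w c i j = (1 : Matrix (Fin n) (Fin n) K) i j + w i * F.sg (u (Fin.rev j)) -
      u i * F.sg (w (Fin.rev j)) + c * (u i * F.sg (u (Fin.rev j))) := by
  unfold Sm
  rw [Matrix.add_apply, Matrix.sub_apply, Matrix.add_apply, Matrix.smul_apply, Rm_apply, Rm_apply,
    Rm_apply, smul_eq_mul]

theorem Sm_mulVec (u w : Fin n → K) (c : K) (x : Fin n → K) :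
    Sm F u w c *ᵥ x = x + hf F x u • w - hf F x w • u + (c * hf F x u) • u := by
  unfold Sm
  rw [Matrix.add_mulVec, Matrix.sub_mulVec, Matrix.add_mulVec, Matrix.one_mulVec,
    Matrix.smul_mulVec, Rm_mulVec, Rm_mulVec, Rm_mulVec, smul_smul]

theorem Sm_zero (u : Fin n → K) : Sm F u 0 0 = 1 := by
  unfold Sm
  rw [Rm_zero_left, Rm_zero_right, zero_smul, add_zero, sub_zero, add_zero]

theorem adj_Sm (u w : Fin n → K) (c : K) : adj F (Sm F u w c) = Sm F u (-w) (F.sg c) := by
  unfold Sm
  rw [adj_add, adj_sub, adj_add, adj_one, adj_smul, adj_Rm, adj_Rm, adj_Rm, Rm_neg_left,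
    Rm_neg_right]
  abel

/-- the Heisenberg multiplication law -/
theorem Sm_mul_Sm {u w w' : Fin n → K} (c c' : K) (h1 : hf F u u = 0) (h2 : hf F w' u = 0)
    (h3 : hf F u w = 0) :
    Sm F u w c * Sm F u w' c' = Sm F u (w + w') (c + c' - hf F w' w) := by
  unfold Sm
  rw [Rm_add_left, Rm_add_right]
  simp only [mul_add, add_mul, mul_sub, sub_mul, mul_one, one_mul, Matrix.smul_mul,
    Matrix.mul_smul, Rm_mul_Rm, h1, h2, h3, zero_smul, smul_zero, sub_zero, add_zero, zero_add,
    add_smul, sub_smul]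
  abel

/-- the unitarity criterion for Eichler transformations -/
theorem Sm_unitary {u w : Fin n → K} {c : K} (h1 : hf F u u = 0) (h2 : hf F w u = 0)
    (h4 : c + F.sg c + hf F w w = 0) : adj F (Sm F u w c) * Sm F u w c = 1 := by
  have h3 : hf F u w = 0 := by rw [← hf_conj, h2, map_zero]
  have h3' : hf F u (-w) = 0 := by rw [hf_neg_right, h3, neg_zero]
  rw [adj_Sm, Sm_mul_Sm F _ _ h1 h2 h3', neg_add_cancel, hf_neg_right, sub_neg_eq_add]
  have : F.sg c + c + hf F w w = 0 := by rw [add_comm (F.sg c)]; exact h4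
  rw [this, Sm_zero]

/-- conjugating an Eichler transformation -/
theorem Sm_conj (G : Matrix (Fin n) (Fin n) K) (hG : G * adj F G = 1) (u w : Fin n → K) (c : K) :
    G * Sm F u w c * adj F G = Sm F (G *ᵥ u) (G *ᵥ w) c := by
  have key : ∀ a b : Fin n → K, G * Rm F a b * adj F G = Rm F (G *ᵥ a) (G *ᵥ b) := by
    intro a b
    rw [mul_Rm, Rm_mul, adj_adj]
  unfold Sm
  simp only [mul_add, add_mul, mul_sub, sub_mul, mul_one, Matrix.smul_mul, Matrix.mul_smul, key, hG]

/-- the determinant of a rank one perturbation of the identity -/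
theorem det_one_add_Rm (a b : Fin n → K) : (1 + Rm F a b).det = 1 + hf F a b := by
  have e : Rm F a b = replicateCol Unit a * replicateRow Unit (fun j => F.sg (b (Fin.rev j))) := by
    ext i j
    rw [Rm_apply, Matrix.mul_apply]
    simp
  rw [e, Matrix.det_one_add_replicateCol_mul_replicateRow]
  unfold hf
  rw [dotProduct]
  congr 1
  exact Finset.sum_congr rfl (fun i _ => mul_comm _ _)

theorem det_Sm {u w : Fin n → K} (c : K) (h1 : hf F u u = 0) (h2 : hf F w u = 0) :
    (Sm F u w c).det = 1 := by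
  have h3 : hf F u w = 0 := by rw [← hf_conj, h2, map_zero]
  have e : Sm F u w c = (1 + Rm F w u) * (1 + Rm F u (-w + F.sg c • u)) := by
    unfold Sm
    rw [Rm_add_right, Rm_neg_right, Rm_smul_right, F.invol]
    simp only [mul_add, add_mul, mul_one, one_mul, Matrix.mul_neg, Matrix.mul_smul, Rm_mul_Rm, h1,
      zero_smul, smul_zero, neg_zero, add_zero]
    abel
  rw [e, Matrix.det_mul, det_one_add_Rm, det_one_add_Rm, h2, hf_add_right, hf_neg_right, h3,
    hf_smul_right, h1]
  simp

end Cfsg.Agent.Lib.Helper20.SuF
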