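import Mathlib
import Cfsg.Agent.Lib.Helper20.SuAlg
import Cfsg.Agent.Lib.Helper20.PslRad

set_option autoImplicit false
set_option linter.style.haveILetI false
set_option linter.unusedSimpArgs false
set_option linter.unusedSectionVars false

/-!
# The special unitary group of the antidiagonal hermitian form, inside `SL_n(K)`
-/

namespace Cfsg.Agent.Lib.Helper20.SuF

open Matrix Subgroup Cfsg.Agent.Lib.Helper20.PslF

variable {n : ℕ} {K : Type*} [Field K] [Fintype K] (F : Inv K)

/-- the special unitary group of the antidiagonal form -/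
def SUJ : Subgroup (SLn n K) :=
  subgroupOfSubmonoid
    { carrier := {g | adj F (mt g) * mt g = 1}
      mul_mem' := fun {g h} hg hh => by
        show adj F (mt (g * h)) * mt (g * h) = 1
        have hg' : adj F (mt g) * mt g = 1 := hg
        have hh' : adj F (mt h) * mt h = 1 := hh
        rw [mt_mul, adj_mul, Matrix.mul_assoc, ← Matrix.mul_assoc (adj F (mt g)), hg',
          Matrix.one_mul, hh']
      one_mem' := by
        show adj F (mt (1 : SLn n K)) * mt (1 : SLn n K) = 1
        rw [mt_one, adj_one, Matrix.mul_one] }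

theorem mem_SUJ (g : SLn n K) : g ∈ SUJ F ↔ adj F (mt g) * mt g = 1 := Iff.rfl

theorem mt_inv_of_mem {g : SLn n K} (hg : g ∈ SUJ F) : mt g⁻¹ = adj F (mt g) := by
  have h1 := (mem_SUJ F g).mp hg
  have h2 := mt_mul_inv g
  calc mt g⁻¹ = (adj F (mt g) * mt g) * mt g⁻¹ := by rw [h1, Matrix.one_mul]
    _ = adj F (mt g) := by rw [Matrix.mul_assoc, h2, Matrix.mul_one]

theorem mul_adj_of_mem {g : SLn n K} (hg : g ∈ SUJ F) : mt g * adj F (mt g) = 1 := by
  rw [← mt_inv_of_mem F hg]; exact mt_mul_inv g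

theorem inv_apply_of_mem {g : SLn n K} (hg : g ∈ SUJ F) (a b : Fin n) :
    mt g⁻¹ a b = F.sg (mt g (Fin.rev b) (Fin.rev a)) := by
  rw [mt_inv_of_mem F hg, adj_apply]

theorem hf_mem {g : SLn n K} (hg : g ∈ SUJ F) (x y : Fin n → K) :
    hf F (mt g *ᵥ x) (mt g *ᵥ y) = hf F x y := hf_unitary F ((mem_SUJ F g).mp hg) x y

/-- Eichler transformations as elements of `SL_n` -/
def Sg (u w : Fin n → K) (c : K) (h1 : hf F u u = 0) (h2 : hf F w u = 0) : SLn n K :=
  mkSL (Sm F u w c) (det_Sm F c h1 h2)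

theorem mt_Sg (u w : Fin n → K) (c : K) (h1 : hf F u u = 0) (h2 : hf F w u = 0) :
    mt (Sg F u w c h1 h2) = Sm F u w c := rfl

theorem Sg_mem_SUJ {u w : Fin n → K} {c : K} (h1 : hf F u u = 0) (h2 : hf F w u = 0)
    (h4 : c + F.sg c + hf F w w = 0) : Sg F u w c h1 h2 ∈ SUJ F :=
  Sm_unitary F h1 h2 h4

theorem Sg_congr {u u' w w' : Fin n → K} {c c' : K} (h1 : hf F u u = 0) (h2 : hf F w u = 0)
    (h1' : hf F u' u' = 0) (h2' : hf F w' u' = 0) (eu : u = u') (ew : w = w') (ec : c = c') :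
    Sg F u w c h1 h2 = Sg F u' w' c' h1' h2' := by
  subst eu; subst ew; subst ec; rfl

/-- conjugation of Eichler transformations by unitary elements -/
theorem conj_Sg {g : SLn n K} (hg : g ∈ SUJ F) (u w : Fin n → K) (c : K) (h1 : hf F u u = 0)
    (h2 : hf F w u = 0) :
    g * Sg F u w c h1 h2 * g⁻¹ = Sg F (mt g *ᵥ u) (mt g *ᵥ w) c
      (by rw [hf_mem F hg]; exact h1) (by rw [hf_mem F hg]; exact h2) := by
  apply mt_ext
  rw [mt_mul, mt_mul, mt_inv_of_mem F hg, mt_Sg, mt_Sg]
  exact Sm_conj F (mt g) (mul_adj_of_mem F hg) u w c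

theorem Sg_mul_Sg {u w w' : Fin n → K} (c c' : K) (h1 : hf F u u = 0) (h2 : hf F w u = 0)
    (h2' : hf F w' u = 0) :
    Sg F u w c h1 h2 * Sg F u w' c' h1 h2' = Sg F u (w + w') (c + c' - hf F w' w) h1
      (by rw [hf_add_left, h2, h2', add_zero]) := by
  apply mt_ext
  rw [mt_mul, mt_Sg, mt_Sg, mt_Sg]
  have h3 : hf F u w = 0 := by rw [← hf_conj, h2, map_zero]
  exact Sm_mul_Sm F c c' h1 h2' h3

theorem Sg_zero (u : Fin n → K) (h1 : hf F u u = 0) :
    Sg F u 0 0 h1 (hf_zero_left F u) = 1 := by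
  apply mt_ext
  rw [mt_Sg, mt_one, Sm_zero]

/-- the three-block function attached to `k` -/
def b3 (k : ℕ) (x : Fin n) : ℕ := if (x : ℕ) < k then 0 else if (x : ℕ) < n - k then 1 else 2

theorem b3_mono (k : ℕ) (hk : 2 * k ≤ n) {x y : Fin n} (h : x ≤ y) : b3 k x ≤ b3 k y := by
  unfold b3
  rw [Fin.le_def] at h
  split_ifs <;> omega

/-- the parabolic subgroup pattern -/
def PJ (k : ℕ) : Subgroup (SLn n K) := BT (b3 (n := n) k)

theorem mem_PJ (k : ℕ) (g : SLn n K) :
    g ∈ (PJ k : Subgroup (SLn n K)) ↔ ∀ x y : Fin n, b3 k y < b3 k x → mt g x y = 0 :=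
  mem_BT _ g

theorem UT_le_PJ (k : ℕ) (hk : 2 * k ≤ n) : (UT : Subgroup (SLn n K)) ≤ PJ k := by
  intro g hg
  rw [mem_PJ]
  intro x y hxy
  apply (mem_UT g).mp hg x y
  by_contra h
  exact absurd (b3_mono k hk (not_lt.mp h)) (not_le.mpr hxy)

/-- the unipotent radical attached to a block function -/
def RB (b : Fin n → ℕ) : Subgroup (SLn n K) :=
  subgroupOfSubmonoid
    { carrier := {g | ∀ x y : Fin n, ¬ b x < b y →
        mt g x y = (1 : Matrix (Fin n) (Fin n) K) x y}
      mul_mem' := fun {g h} hg hh => by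
        intro x y hxy
        rw [mt_mul, Matrix.mul_apply]
        by_cases hxy' : x = y
        · subst hxy'
          rw [Finset.sum_eq_single x]
          · rw [hg x x (lt_irrefl _), hh x x (lt_irrefl _), Matrix.one_apply_eq, mul_one]
          · intro z _ hz
            by_cases h1 : b x < b z
            · rw [hh z x (not_lt.mpr h1.le), Matrix.one_apply_ne hz, mul_zero]
            · rw [hg x z h1, Matrix.one_apply_ne hz.symm, zero_mul]
          · intro hx
            exact absurd (Finset.mem_univ x) hx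
        · rw [Matrix.one_apply_ne hxy']
          apply Finset.sum_eq_zero
          intro z _
          by_cases h1 : b x < b z
          · have h2 : ¬ b z < b y := fun h2 => hxy (h1.trans h2)
            have hzy : z ≠ y := by
              rintro rfl
              exact hxy h1
            rw [hh z y h2, Matrix.one_apply_ne hzy, mul_zero]
          · by_cases hxz : x = z
            · subst hxz
              rw [hh x y hxy, Matrix.one_apply_ne hxy', mul_zero]
            · rw [hg x z h1, Matrix.one_apply_ne hxz, zero_mul]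
      one_mem' := by
        intro x y _
        rw [mt_one] }

theorem mem_RB (b : Fin n → ℕ) (g : SLn n K) :
    g ∈ (RB b : Subgroup (SLn n K)) ↔ ∀ x y : Fin n, ¬ b x < b y →
      mt g x y = (1 : Matrix (Fin n) (Fin n) K) x y := Iff.rfl

/-- the unipotent radical of the parabolic `PJ k` -/
def QJ (k : ℕ) : Subgroup (SLn n K) := RB (b3 (n := n) k)

theorem mem_QJ (k : ℕ) (g : SLn n K) :
    g ∈ (QJ k : Subgroup (SLn n K)) ↔ ∀ x y : Fin n, ¬ b3 k x < b3 k y →
      mt g x y = (1 : Matrix (Fin n) (Fin n) K) x y := Iff.rfl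

theorem QJ_le_UU (k : ℕ) (hk : 2 * k ≤ n) : (QJ k : Subgroup (SLn n K)) ≤ UU := by
  intro g hg
  rw [mem_UU]
  refine ⟨fun x y hxy => ?_, fun x => ?_⟩
  · rw [(mem_QJ k g).mp hg x y (not_lt.mpr (b3_mono k hk hxy.le)),
      Matrix.one_apply_ne (ne_of_gt hxy)]
  · rw [(mem_QJ k g).mp hg x x (lt_irrefl _), Matrix.one_apply_eq]

/-- block triangular matrices normalize the radical -/
theorem BT_conj_RB (b : Fin n → ℕ) {g r : SLn n K} (hg : g ∈ (BT b : Subgroup (SLn n K)))
    (hr : r ∈ (RB b : Subgroup (SLn n K))) : g * r * g⁻¹ ∈ (RB b : Subgroup (SLn n K)) := by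
  have hg' : g⁻¹ ∈ (BT b : Subgroup (SLn n K)) := inv_mem hg
  rw [mem_RB]
  intro x y hxy
  set N : Matrix (Fin n) (Fin n) K := (mt r) - 1 with hN
  have hNz : ∀ a c : Fin n, ¬ b a < b c → N a c = 0 := by
    intro a c hac
    rw [hN, Matrix.sub_apply, (mem_RB b r).mp hr a c hac, sub_self]
  have e1 : (mt r) = 1 + N := by rw [hN]; abel
  have e2 : (mt (g * r * g⁻¹)) = 1 + (mt g) * N * (mt g⁻¹) := by
    have h1 : (mt (g * g⁻¹)) = 1 := by rw [mul_inv_cancel, mt_one]
    rw [mt_mul] at h1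
    rw [mt_mul, mt_mul, e1, mul_add, add_mul, mul_one, h1]
  rw [e2, Matrix.add_apply]
  have e3 : (mt g * N * (mt g⁻¹)) x y = 0 := by
    rw [Matrix.mul_apply]
    apply Finset.sum_eq_zero
    intro w _
    rw [Matrix.mul_apply, Finset.sum_mul]
    apply Finset.sum_eq_zero
    intro z _
    by_cases hzw : b z < b w
    · by_cases hx : b z < b x
      · rw [(mem_BT b g).mp hg x z hx, zero_mul, zero_mul]
      · have hy : b y < b w := by
          have h1 : b x ≤ b z := not_lt.mp hx
          have h2 : b y ≤ b x := not_lt.mp hxy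
          omega
        rw [(mem_BT b g⁻¹).mp hg' w y hy, mul_zero]
    · rw [hNz z w hzw, mul_zero, zero_mul]
  rw [e3, add_zero]

theorem BT_le_normalizer_RB (b : Fin n → ℕ) :
    (BT b : Subgroup (SLn n K)) ≤ normalizer ((RB b : Subgroup (SLn n K)) : Set (SLn n K)) := by
  intro g hg
  rw [mem_normalizer_iff]
  intro r
  constructor
  · exact BT_conj_RB b hg
  · intro h
    have := BT_conj_RB b (inv_mem hg) h
    have e : g⁻¹ * (g * r * g⁻¹) * g⁻¹⁻¹ = r := by group
    rwa [e] at this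

theorem PJ_conj_QJ (k : ℕ) {g r : SLn n K} (hg : g ∈ (PJ k : Subgroup (SLn n K)))
    (hr : r ∈ (QJ k : Subgroup (SLn n K))) : g * r * g⁻¹ ∈ (QJ k : Subgroup (SLn n K)) :=
  BT_conj_RB _ hg hr

end Cfsg.Agent.Lib.Helper20.SuF
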