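import Mathlib
import Cfsg.Agent.Lib.Helper20.SuGrp

set_option autoImplicit false
set_option linter.style.haveILetI false
set_option linter.unusedSimpArgs false
set_option linter.unusedSectionVars false

/-!
# The twist `g ↦ g * (adj g)⁻¹`, a homomorphism from block subgroups of `SL_n` to `SUJ`
-/

namespace Cfsg.Agent.Lib.Helper20.SuF

open Matrix Subgroup Cfsg.Agent.Lib.Helper20.PslF

variable {n : ℕ} {K : Type*} [Field K] [Fintype K] (F : Inv K)

theorem adj_eq_map (M : Matrix (Fin n) (Fin n) K) :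
    adj F M = F.sg.mapMatrix ((M.submatrix (Fin.revPerm : Equiv.Perm (Fin n))
      (Fin.revPerm : Equiv.Perm (Fin n)))ᵀ) := by
  ext i j
  rfl

theorem det_adj (M : Matrix (Fin n) (Fin n) K) : (adj F M).det = F.sg M.det := by
  rw [adj_eq_map, ← RingHom.map_det, Matrix.det_transpose, Matrix.det_submatrix_equiv_self]

/-- the adjoint as an element of `SL_n` -/
def adjG (g : SLn n K) : SLn n K := mkSL (adj F (mt g)) (by rw [det_adj, mt_det, map_one])

theorem mt_adjG (g : SLn n K) : mt (adjG F g) = adj F (mt g) := rfl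

theorem adjG_mul (g h : SLn n K) : adjG F (g * h) = adjG F h * adjG F g := by
  apply mt_ext
  rw [mt_adjG, mt_mul, adj_mul, mt_mul, mt_adjG, mt_adjG]

theorem adjG_one : adjG F (1 : SLn n K) = 1 := by
  apply mt_ext
  rw [mt_adjG, mt_one, adj_one]

theorem adjG_adjG (g : SLn n K) : adjG F (adjG F g) = g := by
  apply mt_ext
  rw [mt_adjG, mt_adjG, adj_adj]

theorem adjG_inv (g : SLn n K) : adjG F g⁻¹ = (adjG F g)⁻¹ := by
  rw [eq_inv_iff_mul_eq_one, ← adjG_mul, mul_inv_cancel, adjG_one]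

theorem mem_SUJ_iff_adjG (g : SLn n K) : g ∈ SUJ F ↔ adjG F g * g = 1 := by
  rw [mem_SUJ]
  constructor
  · intro h
    apply mt_ext
    rw [mt_mul, mt_adjG, h, mt_one]
  · intro h
    have := congrArg (fun x : SLn n K => mt x) h
    simp only [mt_mul, mt_adjG, mt_one] at this
    exact this

/-- the twist -/
def theta (g : SLn n K) : SLn n K := g * (adjG F g)⁻¹

theorem theta_mem_of_commute {g : SLn n K} (h : g * (adjG F g)⁻¹ = (adjG F g)⁻¹ * g) :
    theta F g ∈ SUJ F := by
  rw [mem_SUJ_iff_adjG]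
  unfold theta
  rw [adjG_mul, adjG_inv, adjG_adjG, h]
  group

/-- matrices supported on a set of indices -/
def LS (S : Fin n → Prop) : Subgroup (SLn n K) :=
  subgroupOfSubmonoid
    { carrier := {g | ∀ x y : Fin n, ¬ (S x ∧ S y) →
        mt g x y = (1 : Matrix (Fin n) (Fin n) K) x y}
      mul_mem' := fun {g h} hg hh => by
        intro x y hxy
        rw [mt_mul, Matrix.mul_apply]
        by_cases hx : S x
        · have hy : ¬ S y := fun hy => hxy ⟨hx, hy⟩
          rw [Finset.sum_eq_single y]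
          · rw [hh y y (fun h => hy h.1), Matrix.one_apply_eq, mul_one]
            exact hg x y hxy
          · intro z _ hz
            rw [hh z y (fun h => hy h.2), Matrix.one_apply_ne hz, mul_zero]
          · intro h
            exact absurd (Finset.mem_univ y) h
        · rw [Finset.sum_eq_single x]
          · rw [hg x x (fun h => hx h.1), Matrix.one_apply_eq, one_mul]
            exact hh x y hxy
          · intro z _ hz
            rw [hg x z (fun h => hx h.1), Matrix.one_apply_ne hz.symm, zero_mul]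
          · intro h
            exact absurd (Finset.mem_univ x) h
      one_mem' := by
        intro x y _
        rw [mt_one] }

theorem mem_LS (S : Fin n → Prop) (g : SLn n K) :
    g ∈ (LS S : Subgroup (SLn n K)) ↔ ∀ x y : Fin n, ¬ (S x ∧ S y) →
      mt g x y = (1 : Matrix (Fin n) (Fin n) K) x y := Iff.rfl

theorem adjG_mem_LS {S : Fin n → Prop} {g : SLn n K} (hg : g ∈ (LS S : Subgroup (SLn n K))) :
    adjG F g ∈ (LS (fun x => S (Fin.rev x)) : Subgroup (SLn n K)) := by
  rw [mem_LS]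
  intro x y hxy
  rw [mt_adjG, adj_apply, (mem_LS S g).mp hg (Fin.rev y) (Fin.rev x) (fun h => hxy ⟨h.2, h.1⟩)]
  by_cases h : x = y
  · rw [h, Matrix.one_apply_eq, Matrix.one_apply_eq, map_one]
  · rw [Matrix.one_apply_ne h, Matrix.one_apply_ne (fun h2 => h (Fin.rev_injective h2).symm),
      map_zero]

theorem LS_commute {S S' : Fin n → Prop} (hSS' : ∀ x, ¬ (S x ∧ S' x)) {g h : SLn n K}
    (hg : g ∈ (LS S : Subgroup (SLn n K))) (hh : h ∈ (LS S' : Subgroup (SLn n K))) :
    g * h = h * g := by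
  rw [mem_LS] at hg hh
  apply mt_ext
  rw [mt_mul, mt_mul]
  ext x y
  rw [Matrix.mul_apply, Matrix.mul_apply]
  by_cases hx : S x
  · have hx' : ¬ S' x := fun h => hSS' x ⟨hx, h⟩
    have l : ∀ z, mt g x z * mt h z y = mt g x z * (1 : Matrix (Fin n) (Fin n) K) z y := by
      intro z
      by_cases hz : S z
      · rw [hh z y (fun h => hSS' z ⟨hz, h.1⟩)]
      · by_cases hzx : z = x
        · rw [hzx, hh x y (fun h => hx' h.1)]
        · rw [hg x z (fun h => hz h.2), Matrix.one_apply_ne (fun h => hzx h.symm), zero_mul,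
            zero_mul]
    have r : ∀ z, mt h x z * mt g z y = (1 : Matrix (Fin n) (Fin n) K) x z * mt g z y := by
      intro z
      rw [hh x z (fun h => hx' h.1)]
    rw [Finset.sum_congr rfl (fun z _ => l z), Finset.sum_congr rfl (fun z _ => r z),
      ← Matrix.mul_apply, ← Matrix.mul_apply, Matrix.mul_one, Matrix.one_mul]
  · have l : ∀ z, mt g x z * mt h z y = (1 : Matrix (Fin n) (Fin n) K) x z * mt h z y := by
      intro z
      rw [hg x z (fun h => hx h.1)]
    have r : ∀ z, mt h x z * mt g z y = mt h x z * (1 : Matrix (Fin n) (Fin n) K) z y := by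
      intro z
      by_cases hz : S' z
      · rw [hg z y (fun h => hSS' z ⟨h.1, hz⟩)]
      · by_cases hzx : z = x
        · rw [hzx, hg x y (fun h => hx h.1)]
        · rw [hh x z (fun h => hz h.2), Matrix.one_apply_ne (fun h => hzx h.symm), zero_mul,
            zero_mul]
    rw [Finset.sum_congr rfl (fun z _ => l z), Finset.sum_congr rfl (fun z _ => r z),
      ← Matrix.mul_apply, ← Matrix.mul_apply, Matrix.mul_one, Matrix.one_mul]

theorem theta_one : theta F (1 : SLn n K) = 1 := by
  unfold theta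
  rw [adjG_one, inv_one, mul_one]

section twist

variable {S : Fin n → Prop} (hS : ∀ x, ¬ (S x ∧ S (Fin.rev x)))
include hS

theorem commute_adjG_inv {g h : SLn n K} (hg : g ∈ (LS S : Subgroup (SLn n K)))
    (hh : h ∈ (LS S : Subgroup (SLn n K))) : h * (adjG F g)⁻¹ = (adjG F g)⁻¹ * h :=
  LS_commute hS hh (inv_mem (adjG_mem_LS F hg))

theorem theta_mem {g : SLn n K} (hg : g ∈ (LS S : Subgroup (SLn n K))) : theta F g ∈ SUJ F :=
  theta_mem_of_commute F (commute_adjG_inv F hS hg hg)

theorem theta_mul {g h : SLn n K} (hg : g ∈ (LS S : Subgroup (SLn n K)))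
    (hh : h ∈ (LS S : Subgroup (SLn n K))) : theta F (g * h) = theta F g * theta F h := by
  unfold theta
  rw [adjG_mul, _root_.mul_inv_rev, mul_assoc g h, ← mul_assoc h, commute_adjG_inv F hS hg hh]
  group

theorem theta_pow {g : SLn n K} (hg : g ∈ (LS S : Subgroup (SLn n K))) (m : ℕ) :
    theta F (g ^ m) = (theta F g) ^ m := by
  induction m with
  | zero => rw [pow_zero, pow_zero, theta_one]
  | succ m ih => rw [pow_succ, pow_succ, theta_mul F hS (pow_mem hg m) hg, ih]

end twist

theorem b3_rev {k : ℕ} (hk : 2 * k ≤ n) (x : Fin n) : b3 k (Fin.rev x) = 2 - b3 k x := by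
  unfold b3
  rw [Fin.val_rev]
  have := x.2
  split_ifs <;> omega

theorem adjG_mem_PJ {k : ℕ} (hk : 2 * k ≤ n) {g : SLn n K}
    (hg : g ∈ (PJ k : Subgroup (SLn n K))) : adjG F g ∈ (PJ k : Subgroup (SLn n K)) := by
  rw [mem_PJ] at hg ⊢
  intro x y hxy
  rw [mt_adjG, adj_apply, hg (Fin.rev y) (Fin.rev x) (by
    rw [b3_rev hk, b3_rev hk]
    have h1 : b3 k x ≤ 2 := by unfold b3; split_ifs <;> omega
    omega), map_zero]

theorem theta_mem_PJ {k : ℕ} (hk : 2 * k ≤ n) {g : SLn n K}
    (hg : g ∈ (PJ k : Subgroup (SLn n K))) : theta F g ∈ (PJ k : Subgroup (SLn n K)) :=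
  mul_mem hg (inv_mem (adjG_mem_PJ F hk hg))

theorem adjG_mem_UT {g : SLn n K} (hg : g ∈ (UT : Subgroup (SLn n K))) :
    adjG F g ∈ (UT : Subgroup (SLn n K)) := by
  rw [mem_UT] at hg ⊢
  intro x y hxy
  rw [mt_adjG, adj_apply, hg (Fin.rev y) (Fin.rev x) (Fin.rev_lt_rev.mpr hxy), map_zero]

theorem adjG_mem_UU {g : SLn n K} (hg : g ∈ (UU : Subgroup (SLn n K))) :
    adjG F g ∈ (UU : Subgroup (SLn n K)) := by
  rw [mem_UU] at hg ⊢
  refine ⟨fun x y hxy => ?_, fun x => ?_⟩
  · rw [mt_adjG, adj_apply, hg.1 (Fin.rev y) (Fin.rev x) (Fin.rev_lt_rev.mpr hxy), map_zero]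
  · rw [mt_adjG, adj_apply, hg.2, map_one]

/-- the twist of a diagonal matrix -/
theorem theta_diag {g : SLn n K} (f : Fin n → K) (hf : ∀ x, f x ≠ 0) (hg : mt g = diagonal f) :
    mt (theta F g) = diagonal (fun x => f x * (F.sg (f (Fin.rev x)))⁻¹) := by
  have h1 : mt (adjG F g) = diagonal (fun x => F.sg (f (Fin.rev x))) := by
    rw [mt_adjG, hg]
    ext x y
    rw [adj_apply]
    by_cases h : x = y
    · rw [h, Matrix.diagonal_apply_eq, Matrix.diagonal_apply_eq]
    · rw [Matrix.diagonal_apply_ne _ h,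
        Matrix.diagonal_apply_ne _ (fun h2 => h (Fin.rev_injective h2).symm), map_zero]
  have h2 : mt (adjG F g)⁻¹ = diagonal (fun x => (F.sg (f (Fin.rev x)))⁻¹) := by
    have e : mt (adjG F g) * diagonal (fun x => (F.sg (f (Fin.rev x)))⁻¹) = 1 := by
      rw [h1, Matrix.diagonal_mul_diagonal]
      have : (fun i => F.sg (f (Fin.rev i)) * (F.sg (f (Fin.rev i)))⁻¹) = fun _ => (1 : K) := by
        funext i
        exact mul_inv_cancel₀ (F.sg_ne_zero (hf _))
      rw [this, Matrix.diagonal_one]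
    calc mt (adjG F g)⁻¹ = mt (adjG F g)⁻¹ * (mt (adjG F g) *
          diagonal (fun x => (F.sg (f (Fin.rev x)))⁻¹)) := by rw [e, Matrix.mul_one]
      _ = diagonal (fun x => (F.sg (f (Fin.rev x)))⁻¹) := by
          rw [← Matrix.mul_assoc, mt_inv_mul, Matrix.one_mul]
  unfold theta
  rw [mt_mul, hg, h2, Matrix.diagonal_mul_diagonal]

end Cfsg.Agent.Lib.Helper20.SuF
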