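import Mathlib
import Cfsg.Agent.Lib.Helper20.SuTwist
import Cfsg.Agent.Lib.Helper20.BNCrit

set_option autoImplicit false
set_option linter.style.haveILetI false
set_option linter.unusedSimpArgs false
set_option linter.unusedSectionVars false

/-!
# Definitions for the `(B, N)`-pair of `SUJ` (hive S2546, helper20)

Everything lives in `SL_n(K)`; `SUJ F` is the special unitary group of the antidiagonal form.
`B = UT ⊓ SUJ F`, `N = Mon ⊓ SUJ F`, simple reflections `sr F i` for `i : Fin (n / 2)`,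
root subgroups `Xr F i`.
-/

namespace Cfsg.Agent.Lib.Helper20.SuBN

open Matrix Subgroup Cfsg.Agent.Lib.Helper20.PslF Cfsg.Agent.Lib.Helper20.SuF

variable {n : ℕ} {K : Type*} [Field K] [Fintype K]

/-- `g` is monomial with permutation `π`: column `j` is supported in row `π j`
(so `g e_j = (mt g (π j) j) • e_(π j)`). -/
def IsMon (g : SLn n K) (π : Equiv.Perm (Fin n)) : Prop := ∀ i j, i ≠ π j → mt g i j = 0

theorem isMon_one : IsMon (1 : SLn n K) 1 := by
  intro i j h
  rw [Equiv.Perm.one_apply] at h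
  rw [mt_one, Matrix.one_apply_ne h]

theorem IsMon.mul {g h : SLn n K} {π ρ : Equiv.Perm (Fin n)} (hg : IsMon g π) (hh : IsMon h ρ) :
    IsMon (g * h) (π * ρ) := by
  intro i j hij
  rw [mt_mul, Matrix.mul_apply]
  apply Finset.sum_eq_zero
  intro k _
  by_cases hk : k = ρ j
  · subst hk
    rw [hg i (ρ j) hij, zero_mul]
  · rw [hh k j hk, mul_zero]

/-- the monomial subgroup of `SL_n` -/
def Mon : Subgroup (SLn n K) :=
  subgroupOfSubmonoid
    { carrier := {g | ∃ π : Equiv.Perm (Fin n), IsMon g π}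
      mul_mem' := fun {_ _} hg hh => by
        obtain ⟨π, hπ⟩ := hg
        obtain ⟨ρ, hρ⟩ := hh
        exact ⟨π * ρ, hπ.mul hρ⟩
      one_mem' := ⟨1, isMon_one⟩ }

theorem mem_Mon (g : SLn n K) : g ∈ (Mon : Subgroup (SLn n K)) ↔ ∃ π : Equiv.Perm (Fin n), IsMon g π :=
  Iff.rfl

/-- diagonal entries multiply on lower triangular matrices -/
theorem lower_diag_mul {g h : SLn n K} (hg : ∀ x y : Fin n, x < y → mt g x y = 0)
    (hh : ∀ x y : Fin n, x < y → mt h x y = 0) (x : Fin n) :
    (mt (g * h)) x x = (mt g) x x * (mt h) x x := by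
  rw [mt_mul, Matrix.mul_apply]
  apply Finset.sum_eq_single x
  · intro z _ hz
    rcases lt_or_gt_of_ne hz with h1 | h1
    · rw [hh z x h1, mul_zero]
    · rw [hg x z h1, zero_mul]
  · intro hx
    exact absurd (Finset.mem_univ x) hx

theorem lower_mul {g h : SLn n K} (hg : ∀ x y : Fin n, x < y → mt g x y = 0)
    (hh : ∀ x y : Fin n, x < y → mt h x y = 0) : ∀ x y : Fin n, x < y → mt (g * h) x y = 0 := by
  intro x y hxy
  rw [mt_mul, Matrix.mul_apply]
  apply Finset.sum_eq_zero
  intro z _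
  by_cases h1 : x < z
  · rw [hg x z h1, zero_mul]
  · rw [hh z y (lt_of_le_of_lt (not_lt.mp h1) hxy), mul_zero]

/-- the lower unitriangular subgroup -/
def LL : Subgroup (SLn n K) :=
  subgroupOfSubmonoid
    { carrier := {g | (∀ x y : Fin n, x < y → mt g x y = 0) ∧ ∀ x : Fin n, mt g x x = 1}
      mul_mem' := fun {g h} hg hh => by
        refine ⟨lower_mul hg.1 hh.1, fun x => ?_⟩
        rw [lower_diag_mul hg.1 hh.1, hg.2, hh.2, one_mul]
      one_mem' := by
        refine ⟨fun x y hxy => ?_, fun x => ?_⟩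
        · rw [mt_one, Matrix.one_apply_ne hxy.ne]
        · rw [mt_one, Matrix.one_apply_eq] }

theorem mem_LL (g : SLn n K) : g ∈ (LL : Subgroup (SLn n K)) ↔
    (∀ x y : Fin n, x < y → mt g x y = 0) ∧ ∀ x : Fin n, mt g x x = 1 := Iff.rfl

/-! ### The simple reflections -/

/-- the `i`-th index of the first half -/
def fa (i : Fin (n / 2)) : Fin n := ⟨i, by have := i.2; omega⟩

/-- the next index: `i + 1` if it is still in the first half, else `rev i` -/
def fb (i : Fin (n / 2)) : Fin n :=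
  if h : (i : ℕ) + 1 < n / 2 then ⟨(i : ℕ) + 1, by omega⟩ else Fin.rev (fa i)

/-- the simple reflection `r_i` of the centraliser of `rev` in `S_n`:
`(i, i+1)(rev (i+1), rev i)` for `i + 1 < n / 2`, and `(i, rev i)` for the last index. -/
def rr (i : Fin (n / 2)) : Equiv.Perm (Fin n) :=
  if (i : ℕ) + 1 < n / 2 then
    Equiv.swap (fa i) (fb i) * Equiv.swap (Fin.rev (fb i)) (Fin.rev (fa i))
  else Equiv.swap (fa i) (Fin.rev (fa i))

theorem exists_skew (F : SuF.Inv K) : ∃ c : K, c ≠ 0 ∧ c + F.sg c = 0 := by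
  obtain ⟨a, ha⟩ := F.nontriv
  refine ⟨a - F.sg a, ?_, ?_⟩
  · intro h
    exact ha (sub_eq_zero.mp h).symm
  · rw [map_sub, F.invol]; ring

/-- a nonzero skew element -/
noncomputable def skw (F : SuF.Inv K) : K := Classical.choose (exists_skew F)

theorem skw_ne (F : SuF.Inv K) : skw F ≠ 0 := (Classical.choose_spec (exists_skew F)).1

theorem skw_add (F : SuF.Inv K) : skw F + F.sg (skw F) = 0 := (Classical.choose_spec (exists_skew F)).2

/-- the coefficients of the representative of `r_i`: all `1` for a short reflection; for the last one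
`skw` at `i`, `(σ skw)⁻¹` at `rev i`, `1` elsewhere -/
noncomputable def sd (F : SuF.Inv K) (i : Fin (n / 2)) (j : Fin n) : K :=
  if (i : ℕ) + 1 < n / 2 then 1
  else if j = fa i then skw F else if j = Fin.rev (fa i) then (F.sg (skw F))⁻¹ else 1

/-- the monomial matrix with permutation `π` and coefficients `d`: `e_j ↦ d j • e_(π j)` -/
def monM (π : Equiv.Perm (Fin n)) (d : Fin n → K) : Matrix (Fin n) (Fin n) K :=
  Matrix.of fun i j => if i = π j then d j else 0

theorem monM_apply (π : Equiv.Perm (Fin n)) (d : Fin n → K) (i j : Fin n) :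
    monM π d i j = if i = π j then d j else 0 := rfl

open Classical in
/-- the representative of `r_i` in `SL_n` (it has determinant one: leaf `det_srM`) -/
noncomputable def sr (F : SuF.Inv K) (i : Fin (n / 2)) : SLn n K :=
  if h : (monM (rr i) (sd F i)).det = 1 then mkSL (monM (rr i) (sd F i)) h else 1

/-- the root subgroup of `r_i`: the unitary unitriangular matrices made lower unitriangular by `sr i` -/
noncomputable def Xr (F : SuF.Inv K) (i : Fin (n / 2)) : Subgroup (SLn n K) :=
  ((UU : Subgroup (SLn n K)) ⊓ SUJ F) ⊓ (LL : Subgroup (SLn n K)).comap (MulAut.conj (sr F i)).toMonoidHom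

theorem mem_Xr (F : SuF.Inv K) (i : Fin (n / 2)) (x : SLn n K) :
    x ∈ Xr F i ↔ x ∈ (UU : Subgroup (SLn n K)) ∧ x ∈ SUJ F ∧
      sr F i * x * (sr F i)⁻¹ ∈ (LL : Subgroup (SLn n K)) := by
  unfold Xr
  rw [Subgroup.mem_inf, Subgroup.mem_inf, Subgroup.mem_comap]
  simp only [MulEquiv.coe_toMonoidHom, MulAut.conj_apply, and_assoc]


/-- the block function of `r_i`: a monotone map `Fin n → ℕ` whose fibres are the blocks of the
rank one Levi subgroup of `r_i` (`{i, i+1}` and `{rev (i+1), rev i}` for a short reflection,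
the interval `[i, rev i]` for the last one; all other fibres are singletons) -/
def bk (i : Fin (n / 2)) (x : Fin n) : ℕ :=
  if (i : ℕ) + 1 < n / 2 then
    (if x = fb i then ((fa i : Fin n) : ℕ)
      else if x = Fin.rev (fa i) then ((Fin.rev (fb i) : Fin n) : ℕ) else (x : ℕ))
  else (if fa i ≤ x ∧ x ≤ Fin.rev (fa i) then ((fa i : Fin n) : ℕ) else (x : ℕ))

/-- diagonal matrices are upper triangular -/
theorem isMon_one_mem_UT {g : SLn n K} (h : IsMon g 1) : g ∈ (UT : Subgroup (SLn n K)) := by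
  rw [mem_UT]
  intro x y hxy
  apply h
  rw [Equiv.Perm.one_apply]
  exact hxy.ne'

/-- the twist `g ↦ adj(g)⁻¹`, an automorphism of `SL_n` whose fixed points are `SUJ` -/
noncomputable def tau (F : SuF.Inv K) (g : SLn n K) : SLn n K := (adjG F g)⁻¹

theorem tau_mul (F : SuF.Inv K) (g h : SLn n K) : tau F (g * h) = tau F g * tau F h := by
  unfold tau
  rw [adjG_mul, _root_.mul_inv_rev]

theorem tau_one (F : SuF.Inv K) : tau F (1 : SLn n K) = 1 := by
  unfold tau
  rw [adjG_one, inv_one]

theorem tau_inv (F : SuF.Inv K) (g : SLn n K) : tau F g⁻¹ = (tau F g)⁻¹ := by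
  unfold tau
  rw [adjG_inv]

theorem tau_tau (F : SuF.Inv K) (g : SLn n K) : tau F (tau F g) = g := by
  unfold tau
  rw [adjG_inv, inv_inv, adjG_adjG]

theorem mem_SUJ_iff_tau (F : SuF.Inv K) (g : SLn n K) : g ∈ SUJ F ↔ tau F g = g := by
  unfold tau
  rw [mem_SUJ_iff_adjG, inv_eq_iff_eq_inv, eq_comm, ← mul_eq_one_iff_eq_inv]
  exact eq_comm

theorem tau_mem_UT (F : SuF.Inv K) {g : SLn n K} (hg : g ∈ (UT : Subgroup (SLn n K))) :
    tau F g ∈ (UT : Subgroup (SLn n K)) := inv_mem (adjG_mem_UT F hg)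

theorem tau_mem_UU (F : SuF.Inv K) {g : SLn n K} (hg : g ∈ (UU : Subgroup (SLn n K))) :
    tau F g ∈ (UU : Subgroup (SLn n K)) := inv_mem (adjG_mem_UU F hg)

end Cfsg.Agent.Lib.Helper20.SuBN
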