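import Mathlib
import Cfsg.Agent.Lib.Helper20.SuGrp

set_option autoImplicit false
set_option linter.style.haveILetI false
set_option linter.unusedSimpArgs false
set_option linter.unusedSectionVars false

/-!
# Total Eichler elements and the Heisenberg radical of the point stabilizer
-/

namespace Cfsg.Agent.Lib.Helper20.SuF

open Matrix Subgroup Cfsg.Agent.Lib.Helper20.PslF

variable {n : ℕ} {K : Type*} [Field K] [Fintype K] (F : Inv K)

open Classical in
/-- the Eichler element, equal to `1` when the side conditions fail -/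
noncomputable def SgT (u w : Fin n → K) (c : K) : SLn n K :=
  if h : hf F u u = 0 ∧ hf F w u = 0 then Sg F u w c h.1 h.2 else 1

theorem SgT_eq {u w : Fin n → K} (c : K) (h1 : hf F u u = 0) (h2 : hf F w u = 0) :
    SgT F u w c = Sg F u w c h1 h2 := dif_pos ⟨h1, h2⟩

theorem mt_SgT {u w : Fin n → K} (c : K) (h1 : hf F u u = 0) (h2 : hf F w u = 0) :
    mt (SgT F u w c) = Sm F u w c := by
  rw [SgT_eq F c h1 h2, mt_Sg]

theorem conj_SgT {g : SLn n K} (hg : g ∈ SUJ F) (u w : Fin n → K) (c : K) :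
    g * SgT F u w c * g⁻¹ = SgT F (mt g *ᵥ u) (mt g *ᵥ w) c := by
  by_cases h : hf F u u = 0 ∧ hf F w u = 0
  · rw [SgT_eq F c h.1 h.2, conj_Sg F hg, SgT_eq]
  · have h' : ¬ (hf F (mt g *ᵥ u) (mt g *ᵥ u) = 0 ∧ hf F (mt g *ᵥ w) (mt g *ᵥ u) = 0) := by
      rwa [hf_mem F hg, hf_mem F hg]
    unfold SgT
    rw [dif_neg h, dif_neg h', mul_one, mul_inv_cancel]

theorem SgT_mul {u w w' : Fin n → K} (c c' : K) (h1 : hf F u u = 0) (h2 : hf F w u = 0)
    (h2' : hf F w' u = 0) :
    SgT F u w c * SgT F u w' c' = SgT F u (w + w') (c + c' - hf F w' w) := by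
  have h3 : hf F (w + w') u = 0 := by rw [hf_add_left, h2, h2', add_zero]
  rw [SgT_eq F c h1 h2, SgT_eq F c' h1 h2', SgT_eq F _ h1 h3, Sg_mul_Sg]

theorem SgT_mem_SUJ {u w : Fin n → K} {c : K} (h1 : hf F u u = 0) (h2 : hf F w u = 0)
    (h4 : c + F.sg c + hf F w w = 0) : SgT F u w c ∈ SUJ F := by
  rw [SgT_eq F c h1 h2]
  exact Sg_mem_SUJ F h1 h2 h4

theorem SgT_zero (u : Fin n → K) : SgT F u 0 0 = 1 := by
  by_cases h : hf F u u = 0 ∧ hf F (0 : Fin n → K) u = 0
  · rw [SgT_eq F 0 h.1 h.2]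
    exact Sg_zero F u h.1
  · unfold SgT
    rw [dif_neg h]

theorem SgT_inv {u w : Fin n → K} (c : K) (h1 : hf F u u = 0) (h2 : hf F w u = 0) :
    (SgT F u w c)⁻¹ = SgT F u (-w) (-c - hf F w w) := by
  have h2' : hf F (-w) u = 0 := by rw [hf_neg_left, h2, neg_zero]
  symm
  rw [eq_inv_iff_mul_eq_one, SgT_mul F _ _ h1 h2' h2, neg_add_cancel, hf_neg_right]
  have : -c - hf F w w + c - -hf F w w = 0 := by ring
  rw [this, SgT_zero]

theorem SgT_mulVec {u w : Fin n → K} (c : K) (h1 : hf F u u = 0) (h2 : hf F w u = 0)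
    (x : Fin n → K) :
    mt (SgT F u w c) *ᵥ x = x + hf F x u • w - hf F x w • u + (c * hf F x u) • u := by
  rw [mt_SgT F c h1 h2, Sm_mulVec]

theorem SgT_mulVec_of_orth {u w : Fin n → K} (c : K) (h1 : hf F u u = 0) (h2 : hf F w u = 0)
    {x : Fin n → K} (hxu : hf F x u = 0) (hxw : hf F x w = 0) :
    mt (SgT F u w c) *ᵥ x = x := by
  rw [SgT_mulVec F c h1 h2, hxu, hxw]
  simp

theorem Sm_add_smul_self (u w : Fin n → K) (lam c : K) :
    Sm F u (w + lam • u) c = Sm F u w (c + lam - F.sg lam) := by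
  unfold Sm
  rw [Rm_add_left, Rm_add_right, Rm_smul_left, Rm_smul_right]
  module

theorem SgT_add_smul_self {u w : Fin n → K} (lam c : K) (h1 : hf F u u = 0) (h2 : hf F w u = 0) :
    SgT F u (w + lam • u) c = SgT F u w (c + lam - F.sg lam) := by
  have h3 : hf F (w + lam • u) u = 0 := by
    rw [hf_add_left, hf_smul_left, h1, h2, mul_zero, add_zero]
  apply mt_ext
  rw [mt_SgT F _ h1 h3, mt_SgT F _ h1 h2, Sm_add_smul_self]

theorem hf_eb_self_eq_zero {a : Fin n} (ha : a ≠ Fin.rev a) :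
    hf F (eb a : Fin n → K) (eb a) = 0 := by
  rw [hf_eb_eb, if_neg ha]

theorem ne_rev_of_hf {a : Fin n} (h : hf F (eb a : Fin n → K) (eb a) = 0) : a ≠ Fin.rev a := by
  intro e
  rw [hf_eb_eb, if_pos e] at h
  exact one_ne_zero h

/-- the unitarity equation holds for Eichler elements in `SUJ` -/
theorem SgT_unitary_eq {a : Fin n} {w : Fin n → K} {c : K}
    (h1 : hf F (eb a : Fin n → K) (eb a) = 0) (h2 : hf F w (eb a) = 0)
    (hm : SgT F (eb a) w c ∈ SUJ F) : c + F.sg c + hf F w w = 0 := by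
  have ha : a ≠ Fin.rev a := ne_rev_of_hf F h1
  rw [mem_SUJ, mt_SgT F c h1 h2] at hm
  have h3 : hf F (eb a) w = 0 := by rw [← hf_conj, h2, map_zero]
  have h3' : hf F (eb a) (-w) = 0 := by rw [hf_neg_right, h3, neg_zero]
  rw [adj_Sm, Sm_mul_Sm F _ _ h1 h2 h3', neg_add_cancel, hf_neg_right, sub_neg_eq_add] at hm
  have e := congrFun (congrFun hm a) (Fin.rev a)
  rw [Sm_apply, Matrix.one_apply_ne ha] at e
  simp only [Pi.zero_apply, zero_mul, Fin.rev_rev, eb_same, map_zero, map_one, mul_zero, mul_one,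
    zero_add, sub_zero, add_zero] at e
  linear_combination e

/-- upper Eichler elements are unitriangular -/
theorem SgT_mem_UU {a : Fin n} {w : Fin n → K} (c : K) (ha : a < Fin.rev a)
    (hw : ∀ x, w x ≠ 0 → a < x ∧ x < Fin.rev a) :
    SgT F (eb a) w c ∈ (UU : Subgroup (SLn n K)) := by
  have h1 : hf F (eb a : Fin n → K) (eb a) = 0 := hf_eb_self_eq_zero F (ne_of_lt ha)
  have hwz : ∀ x, ¬ (a < x ∧ x < Fin.rev a) → w x = 0 := by
    intro x hx
    by_contra h
    exact hx (hw x h)
  have h2 : hf F w (eb a) = 0 := by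
    rw [hf_eb_right]
    exact hwz _ (fun h => lt_irrefl _ h.2)
  rw [mem_UU]
  refine ⟨fun x y hxy => ?_, fun x => ?_⟩
  · rw [mt_SgT F c h1 h2, Sm_apply, Matrix.one_apply_ne (ne_of_gt hxy)]
    have t1 : w x * F.sg ((eb a : Fin n → K) (Fin.rev y)) = 0 := by
      by_cases hy : Fin.rev y = a
      · have : w x = 0 := by
          apply hwz
          rintro ⟨-, h⟩
          rw [← hy, Fin.rev_rev] at h
          exact absurd h (not_lt.mpr hxy.le)
        rw [this, zero_mul]
      · rw [eb_ne hy, map_zero, mul_zero]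
    have t2 : (eb a : Fin n → K) x * F.sg (w (Fin.rev y)) = 0 := by
      by_cases hx : x = a
      · have : w (Fin.rev y) = 0 := by
          apply hwz
          rintro ⟨-, h⟩
          have : a < y := Fin.rev_lt_rev.mp h
          rw [hx] at hxy
          exact absurd this (not_lt.mpr hxy.le)
        rw [this, map_zero, mul_zero]
      · rw [eb_ne hx, zero_mul]
    have t3 : (eb a : Fin n → K) x * F.sg ((eb a : Fin n → K) (Fin.rev y)) = 0 := by
      by_cases hx : x = a
      · by_cases hy : Fin.rev y = a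
        · exfalso
          rw [hx, ← hy] at hxy
          have h3 : y < Fin.rev y := hxy
          rw [hy] at h3
          have h4 : y = Fin.rev a := by rw [← hy, Fin.rev_rev]
          rw [h4] at h3
          exact absurd h3 (not_lt.mpr ha.le)
        · rw [eb_ne hy, map_zero, mul_zero]
      · rw [eb_ne hx, zero_mul]
    rw [t1, t2, t3, mul_zero, zero_add, sub_zero, add_zero]
  · rw [mt_SgT F c h1 h2, Sm_apply, Matrix.one_apply_eq]
    have t1 : w x * F.sg ((eb a : Fin n → K) (Fin.rev x)) = 0 := by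
      by_cases hy : Fin.rev x = a
      · have : w x = 0 := by
          apply hwz
          rintro ⟨-, h⟩
          rw [← hy, Fin.rev_rev] at h
          exact lt_irrefl _ h
        rw [this, zero_mul]
      · rw [eb_ne hy, map_zero, mul_zero]
    have t2 : (eb a : Fin n → K) x * F.sg (w (Fin.rev x)) = 0 := by
      by_cases hx : x = a
      · have : w (Fin.rev x) = 0 := by
          apply hwz
          rintro ⟨-, h⟩
          rw [hx] at h
          exact lt_irrefl _ h
        rw [this, map_zero, mul_zero]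
      · rw [eb_ne hx, zero_mul]
    have t3 : (eb a : Fin n → K) x * F.sg ((eb a : Fin n → K) (Fin.rev x)) = 0 := by
      by_cases hx : x = a
      · have hy : Fin.rev x ≠ a := by
          rw [hx]
          exact (ne_of_lt ha).symm
        rw [eb_ne hy, map_zero, mul_zero]
      · rw [eb_ne hx, zero_mul]
    rw [t1, t2, t3, mul_zero, add_zero, sub_zero, add_zero]

end Cfsg.Agent.Lib.Helper20.SuF
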