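import Mathlib
import Cfsg.Agent.Lib.Helper20.SuHeis

set_option autoImplicit false
set_option linter.style.haveILetI false
set_option linter.unusedSimpArgs false
set_option linter.unusedSectionVars false

/-!
# The Heisenberg radical `QJ 1 ⊓ SUJ` in Eichler coordinates
-/

namespace Cfsg.Agent.Lib.Helper20.SuF

open Matrix Subgroup Cfsg.Agent.Lib.Helper20.PslF

variable {n : ℕ} {K : Type*} [Field K] [Fintype K] (F : Inv K)

/-- first index -/
def y0 (hn : 4 ≤ n) : Fin n := ⟨0, by omega⟩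
/-- second index -/
def y1 (hn : 4 ≤ n) : Fin n := ⟨1, by omega⟩

theorem y0_val (hn : 4 ≤ n) : ((y0 hn : Fin n) : ℕ) = 0 := rfl
theorem y1_val (hn : 4 ≤ n) : ((y1 hn : Fin n) : ℕ) = 1 := rfl

theorem rev_y0_val (hn : 4 ≤ n) : ((Fin.rev (y0 hn) : Fin n) : ℕ) = n - 1 := by
  rw [Fin.val_rev, y0_val]

theorem rev_y1_val (hn : 4 ≤ n) : ((Fin.rev (y1 hn) : Fin n) : ℕ) = n - 2 := by
  rw [Fin.val_rev, y1_val]

theorem y0_ne_rev (hn : 4 ≤ n) : y0 hn ≠ Fin.rev (y0 hn) := by
  intro h
  have := congrArg Fin.val h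
  rw [rev_y0_val, y0_val] at this
  omega

theorem y1_ne_rev (hn : 4 ≤ n) : y1 hn ≠ Fin.rev (y1 hn) := by
  intro h
  have := congrArg Fin.val h
  rw [rev_y1_val, y1_val] at this
  omega

theorem hf_y0 (hn : 4 ≤ n) : hf F (eb (y0 hn) : Fin n → K) (eb (y0 hn)) = 0 :=
  hf_eb_self_eq_zero F (y0_ne_rev hn)

/-- Eichler elements at the first index are unitriangular -/
theorem SgT0_mem_UU (hn : 4 ≤ n) {w : Fin n → K} (c : K) (hw : w (Fin.rev (y0 hn)) = 0) :
    SgT F (eb (y0 hn)) w c ∈ (UU : Subgroup (SLn n K)) := by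
  have h1 := hf_y0 F hn
  have h2 : hf F w (eb (y0 hn)) = 0 := by rw [hf_eb_right]; exact hw
  rw [mem_UU]
  refine ⟨fun x y hxy => ?_, fun x => ?_⟩
  · have hx : x ≠ y0 hn := by
      intro e
      rw [e, Fin.lt_def, y0_val] at hxy
      omega
    have hy : Fin.rev y ≠ y0 hn := by
      intro e
      have e2 : y = Fin.rev (y0 hn) := by rw [← e, Fin.rev_rev]
      rw [e2, Fin.lt_def, rev_y0_val] at hxy
      have := x.2
      omega
    rw [mt_SgT F c h1 h2, Sm_apply, Matrix.one_apply_ne (ne_of_gt hxy), eb_ne hx, eb_ne hy,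
      map_zero]
    ring
  · rw [mt_SgT F c h1 h2, Sm_apply, Matrix.one_apply_eq]
    by_cases hx : x = y0 hn
    · rw [hx, hw, eb_ne (y0_ne_rev hn).symm, map_zero]
      ring
    · rw [eb_ne hx]
      by_cases hx2 : Fin.rev x = y0 hn
      · have e2 : x = Fin.rev (y0 hn) := by rw [← hx2, Fin.rev_rev]
        rw [e2, hw]
        ring
      · rw [eb_ne hx2, map_zero]
        ring

theorem b3_one_eq_zero {x : Fin n} (hx : (x : ℕ) = 0) : b3 1 x = 0 := by
  unfold b3; rw [if_pos (by omega)]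

theorem b3_one_eq_one {x : Fin n} (h1 : 0 < (x : ℕ)) (h2 : (x : ℕ) < n - 1) : b3 1 x = 1 := by
  unfold b3; rw [if_neg (by omega), if_pos h2]

theorem b3_one_eq_two {x : Fin n} (h2 : n - 1 ≤ (x : ℕ)) (hn : 2 ≤ n) : b3 1 x = 2 := by
  unfold b3; rw [if_neg (by omega), if_neg (by omega)]

/-- the inverse of a Heisenberg matrix negates the first row (in the middle) -/
theorem QJ1_inv_row (hn : 4 ≤ n) {r : SLn n K} (hr : r ∈ (QJ 1 : Subgroup (SLn n K)))
    {j : Fin n} (hj1 : 0 < (j : ℕ)) (hj2 : (j : ℕ) < n - 1) :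
    mt r⁻¹ (y0 hn) j = - mt r (y0 hn) j := by
  have hri : r⁻¹ ∈ (QJ 1 : Subgroup (SLn n K)) := inv_mem hr
  have hne : y0 hn ≠ j := by
    intro e; rw [← e, y0_val] at hj1; omega
  have h := congrFun (congrFun (mt_mul_inv r) (y0 hn)) j
  rw [Matrix.mul_apply, Matrix.one_apply_ne hne, Finset.sum_eq_add (y0 hn) j hne] at h
  · rw [(mem_QJ 1 r).mp hr (y0 hn) (y0 hn) (lt_irrefl _), Matrix.one_apply_eq, one_mul,
      (mem_QJ 1 r⁻¹).mp hri j j (lt_irrefl _), Matrix.one_apply_eq, mul_one] at h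
    exact eq_neg_of_add_eq_zero_left h
  · intro z _ hz
    have hz0 : 0 < (z : ℕ) := by
      rcases Nat.eq_zero_or_pos (z : ℕ) with h0 | h0
      · exact absurd (Fin.ext (by rw [h0, y0_val])) hz.1
      · exact h0
    have hb : ¬ b3 1 z < b3 1 j := by
      rw [b3_one_eq_one hj1 hj2]
      unfold b3
      rw [if_neg (by omega)]
      split_ifs <;> omega
    rw [(mem_QJ 1 r⁻¹).mp hri z j hb, Matrix.one_apply_ne hz.2, mul_zero]
  · intro hx; exact absurd (Finset.mem_univ _) hx
  · intro hx; exact absurd (Finset.mem_univ _) hx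

/-- the `w`-coordinate of a Heisenberg matrix -/
def wv (hn : 4 ≤ n) (r : SLn n K) : Fin n → K :=
  fun x => if x = y0 hn ∨ x = Fin.rev (y0 hn) then 0 else mt r x (Fin.rev (y0 hn))

theorem wv_y0 (hn : 4 ≤ n) (r : SLn n K) : wv hn r (y0 hn) = 0 := by
  unfold wv; rw [if_pos (Or.inl rfl)]

theorem wv_rev_y0 (hn : 4 ≤ n) (r : SLn n K) : wv hn r (Fin.rev (y0 hn)) = 0 := by
  unfold wv; rw [if_pos (Or.inr rfl)]

theorem wv_mid (hn : 4 ≤ n) (r : SLn n K) {x : Fin n} (h1 : x ≠ y0 hn)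
    (h2 : x ≠ Fin.rev (y0 hn)) : wv hn r x = mt r x (Fin.rev (y0 hn)) := by
  unfold wv; rw [if_neg (by rintro (h | h); exact h1 h; exact h2 h)]

/-- **Eichler coordinates** on the Heisenberg radical -/
theorem QJ1_eq_SgT (hn : 4 ≤ n) {r : SLn n K} (hr : r ∈ (QJ 1 : Subgroup (SLn n K)))
    (hrS : r ∈ SUJ F) :
    r = SgT F (eb (y0 hn)) (wv hn r) (mt r (y0 hn) (Fin.rev (y0 hn))) := by
  have h1 := hf_y0 F hn
  have h2 : hf F (wv hn r) (eb (y0 hn)) = 0 := by rw [hf_eb_right]; exact wv_rev_y0 hn r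
  have hq := (mem_QJ 1 r).mp hr
  apply mt_ext
  rw [mt_SgT F _ h1 h2]
  ext i j
  rw [Sm_apply]
  have hn2 : 2 ≤ n := by omega
  by_cases hi0 : i = y0 hn
  · subst hi0
    rw [eb_same, wv_y0]
    by_cases hj0 : j = y0 hn
    · subst hj0
      rw [hq _ _ (lt_irrefl _), Matrix.one_apply_eq, wv_rev_y0, eb_ne (y0_ne_rev hn).symm,
        map_zero]
      ring
    · by_cases hjl : j = Fin.rev (y0 hn)
      · subst hjl
        rw [Fin.rev_rev, eb_same, wv_y0, Matrix.one_apply_ne (y0_ne_rev hn), map_zero, map_one]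
        ring
      · have hj1 : 0 < (j : ℕ) := by
          rcases Nat.eq_zero_or_pos (j : ℕ) with h0 | h0
          · exact absurd (Fin.ext (by rw [h0, y0_val])) hj0
          · exact h0
        have hj2 : (j : ℕ) < n - 1 := by
          have := j.2
          have : (j : ℕ) ≠ n - 1 := fun e => hjl (Fin.ext (by rw [e, rev_y0_val]))
          omega
        have hrj0 : Fin.rev j ≠ y0 hn := by
          intro e
          exact hjl (by rw [← e, Fin.rev_rev])
        have hrjl : Fin.rev j ≠ Fin.rev (y0 hn) := fun e => hj0 (Fin.rev_injective e)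
        have e1 := QJ1_inv_row hn hr hj1 hj2
        rw [inv_apply_of_mem F hrS] at e1
        rw [Matrix.one_apply_ne (Ne.symm hj0), eb_ne hrj0, map_zero, wv_mid hn r hrj0 hrjl]
        have : mt r (y0 hn) j = - F.sg (mt r (Fin.rev j) (Fin.rev (y0 hn))) := by
          rw [e1, neg_neg]
        rw [this]
        ring
  · rw [eb_ne hi0]
    by_cases hil : i = Fin.rev (y0 hn)
    · subst hil
      rw [wv_rev_y0]
      have hb : ¬ b3 1 (Fin.rev (y0 hn)) < b3 1 j := by
        rw [b3_one_eq_two (by rw [rev_y0_val]) hn2]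
        unfold b3
        split_ifs <;> omega
      rw [hq _ _ hb]
      ring
    · have hi1 : 0 < (i : ℕ) := by
        rcases Nat.eq_zero_or_pos (i : ℕ) with h0 | h0
        · exact absurd (Fin.ext (by rw [h0, y0_val])) hi0
        · exact h0
      have hi2 : (i : ℕ) < n - 1 := by
        have := i.2
        have : (i : ℕ) ≠ n - 1 := fun e => hil (Fin.ext (by rw [e, rev_y0_val]))
        omega
      rw [wv_mid hn r hi0 hil]
      by_cases hjl : j = Fin.rev (y0 hn)
      · subst hjl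
        rw [Fin.rev_rev, eb_same, map_one, Matrix.one_apply_ne hil]
        ring
      · have hrj0 : Fin.rev j ≠ y0 hn := by
          intro e
          exact hjl (by rw [← e, Fin.rev_rev])
        have hb : ¬ b3 1 i < b3 1 j := by
          rw [b3_one_eq_one hi1 hi2]
          have hj2 : (j : ℕ) < n - 1 := by
            have := j.2
            have : (j : ℕ) ≠ n - 1 := fun e => hjl (Fin.ext (by rw [e, rev_y0_val]))
            omega
          unfold b3
          split_ifs <;> omega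
        rw [hq _ _ hb, eb_ne hrj0, map_zero]
        ring

end Cfsg.Agent.Lib.Helper20.SuF
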