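import Mathlib
import Cfsg.Agent.Lib.Helper20.SuHeis2

set_option autoImplicit false
set_option linter.style.haveILetI false
set_option linter.unusedSimpArgs false
set_option linter.unusedSectionVars false

/-!
# Strongly closed subgroups of the unitriangular part of `SUJ`: definitions and basic closure
-/

namespace Cfsg.Agent.Lib.Helper20.SuF

open Matrix Subgroup Cfsg.Agent.Lib.Helper20.PslF

variable {n : ℕ} {K : Type*} [Field K] [Fintype K] (F : Inv K)

/-- `T` is a strongly closed subgroup of the unitriangular part of `SUJ` -/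
structure SC (T : Subgroup (SLn n K)) : Prop where
  leU : T ≤ UU
  leS : T ≤ SUJ F
  closed : ∀ x ∈ T, ∀ g ∈ SUJ F, g * x * g⁻¹ ∈ (UU : Subgroup (SLn n K)) → g * x * g⁻¹ ∈ T

/-- the vectors `w` (orthogonal to `e_0`) such that some Eichler element `SgT (eb 0) w c` lies in
`T` -/
def WT (hn : 4 ≤ n) (T : Subgroup (SLn n K)) (w : Fin n → K) : Prop :=
  w (Fin.rev (y0 hn)) = 0 ∧ ∃ c : K, SgT F (eb (y0 hn)) w c ∈ T

variable {F} {T : Subgroup (SLn n K)} (hn : 4 ≤ n)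

theorem hf_of_last {w : Fin n → K} (hw : w (Fin.rev (y0 hn)) = 0) :
    hf F w (eb (y0 hn)) = 0 := by
  rw [hf_eb_right]; exact hw

theorem WT_zero : WT F hn T 0 :=
  ⟨rfl, 0, by rw [SgT_zero]; exact one_mem _⟩

theorem WT_add {w w' : Fin n → K} (hw : WT F hn T w) (hw' : WT F hn T w') :
    WT F hn T (w + w') := by
  obtain ⟨h0, c, hc⟩ := hw
  obtain ⟨h0', c', hc'⟩ := hw'
  refine ⟨by rw [Pi.add_apply, h0, h0', add_zero], c + c' - hf F w' w, ?_⟩
  rw [← SgT_mul F c c' (hf_y0 F hn) (hf_of_last hn h0) (hf_of_last hn h0')]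
  exact mul_mem hc hc'

theorem WT_neg {w : Fin n → K} (hw : WT F hn T w) : WT F hn T (-w) := by
  obtain ⟨h0, c, hc⟩ := hw
  refine ⟨by rw [Pi.neg_apply, h0, neg_zero], -c - hf F w w, ?_⟩
  rw [← SgT_inv F c (hf_y0 F hn) (hf_of_last hn h0)]
  exact inv_mem hc

theorem WT_sub {w w' : Fin n → K} (hw : WT F hn T w) (hw' : WT F hn T w') :
    WT F hn T (w - w') := by
  rw [sub_eq_add_neg]
  exact WT_add hn hw (WT_neg hn hw')

theorem WT_smul_y0 (lam : K) : WT F hn T (lam • (eb (y0 hn) : Fin n → K)) := by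
  refine ⟨by rw [Pi.smul_apply, eb_ne (y0_ne_rev hn).symm, smul_zero], F.sg lam - lam, ?_⟩
  have h2 : hf F (0 : Fin n → K) (eb (y0 hn)) = 0 := hf_zero_left F _
  have := SgT_add_smul_self F lam (F.sg lam - lam) (hf_y0 F hn) h2
  rw [zero_add] at this
  rw [this]
  have e : F.sg lam - lam + lam - F.sg lam = 0 := by ring
  rw [e, SgT_zero]
  exact one_mem _

theorem WT_conj (h : SC F T) {g : SLn n K} (hg : g ∈ SUJ F)
    (hg0 : mt g *ᵥ (eb (y0 hn) : Fin n → K) = eb (y0 hn)) {w : Fin n → K}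
    (hw : WT F hn T w) : WT F hn T (mt g *ᵥ w) := by
  obtain ⟨h0, c, hc⟩ := hw
  have h0' : (mt g *ᵥ w) (Fin.rev (y0 hn)) = 0 := by
    have e1 : (mt g *ᵥ w) (Fin.rev (y0 hn)) = hf F (mt g *ᵥ w) (eb (y0 hn)) :=
      (hf_eb_right F _ _).symm
    have e2 : hf F (mt g *ᵥ w) (eb (y0 hn)) =
        hf F (mt g *ᵥ w) (mt g *ᵥ (eb (y0 hn) : Fin n → K)) := by rw [hg0]
    rw [e1, e2, hf_mem F hg, hf_eb_right]
    exact h0
  refine ⟨h0', c, ?_⟩
  have e := conj_SgT F hg (eb (y0 hn)) w c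
  rw [hg0] at e
  rw [← e]
  apply h.closed _ hc g hg
  rw [e]
  exact SgT0_mem_UU F hn c h0'

/-- difference form of the invariance -/
theorem WT_conj_sub (h : SC F T) {g : SLn n K} (hg : g ∈ SUJ F)
    (hg0 : mt g *ᵥ (eb (y0 hn) : Fin n → K) = eb (y0 hn)) {w : Fin n → K}
    (hw : WT F hn T w) : WT F hn T (mt g *ᵥ w - w) :=
  WT_sub hn (WT_conj hn h hg hg0 hw) hw

end Cfsg.Agent.Lib.Helper20.SuF
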