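import Mathlib
import Cfsg.Agent.Lib.Helper65.QeLayer

/-! # QE-ASM4 (helper65's Qe hive, S5988): small invariant nondegenerate subspaces are fixed pointwise
(all characteristics) -/

set_option autoImplicit false

namespace Cfsg.Agent.Lib.Helper65.Qe

open Polynomial Module
open Cfsg.Agent.Lib.Helper2.BG Cfsg.Agent.Lib.Helper99 Cfsg.Agent.Lib.Helper48.Ti
open Cfsg.Agent.Lib.Helper5.Hy

section abstract

variable {F V : Type*} [Field F] [Fintype F] [AddCommGroup V] [Module F V] [FiniteDimensional F V]
variable {Q : QuadraticForm F V}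

section semisimple

variable {f : Module.End F V} (r : ℕ) [Fact r.Prime]

/-- QE-ASM4: an invariant nondegenerate subspace of dimension `< c` is fixed pointwise -/
theorem le_fix_of_lt (hf : IsomQ Q f) (hr2 : r ≠ 2) (hrq : ¬ r ∣ Fintype.card F)
    (hfr : f ^ r = 1) (i c : ℕ) (hi : i = orderOf ((Fintype.card F : ℕ) : ZMod r))
    (hc : c = if Even i then i else 2 * i) {W : Submodule F V} (hWi : Inv f W)
    (hW : Nd (pol Q) W) (hWc : finrank F W < c) : W ≤ Fix f := by
  obtain ⟨-, s, hs1, -⟩ := q_blocks hf r hr2 hrq hfr i c hi hc hWi hW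
  have hs0 : s = 0 := by
    by_contra h
    have : c ≤ s * c := Nat.le_mul_of_pos_left c (Nat.pos_of_ne_zero h)
    omega
  rw [hs0, Nat.zero_mul, Nat.add_zero] at hs1
  have heq : W ⊓ Fix f = W := Submodule.eq_of_le_of_finrank_eq inf_le_left hs1.symm
  exact heq ▸ inf_le_right

end semisimple

end abstract

end Cfsg.Agent.Lib.Helper65.Qe
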