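import Mathlib
import Cfsg.Agent.Lib.Helper65.QeLayer

/-! # QE-ASM5 (helper65's Qe hive, S5988): no isometry of order `r` is supported on a subspace of
dimension `< c` (all characteristics) -/

set_option autoImplicit false

namespace Cfsg.Agent.Lib.Helper65.Qe

open Polynomial Module
open Cfsg.Agent.Lib.Helper2.BG Cfsg.Agent.Lib.Helper99 Cfsg.Agent.Lib.Helper48.Ti
open Cfsg.Agent.Lib.Helper5.Hy

section abstract

variable {F V : Type*} [Field F] [Fintype F] [AddCommGroup V] [Module F V] [FiniteDimensional F V]
variable {Q : QuadraticForm F V}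

section semisimple

variable {f : Module.End F V} (r : ℕ) [Fact r.Prime]

/-- QE-ASM5 (clone of `Hy.no_isom_of_small`): no isometry of order `r` is supported on a subspace of
dimension `< c` -/
theorem no_isomQ_of_small (hV : Nd (pol Q) ⊤) (hr2 : r ≠ 2) (hrq : ¬ r ∣ Fintype.card F)
    (i c : ℕ) (hi : i = orderOf ((Fintype.card F : ℕ) : ZMod r))
    (hc : c = if Even i then i else 2 * i) {C : Submodule F V} (hCc : finrank F C < c)
    (g : Module.End F V) (hg : IsomQ Q g) (hgr : g ^ r = 1)
    (hgC : ∀ v, (∀ u ∈ C, pol Q u v = 0) → g v = v) : g = 1 := by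
  obtain ⟨-, s, hs1, -⟩ := q_blocks hg r hr2 hrq hgr i c hi hc (inv_top g) hV
  rw [top_inf_eq, finrank_top] at hs1
  have hBr : LinearMap.BilinForm.IsRefl (pol Q) := fun u v h => by
    rw [glue_pol_symm v u]; exact h
  have hle : LinearMap.BilinForm.orthogonal (pol Q) C ≤ Fix g := by
    intro v hv
    rw [LinearMap.mem_ker, LinearMap.sub_apply, Module.End.one_apply, sub_eq_zero]
    apply hgC v
    intro u hu
    exact hv u hu
  have h1 := LinearMap.BilinForm.finrank_add_finrank_orthogonal hBr C
  have h3 : finrank F ↥(LinearMap.BilinForm.orthogonal (pol Q) C) ≤ finrank F ↥(Fix g) :=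
    Submodule.finrank_mono hle
  have hs0 : s = 0 := by
    by_contra h
    have : c ≤ s * c := Nat.le_mul_of_pos_left c (Nat.pos_of_ne_zero h)
    omega
  have hfull : finrank F ↥(Fix g) = finrank F V := by rw [hs1, hs0]; simp
  have htop : Fix g = ⊤ := Submodule.eq_top_of_finrank_eq hfull
  ext v
  have hv : v ∈ Fix g := by rw [htop]; exact Submodule.mem_top
  rw [LinearMap.mem_ker, LinearMap.sub_apply, Module.End.one_apply, sub_eq_zero] at hv
  rw [hv, Module.End.one_apply]

end semisimple

end abstract

end Cfsg.Agent.Lib.Helper65.Qe
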