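import Cfsg.Agent.Lib.Helper20.G2cDefs
import Cfsg.Agent.Lib.Helper99.G2cCONJ78core

/-! # G2c mini-hive (S2180): leaf G2C-CONJ78, wrapper of helper99's core (helper20) -/

set_option autoImplicit false

namespace Cfsg.Agent.Lib.Helper20.G2c

open Cfsg Cfsg.Lie Cfsg.Agent.Lib.Helper36

variable (F : Type*) [Field F]

/-- G2C-CONJ78 -/
theorem conj78 [CharP F 2] : ∃ k₁ k₂ : F, k₁ ≠ 0 ∧ k₂ ≠ 0 ∧ ∀ s s' : F,
    (xg F 7 s * xg F 8 s') * xg F 9 1 * (xg F 7 s * xg F 8 s')⁻¹ = T F 1 (k₁ * s) (k₂ * s') := by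
  unfold T
  exact g2cconj78_core hG2 F

end Cfsg.Agent.Lib.Helper20.G2c
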