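import Cfsg.Agent.Lib.Helper20.G2cDefs

/-! # G2c mini-hive (S2180): leaf G2C-NRIG (helper20)

An element `n ∈ N` conjugating some `T c d e`, `c ≠ 0`, to some `T c' d' e'` normalises `U_b`. -/

set_option autoImplicit false

namespace Cfsg.Agent.Lib.Helper20.G2c

open Cfsg Cfsg.Lie Cfsg.Agent.Lib.Helper36 Cfsg.Agent.Lib.Helper18 Matrix

variable (F : Type*) [Field F]

/-- column `h_i` of `x_r(c)` -/
theorem nrig_col_h (r : ℕ) (hr : r < chevG2.nroots) (c : F) (i : Fin chevG2.rank) (idx : chevG2.Idx) :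
    chevG2.x F r c idx (Sum.inl i) =
      if idx = Sum.inl i then 1 else
        if idx = Sum.inr ⟨r, hr⟩ then -((chevG2.cartan i r : ℤ) : F) * c else 0 := by
  unfold ChevalleyDatum.x
  rw [dif_pos hr]
  simp only [ChevalleyDatum.xMat, Matrix.of_apply]
  rcases idx with i' | u
  · simp
  · simp only [reduceCtorEq, if_false, Sum.inr.injEq]
    rfl

/-- column `e_s` of `x_r(c)` when `e_s` is fixed -/
theorem nrig_col_e (r s : ℕ) (hr : r < chevG2.nroots) (hs : s < chevG2.nroots)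
    (hfix : s = r ∨ (s ≠ chevG2.neg r ∧ ∀ u < chevG2.nroots, chevG2.chainCoeff r s u = [])) (c : F)
    (idx : chevG2.Idx) :
    chevG2.x F r c idx (Sum.inr ⟨s, hs⟩) = if idx = Sum.inr ⟨s, hs⟩ then 1 else 0 := by
  unfold ChevalleyDatum.x
  rw [dif_pos hr]
  simp only [ChevalleyDatum.xMat, Matrix.of_apply]
  rcases hfix with rfl | ⟨hneg, hch⟩
  · rw [if_pos rfl]
    rcases idx with i' | u
    · simp
    · simp only [Sum.inr.injEq]
  · by_cases hsr : s = r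
    · subst hsr
      rw [if_pos rfl]
      rcases idx with i' | u
      · simp
      · simp only [Sum.inr.injEq]
    · have h1 : (⟨s, hs⟩ : Fin chevG2.nroots) ≠ ⟨r, hr⟩ := fun e => hsr (Fin.mk.inj_iff.1 e)
      rw [if_neg h1]
      have h2 : ¬ ((⟨s, hs⟩ : Fin chevG2.nroots).val = chevG2.negIdx.getD (⟨r, hr⟩ : Fin chevG2.nroots).val 0) := hneg
      rw [if_neg h2]
      rcases idx with i' | u
      · simp
      · simp only [Sum.inr.injEq]
        rw [hch u.val u.isLt]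
        simp

/-- `x_r(c) h_i = h_i - A_{i r} c e_r` -/
theorem nrig_mulVec_h (r : ℕ) (hr : r < chevG2.nroots) (c : F) (i : Fin chevG2.rank) :
    chevG2.x F r c *ᵥ Pi.single (Sum.inl i) 1 =
      Pi.single (Sum.inl i) 1 + (-((chevG2.cartan i r : ℤ) : F) * c) • Pi.single (Sum.inr ⟨r, hr⟩) 1 := by
  ext idx
  rw [Matrix.mulVec_single_one]
  simp only [Matrix.col_apply, Pi.add_apply, Pi.smul_apply, smul_eq_mul, Pi.single_apply]
  rw [nrig_col_h F r hr c i idx]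
  by_cases h1 : idx = Sum.inl i
  · subst h1
    simp
  · by_cases h2 : idx = Sum.inr ⟨r, hr⟩
    · subst h2
      simp
    · simp [h1, h2]

/-- `x_r(c) e_s = e_s` when `e_s` is fixed -/
theorem nrig_mulVec_e (r s : ℕ) (hr : r < chevG2.nroots) (hs : s < chevG2.nroots)
    (hfix : s = r ∨ (s ≠ chevG2.neg r ∧ ∀ u < chevG2.nroots, chevG2.chainCoeff r s u = [])) (c : F) :
    chevG2.x F r c *ᵥ Pi.single (Sum.inr ⟨s, hs⟩) 1 = Pi.single (Sum.inr ⟨s, hs⟩) 1 := by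
  ext idx
  rw [Matrix.mulVec_single_one]
  simp only [Matrix.col_apply, Pi.single_apply]
  rw [nrig_col_e F r s hr hs hfix c idx]

/-- the fixing condition, as a `Bool` -/
def nrigFix (r s : ℕ) : Bool :=
  s == r || (s != chevG2.neg r && (List.range chevG2.nroots).all fun u => (chevG2.chainCoeff r s u).isEmpty)

theorem nrigFix_spec (r s : ℕ) (h : nrigFix r s = true) :
    s = r ∨ (s ≠ chevG2.neg r ∧ ∀ u < chevG2.nroots, chevG2.chainCoeff r s u = []) := by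
  unfold nrigFix at h
  simp only [Bool.or_eq_true, beq_iff_eq, Bool.and_eq_true, bne_iff_ne, ne_eq, List.all_eq_true, List.mem_range,
    List.isEmpty_iff] at h
  rcases h with h | ⟨h1, h2⟩
  · exact Or.inl h
  · exact Or.inr ⟨h1, h2⟩

/-- column `h_i` of a product of three root elements fixing each other's root vectors -/
theorem nrig_col_prod (r₁ r₂ r₃ : ℕ) (h₁ : r₁ < chevG2.nroots) (h₂ : r₂ < chevG2.nroots) (h₃ : r₃ < chevG2.nroots)
    (f23 : nrigFix r₂ r₃ = true) (f13 : nrigFix r₁ r₃ = true) (f12 : nrigFix r₁ r₂ = true) (c d e : F)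
    (i : Fin chevG2.rank) :
    (chevG2.x F r₁ c * chevG2.x F r₂ d * chevG2.x F r₃ e) *ᵥ Pi.single (Sum.inl i) 1 =
      Pi.single (Sum.inl i) 1 + (-((chevG2.cartan i r₁ : ℤ) : F) * c) • Pi.single (Sum.inr ⟨r₁, h₁⟩) 1 +
        (-((chevG2.cartan i r₂ : ℤ) : F) * d) • Pi.single (Sum.inr ⟨r₂, h₂⟩) 1 +
        (-((chevG2.cartan i r₃ : ℤ) : F) * e) • Pi.single (Sum.inr ⟨r₃, h₃⟩) 1 := by
  rw [← Matrix.mulVec_mulVec, ← Matrix.mulVec_mulVec, nrig_mulVec_h F r₃ h₃ e i, Matrix.mulVec_add,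
    Matrix.mulVec_smul, nrig_mulVec_h F r₂ h₂ d i, nrig_mulVec_e F r₂ r₃ h₂ h₃ (nrigFix_spec r₂ r₃ f23) d,
    Matrix.mulVec_add, Matrix.mulVec_add, Matrix.mulVec_smul, Matrix.mulVec_smul, nrig_mulVec_h F r₁ h₁ c i,
    nrig_mulVec_e F r₁ r₃ h₁ h₃ (nrigFix_spec r₁ r₃ f13) c, nrig_mulVec_e F r₁ r₂ h₁ h₂ (nrigFix_spec r₁ r₂ f12) c]

/-- the orbit of `(7,8,9,10,11)` under the Weyl group -/
def nrigO : List (ℕ × ℕ × ℕ × ℕ × ℕ) :=
  [(2, 7, 3, 0, 5), (2, 8, 4, 1, 6), (3, 4, 2, 0, 1), (3, 9, 7, 5, 10), (4, 3, 2, 1, 0), (4, 9, 8, 6, 11),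
   (7, 2, 3, 5, 0), (7, 8, 9, 10, 11), (8, 2, 4, 6, 1), (8, 7, 9, 11, 10), (9, 3, 7, 10, 5), (9, 4, 8, 11, 6)]

/-- a fundamental reflection acting on a tuple -/
def nrigAct (i : ℕ) (t : ℕ × ℕ × ℕ × ℕ × ℕ) : ℕ × ℕ × ℕ × ℕ × ℕ :=
  (chevG2.reflectRoot i t.1, chevG2.reflectRoot i t.2.1, chevG2.reflectRoot i t.2.2.1,
    chevG2.reflectRoot i t.2.2.2.1, chevG2.reflectRoot i t.2.2.2.2)

theorem nrig_closed : ∀ t ∈ nrigO, ∀ i ∈ [0, 1], nrigAct i t ∈ nrigO := by decide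

theorem nrig_orbit (l : List ℕ) (hl : ∀ i ∈ l, i < chevG2.rank) :
    (wRoot chevG2 l 7, wRoot chevG2 l 8, wRoot chevG2 l 9, wRoot chevG2 l 10, wRoot chevG2 l 11) ∈ nrigO := by
  induction l with
  | nil => decide
  | cons i l ih =>
    have hi : i ∈ [0, 1] := by
      have := hl i (List.mem_cons_self ..)
      have h2 : chevG2.rank = 2 := by decide
      rw [h2] at this
      interval_cases i <;> simp
    exact nrig_closed _ (ih fun j hj => hl j (List.mem_cons_of_mem _ hj)) i hi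

/-- the facts needed about a tuple of the orbit -/
def nrigChk (t : ℕ × ℕ × ℕ × ℕ × ℕ) : Bool :=
  decide (t.1 < 12 ∧ t.2.1 < 12 ∧ t.2.2.1 < 12 ∧ t.2.2.2.1 < 12 ∧ t.2.2.2.2 < 12) &&
  nrigFix t.2.2.2.1 t.2.2.2.2 && nrigFix t.2.2.1 t.2.2.2.2 && nrigFix t.2.2.1 t.2.2.2.1 &&
  decide (t.2.2.1 ≠ t.2.2.2.1 ∧ t.2.2.1 ≠ t.2.2.2.2) &&
  (if t.2.2.1 = 9 then
    decide (((t.1 = 7 ∧ t.2.1 = 8) ∨ (t.1 = 8 ∧ t.2.1 = 7)) ∧
      ((t.2.2.2.1 = 10 ∧ t.2.2.2.2 = 11) ∨ (t.2.2.2.1 = 11 ∧ t.2.2.2.2 = 10)))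
   else decide (t.2.2.1 ≠ 10 ∧ t.2.2.1 ≠ 11 ∧
      (chevG2.cartan 0 t.2.2.1 = 1 ∨ chevG2.cartan 0 t.2.2.1 = -1 ∨ chevG2.cartan 1 t.2.2.1 = 1 ∨
        chevG2.cartan 1 t.2.2.1 = -1)))

theorem nrig_chk : ∀ t ∈ nrigO, nrigChk t = true := by decide

theorem nrig_fix_T : nrigFix 10 11 = true ∧ nrigFix 9 11 = true ∧ nrigFix 9 10 = true := by decide

/-- conjugation by `n` preserves a closure when it and its inverse preserve the generators -/
theorem nrig_norm_of_gens {G : Type*} [Group G] (S : Set G) (n : G)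
    (h1 : ∀ g ∈ S, n * g * n⁻¹ ∈ Subgroup.closure S) (h2 : ∀ g ∈ S, n⁻¹ * g * n ∈ Subgroup.closure S) :
    n ∈ Subgroup.normalizer (Subgroup.closure S : Set G) := by
  have key : ∀ (m : G), (∀ g ∈ S, m * g * m⁻¹ ∈ Subgroup.closure S) →
      ∀ x ∈ Subgroup.closure S, m * x * m⁻¹ ∈ Subgroup.closure S := by
    intro m hm x hx
    induction hx using Subgroup.closure_induction with
    | mem g hg => exact hm g hg
    | one => simp
    | mul a b _ _ ha hb =>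
      have : m * (a * b) * m⁻¹ = (m * a * m⁻¹) * (m * b * m⁻¹) := by group
      rw [this]
      exact mul_mem ha hb
    | inv a _ ha =>
      have : m * a⁻¹ * m⁻¹ = (m * a * m⁻¹)⁻¹ := by group
      rw [this]
      exact inv_mem ha
  rw [Subgroup.mem_normalizer_iff]
  intro x
  constructor
  · exact key n h1 x
  · intro hx
    have := key n⁻¹ (fun g hg => by simpa using h2 g hg) _ hx
    have e : n⁻¹ * (n * x * n⁻¹) * n⁻¹⁻¹ = x := by group
    rwa [e] at this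

/-- the roots of `U_b` -/
theorem nrig_radical_roots (r : ℕ) :
    (chevG2.IsPosRoot r ∧ ¬ chevG2.InRootSub {1} r) ↔ r ∈ [7, 8, 9, 10, 11] := by
  have hIn : chevG2.InRootSub {1} r ↔ r < chevG2.nroots ∧ (chevG2.coroot.getD r #[]).getD 0 0 = 0 := by
    unfold ChevalleyDatum.InRootSub
    constructor
    · rintro ⟨h1, h2⟩
      exact ⟨h1, h2 0 (by decide) (by simp)⟩
    · rintro ⟨h1, h2⟩
      refine ⟨h1, fun i hi hiJ => ?_⟩
      have h2' : chevG2.rank = 2 := by decide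
      rw [h2'] at hi
      have : i = 0 := by
        interval_cases i
        · rfl
        · exact absurd rfl hiJ
      rw [this]
      exact h2
  rw [hIn]
  constructor
  · rintro ⟨hpos, hnot⟩
    have hr : r < 12 := hpos.1
    interval_cases r <;> first | (simp; done) | (exfalso; revert hpos; decide) | (exfalso; apply hnot; decide)
  · intro hr
    simp only [List.mem_cons, List.not_mem_nil, or_false] at hr
    rcases hr with rfl | rfl | rfl | rfl | rfl <;> decide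

/-- the matrix of `T c d e` -/
theorem nrig_T_coe (c d e : F) :
    ((T F c d e : GL chevG2.Idx F) : Matrix chevG2.Idx chevG2.Idx F) =
      chevG2.x F 9 c * chevG2.x F 10 d * chevG2.x F 11 e := by
  unfold T xg
  rw [Units.val_mul, Units.val_mul, xGL_coe, xGL_coe, xGL_coe]

/-- the key vanishing: if `s₁ ∉ {9,10,11}` then `A_{i,s₁} c₁ = 0` -/
theorem nrig_entry (s₁ s₂ s₃ : ℕ) (h₁ : s₁ < chevG2.nroots) (h₂ : s₂ < chevG2.nroots) (h₃ : s₃ < chevG2.nroots)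
    (f23 : nrigFix s₂ s₃ = true) (f13 : nrigFix s₁ s₃ = true) (f12 : nrigFix s₁ s₂ = true)
    (h12 : s₁ ≠ s₂) (h13 : s₁ ≠ s₃) (h9 : s₁ ≠ 9) (h10 : s₁ ≠ 10) (h11 : s₁ ≠ 11)
    (c₁ d₁ e₁ c' d' e' : F)
    (hmat : chevG2.x F s₁ c₁ * chevG2.x F s₂ d₁ * chevG2.x F s₃ e₁ =
      chevG2.x F 9 c' * chevG2.x F 10 d' * chevG2.x F 11 e') (i : Fin chevG2.rank) :
    ((chevG2.cartan i s₁ : ℤ) : F) * c₁ = 0 := by
  have hv := congrArg (fun M : Matrix chevG2.Idx chevG2.Idx F =>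
    (M *ᵥ Pi.single (Sum.inl i) 1) (Sum.inr ⟨s₁, h₁⟩)) hmat
  beta_reduce at hv
  rw [nrig_col_prod F s₁ s₂ s₃ h₁ h₂ h₃ f23 f13 f12,
    nrig_col_prod F 9 10 11 (by decide) (by decide) (by decide) nrig_fix_T.1 nrig_fix_T.2.1 nrig_fix_T.2.2] at hv
  have e2 : (Sum.inr ⟨s₁, h₁⟩ : chevG2.Idx) ≠ Sum.inr ⟨s₂, h₂⟩ := by
    intro e; exact h12 (Fin.mk.inj_iff.1 (Sum.inr.inj e))
  have e3 : (Sum.inr ⟨s₁, h₁⟩ : chevG2.Idx) ≠ Sum.inr ⟨s₃, h₃⟩ := by
    intro e; exact h13 (Fin.mk.inj_iff.1 (Sum.inr.inj e))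
  have e9 : (Sum.inr ⟨s₁, h₁⟩ : chevG2.Idx) ≠ Sum.inr ⟨9, by decide⟩ := by
    intro e; exact h9 (Fin.mk.inj_iff.1 (Sum.inr.inj e))
  have e10 : (Sum.inr ⟨s₁, h₁⟩ : chevG2.Idx) ≠ Sum.inr ⟨10, by decide⟩ := by
    intro e; exact h10 (Fin.mk.inj_iff.1 (Sum.inr.inj e))
  have e11 : (Sum.inr ⟨s₁, h₁⟩ : chevG2.Idx) ≠ Sum.inr ⟨11, by decide⟩ := by
    intro e; exact h11 (Fin.mk.inj_iff.1 (Sum.inr.inj e))
  have e0 : (Sum.inr ⟨s₁, h₁⟩ : chevG2.Idx) ≠ Sum.inl i := by simp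
  simp only [Pi.add_apply, Pi.smul_apply, smul_eq_mul, Pi.single_apply, if_neg e0, if_neg e2, if_neg e3,
    if_neg e9, if_neg e10, if_neg e11, if_true, mul_zero, add_zero, zero_add, mul_one] at hv
  rw [neg_mul, neg_eq_zero] at hv
  exact hv

/-- G2C-NRIG -/
theorem monomial_rigid (n : GL chevG2.Idx F) (hn : n ∈ chevG2.monomialSubgroup F) (c d e c' d' e' : F)
    (hc : c ≠ 0) (h : n * T F c d e * n⁻¹ = T F c' d' e') :
    n ∈ Subgroup.normalizer (chevG2.unipotentRadical F {1} : Set (GL chevG2.Idx F)) := by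
  obtain ⟨l, hl, hact⟩ := exists_word_conj chevG2 hG2 F n hn
  have hO := nrig_orbit l hl
  have hchk := nrig_chk _ hO
  obtain ⟨k7, hk7, a7⟩ := hact 7 (by decide)
  obtain ⟨k8, hk8, a8⟩ := hact 8 (by decide)
  obtain ⟨k9, hk9, a9⟩ := hact 9 (by decide)
  obtain ⟨k10, hk10, a10⟩ := hact 10 (by decide)
  obtain ⟨k11, hk11, a11⟩ := hact 11 (by decide)
  generalize wRoot chevG2 l 7 = s7 at *
  generalize wRoot chevG2 l 8 = s8 at *
  generalize wRoot chevG2 l 9 = s1 at *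
  generalize wRoot chevG2 l 10 = s2 at *
  generalize wRoot chevG2 l 11 = s3 at *
  unfold nrigChk at hchk
  simp only [Bool.and_eq_true, decide_eq_true_eq] at hchk
  obtain ⟨⟨⟨⟨⟨⟨-, -, h1lt, h2lt, h3lt⟩, f23⟩, f13⟩, f12⟩, h12, h13⟩, hlast⟩ := hchk
  have hconj : n * T F c d e * n⁻¹ = xg F s1 (k9 * c) * xg F s2 (k10 * d) * xg F s3 (k11 * e) := by
    unfold T xg
    rw [← a9, ← a10, ← a11]
    group
  have hmat : chevG2.x F s1 (k9 * c) * chevG2.x F s2 (k10 * d) * chevG2.x F s3 (k11 * e) =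
      chevG2.x F 9 c' * chevG2.x F 10 d' * chevG2.x F 11 e' := by
    have := congrArg (fun g : GL chevG2.Idx F => (g : Matrix chevG2.Idx chevG2.Idx F)) (hconj.symm.trans h)
    simp only [nrig_T_coe] at this
    rw [← this]
    unfold xg
    rw [Units.val_mul, Units.val_mul, xGL_coe, xGL_coe, xGL_coe]
  have hs1 : s1 = 9 := by
    by_contra hne
    rw [if_neg hne, decide_eq_true_eq] at hlast
    obtain ⟨h10, h11, hcart⟩ := hlast
    have hkc : k9 * c ≠ 0 := mul_ne_zero hk9 hc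
    have key := nrig_entry F s1 s2 s3 h1lt h2lt h3lt f23 f13 f12 h12 h13 hne h10 h11 _ _ _ _ _ _ hmat
    rcases hcart with hcart | hcart | hcart | hcart
    · have := key ⟨0, by decide⟩
      simp only [hcart] at this
      exact hkc (by simpa using this)
    · have := key ⟨0, by decide⟩
      simp only [hcart] at this
      exact hkc (by simpa using this)
    · have := key ⟨1, by decide⟩
      simp only [hcart] at this
      exact hkc (by simpa using this)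
    · have := key ⟨1, by decide⟩
      simp only [hcart] at this
      exact hkc (by simpa using this)
  rw [if_pos hs1, decide_eq_true_eq] at hlast
  obtain ⟨h78, h23⟩ := hlast
  -- `n` and `n⁻¹` preserve the generators of `U_b`
  have hgen : ∀ r ∈ [7, 8, 9, 10, 11], ∀ t : F, xg F r t ∈ chevG2.unipotentRadical F {1} := by
    intro r hr t
    have := (nrig_radical_roots r).2 hr
    exact Subgroup.subset_closure ⟨r, t, this.1, this.2, xGL_coe chevG2 hG2 F r t⟩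
  -- the action on the five roots
  have hperm : ∀ r ∈ [7, 8, 9, 10, 11], ∃ r' ∈ [7, 8, 9, 10, 11], ∃ k : F, k ≠ 0 ∧
      ∀ t : F, n * xg F r t * n⁻¹ = xg F r' (k * t) := by
    intro r hr
    simp only [List.mem_cons, List.not_mem_nil, or_false] at hr
    rcases hr with rfl | rfl | rfl | rfl | rfl
    · exact ⟨s7, by rcases h78 with ⟨e, -⟩ | ⟨e, -⟩ <;> simp [e], k7, hk7, a7⟩
    · exact ⟨s8, by rcases h78 with ⟨-, e⟩ | ⟨-, e⟩ <;> simp [e], k8, hk8, a8⟩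
    · exact ⟨s1, by simp [hs1], k9, hk9, a9⟩
    · exact ⟨s2, by rcases h23 with ⟨e, -⟩ | ⟨e, -⟩ <;> simp [e], k10, hk10, a10⟩
    · exact ⟨s3, by rcases h23 with ⟨-, e⟩ | ⟨-, e⟩ <;> simp [e], k11, hk11, a11⟩
  -- surjectivity of the permutation
  have hsurj : ∀ r' ∈ [7, 8, 9, 10, 11], ∃ r ∈ [7, 8, 9, 10, 11], ∃ k : F, k ≠ 0 ∧
      ∀ t : F, n * xg F r t * n⁻¹ = xg F r' (k * t) := by
    intro r' hr'
    simp only [List.mem_cons, List.not_mem_nil, or_false] at hr'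
    rcases hr' with rfl | rfl | rfl | rfl | rfl
    · rcases h78 with ⟨e, -⟩ | ⟨-, e⟩
      · exact ⟨7, by simp, k7, hk7, fun t => by rw [a7 t, e]⟩
      · exact ⟨8, by simp, k8, hk8, fun t => by rw [a8 t, e]⟩
    · rcases h78 with ⟨-, e⟩ | ⟨e, -⟩
      · exact ⟨8, by simp, k8, hk8, fun t => by rw [a8 t, e]⟩
      · exact ⟨7, by simp, k7, hk7, fun t => by rw [a7 t, e]⟩
    · exact ⟨9, by simp, k9, hk9, fun t => by rw [a9 t, hs1]⟩
    · rcases h23 with ⟨e, -⟩ | ⟨-, e⟩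
      · exact ⟨10, by simp, k10, hk10, fun t => by rw [a10 t, e]⟩
      · exact ⟨11, by simp, k11, hk11, fun t => by rw [a11 t, e]⟩
    · rcases h23 with ⟨-, e⟩ | ⟨e, -⟩
      · exact ⟨11, by simp, k11, hk11, fun t => by rw [a11 t, e]⟩
      · exact ⟨10, by simp, k10, hk10, fun t => by rw [a10 t, e]⟩
  unfold ChevalleyDatum.unipotentRadical
  apply nrig_norm_of_gens
  · rintro g ⟨r, t, hpos, hnot, hg⟩
    have hg' : g = xg F r t := Units.ext (by rw [hg]; exact (xGL_coe chevG2 hG2 F r t).symm)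
    have hr := (nrig_radical_roots r).1 ⟨hpos, hnot⟩
    obtain ⟨r', hr', k, -, hk⟩ := hperm r hr
    rw [hg', hk t]
    exact hgen r' hr' _
  · rintro g ⟨r, t, hpos, hnot, hg⟩
    have hg' : g = xg F r t := Units.ext (by rw [hg]; exact (xGL_coe chevG2 hG2 F r t).symm)
    have hr := (nrig_radical_roots r).1 ⟨hpos, hnot⟩
    obtain ⟨r₀, hr₀, k, hk0, hk⟩ := hsurj r hr
    have e1 : xg F r t = n * xg F r₀ (t / k) * n⁻¹ := by
      rw [hk (t / k), mul_div_cancel₀ t hk0]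
    rw [hg', e1]
    have : n⁻¹ * (n * xg F r₀ (t / k) * n⁻¹) * n = xg F r₀ (t / k) := by group
    rw [this]
    exact hgen r₀ hr₀ _

end Cfsg.Agent.Lib.Helper20.G2c
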