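import Cfsg.Agent.Lib.Helper20.G2cNRIG

/-! # G2c mini-hive (S2180): leaf G2C-TINJ (helper20) -/

set_option autoImplicit false

namespace Cfsg.Agent.Lib.Helper20.G2c

open Cfsg Cfsg.Lie Cfsg.Agent.Lib.Helper36 Matrix

variable (F : Type*) [Field F]

/-- coordinate `e_r` (`r ∈ {9,10,11}`) of column `h_i` of `T c d e` -/
theorem tinjb_coord (c d e : F) (i : Fin chevG2.rank) (r : ℕ) (hr : r < chevG2.nroots) :
    (((T F c d e : GL chevG2.Idx F) : Matrix chevG2.Idx chevG2.Idx F) *ᵥ Pi.single (Sum.inl i) 1)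
        (Sum.inr ⟨r, hr⟩) =
      (-((chevG2.cartan i 9 : ℤ) : F) * c) * (if r = 9 then 1 else 0) +
      (-((chevG2.cartan i 10 : ℤ) : F) * d) * (if r = 10 then 1 else 0) +
      (-((chevG2.cartan i 11 : ℤ) : F) * e) * (if r = 11 then 1 else 0) := by
  rw [nrig_T_coe, nrig_col_prod F 9 10 11 (by decide) (by decide) (by decide) nrig_fix_T.1 nrig_fix_T.2.1
    nrig_fix_T.2.2]
  simp only [Pi.add_apply, Pi.smul_apply, smul_eq_mul, Pi.single_apply, reduceCtorEq, if_false, zero_add,
    Sum.inr.injEq, Fin.mk.injEq]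

/-- G2C-TINJ -/
theorem T_inj (c d e c' d' e' : F) (h : T F c d e = T F c' d' e') : c = c' ∧ d = d' ∧ e = e' := by
  have key : ∀ (i : Fin chevG2.rank) (r : ℕ) (hr : r < chevG2.nroots),
      (-((chevG2.cartan i 9 : ℤ) : F) * c) * (if r = 9 then 1 else 0) +
      (-((chevG2.cartan i 10 : ℤ) : F) * d) * (if r = 10 then 1 else 0) +
      (-((chevG2.cartan i 11 : ℤ) : F) * e) * (if r = 11 then 1 else 0) =
      (-((chevG2.cartan i 9 : ℤ) : F) * c') * (if r = 9 then 1 else 0) +
      (-((chevG2.cartan i 10 : ℤ) : F) * d') * (if r = 10 then 1 else 0) +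
      (-((chevG2.cartan i 11 : ℤ) : F) * e') * (if r = 11 then 1 else 0) := by
    intro i r hr
    rw [← tinjb_coord F c d e i r hr, ← tinjb_coord F c' d' e' i r hr, h]
  have h09 : chevG2.cartan ((⟨0, by decide⟩ : Fin chevG2.rank) : ℕ) 9 = 1 := by decide
  have h111 : chevG2.cartan ((⟨1, by decide⟩ : Fin chevG2.rank) : ℕ) 11 = 1 := by decide
  have h110 : chevG2.cartan ((⟨1, by decide⟩ : Fin chevG2.rank) : ℕ) 10 = -1 := by decide
  refine ⟨?_, ?_, ?_⟩
  · have := key ⟨0, by decide⟩ 9 (by decide)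
    simp only [h09] at this
    simpa using this
  · have := key ⟨1, by decide⟩ 10 (by decide)
    simp only [h110] at this
    simpa using this
  · have := key ⟨1, by decide⟩ 11 (by decide)
    simp only [h111] at this
    simpa using this

end Cfsg.Agent.Lib.Helper20.G2c
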