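import Cfsg.Agent.Lib.Helper20.G2cDefs
import Cfsg.Agent.S1025

/-! # G2c mini-hive (S2180): leaf G2C-UORB (helper20) -/

set_option autoImplicit false

namespace Cfsg.Agent.Lib.Helper20.G2c

open Cfsg Cfsg.Lie Cfsg.Agent.Lib.Helper36

variable (F : Type*) [Field F]

/-- commuting root elements (all commutator constants vanish over `ℤ`) -/
theorem uorbb_comm (r s : ℕ) (hr : r < chevG2.nroots) (h : commVanish chevG2 0 r s = true) (t u : F) :
    xg F s u * xg F r t = xg F r t * xg F s u :=
  comm_of_vanish chevG2 hG2 F 0 (fun c hc => by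
    have : c = 0 := by simpa using hc
    rw [this]; simp) r s hr h t u

/-- a commutator with a single term -/
theorem uorbb_comm1 (r s k : ℕ) (C : ℤ) (hr : r < chevG2.nroots) (hs : s < chevG2.nroots) (hrs : s ≠ r)
    (hneg : s ≠ chevG2.neg r) (hterms : chevG2.commTerms r s = [(k, C, 1, 1)]) (t u : F) :
    xg F s u * xg F r t = xg F r t * xg F s u * xg F k ((C : F) * (-t) * u) := by
  have hcf := Cfsg.Agent.S1025.result (F := F) chevG2 hG2 r s hr hs hrs hneg t u
  apply Units.ext
  unfold xg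
  simp only [Units.val_mul, xGL_coe]
  rw [hcf]
  congr 1
  unfold ChevalleyDatum.commWord ChevalleyDatum.wordMat
  rw [hterms]
  simp

theorem uorbb_semi0 (r s : ℕ) (hr : r < chevG2.nroots) (h : commVanish chevG2 0 r s = true) (t u : F) :
    SemiconjBy (xg F s u) (xg F r t) (xg F r t) := uorbb_comm F r s hr h t u

theorem uorbb_semi_self (r : ℕ) (t u : F) : SemiconjBy (xg F r u) (xg F r t) (xg F r t) := by
  unfold SemiconjBy xg
  rw [← xGL_add, ← xGL_add, add_comm]

theorem uorbb_semi1 (r s k : ℕ) (C : ℤ) (hr : r < chevG2.nroots) (hs : s < chevG2.nroots) (hk : k < chevG2.nroots)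
    (hrs : s ≠ r) (hneg : s ≠ chevG2.neg r) (hterms : chevG2.commTerms r s = [(k, C, 1, 1)])
    (hks : commVanish chevG2 0 k s = true) (t u : F) :
    SemiconjBy (xg F s u) (xg F r t) (xg F r t * xg F k ((C : F) * (-t) * u)) := by
  unfold SemiconjBy
  rw [uorbb_comm1 F r s k C hr hs hrs hneg hterms t u, mul_assoc, uorbb_comm F k s hk hks, ← mul_assoc]

/-- the generators of `U` move `T c d e` inside `{T c * *}` -/
theorem uorbb_gen (r : ℕ) (hr : chevG2.IsPosRoot r) (u c d e : F) :
    ∃ d' e' : F, SemiconjBy (xg F r u) (T F c d e) (T F c d' e') := by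
  have hr12 : r < 12 := hr.1
  have h6 : 6 ≤ r := by
    by_contra hlt
    have hlt' : r < 6 := Nat.lt_of_not_le hlt
    interval_cases r <;> revert hr <;> decide
  interval_cases r
  · -- r = 6
    refine ⟨d, (-1 : ℤ) * (-d) * u + e, ?_⟩
    have h := ((uorbb_semi0 F 9 6 (by decide) (by decide) c u).mul_right
      (uorbb_semi1 F 10 6 11 (-1) (by decide) (by decide) (by decide) (by decide) (by decide) (by decide)
        (by decide) d u)).mul_right (uorbb_semi0 F 11 6 (by decide) (by decide) e u)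
    have e1 : T F c d ((-1 : ℤ) * (-d) * u + e) =
        xg F 9 c * (xg F 10 d * xg F 11 (((-1 : ℤ) : F) * (-d) * u)) * xg F 11 e := by
      unfold T xg
      rw [xGL_add]
      simp only [mul_assoc]
    rw [e1]
    exact h
  · -- r = 7
    refine ⟨(-3 : ℤ) * (-c) * u + d, e, ?_⟩
    have h := ((uorbb_semi1 F 9 7 10 (-3) (by decide) (by decide) (by decide) (by decide) (by decide) (by decide)
      (by decide) c u).mul_right (uorbb_semi0 F 10 7 (by decide) (by decide) d u)).mul_right
      (uorbb_semi0 F 11 7 (by decide) (by decide) e u)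
    have e1 : T F c ((-3 : ℤ) * (-c) * u + d) e =
        xg F 9 c * xg F 10 (((-3 : ℤ) : F) * (-c) * u) * xg F 10 d * xg F 11 e := by
      unfold T xg
      rw [xGL_add]
      simp only [mul_assoc]
    rw [e1]
    exact h
  · -- r = 8
    refine ⟨d, (-3 : ℤ) * (-c) * u + e, ?_⟩
    have h := ((uorbb_semi1 F 9 8 11 (-3) (by decide) (by decide) (by decide) (by decide) (by decide) (by decide)
      (by decide) c u).mul_right (uorbb_semi0 F 10 8 (by decide) (by decide) d u)).mul_right
      (uorbb_semi0 F 11 8 (by decide) (by decide) e u)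
    have e1 : T F c d ((-3 : ℤ) * (-c) * u + e) =
        xg F 9 c * xg F 11 (((-3 : ℤ) : F) * (-c) * u) * xg F 10 d * xg F 11 e := by
      have hc := uorbb_comm F 10 11 (by decide) (by decide) d (((-3 : ℤ) : F) * (-c) * u)
      unfold T
      unfold xg at hc ⊢
      rw [xGL_add, mul_assoc (xGL chevG2 hG2 F 9 c) (xGL chevG2 hG2 F 11 _), hc]
      simp only [mul_assoc]
    rw [e1]
    exact h
  · -- r = 9
    refine ⟨d, e, ?_⟩
    exact ((uorbb_semi_self F 9 c u).mul_right (uorbb_semi0 F 10 9 (by decide) (by decide) d u)).mul_right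
      (uorbb_semi0 F 11 9 (by decide) (by decide) e u)
  · -- r = 10
    refine ⟨d, e, ?_⟩
    exact ((uorbb_semi0 F 9 10 (by decide) (by decide) c u).mul_right (uorbb_semi_self F 10 d u)).mul_right
      (uorbb_semi0 F 11 10 (by decide) (by decide) e u)
  · -- r = 11
    refine ⟨d, e, ?_⟩
    exact ((uorbb_semi0 F 9 11 (by decide) (by decide) c u).mul_right
      (uorbb_semi0 F 10 11 (by decide) (by decide) d u)).mul_right (uorbb_semi_self F 11 e u)

theorem uorbb_semi (u : GL chevG2.Idx F) (hu : u ∈ chevG2.posUnipotent F) (c : F) :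
    ∀ d e : F, ∃ d' e' : F, SemiconjBy u (T F c d e) (T F c d' e') := by
  unfold ChevalleyDatum.posUnipotent at hu
  induction hu using Subgroup.closure_induction'' with
  | one => exact fun d e => ⟨d, e, SemiconjBy.one_left _⟩
  | mem x hx =>
    obtain ⟨r, t, hr, hx⟩ := hx
    have e1 : x = xg F r t := Units.ext (by rw [hx]; exact (xGL_coe chevG2 hG2 F r t).symm)
    rw [e1]
    exact fun d e => uorbb_gen F r hr t c d e
  | inv_mem x hx =>
    obtain ⟨r, t, hr, hx⟩ := hx
    have e1 : x = xg F r t := Units.ext (by rw [hx]; exact (xGL_coe chevG2 hG2 F r t).symm)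
    have e2 : x⁻¹ = xg F r (-t) := by rw [e1]; exact xGL_inv chevG2 hG2 F r t
    rw [e2]
    exact fun d e => uorbb_gen F r hr (-t) c d e
  | mul a b _ _ ha hb =>
    intro d e
    obtain ⟨d1, e1, h1⟩ := hb d e
    obtain ⟨d2, e2, h2⟩ := ha d1 e1
    exact ⟨d2, e2, h2.mul_left h1⟩

/-- G2C-UORB -/
theorem pos_conj_T (u : GL chevG2.Idx F) (hu : u ∈ chevG2.posUnipotent F) (c d e : F) :
    ∃ d' e' : F, u * T F c d e * u⁻¹ = T F c d' e' := by
  obtain ⟨d', e', h⟩ := uorbb_semi F u hu c d e
  refine ⟨d', e', ?_⟩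
  rw [h.eq, mul_inv_cancel_right]

end Cfsg.Agent.Lib.Helper20.G2c
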