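import Cfsg.Agent.Lib.Helper20.G2cDefs
import Cfsg.Agent.Lib.Helper20.G2cNRIG
import Cfsg.Agent.Lib.Helper35.G2cSUP
import Cfsg.Agent.Lib.Helper20.G2cUORB
import Cfsg.Agent.Lib.Helper20.G2cTINJ
import Cfsg.Agent.Lib.Helper72.G2cUFACT
import Cfsg.Agent.Lib.Helper20.G2cCONJ78
import Cfsg.Agent.Lib.Helper45.G2cLCONJ
import Cfsg.Agent.Lib.Helper55.G2cLCENT
import Cfsg.Agent.S0308
import Cfsg.Agent.S1045
import Cfsg.Agent.S1025

/-! # G2c mini-hive (S2180): assembly (helper20)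

The centraliser of the short root involution `x_9(1)` of `G₂(F)`, `char F = 2`. -/

set_option autoImplicit false

namespace Cfsg.Agent.Lib.Helper20.G2c

open Cfsg Cfsg.Lie Cfsg.Agent.Lib.Helper36

variable (F : Type*) [Field F]

theorem T_zero_zero (c : F) : T F c 0 0 = xg F 9 c := by
  unfold T xg
  rw [xGL_zero, xGL_zero, mul_one, mul_one]

theorem T_mem_C0 (c d e : F) : T F c d e ∈ C0 F := by
  unfold T C0
  refine mul_mem (mul_mem ?_ ?_) ?_
  · exact (le_sup_of_le_left (le_sup_of_le_left (le_sup_of_le_left le_sup_left)) :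
      chevG2.rootSubgroup F 9 ≤ _) (mem_rootSubgroup chevG2 hG2 F 9 c)
  · exact (le_sup_of_le_left (le_sup_of_le_left (le_sup_of_le_left le_sup_right)) :
      chevG2.rootSubgroup F 10 ≤ _) (mem_rootSubgroup chevG2 hG2 F 10 d)
  · exact (le_sup_of_le_left (le_sup_of_le_left le_sup_right) :
      chevG2.rootSubgroup F 11 ≤ _) (mem_rootSubgroup chevG2 hG2 F 11 e)

/-- the `B`-orbit of `T c d e`, `c ≠ 0` -/
theorem borel_conj_T (y : GL chevG2.Idx F) (hy : y ∈ chevG2.borelSubgroup F) (c d e : F) (hc : c ≠ 0) :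
    ∃ c' d' e' : F, c' ≠ 0 ∧ y * T F c d e * y⁻¹ = T F c' d' e' := by
  obtain ⟨u, hu, h, hh, rfl⟩ := (mem_borel_iff chevG2 hG2 F y).1 hy
  obtain ⟨χ, hχ, ek⟩ := exists_character_of_mem_diagonal chevG2 hG2 F h hh
  have h9 := diag_conj_xGL chevG2 hG2 F h χ hχ ek 9 (by decide) c
  have h10 := diag_conj_xGL chevG2 hG2 F h χ hχ ek 10 (by decide) d
  have h11 := diag_conj_xGL chevG2 hG2 F h χ hχ ek 11 (by decide) e
  have hT : h * T F c d e * h⁻¹ = T F ((χ 9 : F) * c) ((χ 10 : F) * d) ((χ 11 : F) * e) := by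
    unfold T xg
    rw [← h9, ← h10, ← h11]
    group
  obtain ⟨d', e', hde⟩ := pos_conj_T F u hu ((χ 9 : F) * c) ((χ 10 : F) * d) ((χ 11 : F) * e)
  refine ⟨(χ 9 : F) * c, d', e', mul_ne_zero (Units.ne_zero _) hc, ?_⟩
  rw [← hde, ← hT]
  group

/-- the centraliser of `x_9(1)` inside the parabolic subgroup `P_b` -/
theorem parabolic_cent [CharP F 2] (g : GL chevG2.Idx F) (hg : g ∈ chevG2.parabolicSubgroup F {1})
    (hc : g * xg F 9 1 = xg F 9 1 * g) : g ∈ C0 F := by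
  have hcomm : HComm chevG2 F := fun r s hr hs hrs hneg t u =>
    Cfsg.Agent.S1025.result chevG2 hG2 r s hr hs hrs hneg t u
  obtain ⟨hnorm, hsup, -⟩ := levi_decomposition chevG2 hG2 F hcomm {1}
  have hLN : chevG2.leviSubgroup F {1} ≤
      Subgroup.normalizer (chevG2.unipotentRadical F {1} : Set (GL chevG2.Idx F)) := by
    refine le_trans ?_ hnorm
    rw [← hsup]
    exact le_sup_right
  have hmul := Subgroup.coe_mul_of_right_le_normalizer_left (chevG2.unipotentRadical F {1})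
    (chevG2.leviSubgroup F {1}) hLN
  rw [← hsup, ← SetLike.mem_coe, hmul, Set.mem_mul] at hg
  obtain ⟨u, hu, l, hl, rfl⟩ := hg
  rw [SetLike.mem_coe] at hu hl
  obtain ⟨k, hk⟩ := levi_conj F l hl
  obtain ⟨d', e', hde⟩ := pos_conj_T F u (unipotentRadical_le_pos chevG2 F {1} hu) k 0 0
  rw [T_zero_zero] at hde
  have h1 : u * l * xg F 9 1 * (u * l)⁻¹ = xg F 9 1 := by rw [hc]; group
  have h2 : T F k d' e' = T F 1 0 0 := by
    rw [T_one_zero_zero, ← hde, ← hk]
    calc u * (l * xg F 9 1 * l⁻¹) * u⁻¹ = u * l * xg F 9 1 * (u * l)⁻¹ := by group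
      _ = xg F 9 1 := h1
  obtain ⟨hk1, hd0, he0⟩ := T_inj F _ _ _ _ _ _ h2
  subst hk1 hd0 he0
  -- `l` centralises `t`
  have hlc : l * xg F 9 1 = xg F 9 1 * l := by
    have := congrArg (· * l) hk
    simpa [mul_assoc] using this
  have hlC0 : l ∈ C0 F := by
    have := levi_cent F l hl hlc
    unfold C0
    rw [sup_assoc]
    exact Subgroup.mem_sup_right this
  -- `u` centralises `t`
  have huc : u * xg F 9 1 * u⁻¹ = xg F 9 1 := by
    rw [hde, T_zero_zero]
  obtain ⟨s, s', c, d, e, rfl⟩ := radical_fact F u hu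
  have hTc : T F c d e * xg F 9 1 * (T F c d e)⁻¹ = xg F 9 1 := by
    have := (Subgroup.mem_inf.1 (C0_le F (T_mem_C0 F c d e))).2
    rw [Subgroup.mem_centralizer_iff] at this
    rw [← this _ rfl]
    group
  obtain ⟨k₁, k₂, hk₁, hk₂, h78⟩ := conj78 F
  have h3 : T F 1 (k₁ * s) (k₂ * s') = T F 1 0 0 := by
    rw [← h78 s s', T_one_zero_zero]
    calc (xg F 7 s * xg F 8 s') * xg F 9 1 * (xg F 7 s * xg F 8 s')⁻¹
        = (xg F 7 s * xg F 8 s') * (T F c d e * xg F 9 1 * (T F c d e)⁻¹) * (xg F 7 s * xg F 8 s')⁻¹ := by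
          rw [hTc]
      _ = (xg F 7 s * xg F 8 s' * T F c d e) * xg F 9 1 * (xg F 7 s * xg F 8 s' * T F c d e)⁻¹ := by group
      _ = xg F 9 1 := huc
  obtain ⟨-, hs, hs'⟩ := T_inj F _ _ _ _ _ _ h3
  have hs0 : s = 0 := (mul_eq_zero.1 hs).resolve_left hk₁
  have hs0' : s' = 0 := (mul_eq_zero.1 hs').resolve_left hk₂
  subst hs0 hs0'
  have : xg F 7 0 * xg F 8 0 * T F c d e = T F c d e := by
    unfold xg
    rw [xGL_zero, xGL_zero, one_mul, one_mul]
  rw [this]
  exact mul_mem (T_mem_C0 F c d e) hlC0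

/-- the centraliser of the short root involution `x_9(1)` -/
theorem cent_x9 [CharP F 2] :
    chevG2.group F ⊓ Subgroup.centralizer {xg F 9 1} = C0 F := by
  apply le_antisymm
  · intro g hgg
    obtain ⟨hg, hgc⟩ := Subgroup.mem_inf.1 hgg
    rw [Subgroup.mem_centralizer_iff] at hgc
    have hc : g * xg F 9 1 = xg F 9 1 * g := (hgc _ rfl).symm
    have hcomm : HComm chevG2 F := fun r s hr hs hrs hneg t u =>
      Cfsg.Agent.S1025.result chevG2 hG2 r s hr hs hrs hneg t u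
    have h45 : ∀ i < chevG2.rank, H45 chevG2 F i := fun i hi => Cfsg.Agent.S1045.result chevG2 hG2 i hi
    obtain ⟨P, hB, hN, -⟩ := exists_bnPair chevG2 hG2 F h45
    obtain ⟨n, hn, hgn⟩ := Cfsg.Agent.S0308.result P ⟨g, hg⟩
    rw [hN, Subgroup.mem_subgroupOf] at hn
    rw [DoubleCoset.mem_doubleCoset] at hgn
    obtain ⟨x, hx, y, hy, e⟩ := hgn
    rw [SetLike.mem_coe, hB, Subgroup.mem_subgroupOf] at hx hy
    have e' : g = (x : GL chevG2.Idx F) * (n : GL chevG2.Idx F) * (y : GL chevG2.Idx F) :=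
      congrArg Subtype.val e
    obtain ⟨c, d, e₁, hc0, hy1⟩ := borel_conj_T F _ hy 1 0 0 one_ne_zero
    obtain ⟨c', d', e₁', -, hx1⟩ := borel_conj_T F _ (inv_mem hx) 1 0 0 one_ne_zero
    rw [inv_inv, T_one_zero_zero] at hx1
    rw [T_one_zero_zero] at hy1
    have hn1 : (n : GL chevG2.Idx F) * T F c d e₁ * (n : GL chevG2.Idx F)⁻¹ = T F c' d' e₁' := by
      rw [← hy1, ← hx1]
      have : g * xg F 9 1 * g⁻¹ = xg F 9 1 := by rw [hc]; group
      rw [e'] at this
      calc (n : GL chevG2.Idx F) * ((y : GL chevG2.Idx F) * xg F 9 1 * (y : GL chevG2.Idx F)⁻¹) *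
            (n : GL chevG2.Idx F)⁻¹
          = (x : GL chevG2.Idx F)⁻¹ * ((x : GL chevG2.Idx F) * (n : GL chevG2.Idx F) * (y : GL chevG2.Idx F) *
              xg F 9 1 * ((x : GL chevG2.Idx F) * (n : GL chevG2.Idx F) * (y : GL chevG2.Idx F))⁻¹) *
              (x : GL chevG2.Idx F) := by group
        _ = _ := by rw [this]
    have hnN := monomial_rigid F _ hn c d e₁ c' d' e₁' hc0 hn1
    have hnP : (n : GL chevG2.Idx F) ∈ chevG2.parabolicSubgroup F {1} := by
      rw [← normalizer_unipotentRadical chevG2 hG2 F h45 hcomm {1}]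
      exact ⟨hnN, n.2⟩
    have hBP : chevG2.borelSubgroup F ≤ chevG2.parabolicSubgroup F {1} := by
      unfold ChevalleyDatum.parabolicSubgroup
      exact le_sup_left
    have hgP : g ∈ chevG2.parabolicSubgroup F {1} := by
      rw [e']
      exact mul_mem (mul_mem (hBP hx) hnP) (hBP hy)
    exact parabolic_cent F g hgP hc
  · exact C0_le F

end Cfsg.Agent.Lib.Helper20.G2c
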