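import Mathlib
import Cfsg.Agent.Lib.Helper20.DSRel
import Cfsg.Agent.Lib.Helper20.QD
import Cfsg.Agent.Lib.Helper1.QuatCent

set_option autoImplicit false
set_option linter.style.haveILetI false
set_option linter.unusedSimpArgs false
set_option linter.unusedSectionVars false

namespace Cfsg.Agent.Lib.Helper20

namespace QuatSec

section Build

variable {G : Type*} [Group G]

/-- a semidihedral subgroup has the `DS` structure -/
theorem ds_of_qd (T : Subgroup G) {q : ℕ} {x y : T} (h : QD T q x y) :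
    DS T ((Subgroup.zpowers x).map T.subtype) ((x ^ (4 * q : ℤ) : T) : G) := by
  have hq := h.qpos
  have hmem : ∀ t (ht : t ∈ T), t ∈ (Subgroup.zpowers x).map T.subtype ↔
      (⟨t, ht⟩ : T) ∈ Subgroup.zpowers x := by
    intro t ht
    rw [Subgroup.mem_map]
    constructor
    · rintro ⟨u, hu, rfl⟩
      exact hu
    · intro h'
      exact ⟨⟨t, ht⟩, h', rfl⟩
  have hout : ∀ t (ht : t ∈ T), t ∉ (Subgroup.zpowers x).map T.subtype →
      ∃ i : ℤ, (⟨t, ht⟩ : T) = x ^ i * y := by
    intro t ht htA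
    rw [hmem t ht] at htA
    rcases h.cases ⟨t, ht⟩ with ⟨i, hi⟩ | ⟨i, hi⟩
    · exfalso
      apply htA
      rw [hi]
      exact Subgroup.zpow_mem_zpowers x i
    · exact ⟨i, hi⟩
  refine ⟨?_, ?_, ?_, ?_, ?_, ?_, ?_, ?_, ?_, ?_⟩
  · rintro _ ⟨u, -, rfl⟩
    exact u.2
  · have e2 : (Subgroup.zpowers x) ≃* (Subgroup.zpowers x).map T.subtype :=
      Subgroup.equivMapOfInjective _ T.subtype T.subtype_injective
    exact isCyclic_of_surjective e2 e2.surjective
  · exact ⟨x ^ (4 * q : ℤ), Subgroup.zpow_mem_zpowers x _, rfl⟩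
  · intro h'
    apply h.x4q_ne_one
    exact Subtype.ext h'
  · have := h.x4q_mul_self
    have h2 := congrArg Subtype.val this
    simpa using h2
  · intro t ht htA
    obtain ⟨i, hi⟩ := hout t ht htA
    have h1 : (⟨t, ht⟩ : T) * ⟨t, ht⟩ = x ^ (4 * q * i : ℤ) := by
      rw [hi, h.xy_mul_self]
    rcases Int.emod_two_eq_zero_or_one i with hi2 | hi2
    · left
      have : x ^ (4 * q * i : ℤ) = 1 := by
        rw [h.zpow_eq_one_iff]
        obtain ⟨m, hm⟩ : (2 : ℤ) ∣ i := Int.dvd_of_emod_eq_zero hi2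
        exact ⟨m, by rw [hm]; ring⟩
      rw [this] at h1
      have h2 := congrArg Subtype.val h1
      simpa using h2
    · right
      have : x ^ (4 * q * i : ℤ) = x ^ (4 * q : ℤ) := by
        rw [h.zpow_eq_iff]
        obtain ⟨m, hm⟩ : (2 : ℤ) ∣ i - 1 := by omega
        refine ⟨m, ?_⟩
        have : i = 2 * m + 1 := by omega
        rw [this]; ring
      rw [this] at h1
      have h2 := congrArg Subtype.val h1
      simpa using h2
  · intro t ht htA u hu hu4
    have huT : u ∈ T := by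
      obtain ⟨w, -, rfl⟩ := hu
      exact w.2
    obtain ⟨i, hi⟩ := hout t ht htA
    rw [hmem u huT] at hu
    obtain ⟨j, hj⟩ := Subgroup.mem_zpowers_iff.mp hu
    have hj4 : (8 * q : ℤ) ∣ j * 4 := by
      rw [← h.zpow_eq_one_iff, zpow_mul, hj]
      have : (⟨u, huT⟩ : T) ^ (4 : ℤ) = 1 := by
        apply Subtype.ext
        have := hu4
        simpa using this
      exact this
    have h1 : (⟨t, ht⟩ : T) * ⟨u, huT⟩ * (⟨t, ht⟩ : T)⁻¹ = (⟨u, huT⟩ : T)⁻¹ := by
      rw [hi, ← hj, h.conj_xy_x, ← zpow_neg, h.zpow_eq_iff]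
      obtain ⟨m, hm⟩ := hj4
      refine ⟨m * q, ?_⟩
      have : (4 * q - 1) * j - -j = q * (j * 4) := by ring
      rw [this, hm]; ring
    have h2 := congrArg Subtype.val h1
    simpa using h2
  · intro s hs t ht hsA htA
    obtain ⟨i, hi⟩ := hout s hs hsA
    obtain ⟨j, hj⟩ := hout t ht htA
    rw [hmem (t * s) (T.mul_mem ht hs)]
    have : (⟨t * s, T.mul_mem ht hs⟩ : T) = ⟨t, ht⟩ * ⟨s, hs⟩ := rfl
    rw [this, hi, hj, h.mul_xy_xy]
    exact Subgroup.zpow_mem_zpowers x _
  · intro u hu huu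
    have huT : u ∈ T := by
      obtain ⟨w, -, rfl⟩ := hu
      exact w.2
    rw [hmem u huT] at hu
    obtain ⟨j, hj⟩ := Subgroup.mem_zpowers_iff.mp hu
    have h1 : (⟨u, huT⟩ : T) * ⟨u, huT⟩ = 1 := Subtype.ext huu
    rw [← hj, ← zpow_add, h.zpow_eq_one_iff] at h1
    obtain ⟨m, hm⟩ := h1
    have hj' : j = 4 * q * m := by linarith
    rcases Int.emod_two_eq_zero_or_one m with hm2 | hm2
    · left
      have : x ^ j = 1 := by
        rw [h.zpow_eq_one_iff]
        obtain ⟨m', hm'⟩ : (2 : ℤ) ∣ m := Int.dvd_of_emod_eq_zero hm2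
        exact ⟨m', by rw [hj', hm']; ring⟩
      rw [this] at hj
      have h2 := congrArg Subtype.val hj
      simpa using h2.symm
    · right
      have : x ^ j = x ^ (4 * q : ℤ) := by
        rw [h.zpow_eq_iff]
        obtain ⟨m', hm'⟩ : (2 : ℤ) ∣ m - 1 := by omega
        refine ⟨m', ?_⟩
        have : m = 2 * m' + 1 := by omega
        rw [hj', this]; ring
      rw [this] at hj
      have h2 := congrArg Subtype.val hj
      simpa using h2.symm
  · intro c hc hcA hall
    obtain ⟨i, hi⟩ := hout c hc hcA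
    have h1 := hall (x : G) x.2
    have h2 : x * (⟨c, hc⟩ : T) = ⟨c, hc⟩ * x := Subtype.ext h1
    rw [hi] at h2
    have h3 : x * (x ^ i * y) = x ^ (1 + i : ℤ) * y := by
      have := QD.mul_x_xy (x := x) (y := y) 1 i
      rw [zpow_one] at this
      exact this
    have h4 : (x ^ i * y) * x = x ^ (i + (4 * q - 1) * 1 : ℤ) * y := by
      have := h.mul_xy_x i 1
      rw [zpow_one] at this
      exact this
    rw [h3, h4] at h2
    have h5 : x ^ (1 + i : ℤ) = x ^ (i + (4 * q - 1) * 1 : ℤ) := mul_right_cancel h2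
    rw [h.zpow_eq_iff] at h5
    have h6 : (8 * q : ℤ) ∣ 4 * q - 2 := by
      have : (4 * q - 2 : ℤ) = -((1 + i) - (i + (4 * q - 1) * 1)) := by ring
      rw [this]
      exact (dvd_neg).mpr h5
    have := Int.le_of_dvd (by omega) h6
    omega

open DihedralGroup in
/-- the cyclic subgroup of rotations of a dihedral group -/
def rSub (n : ℕ) : Subgroup (DihedralGroup n) where
  carrier := {q | ∃ k, q = r k}
  mul_mem' := by
    rintro _ _ ⟨k, rfl⟩ ⟨l, rfl⟩
    exact ⟨k + l, r_mul_r k l⟩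
  one_mem' := ⟨0, one_def⟩
  inv_mem' := by
    rintro _ ⟨k, rfl⟩
    exact ⟨-k, inv_r k⟩

open DihedralGroup in
theorem r_mem_rSub {n : ℕ} (k : ZMod n) : (r k : DihedralGroup n) ∈ rSub n := ⟨k, rfl⟩

open DihedralGroup in
theorem exists_sr_of_not_mem {n : ℕ} {q : DihedralGroup n} (hq : q ∉ rSub n) : ∃ k, q = sr k := by
  rcases q with k | k
  · exact (hq (r_mem_rSub k)).elim
  · exact ⟨k, rfl⟩

open DihedralGroup in
theorem rSub_eq_zpowers {n : ℕ} [NeZero n] : rSub n = Subgroup.zpowers (r 1 : DihedralGroup n) := by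
  apply le_antisymm
  · rintro _ ⟨k, rfl⟩
    have : (r k : DihedralGroup n) = r 1 ^ k.val := by
      rw [DihedralGroup.r_one_pow, ZMod.natCast_zmod_val]
    rw [this]
    exact Subgroup.pow_mem _ (Subgroup.mem_zpowers _) _
  · rw [Subgroup.zpowers_le]
    exact r_mem_rSub 1

instance isCyclic_rSub {n : ℕ} [NeZero n] : IsCyclic (rSub n) := by
  rw [rSub_eq_zpowers]
  infer_instance

open DihedralGroup in
/-- a dihedral subgroup of order `4N`, `N ≥ 2`, has the `DS` structure -/
theorem ds_of_dihedral (T : Subgroup G) (N : ℕ) [NeZero N] (hN : 2 ≤ N)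
    (e : T ≃* DihedralGroup (2 * N)) :
    ∃ (A : Subgroup G) (z : G), DS T A z := by
  set A : Subgroup G := ((rSub (2 * N)).comap e.toMonoidHom).map T.subtype with hA
  set z : G := ((e.symm (r (N : ZMod (2 * N))) : T) : G) with hz
  have hmem : ∀ t (ht : t ∈ T), t ∈ A ↔ e ⟨t, ht⟩ ∈ rSub (2 * N) := by
    intro t ht
    rw [hA, Subgroup.mem_map]
    constructor
    · rintro ⟨y, hy, rfl⟩
      exact hy
    · intro h
      exact ⟨⟨t, ht⟩, h, rfl⟩
  have hAT : ∀ u ∈ A, u ∈ T := by
    rw [hA]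
    rintro _ ⟨y, -, rfl⟩
    exact y.2
  have hNne : (r (N : ZMod (2 * N)) : DihedralGroup (2 * N)) ≠ 1 := by
    rw [one_def]
    intro h
    have h1 : ((N : ℕ) : ZMod (2 * N)) = 0 := by
      injection h
    rw [ZMod.natCast_eq_zero_iff] at h1
    have hN0 : 0 < N := by omega
    have := Nat.le_of_dvd hN0 h1
    omega
  have hNsq : (r (N : ZMod (2 * N)) * r (N : ZMod (2 * N)) : DihedralGroup (2 * N)) = 1 := by
    rw [r_mul_r, one_def]
    congr 1
    rw [← Nat.cast_add, ← two_mul]
    exact ZMod.natCast_self _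
  refine ⟨A, z, ⟨?_, ?_, ?_, ?_, ?_, ?_, ?_, ?_, ?_, ?_⟩⟩
  · exact hAT
  · have e1 : ((rSub (2 * N)).comap e.toMonoidHom) ≃* rSub (2 * N) :=
      (e.subgroupMap ((rSub (2 * N)).comap e.toMonoidHom)).trans
        (MulEquiv.subgroupCongr (by
          ext q
          simp only [Subgroup.mem_map, Subgroup.mem_comap]
          constructor
          · rintro ⟨y, hy, rfl⟩
            exact hy
          · intro hq
            exact ⟨e.symm q, by simpa using hq, by simp⟩))
    have e2 : ((rSub (2 * N)).comap e.toMonoidHom) ≃* A :=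
      Subgroup.equivMapOfInjective _ T.subtype T.subtype_injective
    have : IsCyclic ((rSub (2 * N)).comap e.toMonoidHom) :=
      isCyclic_of_surjective e1.symm e1.symm.surjective
    exact isCyclic_of_surjective e2 e2.surjective
  · rw [hmem z (e.symm (r (N : ZMod (2 * N)))).2]
    have : (⟨z, (e.symm (r (N : ZMod (2 * N)))).2⟩ : T) = e.symm (r (N : ZMod (2 * N))) := rfl
    rw [this, e.apply_symm_apply]
    exact r_mem_rSub _
  · intro h
    have h1 : (e.symm (r (N : ZMod (2 * N))) : T) = 1 := Subtype.ext h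
    have h2 : e (e.symm (r (N : ZMod (2 * N)))) = e 1 := by rw [h1]
    rw [e.apply_symm_apply, map_one] at h2
    exact hNne h2
  · have : (e.symm (r (N : ZMod (2 * N))) * e.symm (r (N : ZMod (2 * N))) : T) = 1 := by
      rw [← map_mul, hNsq, map_one]
    have h2 := congrArg (Subtype.val) this
    simpa using h2
  · intro t ht htA
    rw [hmem t ht] at htA
    obtain ⟨k, hk⟩ := exists_sr_of_not_mem htA
    left
    have : (⟨t, ht⟩ * ⟨t, ht⟩ : T) = 1 := by
      apply e.injective
      rw [map_mul, hk, sr_mul_self, map_one]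
    have h2 := congrArg (Subtype.val) this
    simpa using h2
  · intro t ht htA u hu _
    have huT : u ∈ T := hAT u hu
    rw [hmem t ht] at htA
    rw [hmem u huT] at hu
    obtain ⟨k, hk⟩ := exists_sr_of_not_mem htA
    obtain ⟨l, hl⟩ := hu
    have : (⟨t, ht⟩ * ⟨u, huT⟩ * ⟨t, ht⟩⁻¹ : T) = ⟨u, huT⟩⁻¹ := by
      apply e.injective
      rw [map_mul, map_mul, map_inv, map_inv, hk, hl, inv_sr, inv_r, sr_mul_r, sr_mul_sr]
      congr 1
      ring
    have h2 := congrArg (Subtype.val) this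
    simpa using h2
  · intro s hs t ht hsA htA
    rw [hmem s hs] at hsA
    rw [hmem t ht] at htA
    rw [hmem (t * s) (T.mul_mem ht hs)]
    obtain ⟨k, hk⟩ := exists_sr_of_not_mem hsA
    obtain ⟨l, hl⟩ := exists_sr_of_not_mem htA
    have : e ⟨t * s, T.mul_mem ht hs⟩ = e (⟨t, ht⟩ * ⟨s, hs⟩) := rfl
    rw [this, map_mul, hk, hl, sr_mul_sr]
    exact r_mem_rSub _
  · intro u hu huu
    have huT : u ∈ T := hAT u hu
    rw [hmem u huT] at hu
    obtain ⟨l, hl⟩ := hu
    have h1 : e ⟨u, huT⟩ * e ⟨u, huT⟩ = 1 := by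
      rw [← map_mul]
      have : (⟨u, huT⟩ * ⟨u, huT⟩ : T) = 1 := Subtype.ext huu
      rw [this, map_one]
    rw [hl, r_mul_r, one_def] at h1
    have h3 : l + l = 0 := by injection h1
    rcases Cfsg.Agent.Lib.Helper1.zmod_two_mul_add_self_eq_zero l h3 with h | h
    · left
      have : (⟨u, huT⟩ : T) = 1 := by
        apply e.injective
        rw [hl, h, map_one, one_def]
      have h2 := congrArg (Subtype.val) this
      simpa using h2
    · right
      have : (⟨u, huT⟩ : T) = e.symm (r (N : ZMod (2 * N))) := by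
        apply e.injective
        rw [hl, h, e.apply_symm_apply]
      have h2 := congrArg (Subtype.val) this
      simpa using h2
  · intro c hc hcA hall
    rw [hmem c hc] at hcA
    obtain ⟨k, hk⟩ := exists_sr_of_not_mem hcA
    have h1 := hall ((e.symm (r 1) : T) : G) (e.symm (r 1)).2
    have h2 : e.symm (r 1) * (⟨c, hc⟩ : T) = ⟨c, hc⟩ * e.symm (r 1) := Subtype.ext h1
    have h3 := congrArg e h2
    rw [map_mul, map_mul, e.apply_symm_apply, hk, r_mul_sr, sr_mul_r] at h3
    have h4 : k - 1 = k + 1 := by injection h3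
    have h5 : ((2 : ℕ) : ZMod (2 * N)) = 0 := by
      have : (2 : ZMod (2 * N)) = (k + 1) - (k - 1) := by ring
      push_cast
      rw [this, h4, sub_self]
    rw [ZMod.natCast_eq_zero_iff] at h5
    have := Nat.le_of_dvd (by norm_num) h5
    omega

end Build

end QuatSec

end Cfsg.Agent.Lib.Helper20
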