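import Cfsg.Agent.Lib.Helper37.EfDefs

/-! # Ef hive (S2211, owner helper37): leaf EF-INTW2 (helper20), with a GENERIC checker for all eight EF-INTW leaves

`intw2_of_chk k (h : intw2_chk k = true) t : yG F k t * Pm F = Pm F * chevF4.x F (rtF.getD k 0) t` in characteristic 2;
the check `intw2_chk k` is a closed `Bool` (sparse polynomial vectors over the integers, compared modulo 2), so
`intw2_of_chk k (by decide +kernel) t` proves EF-INTWk. -/

set_option autoImplicit false

namespace Cfsg.Agent.Lib.Helper37.Ef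

open Cfsg Cfsg.Lie Cfsg.Agent.Lib.Helper36 Matrix

/-- sparse vectors with monomial coefficients: (index, coefficient, exponent of `t`) -/
abbrev intw2_PVec := List (BIdx × ℤ × ℕ)

section engine

variable (D : ChevalleyDatum) {F : Type*} [Field F]

/-- evaluation of a sparse polynomial vector at `t` -/
def intw2_ev (t : F) (v : intw2_PVec) : D.Idx → F :=
  fun m => (v.map fun p => if p.1 = enc D m then ((p.2.1 : ℤ) : F) * t ^ p.2.2 else 0).sum

theorem intw2_ev_nil (t : F) : intw2_ev D t [] = 0 := by
  funext m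
  simp [intw2_ev]

theorem intw2_ev_append (t : F) (v w : intw2_PVec) :
    intw2_ev D t (v ++ w) = intw2_ev D t v + intw2_ev D t w := by
  funext m
  simp [intw2_ev, List.map_append, List.sum_append]

theorem intw2_ev_flatMap {α : Type*} (t : F) (l : List α) (f : α → intw2_PVec) (m : D.Idx) :
    intw2_ev D t (l.flatMap f) m = (l.map fun a => intw2_ev D t (f a) m).sum := by
  induction l with
  | nil => simp [intw2_ev_nil]
  | cons a l ih => rw [List.flatMap_cons, intw2_ev_append, Pi.add_apply, ih, List.map_cons, List.sum_cons]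

theorem intw2_ev_single (t : F) (c : D.Idx) (z : ℤ) (e : ℕ) :
    intw2_ev D t [(enc D c, z, e)] = ((z : F) * t ^ e) • (Pi.single c 1 : D.Idx → F) := by
  funext m
  simp only [intw2_ev, List.map_cons, List.map_nil, List.sum_cons, List.sum_nil, add_zero, Pi.smul_apply,
    Pi.single_apply, smul_eq_mul]
  by_cases h : m = c
  · subst h
    simp
  · have : enc D c ≠ enc D m := fun h' => h (enc_injective D h').symm
    simp [h, this]

/-- `x_r(t)` applied to a sparse polynomial vector -/
def intw2_app (r : ℕ) (v : intw2_PVec) : intw2_PVec :=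
  v.flatMap fun p => (List.range 4).flatMap fun k => (E D r k p.1).map fun q => (q.1, q.2 * p.2.1, k + p.2.2)

theorem intw2_coef_sum (L : SVec) (b : BIdx) (z : ℤ) (n : ℕ) (t : F) :
    (L.map fun q => if q.1 = b then (((q.2 * z : ℤ)) : F) * t ^ n else 0).sum =
      ((coef L b : ℤ) : F) * (z : F) * t ^ n := by
  induction L with
  | nil => simp
  | cons q L ih =>
    rw [List.map_cons, List.sum_cons, ih, coef_cons]
    by_cases h : q.1 = b
    · simp only [if_pos h]
      push_cast
      ring
    · simp only [if_neg h]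
      push_cast
      ring

theorem intw2_app_single (hwf : wf D = true) (r : ℕ) (hr : r < D.nroots) (t : F) (c : D.Idx) (z : ℤ) (e : ℕ) :
    D.x F r t *ᵥ intw2_ev D t [(enc D c, z, e)] = intw2_ev D t (intw2_app D r [(enc D c, z, e)]) := by
  rw [intw2_ev_single, Matrix.mulVec_smul, Matrix.mulVec_single_one]
  funext m
  simp only [intw2_app, List.flatMap_cons, List.flatMap_nil, List.append_nil]
  rw [intw2_ev_flatMap, Pi.smul_apply, smul_eq_mul, Matrix.col_apply, x_eq_sum D hwf F r hr t, Matrix.sum_apply]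
  have key : ∀ k : ℕ, intw2_ev D t ((E D r k (enc D c)).map fun q => (q.1, q.2 * z, k + e)) m =
      ((coef (E D r k (enc D c)) (enc D m) : ℤ) : F) * (z : F) * t ^ (k + e) := by
    intro k
    rw [← intw2_coef_sum]
    simp only [intw2_ev, List.map_map]
    rfl
  simp only [key, Finset.sum_range_succ, Finset.sum_range_zero, Matrix.smul_apply, EF, Matrix.map_apply,
    toMat_apply, smul_eq_mul, zero_add, List.range_succ, List.range_zero, List.nil_append, List.cons_append,
    List.map_cons, List.map_nil, List.sum_cons, List.sum_nil, add_zero]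
  ring

theorem intw2_app_cons (r : ℕ) (p : BIdx × ℤ × ℕ) (v : intw2_PVec) :
    intw2_app D r (p :: v) = intw2_app D r [p] ++ intw2_app D r v := by
  simp [intw2_app]

theorem intw2_app_sound (hwf : wf D = true) (r : ℕ) (hr : r < D.nroots) (t : F) (v : intw2_PVec)
    (hv : ∀ p ∈ v, inb D p.1) :
    D.x F r t *ᵥ intw2_ev D t v = intw2_ev D t (intw2_app D r v) := by
  induction v with
  | nil => simp [intw2_ev_nil, intw2_app]
  | cons p v ih =>
    obtain ⟨b, z, e⟩ := p
    obtain ⟨c, hc⟩ := exists_enc_of_inb D b (hv _ (List.mem_cons_self ..))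
    subst hc
    have e1 : intw2_ev D t ((enc D c, z, e) :: v) = intw2_ev D t [(enc D c, z, e)] + intw2_ev D t v :=
      intw2_ev_append D t [(enc D c, z, e)] v
    rw [e1, Matrix.mulVec_add, ih (fun q hq => hv q (List.mem_cons_of_mem _ hq)),
      intw2_app_single D hwf r hr t c z e,
      show intw2_app D r ((enc D c, z, e) :: v) = _ from intw2_app_cons D r _ v, intw2_ev_append]

theorem intw2_app_inb (hwf : wf D = true) (r : ℕ) (hr : r < D.nroots) (v : intw2_PVec)
    (hv : ∀ p ∈ v, inb D p.1) : ∀ p ∈ intw2_app D r v, inb D p.1 := by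
  intro p hp
  simp only [intw2_app, List.mem_flatMap, List.mem_map, List.mem_range] at hp
  obtain ⟨p0, hp0, k, -, q, hq, rfl⟩ := hp
  exact E_inRange D hwf r hr k p0.1 (hv p0 hp0) q hq

/-- a word in root elements (all with the same parameter) applied to a sparse polynomial vector -/
theorem intw2_word_sound (hwf : wf D = true) (t : F) (l : List ℕ) (hl : ∀ r ∈ l, r < D.nroots)
    (v : intw2_PVec) (hv : ∀ p ∈ v, inb D p.1) :
    (l.map fun r => D.x F r t).prod *ᵥ intw2_ev D t v = intw2_ev D t (l.foldr (intw2_app D) v) ∧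
      ∀ p ∈ l.foldr (intw2_app D) v, inb D p.1 := by
  induction l with
  | nil => exact ⟨by simp, hv⟩
  | cons r l ih =>
    obtain ⟨h1, h2⟩ := ih fun r' hr' => hl r' (List.mem_cons_of_mem _ hr')
    have hr := hl r (List.mem_cons_self ..)
    constructor
    · rw [List.map_cons, List.prod_cons, ← Matrix.mulVec_mulVec, h1, List.foldr_cons,
        intw2_app_sound D hwf r hr t _ h2]
    · rw [List.foldr_cons]
      exact intw2_app_inb D hwf r hr _ h2

/-- the coefficient of `t ^ e` at the index `b` -/
def intw2_pc (v : intw2_PVec) (b : BIdx) (e : ℕ) : ℤ :=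
  (v.map fun p => if p.1 = b ∧ p.2.2 = e then p.2.1 else 0).sum

theorem intw2_ev_eq_sum (t : F) (N : ℕ) (v : intw2_PVec) (hv : ∀ p ∈ v, p.2.2 < N) (m : D.Idx) :
    intw2_ev D t v m = ∑ e ∈ Finset.range N, ((intw2_pc v (enc D m) e : ℤ) : F) * t ^ e := by
  induction v with
  | nil => simp [intw2_ev, intw2_pc]
  | cons p v ih =>
    have ih' := ih fun q hq => hv q (List.mem_cons_of_mem _ hq)
    have hp : p.2.2 < N := hv p (List.mem_cons_self ..)
    have e1 : intw2_ev D t (p :: v) m =
        (if p.1 = enc D m then ((p.2.1 : ℤ) : F) * t ^ p.2.2 else 0) + intw2_ev D t v m := by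
      simp [intw2_ev]
    rw [e1, ih']
    have e2 : ∀ e, intw2_pc (p :: v) (enc D m) e =
        (if p.1 = enc D m ∧ p.2.2 = e then p.2.1 else 0) + intw2_pc v (enc D m) e := by
      intro e
      simp [intw2_pc]
    simp only [e2, Int.cast_add, add_mul, Finset.sum_add_distrib]
    congr 1
    by_cases h : p.1 = enc D m
    · simp only [h, true_and, if_true]
      rw [Finset.sum_eq_single p.2.2]
      · simp
      · intro e _ he
        simp [Ne.symm he]
      · intro h'
        exact absurd (Finset.mem_range.2 hp) h'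
    · simp [h]

theorem intw2_ev_congr [CharP F 2] (t : F) (N : ℕ) (v w : intw2_PVec) (hv : ∀ p ∈ v, p.2.2 < N)
    (hw : ∀ p ∈ w, p.2.2 < N)
    (h : ∀ b ∈ allCols D, ∀ e < N, intw2_pc v b e % 2 = intw2_pc w b e % 2) :
    intw2_ev D t v = intw2_ev D t w := by
  funext m
  rw [intw2_ev_eq_sum D t N v hv, intw2_ev_eq_sum D t N w hw]
  apply Finset.sum_congr rfl
  intro e he
  have := h (enc D m) (enc_mem_allCols D m) e (Finset.mem_range.1 he)
  have h2 : ((intw2_pc v (enc D m) e : ℤ) : F) = ((intw2_pc w (enc D m) e : ℤ) : F) :=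
    (CharP.intCast_eq_intCast F 2).2 this
  rw [h2]

end engine

/-! ### folding `F₄` vectors into `E₆` vectors -/

/-- the orbit of `E₆`-indices over an `F₄`-index -/
def intw2_orb : BIdx → List BIdx
  | .inl k => (horbF.getD k []).map Sum.inl
  | .inr s => (orbF.getD s []).map Sum.inr

def intw2_fold (v : intw2_PVec) : intw2_PVec :=
  v.flatMap fun p => (intw2_orb p.1).map fun b => (b, p.2.1, p.2.2)

theorem intw2_orbF_nodup : ∀ s, (orbF.getD s []).Nodup := by
  intro s
  by_cases h : s < 48
  · interval_cases s <;> decide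
  · rw [List.getD_eq_default]
    · exact List.nodup_nil
    · simp only [orbF, List.length_cons, List.length_nil]
      omega

theorem intw2_horbF_nodup : ∀ s, (horbF.getD s []).Nodup := by
  intro s
  by_cases h : s < 4
  · interval_cases s <;> decide
  · rw [List.getD_eq_default]
    · exact List.nodup_nil
    · simp only [horbF, List.length_cons, List.length_nil]
      omega

theorem intw2_orb_nodup (b : BIdx) : (intw2_orb b).Nodup := by
  rcases b with k | s
  · exact (intw2_horbF_nodup k).map Sum.inl_injective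
  · exact (intw2_orbF_nodup s).map Sum.inr_injective

theorem intw2_orb_inb : ∀ b, inb chevF4 b → ∀ b' ∈ intw2_orb b, inb chevE6 b' := by
  intro b hb b' hb'
  rcases b with k | s
  · have hk : k < 4 := hb
    simp only [intw2_orb, List.mem_map] at hb'
    obtain ⟨a, ha, rfl⟩ := hb'
    show a < 6
    interval_cases k <;> (simp [horbF] at ha; omega)
  · have hs : s < 48 := hb
    simp only [intw2_orb, List.mem_map] at hb'
    obtain ⟨a, ha, rfl⟩ := hb'
    show a < 72
    have : ∀ s < 48, ∀ a ∈ orbF.getD s [], a < 72 := by decide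
    exact this s hs a ha

variable {F : Type*} [Field F]

theorem intw2_Pm_mem (c : chevF4.Idx) (m : chevE6.Idx) (h : enc chevE6 m ∈ intw2_orb (enc chevF4 c)) :
    Pm F m c = 1 := by
  rcases m with a | a <;> rcases c with k | s <;> simp [Pm, intw2_orb, enc] at h ⊢ <;> exact h

theorem intw2_Pm_not_mem (c : chevF4.Idx) (m : chevE6.Idx) (h : enc chevE6 m ∉ intw2_orb (enc chevF4 c)) :
    Pm F m c = 0 := by
  rcases m with a | a <;> rcases c with k | s <;> simp [Pm, intw2_orb, enc] at h ⊢ <;> exact h

theorem intw2_sum_ite_mem {α : Type*} [DecidableEq α] (L : List α) (hL : L.Nodup) (x : α) (y : F) (hx : x ∈ L) :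
    (L.map fun b => if b = x then y else 0).sum = y := by
  induction L with
  | nil => simp at hx
  | cons b L ih =>
    rw [List.nodup_cons] at hL
    rw [List.map_cons, List.sum_cons]
    by_cases h : b = x
    · subst h
      rw [if_pos rfl]
      have : (L.map fun b' => if b' = b then y else 0).sum = 0 := by
        apply List.sum_eq_zero
        intro z hz
        obtain ⟨b', hb', rfl⟩ := List.mem_map.1 hz
        rw [if_neg]
        intro e
        exact hL.1 (e ▸ hb')
      rw [this, add_zero]
    · rw [if_neg h, zero_add]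
      apply ih hL.2
      rcases List.mem_cons.1 hx with e | e
      · exact absurd e.symm h
      · exact e

theorem intw2_sum_ite_not_mem {α : Type*} [DecidableEq α] (L : List α) (x : α) (y : F) (hx : x ∉ L) :
    (L.map fun b => if b = x then y else 0).sum = 0 := by
  apply List.sum_eq_zero
  intro z hz
  obtain ⟨b', hb', rfl⟩ := List.mem_map.1 hz
  rw [if_neg]
  intro e
  exact hx (e ▸ hb')

theorem intw2_fold_single (t : F) (c : chevF4.Idx) (z : ℤ) (e : ℕ) :
    Pm F *ᵥ intw2_ev chevF4 t [(enc chevF4 c, z, e)] =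
      intw2_ev chevE6 t (intw2_fold [(enc chevF4 c, z, e)]) := by
  rw [intw2_ev_single, Matrix.mulVec_smul, Matrix.mulVec_single_one]
  funext m
  simp only [intw2_fold, List.flatMap_cons, List.flatMap_nil, List.append_nil, Pi.smul_apply, smul_eq_mul,
    Matrix.col_apply, intw2_ev, List.map_map]
  rw [show (List.map ((fun p : BIdx × ℤ × ℕ => if p.1 = enc chevE6 m then ((p.2.1 : ℤ) : F) * t ^ p.2.2 else 0) ∘
      fun b => (b, z, e)) (intw2_orb (enc chevF4 c))) =
      (intw2_orb (enc chevF4 c)).map fun b => if b = enc chevE6 m then (z : F) * t ^ e else 0 from rfl]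
  by_cases h : enc chevE6 m ∈ intw2_orb (enc chevF4 c)
  · rw [intw2_Pm_mem c m h, intw2_sum_ite_mem _ (intw2_orb_nodup _) _ _ h, mul_one]
  · rw [intw2_Pm_not_mem c m h, intw2_sum_ite_not_mem _ _ _ h, mul_zero]

theorem intw2_fold_cons (p : BIdx × ℤ × ℕ) (v : intw2_PVec) :
    intw2_fold (p :: v) = intw2_fold [p] ++ intw2_fold v := by
  simp [intw2_fold]

theorem intw2_fold_sound (t : F) (v : intw2_PVec) (hv : ∀ p ∈ v, inb chevF4 p.1) :
    Pm F *ᵥ intw2_ev chevF4 t v = intw2_ev chevE6 t (intw2_fold v) := by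
  induction v with
  | nil => simp [intw2_ev_nil, intw2_fold]
  | cons p v ih =>
    obtain ⟨b, z, e⟩ := p
    obtain ⟨c, hc⟩ := exists_enc_of_inb chevF4 b (hv _ (List.mem_cons_self ..))
    subst hc
    have e1 : intw2_ev chevF4 t ((enc chevF4 c, z, e) :: v) =
        intw2_ev chevF4 t [(enc chevF4 c, z, e)] + intw2_ev chevF4 t v :=
      intw2_ev_append chevF4 t [(enc chevF4 c, z, e)] v
    rw [e1, Matrix.mulVec_add, ih (fun q hq => hv q (List.mem_cons_of_mem _ hq)), intw2_fold_single,
      show intw2_fold ((enc chevF4 c, z, e) :: v) = _ from intw2_fold_cons _ v, intw2_ev_append]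

theorem intw2_fold_inb (v : intw2_PVec) (hv : ∀ p ∈ v, inb chevF4 p.1) :
    ∀ p ∈ intw2_fold v, inb chevE6 p.1 := by
  intro p hp
  simp only [intw2_fold, List.mem_flatMap, List.mem_map] at hp
  obtain ⟨p0, hp0, b, hb, rfl⟩ := hp
  exact intw2_orb_inb p0.1 (hv p0 hp0) b hb

/-! ### the check -/

/-- column `c` of the left hand side -/
def intw2_lhs (k : ℕ) (c : BIdx) : intw2_PVec :=
  (blk.getD k []).foldr (intw2_app chevE6) (intw2_fold [(c, 1, 0)])

/-- column `c` of the right hand side -/
def intw2_rhs (k : ℕ) (c : BIdx) : intw2_PVec :=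
  intw2_fold (intw2_app chevF4 (rtF.getD k 0) [(c, 1, 0)])

def intw2_chk (k : ℕ) : Bool :=
  decide (rtF.getD k 0 < 48) && (blk.getD k []).all (fun r => decide (r < 72)) &&
  (allCols chevF4).all fun c =>
    (intw2_lhs k c).all (fun p => decide (p.2.2 < 8)) && (intw2_rhs k c).all (fun p => decide (p.2.2 < 8)) &&
    (allCols chevE6).all fun b => (List.range 8).all fun e =>
      intw2_pc (intw2_lhs k c) b e % 2 == intw2_pc (intw2_rhs k c) b e % 2

/-- GENERIC EF-INTW -/
theorem intw2_of_chk [CharP F 2] (k : ℕ) (hk : intw2_chk k = true) (t : F) :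
    ((yG F k t : GL chevE6.Idx F) : Matrix chevE6.Idx chevE6.Idx F) * Pm F =
      Pm F * chevF4.x F (rtF.getD k 0) t := by
  unfold intw2_chk at hk
  simp only [Bool.and_eq_true, decide_eq_true_eq, List.all_eq_true, beq_iff_eq, List.mem_range] at hk
  obtain ⟨⟨hrt, hblk⟩, hcols⟩ := hk
  have hyG : ((yG F k t : GL chevE6.Idx F) : Matrix chevE6.Idx chevE6.Idx F) =
      ((blk.getD k []).map fun r => chevE6.x F r t).prod := by
    unfold yG
    rw [wordGL_coe]
    unfold ChevalleyDatum.wordMat
    rw [List.map_map]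
    rfl
  have hcol : ∀ c : chevF4.Idx,
      (((yG F k t : GL chevE6.Idx F) : Matrix chevE6.Idx chevE6.Idx F) * Pm F) *ᵥ Pi.single c 1 =
        (Pm F * chevF4.x F (rtF.getD k 0) t) *ᵥ Pi.single c 1 := by
    intro c
    obtain ⟨⟨hl8, hr8⟩, hpc⟩ := hcols (enc chevF4 c) (enc_mem_allCols chevF4 c)
    have hsingle : (Pi.single c 1 : chevF4.Idx → F) = intw2_ev chevF4 t [(enc chevF4 c, 1, 0)] := by
      rw [intw2_ev_single]
      simp
    have hin : ∀ p ∈ [((enc chevF4 c, 1, 0) : BIdx × ℤ × ℕ)], inb chevF4 p.1 := by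
      intro p hp
      rw [List.mem_singleton] at hp
      rw [hp]
      exact inb_enc chevF4 c
    rw [← Matrix.mulVec_mulVec, ← Matrix.mulVec_mulVec, hsingle, intw2_fold_sound t _ hin, hyG,
      (intw2_word_sound chevE6 wf_E6 t (blk.getD k []) hblk _ (intw2_fold_inb _ hin)).1,
      intw2_app_sound chevF4 wf_F4 _ hrt t _ hin,
      intw2_fold_sound t _ (intw2_app_inb chevF4 wf_F4 _ hrt _ hin)]
    exact intw2_ev_congr chevE6 t 8 _ _ hl8 hr8 hpc
  ext i c
  have := congrFun (hcol c) i
  rw [Matrix.mulVec_single_one, Matrix.mulVec_single_one] at this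
  exact this

/-- EF-INTW2 -/
theorem intw2 [CharP F 2] (t : F) :
    ((yG F 2 t : GL chevE6.Idx F) : Matrix chevE6.Idx chevE6.Idx F) * Pm F = Pm F * chevF4.x F 33 t :=
  intw2_of_chk 2 (by decide +kernel) t

end Cfsg.Agent.Lib.Helper37.Ef
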