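import Cfsg.Agent.Lib.Helper20.F4cDefs

/-! # F4c hive (S2179): leaf F4C-COL (helper20)

The `h_i`-column of a product of root elements of `F₄(F)` in which every factor fixes the root vectors of the later
factors. -/

set_option autoImplicit false

namespace Cfsg.Agent.Lib.Helper20.F4c

open Cfsg Cfsg.Lie Cfsg.Agent.Lib.Helper36 Matrix

variable (F : Type*) [Field F]

/-- the basis vector `e_r` -/
def eV (r : ℕ) : chevF4.Idx → F := fun idx => Sum.elim (fun _ => 0) (fun u => if u.val = r then 1 else 0) idx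

theorem eV_eq_single (r : ℕ) (hr : r < chevF4.nroots) : eV F r = Pi.single (Sum.inr ⟨r, hr⟩) 1 := by
  ext idx
  rcases idx with i | u
  · simp [eV]
  · simp only [eV, Sum.elim_inr, Pi.single_apply, Sum.inr.injEq]
    by_cases h : u.val = r
    · rw [if_pos h, if_pos (Fin.ext h)]
    · rw [if_neg h, if_neg (fun e => h (by rw [e]))]

theorem eV_apply (r s : ℕ) (hs : s < chevF4.nroots) : eV F r (Sum.inr ⟨s, hs⟩) = if s = r then 1 else 0 := by
  simp [eV]

/-- `x_r` fixes `e_s` (cheap criterion) -/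
def fixB (r s : ℕ) : Bool :=
  s == r || (s != chevF4.neg r && ((chevF4.chain.getD r #[]).toList.filter (fun e => e.1 = s)).isEmpty)

theorem fixB_spec (r s : ℕ) (h : fixB r s = true) :
    s = r ∨ (s ≠ chevF4.neg r ∧ ∀ u < chevF4.nroots, chevF4.chainCoeff r s u = []) := by
  unfold fixB at h
  simp only [Bool.or_eq_true, beq_iff_eq, Bool.and_eq_true, bne_iff_ne, ne_eq, List.isEmpty_iff] at h
  rcases h with h | ⟨h1, h2⟩
  · exact Or.inl h
  · refine Or.inr ⟨h1, fun u _ => ?_⟩
    unfold ChevalleyDatum.chainCoeff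
    rw [h2]
    rfl

/-- column `h_i` of `x_r(c)` -/
theorem col_h (r : ℕ) (hr : r < chevF4.nroots) (c : F) (i : Fin chevF4.rank) (idx : chevF4.Idx) :
    chevF4.x F r c idx (Sum.inl i) =
      if idx = Sum.inl i then 1 else
        if idx = Sum.inr ⟨r, hr⟩ then -((chevF4.cartan i r : ℤ) : F) * c else 0 := by
  unfold ChevalleyDatum.x
  rw [dif_pos hr]
  simp only [ChevalleyDatum.xMat, Matrix.of_apply]
  rcases idx with i' | u
  · simp
  · simp only [reduceCtorEq, if_false, Sum.inr.injEq]
    rfl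

/-- column `e_s` of `x_r(c)` when `e_s` is fixed -/
theorem col_e (r s : ℕ) (hr : r < chevF4.nroots) (hs : s < chevF4.nroots)
    (hfix : s = r ∨ (s ≠ chevF4.neg r ∧ ∀ u < chevF4.nroots, chevF4.chainCoeff r s u = [])) (c : F)
    (idx : chevF4.Idx) :
    chevF4.x F r c idx (Sum.inr ⟨s, hs⟩) = if idx = Sum.inr ⟨s, hs⟩ then 1 else 0 := by
  unfold ChevalleyDatum.x
  rw [dif_pos hr]
  simp only [ChevalleyDatum.xMat, Matrix.of_apply]
  rcases hfix with rfl | ⟨hneg, hch⟩
  · rw [if_pos rfl]
    rcases idx with i' | u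
    · simp
    · simp only [Sum.inr.injEq]
  · by_cases hsr : s = r
    · subst hsr
      rw [if_pos rfl]
      rcases idx with i' | u
      · simp
      · simp only [Sum.inr.injEq]
    · have h1 : (⟨s, hs⟩ : Fin chevF4.nroots) ≠ ⟨r, hr⟩ := fun e => hsr (Fin.mk.inj_iff.1 e)
      rw [if_neg h1]
      have h2 : ¬ ((⟨s, hs⟩ : Fin chevF4.nroots).val = chevF4.negIdx.getD (⟨r, hr⟩ : Fin chevF4.nroots).val 0) := hneg
      rw [if_neg h2]
      rcases idx with i' | u
      · simp
      · simp only [Sum.inr.injEq]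
        rw [hch u.val u.isLt]
        simp

/-- `x_r(c) h_i = h_i - A_{i r} c e_r` -/
theorem mulVec_h (r : ℕ) (hr : r < chevF4.nroots) (c : F) (i : Fin chevF4.rank) :
    chevF4.x F r c *ᵥ Pi.single (Sum.inl i) 1 =
      Pi.single (Sum.inl i) 1 + (-((chevF4.cartan i r : ℤ) : F) * c) • eV F r := by
  rw [eV_eq_single F r hr]
  ext idx
  rw [Matrix.mulVec_single_one]
  simp only [Matrix.col_apply, Pi.add_apply, Pi.smul_apply, smul_eq_mul, Pi.single_apply]
  rw [col_h F r hr c i idx]
  by_cases h1 : idx = Sum.inl i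
  · subst h1
    simp
  · by_cases h2 : idx = Sum.inr ⟨r, hr⟩
    · subst h2
      simp
    · simp [h1, h2]

/-- `x_r(c) e_s = e_s` when `e_s` is fixed -/
theorem mulVec_e (r s : ℕ) (hr : r < chevF4.nroots) (hs : s < chevF4.nroots) (hfix : fixB r s = true) (c : F) :
    chevF4.x F r c *ᵥ eV F s = eV F s := by
  rw [eV_eq_single F s hs]
  ext idx
  rw [Matrix.mulVec_single_one]
  simp only [Matrix.col_apply, Pi.single_apply]
  rw [col_e F r s hr hs (fixB_spec r s hfix) c idx]

/-- F4C-COL -/
theorem col_list (L : List (ℕ × F)) (hlt : ∀ p ∈ L, p.1 < chevF4.nroots)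
    (hfix : L.Pairwise (fun p q => fixB p.1 q.1 = true)) (i : Fin chevF4.rank) :
    (L.map fun p => chevF4.x F p.1 p.2).prod *ᵥ Pi.single (Sum.inl i) 1 =
      Pi.single (Sum.inl i) 1 + (L.map fun p => (-((chevF4.cartan i p.1 : ℤ) : F) * p.2) • eV F p.1).sum := by
  induction L with
  | nil => rw [List.map_nil, List.prod_nil, Matrix.one_mulVec, List.map_nil, List.sum_nil, add_zero]
  | cons p L ih =>
    rw [List.pairwise_cons] at hfix
    obtain ⟨hp, hL⟩ := hfix
    have hpl : p.1 < chevF4.nroots := hlt p (List.mem_cons_self ..)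
    have hlt' : ∀ q ∈ L, q.1 < chevF4.nroots := fun q hq => hlt q (List.mem_cons_of_mem _ hq)
    rw [List.map_cons, List.prod_cons, ← Matrix.mulVec_mulVec, ih hlt' hL, Matrix.mulVec_add,
      mulVec_h F p.1 hpl p.2 i, List.map_cons, List.sum_cons, add_assoc]
    congr 2
    -- the tail is fixed
    clear ih hL
    induction L with
    | nil => simp
    | cons q L ih2 =>
      rw [List.map_cons, List.sum_cons, Matrix.mulVec_add, Matrix.mulVec_smul,
        mulVec_e F p.1 q.1 hpl (hlt' q (List.mem_cons_self ..)) (hp q (List.mem_cons_self ..)) p.2]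
      congr 1
      exact ih2 (fun q' hq' => hlt q' (by
          rcases List.mem_cons.1 hq' with h | h
          · exact h ▸ List.mem_cons_self ..
          · exact List.mem_cons_of_mem _ (List.mem_cons_of_mem _ h)))
        (fun q' hq' => hp q' (List.mem_cons_of_mem _ hq'))
        (fun q' hq' => hlt' q' (List.mem_cons_of_mem _ hq'))

/-- F4C-COL, coordinates -/
theorem col_list_apply (L : List (ℕ × F)) (hlt : ∀ p ∈ L, p.1 < chevF4.nroots)
    (hfix : L.Pairwise (fun p q => fixB p.1 q.1 = true)) (i : Fin chevF4.rank) (s : ℕ)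
    (hs : s < chevF4.nroots) :
    ((L.map fun p => chevF4.x F p.1 p.2).prod *ᵥ Pi.single (Sum.inl i) 1) (Sum.inr ⟨s, hs⟩) =
      (L.map fun p => if s = p.1 then -((chevF4.cartan i p.1 : ℤ) : F) * p.2 else 0).sum := by
  rw [col_list F L hlt hfix i]
  simp only [Pi.add_apply, Pi.single_apply, reduceCtorEq, if_false, zero_add]
  clear hlt hfix
  induction L with
  | nil => simp
  | cons p L ih =>
    rw [List.map_cons, List.sum_cons, List.map_cons, List.sum_cons, Pi.add_apply, ih]
    congr 1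
    rw [Pi.smul_apply, eV_apply, smul_eq_mul]
    split_ifs <;> simp

end Cfsg.Agent.Lib.Helper20.F4c
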