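import Cfsg.Agent.Lib.Helper36.ChevCentRoot2
import Cfsg.Agent.Lib.Helper36.ChevNormU
import Cfsg.Agent.Lib.Helper36.ChevLevi

/-! # F4c hive (S2179): common definitions (helper20)

`F₄(F)`, `char F = 2`, root numbering of `chevF4`: simple roots `33 = p₁`, `27 = p₂` (short), `25 = p₃`, `24 = p₄` (long)
(`simple 0 = 33`, `simple 1 = 27`, `simple 2 = 25`, `simple 3 = 24`); negatives `14, 20, 22, 23`; `neg r = 47 - r`.
Coordinates: `39 = (1,2,2,1)`, `40 = (1,3,2,1)`, `44 = (2,3,2,1)` short; `43 = (2,2,2,1)`, `45 = (2,4,2,1)`, `46 = (2,4,3,1)`,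
`47 = (2,4,3,2)` long; `34 = p₁+p₂`, `26 = p₃+p₄`. -/

set_option autoImplicit false

namespace Cfsg.Agent.Lib.Helper20.F4c

open Cfsg Cfsg.Lie Cfsg.Agent.Lib.Helper36

theorem hF4 : chevF4 ∈ [chevG2, chevB2, chevD4, chevF4, chevE6, chevE7, chevE8] := by simp

variable (F : Type*) [Field F]

/-- the root element `x_r(c)` of `F₄(F)` as an element of `GL` -/
noncomputable abbrev xf (r : ℕ) (c : F) : GL chevF4.Idx F := xGL chevF4 hF4 F r c

/-- `T a b c d e f = x_39(a) x_40(b) x_44(c) x_45(d) x_46(e) x_47(f)` -/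
noncomputable def T (a b c d e f : F) : GL chevF4.Idx F :=
  xf F 39 a * xf F 40 b * xf F 44 c * xf F 45 d * xf F 46 e * xf F 47 f

/-- the six roots of `T` -/
def troots : List ℕ := [39, 40, 44, 45, 46, 47]

/-- the abelian group generated by the six root subgroups of `T` -/
def Tgrp : Subgroup (GL chevF4.Idx F) :=
  Subgroup.closure {g | ∃ r ∈ troots, ∃ t : F, g = xf F r t}

/-- the generators of the unipotent part of the claimed centraliser of `x_39(1) x_45(1)` -/
def cposGens : Set (GL chevF4.Idx F) :=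
  {g : GL chevF4.Idx F | ∃ (r : ℕ) (c : F), chevF4.IsPosRoot r ∧ r ∉ [27, 25, 34, 26] ∧
    (g : Matrix chevF4.Idx chevF4.Idx F) = chevF4.x F r c}

/-- the claimed centraliser of `x_39(1) x_45(1)` -/
def C0 : Subgroup (GL chevF4.Idx F) :=
  chevF4.rootSubgroup F 33 ⊔ chevF4.rootSubgroup F 14 ⊔ chevF4.rootSubgroup F 24 ⊔ chevF4.rootSubgroup F 23 ⊔
    Subgroup.closure (cposGens F)

/-- the claimed centraliser of `x_47(1) x_44(1)` -/
def QA : Subgroup (GL chevF4.Idx F) :=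
  chevF4.posUnipotent F ⊔ chevF4.rootSubgroup F 20 ⊔ chevF4.rootSubgroup F 22

/-- `char F = 2` as used by `comm_of_vanish` / `centHyp_of_chk` -/
theorem hp2 [CharP F 2] : ∀ c : ℤ, c % 2 = 0 → (c : F) = 0 := by
  intro c hc
  have h2 : (2 : ℤ) ∣ c := Int.dvd_of_emod_eq_zero hc
  obtain ⟨k, rfl⟩ := h2
  have : (2 : F) = 0 := CharP.cast_eq_zero F 2
  push_cast
  rw [this, zero_mul]

theorem hp0 : ∀ c : ℤ, c % 0 = 0 → (c : F) = 0 := by
  intro c hc
  have : c = 0 := by simpa using hc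
  rw [this]; simp

theorem T_zero : T F 0 0 0 0 0 0 = 1 := by
  unfold T xf
  simp only [xGL_zero, mul_one]

theorem T_v : T F 1 0 0 1 0 0 = xf F 39 1 * xf F 45 1 := by
  unfold T xf
  simp only [xGL_zero, mul_one]

end Cfsg.Agent.Lib.Helper20.F4c
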