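import Cfsg.Agent.Lib.Helper20.F4cDefs
import Cfsg.Agent.Lib.Helper33.F4cAQ
import Cfsg.Agent.Lib.Helper54.F4cARIG
import Cfsg.Agent.Lib.Helper79.F4cADIAG
import Cfsg.Agent.S0308
import Cfsg.Agent.S0311
import Cfsg.Agent.S1045

/-! # F4c hive (S2179): assembly of part A (helper20)

The centraliser of `x_47(1) x_44(1)` in `F₄(F)`, `char F = 2`. -/

set_option autoImplicit false

namespace Cfsg.Agent.Lib.Helper20.F4c

open Cfsg Cfsg.Lie Cfsg.Agent.Lib.Helper36 Cfsg.Agent.Lib.Helper18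

variable (F : Type*) [Field F]

theorem H47 : CentHyp chevF4 hF4 F 47 3 := centHyp_of_chk chevF4 hF4 F 0 (hp0 F) 47 3 chkCent_F4_long

theorem H44 [CharP F 2] : CentHyp chevF4 hF4 F 44 0 := centHyp_of_chk chevF4 hF4 F 2 (hp2 F) 44 0 chkCent_F4_short

/-- `n_{i₀}` does not normalise `X_ρ` -/
theorem nGL_notin_normalizer (ρ i₀ : ℕ) (H : CentHyp chevF4 hF4 F ρ i₀) :
    nGL chevF4 hF4 F (chevF4.simple i₀) 1 ∉
      Subgroup.normalizer (chevF4.rootSubgroup F ρ : Set (GL chevF4.Idx F)) := by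
  intro hkM
  have hi := H.hi₀
  have hxr := xGL_reflect chevF4 hF4 F i₀ ρ hi H.hρ 1
  rw [Subgroup.mem_normalizer_iff] at hkM
  have hmem := (hkM (xGL chevF4 hF4 F ρ (((nEta chevF4 i₀ ρ : ℤ) : F) * 1))).1
    (mem_rootSubgroup chevF4 hF4 F ρ _)
  rw [← hxr] at hmem
  obtain ⟨b, hb⟩ := (mem_rootSubgroup_iff chevF4 hF4 F ρ _).1 hmem
  have := root_eq_of_xGL_eq chevF4 hF4 F H _ (reflectRoot_lt chevF4 hF4 i₀ ρ hi H.hρ) 1 b one_ne_zero hb
  exact H.hi₀'.1 this

/-- the `B`-orbit of `x_47(a) x_44(b)` -/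
theorem borel_conj_w [CharP F 2] (y : GL chevF4.Idx F) (hy : y ∈ chevF4.borelSubgroup F) (a b : F)
    (ha : a ≠ 0) (hb : b ≠ 0) :
    ∃ a' b' : F, a' ≠ 0 ∧ b' ≠ 0 ∧ y * (xf F 47 a * xf F 44 b) * y⁻¹ = xf F 47 a' * xf F 44 b' := by
  obtain ⟨u, hu, h, hh, rfl⟩ := (mem_borel_iff chevF4 hF4 F y).1 hy
  obtain ⟨χ, hχ, ek⟩ := exists_character_of_mem_diagonal chevF4 hF4 F h hh
  have h47 := diag_conj_xGL chevF4 hF4 F h χ hχ ek 47 (by decide) a
  have h44 := diag_conj_xGL chevF4 hF4 F h χ hχ ek 44 (by decide) b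
  have c47 := (H47 F).hcenU u hu ((χ 47 : F) * a)
  have c44 := (H44 F).hcenU u hu ((χ 44 : F) * b)
  refine ⟨(χ 47 : F) * a, (χ 44 : F) * b, mul_ne_zero (Units.ne_zero _) ha, mul_ne_zero (Units.ne_zero _) hb, ?_⟩
  unfold xf at *
  calc u * h * (xGL chevF4 hF4 F 47 a * xGL chevF4 hF4 F 44 b) * (u * h)⁻¹
      = u * ((h * xGL chevF4 hF4 F 47 a * h⁻¹) * (h * xGL chevF4 hF4 F 44 b * h⁻¹)) * u⁻¹ := by group
    _ = (u * xGL chevF4 hF4 F 47 ((χ 47 : F) * a)) * xGL chevF4 hF4 F 44 ((χ 44 : F) * b) * u⁻¹ := by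
        rw [h47, h44]; group
    _ = xGL chevF4 hF4 F 47 ((χ 47 : F) * a) * (u * xGL chevF4 hF4 F 44 ((χ 44 : F) * b)) * u⁻¹ := by
        rw [c47]; group
    _ = xGL chevF4 hF4 F 47 ((χ 47 : F) * a) * xGL chevF4 hF4 F 44 ((χ 44 : F) * b) := by
        rw [c44]; group

/-- the centraliser of `x_47(1) x_44(1)` -/
theorem cent_w [CharP F 2] [Fintype F] :
    chevF4.group F ⊓ Subgroup.centralizer {xf F 47 1 * xf F 44 1} = QA F := by
  apply le_antisymm
  · intro g hgg
    obtain ⟨hg, hgc⟩ := Subgroup.mem_inf.1 hgg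
    rw [Subgroup.mem_centralizer_iff] at hgc
    have hc : g * (xf F 47 1 * xf F 44 1) = xf F 47 1 * xf F 44 1 * g := (hgc _ rfl).symm
    have h45 : ∀ i < chevF4.rank, H45 chevF4 F i := fun i hi => Cfsg.Agent.S1045.result chevF4 hF4 i hi
    obtain ⟨P, hB, hN, hS⟩ := exists_bnPair chevF4 hF4 F h45
    obtain ⟨n, hn, hgn⟩ := Cfsg.Agent.S0308.result P ⟨g, hg⟩
    rw [hN, Subgroup.mem_subgroupOf] at hn
    rw [DoubleCoset.mem_doubleCoset] at hgn
    obtain ⟨x, hx, y, hy, e⟩ := hgn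
    rw [SetLike.mem_coe, hB, Subgroup.mem_subgroupOf] at hx hy
    have e' : g = (x : GL chevF4.Idx F) * (n : GL chevF4.Idx F) * (y : GL chevF4.Idx F) :=
      congrArg Subtype.val e
    obtain ⟨a, b, ha, hb, hy1⟩ := borel_conj_w F _ hy 1 1 one_ne_zero one_ne_zero
    obtain ⟨a', b', -, -, hx1⟩ := borel_conj_w F _ (inv_mem hx) 1 1 one_ne_zero one_ne_zero
    rw [inv_inv] at hx1
    have hn1 : (n : GL chevF4.Idx F) * (xf F 47 a * xf F 44 b) * (n : GL chevF4.Idx F)⁻¹ =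
        xf F 47 a' * xf F 44 b' := by
      rw [← hy1, ← hx1]
      have : g * (xf F 47 1 * xf F 44 1) * g⁻¹ = xf F 47 1 * xf F 44 1 := by rw [hc]; group
      rw [e'] at this
      calc (n : GL chevF4.Idx F) * ((y : GL chevF4.Idx F) * (xf F 47 1 * xf F 44 1) *
            (y : GL chevF4.Idx F)⁻¹) * (n : GL chevF4.Idx F)⁻¹
          = (x : GL chevF4.Idx F)⁻¹ * ((x : GL chevF4.Idx F) * (n : GL chevF4.Idx F) * (y : GL chevF4.Idx F) *
              (xf F 47 1 * xf F 44 1) *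
              ((x : GL chevF4.Idx F) * (n : GL chevF4.Idx F) * (y : GL chevF4.Idx F))⁻¹) *
              (x : GL chevF4.Idx F) := by group
        _ = _ := by rw [this]
    obtain ⟨hn47, hn44⟩ := rigidA F _ hn a b a' b' ha hb hn1
    -- the intersection of the two normalisers is a parabolic subgroup
    set M : Subgroup ↥(chevF4.group F) :=
      (Subgroup.normalizer (chevF4.rootSubgroup F 47 : Set (GL chevF4.Idx F)) ⊓
        Subgroup.normalizer (chevF4.rootSubgroup F 44 : Set (GL chevF4.Idx F))).subgroupOf (chevF4.group F)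
      with hM
    have hB47 := borel_le_normalizer_root chevF4 hF4 F (H47 F)
    have hB44 := borel_le_normalizer_root chevF4 hF4 F (H44 F)
    have hBM : P.B ≤ M := by
      intro b hb
      rw [hB, Subgroup.mem_subgroupOf] at hb
      rw [hM, Subgroup.mem_subgroupOf]
      exact Subgroup.mem_inf.2 ⟨hB47 hb, hB44 hb⟩
    obtain ⟨K, hKS, hMK⟩ := Cfsg.Agent.S0311.result P M hBM
    have hgM : (⟨g, hg⟩ : ↥(chevF4.group F)) ∈ M := by
      rw [hM, Subgroup.mem_subgroupOf]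
      show g ∈ _
      rw [e']
      exact Subgroup.mem_inf.2 ⟨mul_mem (mul_mem (hB47 hx) hn47) (hB47 hy),
        mul_mem (mul_mem (hB44 hx) hn44) (hB44 hy)⟩
    have hKQ : ∀ k ∈ K, (k : GL chevF4.Idx F) ∈ QA F := by
      intro k hk
      have hkM : k ∈ M := by
        rw [hMK]
        exact (le_sup_right : Subgroup.closure K ≤ P.parabolic K) (Subgroup.subset_closure hk)
      rw [hM, Subgroup.mem_subgroupOf] at hkM
      obtain ⟨hk47, hk44⟩ := Subgroup.mem_inf.1 hkM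
      have hkS := hKS hk
      rw [hS] at hkS
      obtain ⟨i, hi, hki⟩ := hkS
      have hk' : (k : GL chevF4.Idx F) = nGL chevF4 hF4 F (chevF4.simple i) 1 :=
        Units.ext (by rw [hki, nGL_coe])
      rw [hk'] at hk47 hk44 ⊢
      have h4 : chevF4.rank = 4 := by decide
      rw [h4] at hi
      interval_cases i
      · exact absurd hk44 (nGL_notin_normalizer F 44 0 (H44 F))
      · exact nGL_mem_QA F 1 (Or.inl rfl)
      · exact nGL_mem_QA F 2 (Or.inr rfl)
      · exact absurd hk47 (nGL_notin_normalizer F 47 3 (H47 F))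
    have hUQ : chevF4.posUnipotent F ≤ QA F := by
      unfold QA
      exact le_sup_of_le_left le_sup_left
    have hMle : M ≤ (QA F ⊔ chevF4.diagonalSubgroup F).subgroupOf (chevF4.group F) := by
      rw [hMK]
      unfold BNPair.parabolic
      apply sup_le
      · intro b hb
        rw [hB, Subgroup.mem_subgroupOf] at hb
        rw [Subgroup.mem_subgroupOf]
        unfold ChevalleyDatum.borelSubgroup at hb
        exact (sup_le_sup_right hUQ _) hb
      · rw [Subgroup.closure_le]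
        intro k hk
        rw [SetLike.mem_coe, Subgroup.mem_subgroupOf]
        exact (le_sup_left : QA F ≤ _) (hKQ k hk)
    have hgQH : g ∈ QA F ⊔ chevF4.diagonalSubgroup F := by
      have := hMle hgM
      rwa [Subgroup.mem_subgroupOf] at this
    have hmul := Subgroup.coe_mul_of_right_le_normalizer_left (QA F) (chevF4.diagonalSubgroup F)
      (diag_le_normalizer_QA F)
    rw [← SetLike.mem_coe, hmul, Set.mem_mul] at hgQH
    obtain ⟨q, hq, h, hh, rfl⟩ := hgQH
    rw [SetLike.mem_coe] at hq hh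
    have hqc := (Subgroup.mem_inf.1 (QA_le F hq)).2
    rw [Subgroup.mem_centralizer_iff] at hqc
    have hqc' : q * (xf F 47 1 * xf F 44 1) = xf F 47 1 * xf F 44 1 * q := (hqc _ rfl).symm
    have hhc : h * (xf F 47 1 * xf F 44 1) = xf F 47 1 * xf F 44 1 * h := by
      have : q * (h * (xf F 47 1 * xf F 44 1)) = q * (xf F 47 1 * xf F 44 1 * h) := by
        rw [← mul_assoc, hc, ← mul_assoc, ← hqc', mul_assoc]
      exact mul_left_cancel this
    exact mul_mem hq (diag_cent_QA F h hh hhc)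
  · exact QA_le F

end Cfsg.Agent.Lib.Helper20.F4c
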