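import Cfsg.Agent.Lib.Helper20.F4cDefs
import Cfsg.Agent.Lib.Helper49.F4cCONJ6

/-! # F4c hive (S2179): leaf F4C-UORB (helper20, insurance copy; generator steps from helper49's F4C-CONJ6) -/

set_option autoImplicit false

namespace Cfsg.Agent.Lib.Helper20.F4c

open Cfsg Cfsg.Lie Cfsg.Agent.Lib.Helper36

variable (F : Type*) [Field F]

theorem uorb_semi_any [CharP F 2] (r k : ℕ) (hk : k < chevF4.nroots)
    (h : r = k ∨ commVanish chevF4 2 k r = true) (t u : F) :
    SemiconjBy (xf F r u) (xf F k t) (xf F k t) := by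
  rcases h with rfl | h
  · unfold SemiconjBy xf
    rw [← xGL_add, ← xGL_add, add_comm]
  · exact conj6_semi0 F k r hk h t u

theorem uorb_triv [CharP F 2] (r : ℕ) (h : ∀ k ∈ troots, r = k ∨ commVanish chevF4 2 k r = true)
    (u a b c d e f : F) : SemiconjBy (xf F r u) (T F a b c d e f) (T F a b c d e f) := by
  unfold T
  exact (((((uorb_semi_any F r 39 (by decide) (h 39 (by decide)) a u).mul_right
    (uorb_semi_any F r 40 (by decide) (h 40 (by decide)) b u)).mul_right
    (uorb_semi_any F r 44 (by decide) (h 44 (by decide)) c u)).mul_right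
    (uorb_semi_any F r 45 (by decide) (h 45 (by decide)) d u)).mul_right
    (uorb_semi_any F r 46 (by decide) (h 46 (by decide)) e u)).mul_right
    (uorb_semi_any F r 47 (by decide) (h 47 (by decide)) f u)

theorem uorb_chk : ∀ r ∈ chevF4.posRoots, r ∉ [27, 34, 33, 25, 26, 24] →
    ∀ k ∈ troots, r = k ∨ commVanish chevF4 2 k r = true := by decide +kernel

/-- the generators of `U` move `T a b c d e f` inside `{T a * * d * *}` -/
theorem uorb_gen [CharP F 2] (r : ℕ) (hr : chevF4.IsPosRoot r) (u a b c d e f : F) :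
    ∃ b' c' e' f' : F, SemiconjBy (xf F r u) (T F a b c d e f) (T F a b' c' d e' f') := by
  by_cases h : r ∈ [27, 34, 33, 25, 26, 24]
  · simp only [List.mem_cons, List.not_mem_nil, or_false] at h
    rcases h with rfl | rfl | rfl | rfl | rfl | rfl
    · exact ⟨_, _, _, _, conj6_gen27 F u a b c d e f⟩
    · exact ⟨_, _, _, _, conj6_gen34 F u a b c d e f⟩
    · exact ⟨_, _, _, _, conj6_gen33 F u a b c d e f⟩
    · exact ⟨_, _, _, _, conj6_gen25 F u a b c d e f⟩
    · exact ⟨_, _, _, _, conj6_gen26 F u a b c d e f⟩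
    · exact ⟨_, _, _, _, conj6_gen24 F u a b c d e f⟩
  · have hmem : r ∈ chevF4.posRoots := (Cfsg.Agent.Lib.Helper18.mem_posRoots chevF4 r).2 hr
    exact ⟨b, c, e, f, uorb_triv F r (uorb_chk r hmem h) u a b c d e f⟩

theorem uorb_semi [CharP F 2] (u : GL chevF4.Idx F) (hu : u ∈ chevF4.posUnipotent F) (a d : F) :
    ∀ b c e f : F, ∃ b' c' e' f' : F, SemiconjBy u (T F a b c d e f) (T F a b' c' d e' f') := by
  unfold ChevalleyDatum.posUnipotent at hu
  induction hu using Subgroup.closure_induction'' with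
  | one => exact fun b c e f => ⟨b, c, e, f, SemiconjBy.one_left _⟩
  | mem x hx =>
    obtain ⟨r, t, hr, hx⟩ := hx
    have e1 : x = xf F r t := Units.ext (by rw [hx]; exact (xGL_coe chevF4 hF4 F r t).symm)
    rw [e1]
    exact fun b c e f => uorb_gen F r hr t a b c d e f
  | inv_mem x hx =>
    obtain ⟨r, t, hr, hx⟩ := hx
    have e1 : x = xf F r t := Units.ext (by rw [hx]; exact (xGL_coe chevF4 hF4 F r t).symm)
    have e2 : x⁻¹ = xf F r (-t) := by rw [e1]; exact xGL_inv chevF4 hF4 F r t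
    rw [e2]
    exact fun b c e f => uorb_gen F r hr (-t) a b c d e f
  | mul x y _ _ hx hy =>
    intro b c e f
    obtain ⟨b1, c1, e1, f1, h1⟩ := hy b c e f
    obtain ⟨b2, c2, e2, f2, h2⟩ := hx b1 c1 e1 f1
    exact ⟨b2, c2, e2, f2, h2.mul_left h1⟩

/-- F4C-UORB -/
theorem pos_conj_T [CharP F 2] (u : GL chevF4.Idx F) (hu : u ∈ chevF4.posUnipotent F) (a b c d e f : F) :
    ∃ b' c' e' f' : F, u * T F a b c d e f * u⁻¹ = T F a b' c' d e' f' := by
  obtain ⟨b', c', e', f', h⟩ := uorb_semi F u hu a d b c e f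
  refine ⟨b', c', e', f', ?_⟩
  rw [h.eq, mul_inv_cancel_right]

end Cfsg.Agent.Lib.Helper20.F4c
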