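import Cfsg.Agent.Lib.Helper20.F4cDefs
import Cfsg.Agent.Lib.Helper20.F4cUORB
import Cfsg.Agent.Lib.Helper35.F4cSUP
import Cfsg.Agent.Lib.Helper49.F4cCONJ6
import Cfsg.Agent.Lib.Helper49.F4cTMUL
import Cfsg.Agent.Lib.Helper55.F4cLCENT
import Cfsg.Agent.Lib.Helper65.F4cNOTIN
import Cfsg.Agent.Lib.Helper65.F4cTINJ
import Cfsg.Agent.Lib.Helper79.F4cLCONJ
import Cfsg.Agent.Lib.Helper99.F4cNRIG
import Cfsg.Agent.Lib.Helper36.ChevKeyOrd
import Cfsg.Agent.S0308
import Cfsg.Agent.S0311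
import Cfsg.Agent.S1045
import Cfsg.Agent.S1025

/-! # F4c hive (S2179): assembly of part B (helper20)

The centraliser of `x_39(1) x_45(1)` in `F₄(F)`, `char F = 2`. -/

set_option autoImplicit false

namespace Cfsg.Agent.Lib.Helper20.F4c

open Cfsg Cfsg.Lie Cfsg.Agent.Lib.Helper36 Cfsg.Agent.Lib.Helper18

variable (F : Type*) [Field F]

theorem xf_mem_Tgrp (r : ℕ) (hr : r ∈ troots) (t : F) : xf F r t ∈ Tgrp F :=
  Subgroup.subset_closure ⟨r, hr, t, rfl⟩

theorem T_mem_Tgrp (a b c d e f : F) : T F a b c d e f ∈ Tgrp F := by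
  unfold T
  exact mul_mem (mul_mem (mul_mem (mul_mem (mul_mem (xf_mem_Tgrp F 39 (by decide) a)
    (xf_mem_Tgrp F 40 (by decide) b)) (xf_mem_Tgrp F 44 (by decide) c)) (xf_mem_Tgrp F 45 (by decide) d))
    (xf_mem_Tgrp F 46 (by decide) e)) (xf_mem_Tgrp F 47 (by decide) f)

/-- the `B`-orbit of `T a b c d e f` -/
theorem borel_conj_T [CharP F 2] (y : GL chevF4.Idx F) (hy : y ∈ chevF4.borelSubgroup F) (a b c d e f : F) :
    ∃ a' b' c' d' e' f' : F, (a ≠ 0 → a' ≠ 0) ∧ (d ≠ 0 → d' ≠ 0) ∧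
      y * T F a b c d e f * y⁻¹ = T F a' b' c' d' e' f' := by
  obtain ⟨u, hu, h, hh, rfl⟩ := (mem_borel_iff chevF4 hF4 F y).1 hy
  obtain ⟨χ, hχ, ek⟩ := exists_character_of_mem_diagonal chevF4 hF4 F h hh
  have h39 := diag_conj_xGL chevF4 hF4 F h χ hχ ek 39 (by decide) a
  have h40 := diag_conj_xGL chevF4 hF4 F h χ hχ ek 40 (by decide) b
  have h44 := diag_conj_xGL chevF4 hF4 F h χ hχ ek 44 (by decide) c
  have h45 := diag_conj_xGL chevF4 hF4 F h χ hχ ek 45 (by decide) d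
  have h46 := diag_conj_xGL chevF4 hF4 F h χ hχ ek 46 (by decide) e
  have h47 := diag_conj_xGL chevF4 hF4 F h χ hχ ek 47 (by decide) f
  have hT : h * T F a b c d e f * h⁻¹ = T F ((χ 39 : F) * a) ((χ 40 : F) * b) ((χ 44 : F) * c)
      ((χ 45 : F) * d) ((χ 46 : F) * e) ((χ 47 : F) * f) := by
    unfold T xf
    rw [← h39, ← h40, ← h44, ← h45, ← h46, ← h47]
    group
  obtain ⟨b', c', e', f', hde⟩ := pos_conj_T F u hu ((χ 39 : F) * a) ((χ 40 : F) * b) ((χ 44 : F) * c)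
      ((χ 45 : F) * d) ((χ 46 : F) * e) ((χ 47 : F) * f)
  refine ⟨(χ 39 : F) * a, b', c', (χ 45 : F) * d, e', f', fun ha => mul_ne_zero (Units.ne_zero _) ha,
    fun hd => mul_ne_zero (Units.ne_zero _) hd, ?_⟩
  rw [← hde, ← hT]
  group

theorem borel_le_normalizer_Tgrp [CharP F 2] :
    chevF4.borelSubgroup F ≤ Subgroup.normalizer (Tgrp F : Set (GL chevF4.Idx F)) := by
  intro y hy
  rw [Subgroup.mem_normalizer_iff]
  intro g
  constructor
  · intro hg
    obtain ⟨a, b, c, d, e, f, rfl⟩ := mem_Tgrp F g hg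
    obtain ⟨a', b', c', d', e', f', -, -, h⟩ := borel_conj_T F y hy a b c d e f
    rw [h]
    exact T_mem_Tgrp F _ _ _ _ _ _
  · intro hg
    obtain ⟨a, b, c, d, e, f, h0⟩ := mem_Tgrp F _ hg
    obtain ⟨a', b', c', d', e', f', -, -, h⟩ := borel_conj_T F y⁻¹ (inv_mem hy) a b c d e f
    have e1 : g = y⁻¹ * (y * g * y⁻¹) * y⁻¹⁻¹ := by group
    rw [e1, h0, h]
    exact T_mem_Tgrp F _ _ _ _ _ _

/-- the centraliser of `x_39(1) x_45(1)` lies in the parabolic subgroup `P_{p₁,p₄}` -/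
theorem cent_le_parabolic [CharP F 2] [Fintype F] (g : GL chevF4.Idx F) (hg : g ∈ chevF4.group F)
    (hc : g * T F 1 0 0 1 0 0 = T F 1 0 0 1 0 0 * g) : g ∈ chevF4.parabolicSubgroup F {0, 3} := by
  have h45 : ∀ i < chevF4.rank, H45 chevF4 F i := fun i hi => Cfsg.Agent.S1045.result chevF4 hF4 i hi
  obtain ⟨P, hB, hN, hS⟩ := exists_bnPair chevF4 hF4 F h45
  obtain ⟨n, hn, hgn⟩ := Cfsg.Agent.S0308.result P ⟨g, hg⟩
  rw [hN, Subgroup.mem_subgroupOf] at hn
  rw [DoubleCoset.mem_doubleCoset] at hgn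
  obtain ⟨x, hx, y, hy, e⟩ := hgn
  rw [SetLike.mem_coe, hB, Subgroup.mem_subgroupOf] at hx hy
  have e' : g = (x : GL chevF4.Idx F) * (n : GL chevF4.Idx F) * (y : GL chevF4.Idx F) :=
    congrArg Subtype.val e
  obtain ⟨a, b, c, d, e₁, f, ha, hd, hy1⟩ := borel_conj_T F _ hy 1 0 0 1 0 0
  obtain ⟨a', b', c', d', e₁', f', -, -, hx1⟩ := borel_conj_T F _ (inv_mem hx) 1 0 0 1 0 0
  rw [inv_inv] at hx1
  have hn1 : (n : GL chevF4.Idx F) * T F a b c d e₁ f * (n : GL chevF4.Idx F)⁻¹ = T F a' b' c' d' e₁' f' := by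
    rw [← hy1, ← hx1]
    have : g * T F 1 0 0 1 0 0 * g⁻¹ = T F 1 0 0 1 0 0 := by rw [hc]; group
    rw [e'] at this
    calc (n : GL chevF4.Idx F) * ((y : GL chevF4.Idx F) * T F 1 0 0 1 0 0 * (y : GL chevF4.Idx F)⁻¹) *
          (n : GL chevF4.Idx F)⁻¹
        = (x : GL chevF4.Idx F)⁻¹ * ((x : GL chevF4.Idx F) * (n : GL chevF4.Idx F) * (y : GL chevF4.Idx F) *
            T F 1 0 0 1 0 0 * ((x : GL chevF4.Idx F) * (n : GL chevF4.Idx F) * (y : GL chevF4.Idx F))⁻¹) *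
            (x : GL chevF4.Idx F) := by group
      _ = _ := by rw [this]
  have hnN := monomial_rigid F _ hn a b c d e₁ f a' b' c' d' e₁' f' (ha one_ne_zero) (hd one_ne_zero) hn1
  -- the normaliser of `Tgrp` is a parabolic subgroup
  set M : Subgroup ↥(chevF4.group F) :=
    (Subgroup.normalizer (Tgrp F : Set (GL chevF4.Idx F))).subgroupOf (chevF4.group F) with hM
  have hBM : P.B ≤ M := by
    intro b hb
    rw [hB, Subgroup.mem_subgroupOf] at hb
    rw [hM, Subgroup.mem_subgroupOf]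
    exact borel_le_normalizer_Tgrp F hb
  obtain ⟨K, hKS, hMK⟩ := Cfsg.Agent.S0311.result P M hBM
  have hgM : (⟨g, hg⟩ : ↥(chevF4.group F)) ∈ M := by
    rw [hM, Subgroup.mem_subgroupOf]
    show g ∈ Subgroup.normalizer (Tgrp F : Set (GL chevF4.Idx F))
    rw [e']
    exact mul_mem (mul_mem (borel_le_normalizer_Tgrp F hx) hnN) (borel_le_normalizer_Tgrp F hy)
  have hBP : chevF4.borelSubgroup F ≤ chevF4.parabolicSubgroup F {0, 3} := by
    unfold ChevalleyDatum.parabolicSubgroup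
    exact le_sup_left
  have hMle : M ≤ (chevF4.parabolicSubgroup F {0, 3}).subgroupOf (chevF4.group F) := by
    rw [hMK]
    unfold BNPair.parabolic
    apply sup_le
    · intro b hb
      rw [hB, Subgroup.mem_subgroupOf] at hb
      rw [Subgroup.mem_subgroupOf]
      exact hBP hb
    · rw [Subgroup.closure_le]
      intro k hk
      rw [SetLike.mem_coe, Subgroup.mem_subgroupOf]
      have hkM : k ∈ M := by
        rw [hMK]
        exact (le_sup_right : Subgroup.closure K ≤ P.parabolic K) (Subgroup.subset_closure hk)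
      rw [hM, Subgroup.mem_subgroupOf] at hkM
      have hkS := hKS hk
      rw [hS] at hkS
      obtain ⟨i, hi, hki⟩ := hkS
      have hk' : (k : GL chevF4.Idx F) = nGL chevF4 hF4 F (chevF4.simple i) 1 :=
        Units.ext (by rw [hki, nGL_coe])
      have hi03 : i = 0 ∨ i = 3 := by
        have h4 : chevF4.rank = 4 := by decide
        rw [h4] at hi
        interval_cases i
        · exact Or.inl rfl
        · exfalso
          rw [hk'] at hkM
          exact n1_notin F hkM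
        · exfalso
          rw [hk'] at hkM
          exact n2_notin F hkM
        · exact Or.inr rfl
      unfold ChevalleyDatum.parabolicSubgroup
      apply Subgroup.mem_sup_right
      apply Subgroup.subset_closure
      refine ⟨i, ?_, hi, hki⟩
      rcases hi03 with rfl | rfl <;> simp
  have := hMle hgM
  rwa [Subgroup.mem_subgroupOf] at this

/-- an admissible order of the positive roots starting with `p₁, p₂, p₃, p₄, p₁+p₂, p₃+p₄` -/
def ordT : List ℕ :=
  [33, 27, 25, 24, 34, 26, 28, 29, 30, 35, 31, 36, 37, 32, 38, 41, 39, 42, 40, 43, 44, 45, 46, 47]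

theorem ordT_ok : chkKeyOrd chevF4 ordT = true := by decide +kernel

/-- the tail of `ordT` -/
def ordTail : List ℕ := [28, 29, 30, 35, 31, 36, 37, 32, 38, 41, 39, 42, 40, 43, 44, 45, 46, 47]

theorem ordTail_pos : ∀ r ∈ ordTail, chevF4.IsPosRoot r ∧ r ∉ [27, 25, 34, 26] := by decide

theorem xf_mem_cpos (r : ℕ) (hr : chevF4.IsPosRoot r) (hr' : r ∉ [27, 25, 34, 26]) (t : F) :
    xf F r t ∈ Subgroup.closure (cposGens F) :=
  Subgroup.subset_closure ⟨r, t, hr, hr', xGL_coe chevF4 hF4 F r t⟩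

theorem word_split (t : ℕ → F) :
    wordGL chevF4 hF4 F (ordT.map fun r => (r, t r)) =
      (xf F 33 (t 33) * xf F 27 (t 27) * xf F 25 (t 25) * xf F 24 (t 24) * xf F 34 (t 34) * xf F 26 (t 26)) *
        wordGL chevF4 hF4 F (ordTail.map fun r => (r, t r)) := by
  unfold wordGL ordT ordTail xf
  simp only [List.map_cons, List.map_nil, List.prod_cons, List.prod_nil, mul_assoc]

theorem cpos_le_C0 : Subgroup.closure (cposGens F) ≤ C0 F := by
  unfold C0
  exact le_sup_right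

/-- the centraliser of `x_39(1) x_45(1)` inside the parabolic subgroup `P_{p₁,p₄}` -/
theorem parabolic_cent [CharP F 2] [Fintype F] (g : GL chevF4.Idx F)
    (hg : g ∈ chevF4.parabolicSubgroup F {0, 3})
    (hc : g * T F 1 0 0 1 0 0 = T F 1 0 0 1 0 0 * g) : g ∈ C0 F := by
  have hcomm : HComm chevF4 F := fun r s hr hs hrs hneg t u =>
    Cfsg.Agent.S1025.result chevF4 hF4 r s hr hs hrs hneg t u
  obtain ⟨hnorm, hsup, -⟩ := levi_decomposition chevF4 hF4 F hcomm {0, 3}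
  have hLN : chevF4.leviSubgroup F {0, 3} ≤
      Subgroup.normalizer (chevF4.unipotentRadical F {0, 3} : Set (GL chevF4.Idx F)) := by
    refine le_trans ?_ hnorm
    rw [← hsup]
    exact le_sup_right
  have hmul := Subgroup.coe_mul_of_right_le_normalizer_left (chevF4.unipotentRadical F {0, 3})
    (chevF4.leviSubgroup F {0, 3}) hLN
  rw [← hsup, ← SetLike.mem_coe, hmul, Set.mem_mul] at hg
  obtain ⟨u, hu, l, hl, rfl⟩ := hg
  rw [SetLike.mem_coe] at hu hl
  have huU : u ∈ chevF4.posUnipotent F := unipotentRadical_le_pos chevF4 F {0, 3} hu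
  obtain ⟨k₁, k₂, hk⟩ := levi_conj F l hl
  obtain ⟨b', c', e', f', hde⟩ := pos_conj_T F u huU k₁ 0 0 k₂ 0 0
  have h1 : u * l * T F 1 0 0 1 0 0 * (u * l)⁻¹ = T F 1 0 0 1 0 0 := by rw [hc]; group
  have h2 : T F k₁ b' c' k₂ e' f' = T F 1 0 0 1 0 0 := by
    rw [← hde, ← hk]
    calc u * (l * T F 1 0 0 1 0 0 * l⁻¹) * u⁻¹ = u * l * T F 1 0 0 1 0 0 * (u * l)⁻¹ := by group
      _ = T F 1 0 0 1 0 0 := h1
  obtain ⟨hk1, hb0, hc0, hk2, he0, hf0⟩ := T_inj F _ _ _ _ _ _ _ _ _ _ _ _ h2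
  subst hk1 hb0 hc0 hk2 he0 hf0
  -- `l` centralises `v`
  have hlc : l * T F 1 0 0 1 0 0 = T F 1 0 0 1 0 0 * l := by
    have := congrArg (· * l) hk
    simpa [mul_assoc] using this
  have hlC0 : l ∈ C0 F := by
    have := levi_cent F l hl hlc
    unfold C0
    exact Subgroup.mem_sup_left this
  -- `u` centralises `v`
  have huc : u * T F 1 0 0 1 0 0 * u⁻¹ = T F 1 0 0 1 0 0 := hde
  obtain ⟨t, ht⟩ := key_exists chevF4 hF4 F ordT ordT_ok u huU
  rw [word_split] at ht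
  set u6 := xf F 33 (t 33) * xf F 27 (t 27) * xf F 25 (t 25) * xf F 24 (t 24) * xf F 34 (t 34) *
    xf F 26 (t 26) with hu6
  set tl := wordGL chevF4 hF4 F (ordTail.map fun r => (r, t r)) with htl
  have htlmem : tl ∈ Subgroup.closure (cposGens F) := by
    apply wordGL_mem
    intro p hp
    obtain ⟨r, hr, rfl⟩ := List.mem_map.1 hp
    obtain ⟨h1, h2⟩ := ordTail_pos r hr
    exact xf_mem_cpos F r h1 h2 _
  have htlc : tl * T F 1 0 0 1 0 0 * tl⁻¹ = T F 1 0 0 1 0 0 := by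
    have := (Subgroup.mem_inf.1 (C0_le F (cpos_le_C0 F htlmem))).2
    rw [Subgroup.mem_centralizer_iff] at this
    rw [← this _ rfl]
    group
  have hu6c : u6 * T F 1 0 0 1 0 0 * u6⁻¹ = T F 1 0 0 1 0 0 := by
    calc u6 * T F 1 0 0 1 0 0 * u6⁻¹ = u6 * (tl * T F 1 0 0 1 0 0 * tl⁻¹) * u6⁻¹ := by rw [htlc]
      _ = (u6 * tl) * T F 1 0 0 1 0 0 * (u6 * tl)⁻¹ := by group
      _ = T F 1 0 0 1 0 0 := by rw [← ht]; exact huc
  obtain ⟨h27, h25, h34, h26⟩ := conj6_core F (T_inj F) (t 33) (t 27) (t 25) (t 24) (t 34) (t 26) hu6c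
  have hu6mem : u6 ∈ C0 F := by
    rw [hu6, h27, h25, h34, h26]
    unfold xf
    simp only [Cfsg.Agent.Lib.Helper36.xGL_zero, mul_one]
    refine mul_mem ?_ ?_
    · exact cpos_le_C0 F (xf_mem_cpos F 33 (by decide) (by decide) _)
    · exact cpos_le_C0 F (xf_mem_cpos F 24 (by decide) (by decide) _)
  rw [ht]
  exact mul_mem (mul_mem hu6mem (cpos_le_C0 F htlmem)) hlC0

/-- the centraliser of `x_39(1) x_45(1)` -/
theorem cent_v [CharP F 2] [Fintype F] :
    chevF4.group F ⊓ Subgroup.centralizer {T F 1 0 0 1 0 0} = C0 F := by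
  apply le_antisymm
  · intro g hgg
    obtain ⟨hg, hgc⟩ := Subgroup.mem_inf.1 hgg
    rw [Subgroup.mem_centralizer_iff] at hgc
    have hc : g * T F 1 0 0 1 0 0 = T F 1 0 0 1 0 0 * g := (hgc _ rfl).symm
    exact parabolic_cent F g (cent_le_parabolic F g hg hc) hc
  · exact C0_le F

end Cfsg.Agent.Lib.Helper20.F4c
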