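import Cfsg.Agent.Lib.Helper36.ChevCentRoot2
import Cfsg.Agent.Lib.Helper36.ChevNormU
import Cfsg.Agent.Lib.Helper36.ChevLevi

/-! # G2c mini-hive (S2180): common definitions (helper20)

`G₂(F)`, root numbering of `chevG2`: `6 = b` (long simple, `simple 1`), `7 = a` (short simple, `simple 0`),
`8 = a+b`, `9 = 2a+b`, `10 = 3a+b`, `11 = 3a+2b`, `neg r = 11 - r`. -/

set_option autoImplicit false

namespace Cfsg.Agent.Lib.Helper20.G2c

open Cfsg Cfsg.Lie Cfsg.Agent.Lib.Helper36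

theorem hG2 : chevG2 ∈ [chevG2, chevB2, chevD4, chevF4, chevE6, chevE7, chevE8] := by simp

variable (F : Type*) [Field F]

/-- the root element `x_r(c)` of `G₂(F)` as an element of `GL` -/
noncomputable abbrev xg (r : ℕ) (c : F) : GL chevG2.Idx F := xGL chevG2 hG2 F r c

/-- `T c d e = x_9(c) x_10(d) x_11(e)` -/
noncomputable def T (c d e : F) : GL chevG2.Idx F := xg F 9 c * xg F 10 d * xg F 11 e

/-- the claimed centraliser of `x_9(1)` -/
def C0 : Subgroup (GL chevG2.Idx F) :=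
  chevG2.rootSubgroup F 9 ⊔ chevG2.rootSubgroup F 10 ⊔ chevG2.rootSubgroup F 11 ⊔ chevG2.rootSubgroup F 6 ⊔
    chevG2.rootSubgroup F 5

theorem T_one_zero_zero : T F 1 0 0 = xg F 9 1 := by
  unfold T xg
  rw [xGL_zero, xGL_zero, mul_one, mul_one]

end Cfsg.Agent.Lib.Helper20.G2c
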