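import Mathlib

set_option autoImplicit false
set_option linter.style.haveILetI false
set_option linter.unusedSimpArgs false
set_option linter.unusedSectionVars false

namespace Cfsg.Agent.Lib.Helper20

namespace IndexTwoExt

variable {M Y₁ Y₂ : Type*} [Group M] [Group Y₁] [Group Y₂]

section

variable (f₁ : M →* Y₁) (f₂ : M →* Y₂) (t₁ : Y₁) (t₂ : Y₂)

theorem hout (hi₁ : f₁.range.index = 2) (ht₁ : t₁ ∉ f₁.range) (y : Y₁) (hy : y ∉ f₁.range) :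
    y * t₁ ∈ f₁.range := by
  rw [Subgroup.mul_mem_iff_of_index_two hi₁]
  exact ⟨fun h => (hy h).elim, fun h => (ht₁ h).elim⟩

open Classical in
/-- the extension of `f₂ ∘ f₁⁻¹` to the whole group -/
noncomputable def extFun (hi₁ : f₁.range.index = 2) (ht₁ : t₁ ∉ f₁.range) (y : Y₁) : Y₂ :=
  if h : y ∈ f₁.range then f₂ h.choose else f₂ (hout f₁ t₁ hi₁ ht₁ y h).choose * t₂

variable (h₁ : Function.Injective f₁) (hi₁ : f₁.range.index = 2) (ht₁ : t₁ ∉ f₁.range)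

include h₁ in
theorem extFun_in (m : M) : extFun f₁ f₂ t₁ t₂ hi₁ ht₁ (f₁ m) = f₂ m := by
  have h : f₁ m ∈ f₁.range := ⟨m, rfl⟩
  rw [extFun, dif_pos h]
  congr 1
  exact h₁ h.choose_spec

include h₁ in
theorem extFun_out (hs₁ : t₁ * t₁ = 1) (m : M) :
    extFun f₁ f₂ t₁ t₂ hi₁ ht₁ (f₁ m * t₁) = f₂ m * t₂ := by
  have h : f₁ m * t₁ ∉ f₁.range := by
    intro h
    apply ht₁
    have : t₁ = (f₁ m)⁻¹ * (f₁ m * t₁) := by group
    rw [this]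
    exact f₁.range.mul_mem (f₁.range.inv_mem ⟨m, rfl⟩) h
  rw [extFun, dif_neg h]
  congr 2
  apply h₁
  rw [(hout f₁ t₁ hi₁ ht₁ _ h).choose_spec, mul_assoc, hs₁, mul_one]

include hi₁ ht₁ in
theorem cases (hs₁ : t₁ * t₁ = 1) (y : Y₁) : (∃ m, y = f₁ m) ∨ ∃ m, y = f₁ m * t₁ := by
  by_cases h : y ∈ f₁.range
  · obtain ⟨m, hm⟩ := h
    exact Or.inl ⟨m, hm.symm⟩
  · obtain ⟨m, hm⟩ := hout f₁ t₁ hi₁ ht₁ y h
    refine Or.inr ⟨m, ?_⟩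
    rw [hm, mul_assoc, hs₁, mul_one]

end

/-- two groups containing isomorphic subgroups of index `2`, complemented by involutions acting
in the same way, are isomorphic -/
theorem nonempty_mulEquiv [Finite Y₂]
    (f₁ : M →* Y₁) (f₂ : M →* Y₂) (h₁ : Function.Injective f₁) (h₂ : Function.Injective f₂)
    (hi₁ : f₁.range.index = 2) (t₁ : Y₁) (t₂ : Y₂) (ht₁ : t₁ ∉ f₁.range) (ht₂ : t₂ ∉ f₂.range)
    (hs₁ : t₁ * t₁ = 1) (hs₂ : t₂ * t₂ = 1)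
    (hσ : ∀ m, ∃ m', t₁ * f₁ m * t₁⁻¹ = f₁ m' ∧ t₂ * f₂ m * t₂⁻¹ = f₂ m')
    (hcard : Nat.card Y₂ ≤ Nat.card Y₁) : Nonempty (Y₁ ≃* Y₂) := by
  have hin := extFun_in f₁ f₂ t₁ t₂ h₁ hi₁ ht₁
  have hou := extFun_out f₁ f₂ t₁ t₂ h₁ hi₁ ht₁ hs₁
  have hinv₂ : t₂⁻¹ = t₂ := inv_eq_of_mul_eq_one_right hs₂
  have hmul : ∀ y y' : Y₁, extFun f₁ f₂ t₁ t₂ hi₁ ht₁ (y * y') =
      extFun f₁ f₂ t₁ t₂ hi₁ ht₁ y * extFun f₁ f₂ t₁ t₂ hi₁ ht₁ y' := by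
    intro y y'
    rcases cases f₁ t₁ hi₁ ht₁ hs₁ y with ⟨m, rfl⟩ | ⟨m, rfl⟩ <;>
    rcases cases f₁ t₁ hi₁ ht₁ hs₁ y' with ⟨m', rfl⟩ | ⟨m', rfl⟩
    · rw [← map_mul, hin, hin, hin, map_mul]
    · rw [← mul_assoc, ← map_mul, hou, hin, hou, map_mul, mul_assoc]
    · obtain ⟨m'', e1, e2⟩ := hσ m'
      have : f₁ m * t₁ * f₁ m' = f₁ (m * m'') * t₁ := by
        rw [map_mul, ← e1]; group
      rw [this, hou, hou, hin, map_mul, ← e2]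
      group
    · obtain ⟨m'', e1, e2⟩ := hσ m'
      have : f₁ m * t₁ * (f₁ m' * t₁) = f₁ (m * m'') := by
        rw [map_mul, ← e1]
        calc f₁ m * t₁ * (f₁ m' * t₁) = f₁ m * (t₁ * f₁ m' * t₁⁻¹) * (t₁ * t₁) := by group
          _ = f₁ m * (t₁ * f₁ m' * t₁⁻¹) := by rw [hs₁, mul_one]
      rw [this, hin, hou, hou, map_mul, ← e2]
      calc f₂ m * (t₂ * f₂ m' * t₂⁻¹) = f₂ m * (t₂ * f₂ m' * t₂) := by rw [hinv₂]
        _ = f₂ m * t₂ * (f₂ m' * t₂) := by group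
  set Φ : Y₁ →* Y₂ := MonoidHom.mk' (extFun f₁ f₂ t₁ t₂ hi₁ ht₁) hmul with hΦ
  have hinj : Function.Injective Φ := by
    rw [injective_iff_map_eq_one]
    intro y hy
    rcases cases f₁ t₁ hi₁ ht₁ hs₁ y with ⟨m, rfl⟩ | ⟨m, rfl⟩
    · have : f₂ m = 1 := by
        rw [← hin m]; exact hy
      have hm : m = 1 := h₂ (this.trans (map_one f₂).symm)
      rw [hm, map_one]
    · exfalso
      have : f₂ m * t₂ = 1 := by
        rw [← hou m]; exact hy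
      apply ht₂
      have h3 : t₂ = (f₂ m)⁻¹ := (inv_eq_of_mul_eq_one_right this).symm
      rw [h3]
      exact f₂.range.inv_mem ⟨m, rfl⟩
  have hbij : Function.Bijective Φ := hinj.bijective_of_nat_card_le hcard
  exact ⟨MulEquiv.ofBijective Φ hbij⟩

end IndexTwoExt

end Cfsg.Agent.Lib.Helper20
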