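import Mathlib
import Cfsg.Agent.Lib.Helper20.Q8Normal
import Cfsg.Agent.S3742

set_option autoImplicit false
set_option linter.style.haveILetI false
set_option linter.unusedSimpArgs false
set_option linter.unusedSectionVars false

namespace Cfsg.Agent.Lib.Helper20

namespace SL23

open QuaternionGroup

/-- conjugation by `a 1` or the identity -/
def cj (b : Bool) (q : QuaternionGroup 2) : QuaternionGroup 2 :=
  if b then a 1 * q * (a 1)⁻¹ else q

/-- a twisted form of the automorphism `F u v` -/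
def twist (u v : QuaternionGroup 2) (s : Fin 3) (b : Bool) (q : QuaternionGroup 2) :
    QuaternionGroup 2 :=
  phiFun^[2 * s.val] (Cfsg.Agent.S3742.F u v (phiFun^[s.val] (cj b q)))

theorem twist_exists : ∀ u v : QuaternionGroup 2, Cfsg.Agent.S3742.valid u v →
    Cfsg.Agent.S3742.F u v (Cfsg.Agent.S3742.F u v (a 1)) = a 1 →
    Cfsg.Agent.S3742.F u v (Cfsg.Agent.S3742.F u v (xa 0)) = xa 0 →
    (∀ r : QuaternionGroup 2, ¬ (u = r * a 1 * r⁻¹ ∧ v = r * xa 0 * r⁻¹)) →
    ∃ s : Fin 3, ∃ b : Bool, twist u v s b (a 1) = (a 1)⁻¹ ∧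
      twist u v s b (xa 0) = (a 1 * xa 0)⁻¹ := by
  decide +kernel

theorem twist_conj : ∀ q : QuaternionGroup 2,
    Cfsg.Agent.S3742.F ((a 1)⁻¹) ((a 1 * xa 0)⁻¹)
      (phiFun (Cfsg.Agent.S3742.F ((a 1)⁻¹) ((a 1 * xa 0)⁻¹) (phiFun q))) = q := by
  decide +kernel

theorem quat2_invol : ∀ c : QuaternionGroup 2, c * c = 1 → c = 1 ∨ c = a 1 ^ 2 := by decide

section

variable {G : Type*} [Group G] {i g : G}

theorem Data.fn_mem (d : Data i g) (R : Subgroup G) [hRn : R.Normal] (hi : i ∈ R)
    (q : QuaternionGroup 2) : d.fn q ∈ R := by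
  have hj : g * i * g⁻¹ ∈ R := hRn.conj_mem i hi g
  have ha : ∀ k : ZMod (2 * 2), d.fn (a k) ∈ R := by
    intro k
    have : (a k : QuaternionGroup 2) = a 1 ^ k.val := by
      rw [a_one_pow, ZMod.natCast_zmod_val]
    rw [this, map_pow, d.fn_a1]
    exact R.pow_mem hi _
  rcases q with k | k
  · exact ha k
  · have : (xa k : QuaternionGroup 2) = xa 0 * a k := by rw [xa_mul_a, zero_add]
    rw [this, map_mul, d.fn_xa0]
    exact R.mul_mem hj (ha k)

/-- involutions of the model -/
theorem model_invol (m : Model) (h : m * m = 1) : m = 1 ∨ m = SemidirectProduct.inl (a 1 ^ 2) := by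
  have hr : m.right * m.right = 1 := by
    have := congrArg SemidirectProduct.right h
    simpa using this
  have hr1 : m.right = 1 := by
    have key : ∀ c : Multiplicative (ZMod 3), c * c = 1 → c = 1 := by decide
    exact key _ hr
  have hl : m.left * m.left = 1 := by
    have := congrArg SemidirectProduct.left h
    rw [SemidirectProduct.mul_left, hr1, map_one] at this
    simpa using this
  rcases quat2_invol _ hl with h3 | h3
  · left
    ext
    · exact h3
    · exact hr1
  · right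
    ext
    · exact h3
    · exact hr1

/-- the involutions in the range of `Psi` -/
theorem Data.invol_of_mem_range (d : Data i g) (y : G) (hy : y ∈ d.Psi.range) (h : y * y = 1) :
    y = 1 ∨ y = i ^ 2 := by
  obtain ⟨m, rfl⟩ := hy
  have hm : m * m = 1 := by
    apply d.Psi_injective
    rw [map_mul, h, map_one]
  rcases model_invol m hm with h3 | h3
  · left; rw [h3, map_one]
  · right
    have e : (SemidirectProduct.inl (a 1 ^ 2) : Model) = (SemidirectProduct.inl (a 1)) ^ 2 :=
      map_pow _ _ _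
    rw [h3, e, map_pow]
    congr 1
    rw [d.Psi_apply]
    simp [d.fn_a1]

theorem Data.i_mem_range (d : Data i g) : i ∈ d.Psi.range :=
  ⟨SemidirectProduct.inl (a 1), by rw [d.Psi_apply]; simp [d.fn_a1]⟩

theorem Data.g_mem_range (d : Data i g) : g ∈ d.Psi.range := by
  refine ⟨SemidirectProduct.inr (Multiplicative.ofAdd 1), ?_⟩
  simp only [Data.Psi, SemidirectProduct.lift_inr, zmod3Hom_apply]
  have : (Multiplicative.toAdd (Multiplicative.ofAdd (1 : ZMod 3))).val = 1 := by decide
  rw [this, pow_one]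

variable (d : Data i g) (R : Subgroup G) [hRn : R.Normal] (hi : i ∈ R)
  (hgen : ∀ q ∈ R, q ∉ Subgroup.zpowers i → q * (g * i * g⁻¹)⁻¹ ∈ Subgroup.zpowers i)

/-- the isomorphism of `Q8` with `R` -/
noncomputable def Data.equivR : QuaternionGroup 2 ≃* R :=
  MulEquiv.ofBijective (d.fn.codRestrict R (d.fn_mem R hi)) (by
    constructor
    · intro x y hxy
      apply d.fn_injective
      have := congrArg Subtype.val hxy
      simpa using this
    · rintro ⟨r, hr⟩
      obtain ⟨c, hc⟩ := d.exists_fn_eq R hgen r hr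
      exact ⟨c, Subtype.ext (by simpa using hc)⟩)

include hi hgen in
theorem Data.equivR_coe (q : QuaternionGroup 2) : ((d.equivR R hi hgen q : R) : G) = d.fn q := rfl

/-- the conjugation action on `R`, read in `Q8` -/
noncomputable def Data.act : G →* MulAut (QuaternionGroup 2) :=
  (MulAut.congr (d.equivR R hi hgen).symm).toMonoidHom.comp (MulAut.conjNormal (H := R))

theorem Data.fn_act (y : G) (q : QuaternionGroup 2) :
    d.fn (d.act R hi hgen y q) = y * d.fn q * y⁻¹ := by
  have h1 : d.act R hi hgen y q =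
      (d.equivR R hi hgen).symm (MulAut.conjNormal (H := R) y (d.equivR R hi hgen q)) := rfl
  rw [h1, ← d.equivR_coe R hi hgen, MulEquiv.apply_symm_apply, MulAut.conjNormal_apply,
    d.equivR_coe R hi hgen]

theorem Data.act_eq_of_fn (y : G) (q q' : QuaternionGroup 2) (h : y * d.fn q * y⁻¹ = d.fn q') :
    d.act R hi hgen y q = q' := by
  apply d.fn_injective
  rw [d.fn_act, h]

theorem Data.act_g (q : QuaternionGroup 2) : d.act R hi hgen g q = phiFun q := by
  apply d.act_eq_of_fn
  have := DFunLike.congr_fun d.compat_one q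
  simp only [MonoidHom.comp_apply, MulEquiv.coe_toMonoidHom, MulAut.conj_apply] at this
  rw [← this]
  rfl

theorem Data.act_g_pow (n : ℕ) (q : QuaternionGroup 2) :
    d.act R hi hgen (g ^ n) q = phiFun^[n] q := by
  induction n generalizing q with
  | zero => simp
  | succ n ih =>
    rw [pow_succ, map_mul, MulAut.mul_apply, ih, d.act_g, Function.iterate_succ_apply]

theorem Data.act_fn (c q : QuaternionGroup 2) : d.act R hi hgen (d.fn c) q = c * q * c⁻¹ := by
  apply d.act_eq_of_fn
  rw [map_mul, map_mul, map_inv]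

theorem Data.act_ext (y y' : G) (h1 : d.act R hi hgen y (a 1) = d.act R hi hgen y' (a 1))
    (h2 : d.act R hi hgen y (xa 0) = d.act R hi hgen y' (xa 0)) :
    d.act R hi hgen y = d.act R hi hgen y' := by
  ext q
  rw [Cfsg.Agent.S3742.F_eq (d.act R hi hgen y) q, Cfsg.Agent.S3742.F_eq (d.act R hi hgen y') q,
    h1, h2]

theorem Data.mem_centralizer_of_act (y : G) (h : d.act R hi hgen y = 1) :
    y ∈ Subgroup.centralizer (R : Set G) := by
  rw [Subgroup.mem_centralizer_iff]
  intro r hr
  obtain ⟨c, rfl⟩ := d.exists_fn_eq R hgen r hr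
  have h1 := d.fn_act R hi hgen y c
  rw [h, MulAut.one_apply] at h1
  calc d.fn c * y = (y * d.fn c * y⁻¹) * y := by rw [← h1]
    _ = y * d.fn c := by group

include d hi hgen in
/-- elements centralizing `R` are `1` or `i ^ 2` -/
theorem Data.eq_of_mem_centralizer (hcent : Subgroup.centralizer (R : Set G) ≤ R) (y : G)
    (hy : y ∈ Subgroup.centralizer (R : Set G)) : y = 1 ∨ y = i ^ 2 := by
  obtain ⟨c, rfl⟩ := d.exists_fn_eq R hgen y (hcent hy)
  rw [Subgroup.mem_centralizer_iff] at hy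
  have h1 : c * a 1 = a 1 * c := by
    apply d.fn_injective
    rw [map_mul, map_mul, d.fn_a1]
    exact (hy i hi).symm
  have h2 : c * xa 0 = xa 0 * c := by
    apply d.fn_injective
    rw [map_mul, map_mul, d.fn_xa0]
    exact (hy _ (hRn.conj_mem i hi g)).symm
  rcases quat2_center c h1 h2 with h3 | h3
  · left; rw [h3, map_one]
  · right; rw [h3, map_pow, d.fn_a1]

include d hi hgen in
/-- `i ^ 2` is central -/
theorem Data.sq_central (y : G) : y * i ^ 2 * y⁻¹ = i ^ 2 := by
  have h1 := d.fn_act R hi hgen y (a 1 ^ 2)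
  have h2 : (a 1 ^ 2 : QuaternionGroup 2) = a 2 := by decide
  rw [h2, Cfsg.Agent.S3742.map_a2, ← h2, map_pow, d.fn_a1] at h1
  exact h1.symm

include hi hgen in
/-- normal form of an involution outside the `SL(2,3)` subgroup -/
theorem Data.exists_involution [Finite G] (hcent : Subgroup.centralizer (R : Set G) ≤ R)
    (t : G) (ht2 : t * t = 1) (ht1 : t ≠ 1) (htz : t ≠ i ^ 2) :
    ∃ t' : G, t' * t' = 1 ∧ t' ∉ d.Psi.range ∧ t' * i * t'⁻¹ = i⁻¹ ∧
      t' * (g * i * g⁻¹) * t'⁻¹ = (i * (g * i * g⁻¹))⁻¹ ∧ t' * g * t'⁻¹ = g⁻¹ := by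
  set α := d.act R hi hgen with hα
  have htU : t ∉ d.Psi.range := by
    intro h
    rcases d.invol_of_mem_range t h ht2 with h1 | h1
    · exact ht1 h1
    · exact htz h1
  have hvalid := Cfsg.Agent.S3742.valid_pair (α t)
  have hFeq := Cfsg.Agent.S3742.F_eq (α t)
  have hsq : ∀ q, α t (α t q) = q := by
    intro q
    have : α (t * t) q = q := by rw [ht2, map_one, MulAut.one_apply]
    rw [map_mul, MulAut.mul_apply] at this
    exact this
  have h1 : Cfsg.Agent.S3742.F (α t (a 1)) (α t (xa 0))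
      (Cfsg.Agent.S3742.F (α t (a 1)) (α t (xa 0)) (a 1)) = a 1 := by
    rw [← hFeq, ← hFeq]; exact hsq _
  have h2 : Cfsg.Agent.S3742.F (α t (a 1)) (α t (xa 0))
      (Cfsg.Agent.S3742.F (α t (a 1)) (α t (xa 0)) (xa 0)) = xa 0 := by
    rw [← hFeq, ← hFeq]; exact hsq _
  have houter : ∀ r : QuaternionGroup 2,
      ¬ (α t (a 1) = r * a 1 * r⁻¹ ∧ α t (xa 0) = r * xa 0 * r⁻¹) := by
    rintro r ⟨e1, e2⟩
    have h3 : α t = α (d.fn r) := by
      apply d.act_ext R hi hgen
      · rw [← hα, e1, hα, d.act_fn]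
      · rw [← hα, e2, hα, d.act_fn]
    have h4 : α (t * (d.fn r)⁻¹) = 1 := by
      rw [map_mul, map_inv, h3, mul_inv_cancel]
    have h5 := hcent (d.mem_centralizer_of_act R hi hgen _ h4)
    have h6 : t ∈ R := by
      have : t = (t * (d.fn r)⁻¹) * d.fn r := by group
      rw [this]
      exact R.mul_mem h5 (d.fn_mem R hi r)
    obtain ⟨c, hc⟩ := d.exists_fn_eq R hgen t h6
    have hcc : c * c = 1 := by
      apply d.fn_injective
      rw [map_mul, hc, ht2, map_one]
    rcases quat2_invol c hcc with h7 | h7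
    · apply ht1
      rw [← hc, h7, map_one]
    · apply htz
      rw [← hc, h7, map_pow, d.fn_a1]
  obtain ⟨s, b, hT1, hT2⟩ := twist_exists _ _ hvalid h1 h2 houter
  set ib : G := if b then i else 1 with hib
  set t' : G := g ^ (2 * s.val) * t * g ^ s.val * ib with ht'
  have hαib : ∀ q, α ib q = cj b q := by
    intro q
    rw [hib, cj]
    split
    · rw [← d.fn_a1, hα, d.act_fn]
    · rw [map_one, MulAut.one_apply]
  have hαt' : ∀ q, α t' q = twist (α t (a 1)) (α t (xa 0)) s b q := by
    intro q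
    rw [ht', map_mul, map_mul, map_mul, MulAut.mul_apply, MulAut.mul_apply, MulAut.mul_apply,
      hαib, hα, d.act_g_pow, d.act_g_pow, ← hα, hFeq, twist]
  have hconj : ∀ q, t' * d.fn q * t'⁻¹ = d.fn (twist (α t (a 1)) (α t (xa 0)) s b q) := by
    intro q
    rw [← hαt', hα, d.fn_act]
  have ht'i : t' * i * t'⁻¹ = i⁻¹ := by
    have := hconj (a 1)
    rw [hT1, map_inv, d.fn_a1] at this
    exact this
  have ht'j : t' * (g * i * g⁻¹) * t'⁻¹ = (i * (g * i * g⁻¹))⁻¹ := by
    have := hconj (xa 0)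
    rw [hT2, map_inv, map_mul, d.fn_a1, d.fn_xa0] at this
    exact this
  have hg3s : ∀ n : ℕ, g ^ (3 * n) = 1 := by
    intro n
    rw [pow_mul, d.hg3, one_pow]
  set w : G := g ^ (2 * s.val) * t * g ^ s.val with hw
  have hww : w * w = 1 := by
    calc w * w = g ^ (2 * s.val) * t * (g ^ s.val * g ^ (2 * s.val)) * t * g ^ s.val := by
          rw [hw]; group
      _ = g ^ (2 * s.val) * t * 1 * t * g ^ s.val := by
          rw [← pow_add, show s.val + 2 * s.val = 3 * s.val by ring, hg3s]
      _ = g ^ (2 * s.val) * (t * t) * g ^ s.val := by group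
      _ = g ^ (2 * s.val) * g ^ s.val := by rw [ht2, mul_one]
      _ = 1 := by rw [← pow_add, show 2 * s.val + s.val = 3 * s.val by ring, hg3s]
  have ht'w : t' = w * ib := rfl
  have ht't' : t' * t' = 1 := by
    by_cases hb : b = true
    · have hib' : ib = i := by rw [hib, if_pos hb]
      have hwinv : w⁻¹ = w := inv_eq_of_mul_eq_one_right hww
      have h3 : w * i * w⁻¹ = i⁻¹ := by
        have := ht'i
        rw [ht'w, hib'] at this
        calc w * i * w⁻¹ = (w * i) * i * (w * i)⁻¹ := by group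
          _ = i⁻¹ := this
      rw [ht'w, hib']
      calc w * i * (w * i) = (w * i * w⁻¹) * (w * w) * i := by group
        _ = 1 := by rw [h3, hww]; group
    · have hib' : ib = 1 := by rw [hib, if_neg hb]
      rw [ht'w, hib', mul_one]
      exact hww
  have ht'U : t' ∉ d.Psi.range := by
    intro h
    apply htU
    have hgU := d.g_mem_range
    have hibU : ib ∈ d.Psi.range := by
      rw [hib]
      split
      · exact d.i_mem_range
      · exact Subgroup.one_mem _
    have : t = (g ^ (2 * s.val))⁻¹ * t' * ib⁻¹ * (g ^ s.val)⁻¹ := by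
      rw [ht'w, hw]; group
    rw [this]
    exact Subgroup.mul_mem _ (Subgroup.mul_mem _ (Subgroup.mul_mem _
      (Subgroup.inv_mem _ (Subgroup.pow_mem _ hgU _)) h) (Subgroup.inv_mem _ hibU))
      (Subgroup.inv_mem _ (Subgroup.pow_mem _ hgU _))
  refine ⟨t', ht't', ht'U, ht'i, ht'j, ?_⟩
  -- the action of `t'` on `g`
  have hαt'1 : α t' (a 1) = (a 1)⁻¹ := by rw [hαt', hT1]
  have hαt'2 : α t' (xa 0) = (a 1 * xa 0)⁻¹ := by rw [hαt', hT2]
  have hαt'F : ∀ q, α t' q = Cfsg.Agent.S3742.F ((a 1)⁻¹) ((a 1 * xa 0)⁻¹) q := by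
    intro q
    rw [Cfsg.Agent.S3742.F_eq (α t') q, hαt'1, hαt'2]
  have hαinv : α t'⁻¹ = α t' := by
    have : t'⁻¹ = t' := inv_eq_of_mul_eq_one_right ht't'
    rw [this]
  have hh : α (t' * g * t'⁻¹ * g) = 1 := by
    ext q
    rw [map_mul, map_mul, map_mul, hαinv, MulAut.mul_apply, MulAut.mul_apply, MulAut.mul_apply,
      MulAut.one_apply, hα, d.act_g, ← hα, hαt'F, hα, d.act_g, ← hα, hαt'F]
    exact twist_conj q
  have hcz := d.eq_of_mem_centralizer R hi hgen hcent _ (d.mem_centralizer_of_act R hi hgen _ hh)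
  rcases hcz with h3 | h3
  · calc t' * g * t'⁻¹ = (t' * g * t'⁻¹ * g) * g⁻¹ := by group
      _ = g⁻¹ := by rw [h3, one_mul]
  · exfalso
    have h4 : t' * g * t'⁻¹ = i ^ 2 * g⁻¹ := by
      calc t' * g * t'⁻¹ = (t' * g * t'⁻¹ * g) * g⁻¹ := by group
        _ = i ^ 2 * g⁻¹ := by rw [h3]
    have hzg : Commute (i ^ 2) g⁻¹ := by
      have := d.sq_central R hi hgen g
      have h5 : g * i ^ 2 = i ^ 2 * g := by
        calc g * i ^ 2 = (g * i ^ 2 * g⁻¹) * g := by group
          _ = i ^ 2 * g := by rw [this]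
      exact (Commute.inv_right (show Commute (i ^ 2) g from h5.symm))
    have h6 : (t' * g * t'⁻¹) ^ 3 = 1 := by
      rw [conj_pow, d.hg3]; group
    rw [h4, hzg.mul_pow, inv_pow, d.hg3, inv_one, mul_one, ← pow_mul] at h6
    apply d.hi2
    calc i ^ 2 = i ^ (2 * 3) * (i ^ 4)⁻¹ := by
          rw [show 2 * 3 = 2 + 4 by norm_num, pow_add]; group
      _ = 1 := by rw [h6, d.hi4]; simp

end

end SL23

end Cfsg.Agent.Lib.Helper20
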