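import Mathlib
import Cfsg.Agent.Lib.Helper20.Q8Act
import Cfsg.Agent.Lib.Helper20.IndexTwoExt

set_option autoImplicit false
set_option linter.style.haveILetI false
set_option linter.unusedSimpArgs false
set_option linter.unusedSectionVars false

namespace Cfsg.Agent.Lib.Helper20

namespace SL23

open QuaternionGroup

def t0M : Matrix (Fin 2) (Fin 2) (ZMod 3) := !![1, 0; 0, -1]

/-- a reflection in `GL(2,3)` -/
def t0 : GL (Fin 2) (ZMod 3) := ⟨t0M, t0M, by decide, by decide⟩

theorem t0_conj_i0 : t0 * Matrix.SpecialLinearGroup.toGL i0 * t0⁻¹ =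
    (Matrix.SpecialLinearGroup.toGL i0)⁻¹ := by
  rw [← map_inv]
  apply Units.ext
  show t0M * (i0 : Matrix (Fin 2) (Fin 2) (ZMod 3)) * t0M =
    ((i0⁻¹ : Matrix.SpecialLinearGroup (Fin 2) (ZMod 3)) : Matrix (Fin 2) (Fin 2) (ZMod 3))
  decide

theorem t0_conj_g0 : t0 * Matrix.SpecialLinearGroup.toGL g0 * t0⁻¹ =
    (Matrix.SpecialLinearGroup.toGL g0)⁻¹ := by
  rw [← map_inv]
  apply Units.ext
  show t0M * (g0 : Matrix (Fin 2) (Fin 2) (ZMod 3)) * t0M =
    ((g0⁻¹ : Matrix.SpecialLinearGroup (Fin 2) (ZMod 3)) : Matrix (Fin 2) (Fin 2) (ZMod 3))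
  decide

theorem t0_conj_j0 : t0 * Matrix.SpecialLinearGroup.toGL (g0 * i0 * g0⁻¹) * t0⁻¹ =
    (Matrix.SpecialLinearGroup.toGL i0 * Matrix.SpecialLinearGroup.toGL (g0 * i0 * g0⁻¹))⁻¹ := by
  rw [← map_mul, ← map_inv]
  apply Units.ext
  show t0M * ((g0 * i0 * g0⁻¹ : Matrix.SpecialLinearGroup (Fin 2) (ZMod 3)) :
      Matrix (Fin 2) (Fin 2) (ZMod 3)) * t0M =
    (((i0 * (g0 * i0 * g0⁻¹))⁻¹ : Matrix.SpecialLinearGroup (Fin 2) (ZMod 3)) :
      Matrix (Fin 2) (Fin 2) (ZMod 3))
  decide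

theorem t0_sq : t0 * t0 = 1 := by
  apply Units.ext
  show t0M * t0M = 1
  decide

theorem t0_ne_toGL (A : Matrix.SpecialLinearGroup (Fin 2) (ZMod 3)) :
    Matrix.SpecialLinearGroup.toGL A ≠ t0 := by
  intro h
  have h1 := congrArg Units.val h
  have h2 : (A : Matrix (Fin 2) (Fin 2) (ZMod 3)) = t0M := h1
  have h3 := A.2
  rw [h2] at h3
  revert h3
  decide

theorem card_gl23 : Nat.card (GL (Fin 2) (ZMod 3)) = 48 := by
  have := Matrix.card_GL_field (𝔽 := ZMod 3) 2
  rw [this]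
  simp [Fin.prod_univ_two]

/-- the embedding of the model into `GL(2,3)` -/
noncomputable def toGLHom : Model →* GL (Fin 2) (ZMod 3) :=
  Matrix.SpecialLinearGroup.toGL.comp sl23_data.Psi

theorem toGLHom_injective : Function.Injective toGLHom :=
  Matrix.SpecialLinearGroup.toGL_injective.comp sl23_data.Psi_injective

theorem card_model : Nat.card Model = 24 := by
  rw [Nat.card_congr modelEquiv.toEquiv, card_sl23]

theorem zmod3_gen : ∀ c : Multiplicative (ZMod 3),
    c = (Multiplicative.ofAdd 1) ^ (Multiplicative.toAdd c).val := by decide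

section

variable {Y : Type*} [Group Y] {i g : Y}

theorem Data.Psi_inl (d : Data i g) (q : QuaternionGroup 2) :
    d.Psi (SemidirectProduct.inl q) = d.fn q := by
  rw [d.Psi_apply]
  simp

theorem Data.Psi_inr_one (d : Data i g) :
    d.Psi (SemidirectProduct.inr (Multiplicative.ofAdd 1)) = g := by
  simp only [Data.Psi, SemidirectProduct.lift_inr, zmod3Hom_apply]
  have : (Multiplicative.toAdd (Multiplicative.ofAdd (1 : ZMod 3))).val = 1 := by decide
  rw [this, pow_one]

/-- recognition of `GL(2,3)` -/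
theorem Data.nonempty_equiv_gl23 [Finite Y] (d : Data i g) (hcard : Nat.card Y = 48) (t : Y)
    (ht2 : t * t = 1) (htU : t ∉ d.Psi.range) (hti : t * i * t⁻¹ = i⁻¹)
    (htj : t * (g * i * g⁻¹) * t⁻¹ = (i * (g * i * g⁻¹))⁻¹) (htg : t * g * t⁻¹ = g⁻¹) :
    Nonempty (Y ≃* GL (Fin 2) (ZMod 3)) := by
  haveI : Finite (GL (Fin 2) (ZMod 3)) := Nat.finite_of_card_ne_zero (by rw [card_gl23]; norm_num)
  have hi₁ : d.Psi.range.index = 2 := by
    have h1 : Nat.card d.Psi.range = 24 := by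
      rw [← card_model]
      exact (Nat.card_congr (MonoidHom.ofInjective d.Psi_injective).toEquiv).symm
    have h2 := d.Psi.range.card_mul_index
    rw [h1, hcard] at h2
    omega
  have ht0U : t0 ∉ toGLHom.range := by
    rintro ⟨m, hm⟩
    exact t0_ne_toGL _ hm
  -- the subgroup of elements on which the two conjugations agree
  let Hσ : Subgroup Model :=
    { carrier := {m | ∃ m', t * d.Psi m * t⁻¹ = d.Psi m' ∧ t0 * toGLHom m * t0⁻¹ = toGLHom m'}
      mul_mem' := by
        rintro m₁ m₂ ⟨x, hx1, hx2⟩ ⟨y, hy1, hy2⟩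
        refine ⟨x * y, ?_, ?_⟩
        · rw [map_mul, map_mul, ← hx1, ← hy1]; group
        · rw [map_mul, map_mul, ← hx2, ← hy2]; group
      one_mem' := ⟨1, by simp, by simp⟩
      inv_mem' := by
        rintro m ⟨x, hx1, hx2⟩
        refine ⟨x⁻¹, ?_, ?_⟩
        · rw [map_inv, map_inv, ← hx1]; group
        · rw [map_inv, map_inv, ← hx2]; group }
  have hmem : ∀ m, m ∈ Hσ ↔
      ∃ m', t * d.Psi m * t⁻¹ = d.Psi m' ∧ t0 * toGLHom m * t0⁻¹ = toGLHom m' := fun m => Iff.rfl
  have hG_inl : ∀ q, toGLHom (SemidirectProduct.inl q) =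
      Matrix.SpecialLinearGroup.toGL (sl23_data.fn q) := by
    intro q
    show Matrix.SpecialLinearGroup.toGL (sl23_data.Psi (SemidirectProduct.inl q)) = _
    rw [sl23_data.Psi_inl]
  have hG_inr : toGLHom (SemidirectProduct.inr (Multiplicative.ofAdd 1)) =
      Matrix.SpecialLinearGroup.toGL g0 := by
    show Matrix.SpecialLinearGroup.toGL (sl23_data.Psi (SemidirectProduct.inr _)) = _
    rw [sl23_data.Psi_inr_one]
  have h1 : (SemidirectProduct.inl (a 1) : Model) ∈ Hσ := by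
    rw [hmem]
    refine ⟨(SemidirectProduct.inl (a 1))⁻¹, ?_, ?_⟩
    · rw [map_inv, d.Psi_inl, d.fn_a1]
      exact hti
    · rw [map_inv, hG_inl, sl23_data.fn_a1]
      exact t0_conj_i0
  have h2 : (SemidirectProduct.inl (xa 0) : Model) ∈ Hσ := by
    rw [hmem]
    refine ⟨(SemidirectProduct.inl (a 1) * SemidirectProduct.inl (xa 0))⁻¹, ?_, ?_⟩
    · rw [map_inv, map_mul, d.Psi_inl, d.Psi_inl, d.fn_a1, d.fn_xa0]
      exact htj
    · rw [map_inv, map_mul, hG_inl, hG_inl, sl23_data.fn_a1, sl23_data.fn_xa0]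
      exact t0_conj_j0
  have h3 : (SemidirectProduct.inr (Multiplicative.ofAdd 1) : Model) ∈ Hσ := by
    rw [hmem]
    refine ⟨(SemidirectProduct.inr (Multiplicative.ofAdd 1))⁻¹, ?_, ?_⟩
    · rw [map_inv, d.Psi_inr_one]
      exact htg
    · rw [map_inv, hG_inr]
      exact t0_conj_g0
  have hall : ∀ m : Model, m ∈ Hσ := by
    intro m
    rw [← SemidirectProduct.inl_left_mul_inr_right m]
    apply Hσ.mul_mem
    · have ha : ∀ k : ZMod (2 * 2), (SemidirectProduct.inl (a k) : Model) ∈ Hσ := by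
        intro k
        have : (a k : QuaternionGroup 2) = a 1 ^ k.val := by
          rw [a_one_pow, ZMod.natCast_zmod_val]
        rw [this, map_pow]
        exact Hσ.pow_mem h1 _
      rcases m.left with k | k
      · exact ha k
      · have : (xa k : QuaternionGroup 2) = xa 0 * a k := by rw [xa_mul_a, zero_add]
        rw [this, map_mul]
        exact Hσ.mul_mem h2 (ha k)
    · rw [zmod3_gen m.right, map_pow]
      exact Hσ.pow_mem h3 _
  exact IndexTwoExt.nonempty_mulEquiv d.Psi toGLHom d.Psi_injective toGLHom_injective hi₁ t t0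
    htU ht0U ht2 t0_sq (fun m => (hmem m).mp (hall m)) (by rw [card_gl23, hcard])

end

end SL23

end Cfsg.Agent.Lib.Helper20
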