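import Mathlib
import Cfsg.Agent.Lib.Helper20.SylowRealize

set_option autoImplicit false
set_option linter.style.haveILetI false
set_option linter.unusedSimpArgs false
set_option linter.unusedSectionVars false

open scoped MatrixGroups

namespace Cfsg.Agent.Lib.Helper20

theorem gl2_card_eq (q : ℕ) (hq : 1 ≤ q) :
    (q ^ 2 - 1) * (q ^ 2 - q) = (q - 1) ^ 2 * (q + 1) * q := by
  obtain ⟨r, rfl⟩ : ∃ r, q = r + 1 := ⟨q - 1, by omega⟩
  have h1 : (r + 1) ^ 2 - 1 = r * (r + 2) := by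
    apply Nat.sub_eq_of_eq_add
    ring
  have h2 : (r + 1) ^ 2 - (r + 1) = r * (r + 1) := by
    apply Nat.sub_eq_of_eq_add
    ring
  rw [h1, h2]
  simp only [Nat.add_sub_cancel]
  ring

theorem sq_sub_one_eq (q : ℕ) (hq : 1 ≤ q) : q ^ 2 - 1 = (q - 1) * (q + 1) := by
  obtain ⟨r, rfl⟩ : ∃ r, q = r + 1 := ⟨q - 1, by omega⟩
  apply Nat.sub_eq_of_eq_add
  simp only [Nat.add_sub_cancel]
  ring

section Wr

variable {F : Type*} [Field F]

/-- the diagonal embedding `(Fin 2 → Fˣ) →* GL (Fin 2) F` -/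
noncomputable def diagGL : (Fin 2 → Fˣ) →* GL (Fin 2) F :=
  (Units.map (Matrix.diagonalRingHom (Fin 2) F).toMonoidHom).comp
    (MulEquiv.piUnits (ι := Fin 2) (M := fun _ => F)).symm.toMonoidHom

theorem diagGL_val (v : Fin 2 → Fˣ) :
    ((diagGL v : GL (Fin 2) F) : Matrix (Fin 2) (Fin 2) F) = Matrix.diagonal (fun i => (v i : F)) :=
  rfl

theorem diagGL_injective : Function.Injective (diagGL (F := F)) := by
  intro v w h
  have h1 : ((diagGL v : GL (Fin 2) F) : Matrix (Fin 2) (Fin 2) F) = (diagGL w : GL (Fin 2) F) := by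
    rw [h]
  rw [diagGL_val, diagGL_val] at h1
  have h2 := Matrix.diagonal_injective h1
  funext i
  exact Units.ext (congrFun h2 i)

/-- the swap matrix as an element of `GL (Fin 2) F` -/
def swapGL : GL (Fin 2) F where
  val := !![0, 1; 1, 0]
  inv := !![0, 1; 1, 0]
  val_inv := by
    ext i j
    fin_cases i <;> fin_cases j <;> simp [Matrix.mul_apply, Fin.sum_univ_two]
  inv_val := by
    ext i j
    fin_cases i <;> fin_cases j <;> simp [Matrix.mul_apply, Fin.sum_univ_two]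

theorem swapGL_val : ((swapGL : GL (Fin 2) F) : Matrix (Fin 2) (Fin 2) F) = !![0, 1; 1, 0] := rfl

theorem swapGL_mul_self : (swapGL : GL (Fin 2) F) * swapGL = 1 := by
  apply Units.ext
  exact (swapGL (F := F)).val_inv

theorem swapGL_ne_one : (swapGL : GL (Fin 2) F) ≠ 1 := by
  intro h
  have h1 : ((swapGL : GL (Fin 2) F) : Matrix (Fin 2) (Fin 2) F) 0 0 = (1 : GL (Fin 2) F).val 0 0 := by
    rw [h]
  simp [swapGL_val] at h1

theorem orderOf_swapGL : orderOf (swapGL : GL (Fin 2) F) = 2 := by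
  apply orderOf_eq_prime
  · rw [pow_two]; exact swapGL_mul_self
  · exact swapGL_ne_one

theorem swapGL_mul_diagGL (v : Fin 2 → Fˣ) :
    (swapGL : GL (Fin 2) F) * diagGL v = diagGL (fun i => v (Equiv.swap 0 1 i)) * swapGL := by
  apply Units.ext
  rw [Units.val_mul, Units.val_mul, diagGL_val, diagGL_val, swapGL_val]
  ext i j
  fin_cases i <;> fin_cases j <;>
    simp [Matrix.mul_apply, Fin.sum_univ_two, Matrix.diagonal_apply]

theorem swap_mulSingle (a : Fˣ) :
    (fun i => (Pi.mulSingle (0 : Fin 2) a : Fin 2 → Fˣ) (Equiv.swap 0 1 i)) = Pi.mulSingle 1 a := by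
  funext i
  fin_cases i <;> simp [Pi.mulSingle_apply]

theorem gl2_wreathed_elements (a : Fˣ) :
    orderOf (diagGL (Pi.mulSingle (0 : Fin 2) a) : GL (Fin 2) F) = orderOf a ∧
    (diagGL (Pi.mulSingle (0 : Fin 2) a) : GL (Fin 2) F) * diagGL (Pi.mulSingle 1 a) =
      diagGL (Pi.mulSingle 1 a) * diagGL (Pi.mulSingle 0 a) ∧
    Subgroup.zpowers (diagGL (Pi.mulSingle (0 : Fin 2) a) : GL (Fin 2) F) ⊓
      Subgroup.zpowers (diagGL (Pi.mulSingle 1 a)) = ⊥ ∧
    (swapGL : GL (Fin 2) F) * diagGL (Pi.mulSingle 0 a) * swapGL⁻¹ = diagGL (Pi.mulSingle 1 a) := by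
  refine ⟨?_, ?_, ?_, ?_⟩
  · have hinj : Function.Injective
        ((diagGL (F := F)).comp (MonoidHom.mulSingle (fun _ : Fin 2 => Fˣ) 0)) := by
      intro u v h
      have := diagGL_injective h
      exact Pi.mulSingle_injective 0 this
    exact orderOf_injective _ hinj a
  · rw [← map_mul, ← map_mul, mul_comm]
  · rw [eq_bot_iff]
    intro s hs
    obtain ⟨h1, h2⟩ := Subgroup.mem_inf.mp hs
    obtain ⟨i, hi⟩ := Subgroup.mem_zpowers_iff.mp h1
    obtain ⟨j, hj⟩ := Subgroup.mem_zpowers_iff.mp h2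
    rw [← map_zpow, ← Pi.mulSingle_zpow] at hi hj
    have h3 := diagGL_injective (hi.trans hj.symm)
    have h4 := congrFun h3 0
    rw [Pi.mulSingle_eq_same, Pi.mulSingle_eq_of_ne (by decide)] at h4
    rw [Subgroup.mem_bot, ← hi, h4]
    simp
  · rw [swapGL_mul_diagGL, swap_mulSingle]
    group

end Wr

section QDGL

variable {F : Type*} [Field F] [Fintype F] {K : Type*} [Field K] [Finite K] [Algebra F K]

theorem gl2_qd_elements (h2 : Module.finrank F K = 2) (k t : ℕ) (hk : 2 ≤ k)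
    (hq : Fintype.card F = 2 ^ (k + 1) * t + (2 ^ k - 1))
    (hdvd : 2 ^ (k + 1) ∣ Fintype.card F ^ 2 - 1) :
    ∃ x y : GL (Fin 2) F, orderOf x = 2 ^ (k + 1) ∧ orderOf y = 2 ∧
      y * x * y⁻¹ = x ^ (2 ^ k - 1) := by
  classical
  haveI : Module.Finite F K := Module.finite_of_finrank_pos (by omega)
  haveI : Fintype K := Fintype.ofFinite K
  let b : Module.Basis (Fin 2) F K := Module.finBasisOfFinrankEq F K h2
  let L : K →ₐ[F] Matrix (Fin 2) (Fin 2) F := Algebra.leftMulMatrix b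
  have hLinj : Function.Injective L := Algebra.leftMulMatrix_injective b
  let φ : Kˣ →* GL (Fin 2) F := Units.map (L : K →* Matrix (Fin 2) (Fin 2) F)
  have hφinj : Function.Injective φ := Units.map_injective hLinj
  have hcardK : Nat.card K = Fintype.card F ^ 2 := by
    rw [Module.natCard_eq_pow_finrank (K := F) (V := K), h2, Nat.card_eq_fintype_card]
  have hcardU : Nat.card Kˣ = Fintype.card F ^ 2 - 1 := by rw [Nat.card_units, hcardK]
  obtain ⟨ξ, hξ⟩ := exists_orderOf_eq_of_dvd_card (G := Kˣ) (2 ^ (k + 1))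
    (by rw [hcardU]; exact hdvd)
  let σ : K →ₗ[F] K := (FiniteField.frobeniusAlgHom F K).toLinearMap
  have hσ : ∀ c : K, σ c = c ^ Fintype.card F := fun c => rfl
  let S : Matrix (Fin 2) (Fin 2) F := LinearMap.toMatrix b b σ
  have hσσ : σ ∘ₗ σ = LinearMap.id := by
    ext c
    simp only [LinearMap.comp_apply, hσ, LinearMap.id_apply]
    rw [← pow_mul, ← pow_two, ← hcardK, Nat.card_eq_fintype_card, FiniteField.pow_card]
  have hSS : S * S = 1 := by
    rw [← LinearMap.toMatrix_comp, hσσ, LinearMap.toMatrix_id]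
  let y : GL (Fin 2) F := ⟨S, S, hSS, hSS⟩
  have hrel0 : S * L (ξ : K) = L ((ξ : K) ^ Fintype.card F) * S := by
    simp only [L, S, Algebra.leftMulMatrix_apply]
    rw [← LinearMap.toMatrix_comp, ← LinearMap.toMatrix_comp]
    congr 1
    ext c
    simp only [LinearMap.comp_apply, hσ]
    rw [Algebra.coe_lmul_eq_mul, LinearMap.mul_apply', LinearMap.mul_apply', mul_pow]
  have hyx : y * φ ξ = (φ ξ) ^ Fintype.card F * y := by
    apply Units.ext
    rw [Units.val_mul, Units.val_mul, Units.val_pow_eq_pow_val]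
    show S * L (ξ : K) = (L (ξ : K)) ^ Fintype.card F * S
    rw [← map_pow]
    exact hrel0
  have hxo : orderOf (φ ξ) = 2 ^ (k + 1) := by
    rw [orderOf_injective φ hφinj, hξ]
  have hpow : (φ ξ) ^ Fintype.card F = (φ ξ) ^ (2 ^ k - 1) := by
    rw [hq, pow_add, pow_mul, ← hxo, pow_orderOf_eq_one, one_pow, one_mul]
  have hrel : y * φ ξ * y⁻¹ = (φ ξ) ^ (2 ^ k - 1) := by
    rw [hyx, hpow]
    group
  have hyy : y ^ 2 = 1 := by
    apply Units.ext
    rw [pow_two, Units.val_mul]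
    exact hSS
  have hy1 : y ≠ 1 := by
    intro h1
    rw [h1] at hrel
    simp only [one_mul, inv_one, mul_one] at hrel
    have h4 : (4 : ℕ) ≤ 2 ^ k := by
      calc 4 = 2 ^ 2 := by norm_num
        _ ≤ 2 ^ k := Nat.pow_le_pow_right (by norm_num) hk
    have h5 : 2 ^ k - 1 = (2 ^ k - 2) + 1 := by omega
    rw [h5, pow_succ] at hrel
    have h6 : (φ ξ) ^ (2 ^ k - 2) = 1 := by
      have := congrArg (fun g => g * (φ ξ)⁻¹) hrel
      simpa using this.symm
    have h7 := orderOf_dvd_of_pow_eq_one h6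
    rw [hxo] at h7
    have h8 := Nat.le_of_dvd (by omega) h7
    rw [pow_succ] at h8
    omega
  exact ⟨φ ξ, y, hxo, orderOf_eq_prime hyy hy1, hrel⟩

end QDGL

end Cfsg.Agent.Lib.Helper20
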