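import Mathlib
import Cfsg.Prelude.Def_Classical
import Cfsg.Prelude.Def_LieClassical
import Cfsg.Agent.Lib.Helper5.UnitaryCard
import Cfsg.Agent.Lib.Helper20.GL2Sylow

set_option autoImplicit false
set_option linter.style.haveILetI false
set_option linter.unusedSimpArgs false
set_option linter.unusedSectionVars false

open scoped MatrixGroups
open Matrix

namespace Cfsg.Agent.Lib.Helper20

section Sub

variable {G : Type*} [Group G]

theorem isQuasiDihedral_sylow_of_elements_subgroup (H : Subgroup G) [Finite H] (P : Sylow 2 H)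
    (n : ℕ) (hn : 3 ≤ n) (hcard : Nat.card P = 2 ^ (n + 1)) (x y : G) (hxH : x ∈ H) (hyH : y ∈ H)
    (hx : orderOf x = 2 ^ n) (hy : orderOf y = 2)
    (hrel : y * x * y⁻¹ = x ^ (2 ^ (n - 1) - 1)) : Cfsg.IsQuasiDihedral (P : Subgroup H) := by
  refine isQuasiDihedral_sylow_of_elements P n hn hcard ⟨x, hxH⟩ ⟨y, hyH⟩ ?_ ?_ ?_
  · rw [Subgroup.orderOf_mk]; exact hx
  · rw [Subgroup.orderOf_mk]; exact hy
  · apply Subtype.ext
    simp only [Subgroup.coe_mul, Subgroup.coe_inv, Subgroup.coe_pow]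
    exact hrel

theorem isWreathed_sylow_of_elements_subgroup (H : Subgroup G) [Finite H] (P : Sylow 2 H)
    (n : ℕ) (hn : 2 ≤ n) (hcard : Nat.card P = 2 ^ (2 * n + 1)) (x y z : G)
    (hxH : x ∈ H) (hyH : y ∈ H) (hzH : z ∈ H) (hx : orderOf x = 2 ^ n)
    (hxy : x * y = y * x) (hdisj : Subgroup.zpowers x ⊓ Subgroup.zpowers y = ⊥)
    (hz : orderOf z = 2) (hrel : z * x * z⁻¹ = y) : Cfsg.IsWreathed (P : Subgroup H) := by
  refine isWreathed_sylow_of_elements P n hn hcard ⟨x, hxH⟩ ⟨y, hyH⟩ ⟨z, hzH⟩ ?_ ?_ ?_ ?_ ?_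
  · rw [Subgroup.orderOf_mk]; exact hx
  · apply Subtype.ext
    simp only [Subgroup.coe_mul]
    exact hxy
  · rw [eq_bot_iff]
    intro s hs
    obtain ⟨h1, h2⟩ := Subgroup.mem_inf.mp hs
    obtain ⟨i, hi⟩ := Subgroup.mem_zpowers_iff.mp h1
    obtain ⟨j, hj⟩ := Subgroup.mem_zpowers_iff.mp h2
    have e1 : (s : G) = x ^ i := by rw [← hi]; simp
    have e2 : (s : G) = y ^ j := by rw [← hj]; simp
    have e4 : (s : G) ∈ Subgroup.zpowers x ⊓ Subgroup.zpowers y := by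
      refine Subgroup.mem_inf.mpr ⟨?_, ?_⟩
      · rw [e1]; exact Subgroup.zpow_mem _ (Subgroup.mem_zpowers x) _
      · rw [e2]; exact Subgroup.zpow_mem _ (Subgroup.mem_zpowers y) _
    rw [hdisj, Subgroup.mem_bot] at e4
    rw [Subgroup.mem_bot]
    exact Subtype.ext e4
  · rw [Subgroup.orderOf_mk]; exact hz
  · apply Subtype.ext
    simp only [Subgroup.coe_mul, Subgroup.coe_inv]
    exact hrel

end Sub

section GU

variable {F : Type*} [Field F] [Fintype F] {q : ℕ}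

theorem card_GU_two (hF : Fintype.card F = q ^ 2) :
    Nat.card (Cfsg.GU 2 F q) = q * (q + 1) ^ 2 * (q - 1) := by
  have hq := Helper5.two_le_of_card hF
  rw [Helper5.card_GU hF 2]
  simp only [Finset.prod_range_succ, Finset.prod_range_zero, one_mul]
  norm_num
  rw [sq_sub_one_eq q (by omega)]
  ring

theorem mulVec_two (A : Matrix (Fin 2) (Fin 2) F) (a : Fin 2 → F) :
    A *ᵥ a = ![A 0 0 * a 0 + A 0 1 * a 1, A 1 0 * a 0 + A 1 1 * a 1] := by
  ext i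
  fin_cases i <;> simp [Matrix.mulVec, dotProduct, Fin.sum_univ_two]

theorem hermForm_two (u v : Fin 2 → F) :
    Cfsg.hermForm 2 F q u v = u 0 * v 0 ^ q + u 1 * v 1 ^ q := by
  simp [Cfsg.hermForm, Fin.sum_univ_two]

theorem mem_GU_two_iff (g : GL (Fin 2) F) : g ∈ Cfsg.GU 2 F q ↔
    ∀ u v, Cfsg.hermForm 2 F q (g.val *ᵥ u) (g.val *ᵥ v) = Cfsg.hermForm 2 F q u v := Iff.rfl

theorem diagGL_mem_GU (w : Fin 2 → Fˣ) (hw : ∀ i, (w i : F) * (w i : F) ^ q = 1) :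
    diagGL w ∈ Cfsg.GU 2 F q := by
  rw [mem_GU_two_iff]
  intro u v
  rw [diagGL_val, mulVec_two, mulVec_two, hermForm_two, hermForm_two]
  simp only [Matrix.diagonal_apply_eq, Matrix.cons_val_zero, Matrix.cons_val_one,
    Matrix.diagonal_apply_ne _ (show (0 : Fin 2) ≠ 1 by decide),
    Matrix.diagonal_apply_ne _ (show (1 : Fin 2) ≠ 0 by decide), zero_mul, add_zero, zero_add,
    mul_pow]
  have h0 := hw 0
  have h1 := hw 1
  linear_combination (u 0 * v 0 ^ q) * h0 + (u 1 * v 1 ^ q) * h1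

theorem swapGL_mem_GU : (swapGL : GL (Fin 2) F) ∈ Cfsg.GU 2 F q := by
  rw [mem_GU_two_iff]
  intro u v
  rw [swapGL_val, mulVec_two, mulVec_two, hermForm_two, hermForm_two]
  simp
  ring

theorem conj_mem_GU (M d : GL (Fin 2) F) (f' : (Fin 2 → F) → (Fin 2 → F) → F)
    (hM : ∀ a b, Cfsg.hermForm 2 F q (M.val *ᵥ a) (M.val *ᵥ b) = f' a b)
    (hd : ∀ a b, f' (d.val *ᵥ a) (d.val *ᵥ b) = f' a b) : M * d * M⁻¹ ∈ Cfsg.GU 2 F q := by
  rw [mem_GU_two_iff]
  intro u v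
  have e : ∀ w : Fin 2 → F, (M * d * M⁻¹ : GL (Fin 2) F).val *ᵥ w =
      M.val *ᵥ (d.val *ᵥ ((M⁻¹ : GL (Fin 2) F).val *ᵥ w)) := by
    intro w
    rw [Units.val_mul, Units.val_mul, Matrix.mulVec_mulVec, Matrix.mulVec_mulVec]
  have e2 : ∀ w : Fin 2 → F, M.val *ᵥ ((M⁻¹ : GL (Fin 2) F).val *ᵥ w) = w := by
    intro w
    rw [Matrix.mulVec_mulVec, ← Units.val_mul, mul_inv_cancel]
    simp
  rw [e, e, hM, hd, ← hM, e2, e2]

theorem two_ne_zero_of_odd_card (hF : Fintype.card F = q ^ 2) (hq : Odd q) : (2 : F) ≠ 0 := by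
  apply Ring.two_ne_zero
  intro h2
  have := FiniteField.even_card_of_char_two h2
  rw [hF] at this
  have h3 : Odd (q ^ 2) := hq.pow
  rw [Nat.odd_iff] at h3
  omega

theorem diagGL_pow (w : Fin 2 → Fˣ) (j : ℕ) : (diagGL w : GL (Fin 2) F) ^ j = diagGL (w ^ j) :=
  (map_pow diagGL w j).symm

theorem diagGL_eq_one_iff (w : Fin 2 → Fˣ) : (diagGL w : GL (Fin 2) F) = 1 ↔ w = 1 := by
  constructor
  · intro h
    apply diagGL_injective
    rw [h, map_one]
  · rintro rfl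
    exact map_one _

theorem gu2_qd_elements (hF : Fintype.card F = q ^ 2) (hq : Odd q) (k s : ℕ) (hk : 2 ≤ k)
    (hqk : q = 2 ^ (k + 1) * s + 2 ^ k + 1) :
    ∃ x y : GL (Fin 2) F, x ∈ Cfsg.GU 2 F q ∧ y ∈ Cfsg.GU 2 F q ∧ orderOf x = 2 ^ (k + 1) ∧
      orderOf y = 2 ∧ y * x * y⁻¹ = x ^ (2 ^ k - 1) := by
  classical
  have h2 : (2 : F) ≠ 0 := two_ne_zero_of_odd_card hF hq
  have hq2 := Helper5.two_le_of_card hF
  have hcardU : Nat.card Fˣ = (q - 1) * (q + 1) := Helper5.card_units_eq hF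
  have h4 : (4 : ℕ) ≤ 2 ^ k := by
    calc 4 = 2 ^ 2 := by norm_num
      _ ≤ 2 ^ k := Nat.pow_le_pow_right (by norm_num) hk
  have hqm1 : q - 1 = 2 ^ k * (2 * s + 1) := by
    rw [hqk]
    simp only [Nat.add_sub_cancel]
    ring
  -- `t` with `t ^ (q+1) = -1`
  obtain ⟨τ, hτ⟩ := exists_orderOf_eq_of_dvd_card (G := Fˣ) (2 * (q + 1)) (by
    rw [hcardU, hqm1]
    have : 2 ^ k = 2 * 2 ^ (k - 1) := by
      rw [← pow_succ']
      congr 1
      omega
    rw [this]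
    exact ⟨2 ^ (k - 1) * (2 * s + 1), by ring⟩)
  have hτ1 : τ ^ (q + 1) ≠ 1 := by
    apply pow_ne_one_of_lt_orderOf (by omega)
    rw [hτ]
    omega
  have hτ2 : (τ ^ (q + 1)) * (τ ^ (q + 1)) = 1 := by
    rw [← pow_add, ← two_mul, ← hτ, pow_orderOf_eq_one]
  have ht : ((τ : F)) * (τ : F) ^ q = -1 := by
    have h5 : ((τ ^ (q + 1) : Fˣ) : F) * ((τ ^ (q + 1) : Fˣ) : F) = 1 := by
      rw [← Units.val_mul, hτ2]
      rfl
    rcases mul_self_eq_one_iff.mp h5 with h6 | h6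
    · exfalso
      apply hτ1
      apply Units.ext
      rw [h6]
      rfl
    · rw [Units.val_pow_eq_pow_val, pow_succ'] at h6
      exact h6
  set t : F := (τ : F) with htdef
  have ht0 : t ≠ 0 := τ.ne_zero
  -- `λ` of order `2 ^ (k+1)`
  obtain ⟨l, hl⟩ := exists_orderOf_eq_of_dvd_card (G := Fˣ) (2 ^ (k + 1)) (by
    rw [hcardU, hqm1]
    obtain ⟨r, hr⟩ : ∃ r, q + 1 = 2 * r := by
      obtain ⟨r, hr⟩ := hq
      exact ⟨r + 1, by omega⟩
    rw [hr, pow_succ]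
    exact ⟨(2 * s + 1) * r, by ring⟩)
  have hl1 : l ^ (2 ^ (k + 1)) = 1 := by rw [← hl, pow_orderOf_eq_one]
  have hlpow : ∀ a b : ℕ, a = 2 ^ (k + 1) * b → l ^ a = 1 := by
    intro a b hab
    rw [hab, pow_mul, hl1, one_pow]
  have hlpow' : ∀ a b : ℕ, a = 2 ^ (k + 1) * b + 1 → l ^ a = l := by
    intro a b hab
    rw [hab, pow_succ, hlpow _ b rfl, one_mul]
  have h2k : 2 ^ k = 2 * 2 ^ (k - 1) := by
    rw [← pow_succ']
    congr 1
    omega
  have h2k1 : 2 ^ (k + 1) = 2 * 2 ^ k := by rw [pow_succ']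
  have h2km : 2 ^ k - 1 + 1 = 2 ^ k := by omega
  set m : Fˣ := l ^ (2 ^ k - 1) with hmdef
  -- `m ^ (2^k - 1) = l`
  have hml : m ^ (2 ^ k - 1) = l := by
    rw [hmdef, ← pow_mul]
    apply hlpow' _ (2 ^ (k - 1) - 1)
    have e1 : 1 ≤ 2 ^ (k - 1) := Nat.one_le_two_pow
    obtain ⟨a, ha⟩ : ∃ a, 2 ^ (k - 1) = a + 1 := ⟨2 ^ (k - 1) - 1, by omega⟩
    rw [h2k1, h2k, ha]
    simp only [Nat.add_sub_cancel]
    have : 2 * (a + 1) - 1 = 2 * a + 1 := by omega
    rw [this]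
    ring
  -- `l * m ^ q = 1`
  have hlm : l * m ^ q = 1 := by
    rw [hmdef, ← pow_mul, ← pow_succ']
    obtain ⟨a, ha⟩ : ∃ a, 2 ^ (k - 1) = a + 1 := ⟨2 ^ (k - 1) - 1, by
      have e1 : 1 ≤ 2 ^ (k - 1) := Nat.one_le_two_pow
      omega⟩
    apply hlpow _ ((2 * a + 1) * s + a + 1)
    rw [hqk, h2k1, h2k, ha]
    have : 2 * (a + 1) - 1 = 2 * a + 1 := by omega
    rw [this]
    ring
  -- `m * l ^ q = 1`
  have hml' : m * l ^ q = 1 := by
    rw [hmdef, ← pow_add]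
    apply hlpow _ (s + 1)
    rw [hqk, h2k1]
    have : 2 ^ k - 1 + (2 * 2 ^ k * s + 2 ^ k + 1) = 2 * 2 ^ k * s + 2 * 2 ^ k := by omega
    rw [this]
    ring
  have hlmF : (l : F) * (m : F) ^ q = 1 := by
    rw [← Units.val_pow_eq_pow_val, ← Units.val_mul, hlm]
    rfl
  have hmlF : (m : F) * (l : F) ^ q = 1 := by
    rw [← Units.val_pow_eq_pow_val, ← Units.val_mul, hml']
    rfl
  -- the change of basis
  have hdet : (!![1, 1; t, -t] : Matrix (Fin 2) (Fin 2) F).det ≠ 0 := by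
    rw [Matrix.det_fin_two_of]
    intro h
    have : (2 : F) * t = 0 := by linear_combination -h
    rcases mul_eq_zero.mp this with h' | h'
    · exact h2 h'
    · exact ht0 h'
  set M : GL (Fin 2) F := Matrix.GeneralLinearGroup.mkOfDetNeZero _ hdet with hMdef
  have hMval : (M : Matrix (Fin 2) (Fin 2) F) = !![1, 1; t, -t] := rfl
  let f' : (Fin 2 → F) → (Fin 2 → F) → F := fun a b => 2 * (a 0 * b 1 ^ q + a 1 * b 0 ^ q)
  have hM : ∀ a b, Cfsg.hermForm 2 F q (M.val *ᵥ a) (M.val *ᵥ b) = f' a b := by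
    intro a b
    rw [hMval, mulVec_two, mulVec_two, hermForm_two]
    simp only [Matrix.of_apply, Matrix.cons_val', Matrix.cons_val_zero, Matrix.cons_val_one,
      Matrix.cons_val_fin_one, one_mul, f']
    have e1 : (b 0 + b 1) ^ q = b 0 ^ q + b 1 ^ q := Helper5.frob_add hF _ _
    have e2 : (t * b 0 + -t * b 1) ^ q = t ^ q * b 0 ^ q - t ^ q * b 1 ^ q := by
      have : t * b 0 + -t * b 1 = t * b 0 - t * b 1 := by ring
      rw [this, Helper5.frob_sub hF, mul_pow, mul_pow]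
    rw [e1, e2]
    linear_combination ((a 0 - a 1) * (b 0 ^ q - b 1 ^ q)) * ht
  set x₀ : GL (Fin 2) F := diagGL ![l, m] with hx₀
  have hx₀mem : M * x₀ * M⁻¹ ∈ Cfsg.GU 2 F q := by
    apply conj_mem_GU M x₀ f' hM
    intro a b
    rw [hx₀, diagGL_val, mulVec_two, mulVec_two]
    simp only [Matrix.diagonal_apply_eq, Matrix.cons_val_zero, Matrix.cons_val_one,
      Matrix.diagonal_apply_ne _ (show (0 : Fin 2) ≠ 1 by decide),
      Matrix.diagonal_apply_ne _ (show (1 : Fin 2) ≠ 0 by decide), zero_mul, add_zero, zero_add,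
      mul_pow, f']
    linear_combination (2 * a 0 * b 1 ^ q) * hlmF + (2 * a 1 * b 0 ^ q) * hmlF
  have hy₀mem : M * swapGL * M⁻¹ ∈ Cfsg.GU 2 F q := by
    apply conj_mem_GU M swapGL f' hM
    intro a b
    rw [swapGL_val, mulVec_two, mulVec_two]
    simp only [f', Matrix.of_apply, Matrix.cons_val', Matrix.cons_val_zero, Matrix.cons_val_one,
      Matrix.cons_val_fin_one, zero_mul, one_mul, zero_add, add_zero]
    ring
  -- order of `x₀`
  have hx₀pow : x₀ ^ (2 ^ (k + 1)) = 1 := by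
    rw [hx₀, diagGL_pow, diagGL_eq_one_iff]
    funext i
    fin_cases i
    · simpa using hl1
    · simp only [Pi.pow_apply, Pi.one_apply]
      show m ^ (2 ^ (k + 1)) = 1
      rw [hmdef, ← pow_mul, mul_comm, pow_mul, hl1, one_pow]
  have hx₀o : orderOf x₀ = 2 ^ (k + 1) := by
    apply Nat.dvd_antisymm (orderOf_dvd_of_pow_eq_one hx₀pow)
    rw [← hl]
    apply orderOf_dvd_of_pow_eq_one
    have h5 : x₀ ^ orderOf x₀ = 1 := pow_orderOf_eq_one _
    rw [hx₀, diagGL_pow, diagGL_eq_one_iff] at h5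
    have h6 := congrFun h5 0
    simpa using h6
  -- the relation
  have hrel₀ : swapGL * x₀ * swapGL⁻¹ = x₀ ^ (2 ^ k - 1) := by
    rw [hx₀, swapGL_mul_diagGL, diagGL_pow]
    have : (fun i => (![l, m] : Fin 2 → Fˣ) (Equiv.swap 0 1 i)) = ![l, m] ^ (2 ^ k - 1) := by
      funext i
      fin_cases i
      · simp [hmdef]
      · simp [hml]
    rw [this]
    group
  refine ⟨M * x₀ * M⁻¹, M * swapGL * M⁻¹, hx₀mem, hy₀mem, ?_, ?_, ?_⟩
  · rw [orderOf_conj', hx₀o]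
  · rw [orderOf_conj', orderOf_swapGL]
  · rw [← conj_pow', ← hrel₀]
    group

end GU

end Cfsg.Agent.Lib.Helper20
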