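import Mathlib
import Cfsg.Agent.Lib.Helper94.Iso8bDefs
import Cfsg.Agent.Lib.Helper53.Iso8BLKPM
import Cfsg.Agent.Lib.Helper42.Iso8BLKMM
import Cfsg.Agent.Lib.Helper44.Transport

/-!
# Iso8b hive (helper94, S3590), leaf ISO8B-C2 (helper20): `minus m ⊥ minus m' = plus (m + m' + 2)`
-/

set_option autoImplicit false

namespace Cfsg.Agent.Lib.Helper94.Iso8

open Matrix

section
variable {F : Type*} [Field F]

/-- transport of an isometry along a linear isometry of coordinate spaces: the order is preserved -/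
theorem c2_transport {ι κ : Type} [Fintype ι] [DecidableEq ι] [Fintype κ] [DecidableEq κ]
    (Q : (ι → F) → F) (Q' : (κ → F) → F) (Θ : (ι → F) ≃ₗ[F] (κ → F)) (hΘ : ∀ v, Q' (Θ v) = Q v)
    (g : ↥(Cfsg.isometryGroup F Q)) : ∃ g' : ↥(Cfsg.isometryGroup F Q'), orderOf g' = orderOf g := by
  obtain ⟨φ₁, -⟩ := Cfsg.Agent.Lib.Helper44.exists_mulEquiv_isometryGroup (F := F) Q Q
    (LinearEquiv.refl F (ι → F)) (fun _ => rfl)
  obtain ⟨φ₂, -⟩ := Cfsg.Agent.Lib.Helper44.exists_mulEquiv_isometryGroup (F := F) Q' Q Θ hΘ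
  exact ⟨(φ₁.symm.trans φ₂) g, MulEquiv.orderOf_eq _ g⟩

/-- the index type of `H^m ⊥ H^m' ⊥ (A ⊥ A)` -/
abbrev c2_R (m m' : ℕ) : Type := ((Fin m ⊕ Fin m) ⊕ (Fin m' ⊕ Fin m')) ⊕ (Fin 2 ⊕ Fin 2)

/-- the hyperbolic part -/
def c2_pp (m m' : ℕ) (v : c2_R m m' → F) : F :=
  (∑ i : Fin m, v (.inl (.inl (.inl i))) * v (.inl (.inl (.inr i)))) +
    ∑ j : Fin m', v (.inl (.inr (.inl j))) * v (.inl (.inr (.inr j)))

/-- the form `H^m ⊥ H^m' ⊥ (A ⊥ A)` -/
def c2_QR (a b : F) (m m' : ℕ) (v : c2_R m m' → F) : F :=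
  c2_pp m m' v +
    ((v (.inr (.inl 0)) ^ 2 + a * v (.inr (.inl 0)) * v (.inr (.inl 1)) + b * v (.inr (.inl 1)) ^ 2) +
      (v (.inr (.inr 0)) ^ 2 + a * v (.inr (.inr 0)) * v (.inr (.inr 1)) + b * v (.inr (.inr 1)) ^ 2))

/-- the form `H^m ⊥ H^m' ⊥ H^2` -/
def c2_QR' (m m' : ℕ) (v : c2_R m m' → F) : F :=
  c2_pp m m' v + Cfsg.quadFormPlus 2 F (fun t => v (.inr t))

/-- the regrouping of the indices of `minus m ⊥ minus m'` -/
def c2_e1 (m m' : ℕ) :
    ((Fin m ⊕ Fin m) ⊕ Fin 2) ⊕ ((Fin m' ⊕ Fin m') ⊕ Fin 2) ≃ c2_R m m' where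
  toFun
    | .inl (.inl x) => .inl (.inl x)
    | .inl (.inr t) => .inr (.inl t)
    | .inr (.inl x) => .inl (.inr x)
    | .inr (.inr t) => .inr (.inr t)
  invFun
    | .inl (.inl x) => .inl (.inl x)
    | .inr (.inl t) => .inl (.inr t)
    | .inl (.inr x) => .inr (.inl x)
    | .inr (.inr t) => .inr (.inr t)
  left_inv := by rintro ((_ | _) | (_ | _)) <;> rfl
  right_inv := by rintro ((_ | _) | (_ | _)) <;> rfl

theorem c2_QR_eq (a b : F) (m m' : ℕ) (v : c2_R m m' → F) :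
    c2_QR a b m m' v = Cfsg.quadFormMinus m F a b (fun i => v (c2_e1 m m' (Sum.inl i))) +
      Cfsg.quadFormMinus m' F a b (fun j => v (c2_e1 m m' (Sum.inr j))) := by
  unfold c2_QR c2_pp Cfsg.quadFormMinus
  simp only [c2_e1, Equiv.coe_fn_mk]
  ring

/-- the identification of `Fin 2 ⊕ Fin 2 → F` with two copies of the coordinate space of `A` -/
noncomputable def c2_split :
    (Fin 2 ⊕ Fin 2 → F) ≃ₗ[F] (blkmm_IA → F) × (blkmm_IA → F) :=
  (LinearEquiv.sumArrowLequivProdArrow (Fin 2) (Fin 2) F F).trans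
    ((LinearEquiv.funCongrLeft F F (Equiv.emptySum (Fin 0 ⊕ Fin 0) (Fin 2))).prodCongr
      (LinearEquiv.funCongrLeft F F (Equiv.emptySum (Fin 0 ⊕ Fin 0) (Fin 2))))

theorem c2_split_fst (w : Fin 2 ⊕ Fin 2 → F) (t : Fin 2) :
    (c2_split w).1 (.inr t) = w (.inl t) := rfl

theorem c2_split_snd (w : Fin 2 ⊕ Fin 2 → F) (t : Fin 2) :
    (c2_split w).2 (.inr t) = w (.inr t) := rfl

/-- the isometry `A ⊥ A → H ⊥ H` as a linear equivalence -/
noncomputable def c2_PP [CharP F 2] (a b c : F) (hac : a * c = 1) :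
    ((blkmm_IA → F) × (blkmm_IA → F)) ≃ₗ[F] (blkmm_J → F) :=
  LinearEquiv.ofLinearMap (blkmm_P' a b c) (blkmm_P b c)
    (LinearMap.ext fun x => blkmm_P'P b hac x) (LinearMap.ext fun y => blkmm_PP' b hac y)

/-- the four dimensional isometry -/
noncomputable def c2_T4 [CharP F 2] (a b c : F) (hac : a * c = 1) :
    (Fin 2 ⊕ Fin 2 → F) ≃ₗ[F] (Fin 2 ⊕ Fin 2 → F) :=
  c2_split.trans (c2_PP a b c hac)

theorem c2_T4_form [CharP F 2] (a b c : F) (hac : a * c = 1) (w : Fin 2 ⊕ Fin 2 → F) :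
    Cfsg.quadFormPlus 2 F (c2_T4 a b c hac w) =
      (w (.inl 0) ^ 2 + a * w (.inl 0) * w (.inl 1) + b * w (.inl 1) ^ 2) +
        (w (.inr 0) ^ 2 + a * w (.inr 0) * w (.inr 1) + b * w (.inr 1) ^ 2) := by
  have h : c2_T4 a b c hac w = blkmm_P' a b c (c2_split w) := rfl
  rw [h, blkmm_isoP' b hac, blkmm_quadA, blkmm_quadA, c2_split_fst, c2_split_fst, c2_split_snd,
    c2_split_snd]

/-- the isometry `H^m ⊥ H^m' ⊥ (A ⊥ A) → H^m ⊥ H^m' ⊥ H^2` -/
noncomputable def c2_T1 [CharP F 2] (a b c : F) (hac : a * c = 1) (m m' : ℕ) :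
    (c2_R m m' → F) ≃ₗ[F] (c2_R m m' → F) where
  toFun v := Sum.elim (fun x => v (.inl x)) (c2_T4 a b c hac (fun t => v (.inr t)))
  invFun v := Sum.elim (fun x => v (.inl x)) ((c2_T4 a b c hac).symm (fun t => v (.inr t)))
  map_add' v w := by
    funext x
    rcases x with x | t
    · rfl
    · have h : (fun t => (v + w) (Sum.inr t)) = (fun t => v (Sum.inr t)) + fun t => w (Sum.inr t) := rfl
      show c2_T4 a b c hac (fun t => (v + w) (Sum.inr t)) t =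
        c2_T4 a b c hac (fun t => v (Sum.inr t)) t + c2_T4 a b c hac (fun t => w (Sum.inr t)) t
      rw [h, map_add]
      rfl
  map_smul' r v := by
    funext x
    rcases x with x | t
    · rfl
    · have h : (fun t => (r • v) (Sum.inr t)) = r • (fun t => v (Sum.inr t)) := rfl
      show c2_T4 a b c hac (fun t => (r • v) (Sum.inr t)) t =
        r • c2_T4 a b c hac (fun t => v (Sum.inr t)) t
      rw [h, map_smul]
      rfl
  left_inv v := by
    funext x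
    rcases x with x | t
    · rfl
    · show (c2_T4 a b c hac).symm (c2_T4 a b c hac (fun t => v (Sum.inr t))) t = v (Sum.inr t)
      rw [LinearEquiv.symm_apply_apply]
  right_inv v := by
    funext x
    rcases x with x | t
    · rfl
    · show (c2_T4 a b c hac) ((c2_T4 a b c hac).symm (fun t => v (Sum.inr t))) t = v (Sum.inr t)
      rw [LinearEquiv.apply_symm_apply]

theorem c2_T1_form [CharP F 2] (a b c : F) (hac : a * c = 1) (m m' : ℕ) (v : c2_R m m' → F) :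
    c2_QR' m m' (c2_T1 a b c hac m m' v) = c2_QR a b m m' v := by
  have h1 : c2_pp m m' (c2_T1 a b c hac m m' v) = c2_pp m m' v := rfl
  have h2 : (fun t => (c2_T1 a b c hac m m' v) (Sum.inr t)) =
      c2_T4 a b c hac (fun t => v (Sum.inr t)) := rfl
  unfold c2_QR' c2_QR
  rw [h1, h2, c2_T4_form]

/-- the numbering of the hyperbolic pairs of `H^m ⊥ H^m' ⊥ H^2` -/
def c2_eF (m m' : ℕ) : (Fin m ⊕ Fin m') ⊕ Fin 2 ≃ Fin (m + m' + 2) :=
  (Equiv.sumCongr finSumFinEquiv (Equiv.refl (Fin 2))).trans finSumFinEquiv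

/-- the regrouping of the indices of `H^m ⊥ H^m' ⊥ H^2` -/
def c2_e2 (m m' : ℕ) : c2_R m m' ≃ ((Fin m ⊕ Fin m') ⊕ Fin 2) ⊕ ((Fin m ⊕ Fin m') ⊕ Fin 2) where
  toFun
    | .inl (.inl (.inl i)) => .inl (.inl (.inl i))
    | .inl (.inl (.inr i)) => .inr (.inl (.inl i))
    | .inl (.inr (.inl j)) => .inl (.inl (.inr j))
    | .inl (.inr (.inr j)) => .inr (.inl (.inr j))
    | .inr (.inl t) => .inl (.inr t)
    | .inr (.inr t) => .inr (.inr t)
  invFun
    | .inl (.inl (.inl i)) => .inl (.inl (.inl i))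
    | .inr (.inl (.inl i)) => .inl (.inl (.inr i))
    | .inl (.inl (.inr j)) => .inl (.inr (.inl j))
    | .inr (.inl (.inr j)) => .inl (.inr (.inr j))
    | .inl (.inr t) => .inr (.inl t)
    | .inr (.inr t) => .inr (.inr t)
  left_inv := by rintro (((_ | _) | (_ | _)) | (_ | _)) <;> rfl
  right_inv := by rintro (((_ | _) | _) | ((_ | _) | _)) <;> rfl

/-- the index equivalence onto the standard index type of `plus (m + m' + 2)` -/
def c2_e3 (m m' : ℕ) : c2_R m m' ≃ Fin (m + m' + 2) ⊕ Fin (m + m' + 2) :=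
  (c2_e2 m m').trans (Equiv.sumCongr (c2_eF m m') (c2_eF m m'))

theorem c2_plus_form (m m' : ℕ) (w : Fin (m + m' + 2) ⊕ Fin (m + m' + 2) → F) :
    c2_QR' m m' (fun x => w (c2_e3 m m' x)) = Cfsg.quadFormPlus (m + m' + 2) F w := by
  unfold c2_QR' c2_pp Cfsg.quadFormPlus
  rw [← Equiv.sum_comp (c2_eF m m') (fun k => w (Sum.inl k) * w (Sum.inr k)),
    Fintype.sum_sum_type, Fintype.sum_sum_type]
  rfl

end

/-- ISO8B-C2 (`minus ⊥ minus = plus`, general ranks; ISO8-BLKMM is the case `m = m' = 0`) -/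
theorem blk_mm_gen {F : Type*} [Field F] [CharP F 2] (a b : F) (ha : a ≠ 0) (m m' N₁ N₂ : ℕ)
    (h₁ : HasMinus F a b m N₁) (h₂ : HasMinus F a b m' N₂) :
    HasPlus F (m + m' + 2) (Nat.lcm N₁ N₂) := by
  classical
  obtain ⟨g1, hg1⟩ := h₁
  obtain ⟨g2, hg2⟩ := h₂
  have hac : a * a⁻¹ = 1 := mul_inv_cancel₀ ha
  obtain ⟨g, hg⟩ := blkpm_general (c2_e1 m m') (Cfsg.quadFormMinus m F a b)
    (Cfsg.quadFormMinus m' F a b) (c2_QR a b m m') (c2_QR_eq a b m m') g1 g2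
  obtain ⟨g', hg'⟩ := c2_transport (c2_QR a b m m') (c2_QR' (F := F) m m')
    (c2_T1 a b a⁻¹ hac m m') (c2_T1_form a b a⁻¹ hac m m') g
  obtain ⟨g'', hg''⟩ := c2_transport (c2_QR' (F := F) m m') (Cfsg.quadFormPlus (m + m' + 2) F)
    (LinearEquiv.funCongrLeft F F (c2_e3 m m')).symm
    (fun v => by
      have h := c2_plus_form m m' ((LinearEquiv.funCongrLeft F F (c2_e3 m m')).symm v)
      rw [← h]
      congr 1
      exact (LinearEquiv.funCongrLeft F F (c2_e3 m m')).apply_symm_apply v) g'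
  exact ⟨g'', by rw [hg'', hg', hg, hg1, hg2]⟩

end Cfsg.Agent.Lib.Helper94.Iso8
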