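import Mathlib
import Cfsg.Agent.Lib.Helper53.NormalAbelian
import Cfsg.Agent.Lib.Helper66.PermDerived

set_option autoImplicit false
set_option linter.style.haveILetI false
set_option linter.unusedSimpArgs false
set_option linter.unusedSectionVars false

/-!
Finite `p`-subgroups of `GL_n(K)`, `K` algebraically closed of characteristic different from `p`:
weights of a normal abelian subgroup and a bound for the derived length.
-/

namespace Cfsg.Agent.Lib.Helper20.LinPGroup

open Module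

section weights

variable {K : Type*} [Field K] {V : Type*} [AddCommGroup V] [Module K V] {ι : Type*}

/-- The simultaneous eigenspace of a family of endomorphisms. -/
def wt (φ : ι → Module.End K V) (χ : ι → K) : Submodule K V :=
  ⨅ i, Module.End.eigenspace (φ i) (χ i)

theorem mem_wt {φ : ι → Module.End K V} {χ : ι → K} {v : V} :
    v ∈ wt φ χ ↔ ∀ i, φ i v = χ i • v := by
  simp [wt, Submodule.mem_iInf, Module.End.mem_eigenspace_iff]

variable [IsAlgClosed K] [FiniteDimensional K V]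

theorem wt_eq (φ : ι → Module.End K V) (hs : ∀ i, (φ i).IsSemisimple) (χ : ι → K) :
    wt φ χ = ⨅ i, (φ i).maxGenEigenspace (χ i) := by
  unfold wt
  congr 1
  funext i
  exact ((hs i).isFinitelySemisimple.maxGenEigenspace_eq_eigenspace (χ i)).symm

theorem iSup_wt_eq_top (φ : ι → Module.End K V) (hc : ∀ i j, Commute (φ i) (φ j))
    (hs : ∀ i, (φ i).IsSemisimple) : ⨆ χ, wt φ χ = ⊤ := by
  have h1 := Module.End.iSup_iInf_maxGenEigenspace_eq_top_of_iSup_maxGenEigenspace_eq_top_of_commute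
    φ (fun i j _ => hc i j) (fun i => Module.End.iSup_maxGenEigenspace_eq_top (φ i))
  rw [← h1]
  congr 1
  funext χ
  exact wt_eq φ hs χ

theorem iSupIndep_wt (φ : ι → Module.End K V) (hc : ∀ i j, Commute (φ i) (φ j))
    (hs : ∀ i, (φ i).IsSemisimple) : iSupIndep (wt φ) := by
  have h1 := Module.End.independent_iInf_maxGenEigenspace_of_forall_mapsTo φ
    (fun i j μ => Module.End.mapsTo_maxGenEigenspace_of_comm (hc j i) μ)
  have : wt φ = fun χ : ι → K => ⨅ i, (φ i).maxGenEigenspace (χ i) := by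
    funext χ; exact wt_eq φ hs χ
  rw [this]
  exact h1

theorem finite_wt (φ : ι → Module.End K V) (hc : ∀ i j, Commute (φ i) (φ j))
    (hs : ∀ i, (φ i).IsSemisimple) : Finite {χ : ι → K // wt φ χ ≠ ⊥} := by
  haveI := (iSupIndep_wt φ hc hs).fintypeNeBotOfFiniteDimensional
  infer_instance

theorem card_wt_le (φ : ι → Module.End K V) (hc : ∀ i j, Commute (φ i) (φ j))
    (hs : ∀ i, (φ i).IsSemisimple) :
    Nat.card {χ : ι → K // wt φ χ ≠ ⊥} ≤ Module.finrank K V := by
  haveI := (iSupIndep_wt φ hc hs).fintypeNeBotOfFiniteDimensional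
  rw [Nat.card_eq_fintype_card]
  exact (iSupIndep_wt φ hc hs).subtype_ne_bot_le_finrank

/-- Two endomorphisms agreeing on all weight spaces are equal. -/
theorem ext_of_wt (φ : ι → Module.End K V) (hc : ∀ i j, Commute (φ i) (φ j))
    (hs : ∀ i, (φ i).IsSemisimple) (S T : Module.End K V)
    (h : ∀ χ : ι → K, ∀ v ∈ wt φ χ, S v = T v) : S = T := by
  have h1 : ⨆ χ, wt φ χ ≤ LinearMap.eqLocus S T := by
    apply iSup_le
    intro χ v hv
    exact h χ v hv
  rw [iSup_wt_eq_top φ hc hs] at h1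
  ext v
  exact h1 (Submodule.mem_top : v ∈ ⊤)

end weights


section action

variable {K : Type*} [Field K] {n : ℕ} {P : Type*} [Group P]
  (ρ : P →* Matrix.GeneralLinearGroup (Fin n) K)

/-- The action on `K^n` through endomorphisms. -/
noncomputable def act (g : P) : Module.End K (Fin n → K) :=
  Matrix.toLin' ((ρ g : Matrix.GeneralLinearGroup (Fin n) K) : Matrix (Fin n) (Fin n) K)

theorem act_mul (g h : P) : act ρ (g * h) = act ρ g * act ρ h := by
  unfold act
  rw [map_mul, Matrix.GeneralLinearGroup.coe_mul, Matrix.toLin'_mul]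
  rfl

theorem act_one : act ρ 1 = 1 := by
  unfold act
  rw [map_one, Matrix.GeneralLinearGroup.coe_one, Matrix.toLin'_one]
  rfl

theorem act_act (g h : P) (v : Fin n → K) : act ρ g (act ρ h v) = act ρ (g * h) v := by
  rw [act_mul]; rfl

theorem act_inv_act (g : P) (v : Fin n → K) : act ρ g⁻¹ (act ρ g v) = v := by
  rw [act_act, inv_mul_cancel, act_one]; rfl

theorem act_pow (g : P) (k : ℕ) : act ρ (g ^ k) = act ρ g ^ k := by
  induction k with
  | zero => rw [pow_zero, pow_zero, act_one]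
  | succ k ih => rw [pow_succ, pow_succ, act_mul, ih]

theorem act_injective (hρ : Function.Injective ρ) {g h : P} (hgh : act ρ g = act ρ h) : g = h := by
  apply hρ
  apply Units.ext
  exact Matrix.toLin'.injective hgh

theorem act_ne_zero (g : P) {v : Fin n → K} (hv : v ≠ 0) : act ρ g v ≠ 0 := by
  intro h
  apply hv
  rw [← act_inv_act ρ g v, h, map_zero]

theorem act_semisimple [Finite P] {p : ℕ} [Fact p.Prime] (hP : IsPGroup p P) (hp : (p : K) ≠ 0)
    (g : P) : (act ρ g).IsSemisimple := by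
  obtain ⟨k, hk⟩ := hP g
  apply Module.End.isSemisimple_of_squarefree_aeval_eq_zero
    (p := (Polynomial.X ^ (p ^ k) - 1 : Polynomial K))
  · apply Polynomial.Separable.squarefree
    rw [Polynomial.X_pow_sub_one_separable_iff]
    push_cast
    exact pow_ne_zero _ hp
  · simp only [map_sub, map_pow, Polynomial.aeval_X, map_one]
    rw [← act_pow, hk, act_one, sub_self]

variable (A : Subgroup P) [hA : A.Normal]

/-- Conjugation `a ↦ g⁻¹ a g` on the normal subgroup `A`. -/
def cj (g : P) (a : ↥A) : ↥A := ⟨g⁻¹ * a * g, hA.conj_mem' a a.2 g⟩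

/-- The twisted function `a ↦ χ (g⁻¹ a g)`. -/
def tw (g : P) (χ : ↥A → K) : ↥A → K := fun a => χ (cj A g a)

theorem tw_one (χ : ↥A → K) : tw A 1 χ = χ := by
  funext a
  simp [tw, cj]

theorem tw_mul (g h : P) (χ : ↥A → K) : tw A (g * h) χ = tw A g (tw A h χ) := by
  funext a
  simp only [tw, cj]
  congr 1
  apply Subtype.ext
  simp only [mul_inv_rev]
  group

/-- The family of endomorphisms given by `A`. -/
noncomputable def fam : ↥A → Module.End K (Fin n → K) := fun a => act ρ (a : P)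

theorem act_mem_wt (g : P) {χ : ↥A → K} {v : Fin n → K} (hv : v ∈ wt (fam ρ A) χ) :
    act ρ g v ∈ wt (fam ρ A) (tw A g χ) := by
  rw [mem_wt] at hv ⊢
  intro a
  have h1 := hv (cj A g a)
  simp only [fam, cj] at h1 ⊢
  have h2 : act ρ (a : P) (act ρ g v) = act ρ g (act ρ (g⁻¹ * (a : P) * g) v) := by
    rw [act_act, act_act]
    congr 2
    group
  rw [h2, h1, map_smul]
  rfl

theorem wt_tw_ne_bot (g : P) {χ : ↥A → K} (h : wt (fam ρ A) χ ≠ ⊥) :
    wt (fam ρ A) (tw A g χ) ≠ ⊥ := by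
  obtain ⟨v, hv, hv0⟩ := (Submodule.ne_bot_iff _).mp h
  rw [Submodule.ne_bot_iff]
  exact ⟨act ρ g v, act_mem_wt ρ A g hv, act_ne_zero ρ g hv0⟩

/-- The set of weights. -/
abbrev Wts : Type _ := {χ : ↥A → K // wt (fam ρ A) χ ≠ ⊥}

noncomputable instance wtsAction : MulAction P (Wts ρ A) where
  smul g x := ⟨tw A g x.1, wt_tw_ne_bot ρ A g x.2⟩
  one_smul x := Subtype.ext (tw_one A x.1)
  mul_smul g h x := Subtype.ext (tw_mul A g h x.1)

theorem smul_wts_val (g : P) (x : Wts ρ A) : (g • x).1 = tw A g x.1 := rfl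

end action


section core

variable {K : Type*} [Field K] [IsAlgClosed K] {n : ℕ} {P : Type*} [Group P] [Finite P]
  (ρ : P →* Matrix.GeneralLinearGroup (Fin n) K)
  {p : ℕ} [Fact p.Prime]
  (A : Subgroup P) [hA : A.Normal]

theorem fam_commute (hAab : ∀ x ∈ A, ∀ y ∈ A, x * y = y * x) (a b : ↥A) :
    Commute (fam ρ A a) (fam ρ A b) := by
  unfold fam
  show act ρ a * act ρ b = act ρ b * act ρ a
  rw [← act_mul, ← act_mul, hAab a a.2 b b.2]

theorem fam_semisimple (hP : IsPGroup p P) (hp : (p : K) ≠ 0) (a : ↥A) :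
    (fam ρ A a).IsSemisimple := act_semisimple ρ hP hp a

theorem mem_centralizer_of_fixes (hρ : Function.Injective ρ) (hP : IsPGroup p P)
    (hp : (p : K) ≠ 0) (hAab : ∀ x ∈ A, ∀ y ∈ A, x * y = y * x)
    (g : P) (hg : ∀ x : Wts ρ A, g • x = x) : g ∈ Subgroup.centralizer (A : Set P) := by
  rw [Subgroup.mem_centralizer_iff]
  intro a ha
  have h1 : act ρ (g⁻¹ * a * g) = act ρ a := by
    apply ext_of_wt (fam ρ A) (fam_commute ρ A hAab) (fam_semisimple ρ A hP hp)
    intro χ v hv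
    by_cases hv0 : v = 0
    · rw [hv0, map_zero, map_zero]
    · have hne : wt (fam ρ A) χ ≠ ⊥ := by
        rw [Submodule.ne_bot_iff]; exact ⟨v, hv, hv0⟩
      have h2 := congrArg Subtype.val (hg ⟨χ, hne⟩)
      rw [smul_wts_val] at h2
      have h3 : χ (cj A g ⟨a, ha⟩) = χ ⟨a, ha⟩ := congrFun h2 ⟨a, ha⟩
      rw [mem_wt] at hv
      have h4 := hv (cj A g ⟨a, ha⟩)
      have h5 := hv ⟨a, ha⟩
      simp only [fam, cj] at h4 h5
      rw [h4, h5]
      congr 1
  have h2 := act_injective ρ hρ h1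
  calc a * g = g * (g⁻¹ * a * g) := by group
    _ = g * a := by rw [h2]

/-- If `A` is a self-centralising normal abelian subgroup and every orbit on the weights of `A`
has at most `m` elements, then the derived length is at most `log_p m + 1`. -/
theorem derivedSeries_eq_bot (hρ : Function.Injective ρ) (hP : IsPGroup p P)
    (hp : (p : K) ≠ 0) (hAab : ∀ x ∈ A, ∀ y ∈ A, x * y = y * x)
    (hCA : Subgroup.centralizer (A : Set P) ≤ A) (m : ℕ)
    (horb : ∀ x : Wts ρ A, (MulAction.orbit P x).ncard ≤ m) :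
    derivedSeries P (Nat.log p m + 1) = ⊥ := by
  have key : ∀ g ∈ derivedSeries P (Nat.log p m), ∀ x : Wts ρ A, g • x = x := by
    intro g hg x
    apply Cfsg.Agent.Lib.Helper66.PD.smul_eq_of_mem_derivedSeries p (Nat.log p m) P hP x _ g hg
    rw [MulAction.index_stabilizer]
    exact lt_of_le_of_lt (horb x) (Nat.lt_pow_succ_log_self (Fact.out : p.Prime).one_lt m)
  have hle : derivedSeries P (Nat.log p m) ≤ A := fun g hg =>
    hCA (mem_centralizer_of_fixes ρ A hρ hP hp hAab g (key g hg))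
  rw [derivedSeries_succ, eq_bot_iff]
  refine le_trans (Subgroup.commutator_mono hle hle) ?_
  rw [Subgroup.commutator_le]
  intro a ha b hb
  rw [Subgroup.mem_bot, commutatorElement_def, hAab a ha b hb]
  group

/-- Existence of a maximal normal abelian subgroup. -/
theorem exists_max_normal_abelian :
    ∃ A : Subgroup P, A.Normal ∧ (∀ x ∈ A, ∀ y ∈ A, x * y = y * x) ∧
      ∀ B : Subgroup P, B.Normal → (∀ x ∈ B, ∀ y ∈ B, x * y = y * x) → A ≤ B → B = A := by
  obtain ⟨A, -, hA⟩ := Finite.exists_le_maximal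
    (p := fun B : Subgroup P => B.Normal ∧ ∀ x ∈ B, ∀ y ∈ B, x * y = y * x) (a := ⊥)
    ⟨inferInstance, by
      intro x hx y hy
      rw [Subgroup.mem_bot] at hx hy
      rw [hx, hy]⟩
  refine ⟨A, hA.prop.1, hA.prop.2, ?_⟩
  intro B hBn hBab hAB
  exact le_antisymm (hA.le_of_ge ⟨hBn, hBab⟩ hAB) hAB

end core


section frobenius

variable {F : Type*} [Field F] {K : Type*} [Field K] [Algebra F K]
  {n : ℕ} {P : Type*} [Group P] (ρ₀ : P →* Matrix.GeneralLinearGroup (Fin n) F)

/-- Extension of scalars of a matrix representation. -/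
noncomputable def extend : P →* Matrix.GeneralLinearGroup (Fin n) K :=
  (Matrix.GeneralLinearGroup.map (algebraMap F K)).comp ρ₀

theorem extend_apply (g : P) (i j : Fin n) :
    ((extend (K := K) ρ₀ g : Matrix.GeneralLinearGroup (Fin n) K) : Matrix (Fin n) (Fin n) K) i j =
      algebraMap F K ((ρ₀ g : Matrix (Fin n) (Fin n) F) i j) := rfl

theorem extend_injective (h : Function.Injective ρ₀) :
    Function.Injective (extend (K := K) ρ₀) := by
  intro g g' hgg
  apply h
  apply Units.ext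
  ext i j
  have h1 := congrArg (fun M : Matrix.GeneralLinearGroup (Fin n) K =>
    (M : Matrix (Fin n) (Fin n) K) i j) hgg
  simp only [extend_apply] at h1
  exact (algebraMap F K).injective h1

theorem act_extend_apply (g : P) (v : Fin n → K) (i : Fin n) :
    act (extend (K := K) ρ₀) g v i =
      ∑ j, algebraMap F K ((ρ₀ g : Matrix (Fin n) (Fin n) F) i j) * v j := by
  unfold act
  rw [Matrix.toLin'_apply]
  simp only [Matrix.mulVec, dotProduct, extend_apply]

/-- A ring endomorphism of `K` fixing `F` commutes with the action. -/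
theorem act_extend_comp (ψ : K →+* K) (hψ : ∀ x : F, ψ (algebraMap F K x) = algebraMap F K x)
    (g : P) (v : Fin n → K) :
    act (extend (K := K) ρ₀) g (fun j => ψ (v j)) = fun i => ψ (act (extend (K := K) ρ₀) g v i) := by
  funext i
  rw [act_extend_apply, act_extend_apply, map_sum]
  apply Finset.sum_congr rfl
  intro j _
  rw [map_mul, hψ]

variable (A : Subgroup P) [hA : A.Normal]

theorem wt_comp_ne_bot (ψ : K →+* K) (hψ : ∀ x : F, ψ (algebraMap F K x) = algebraMap F K x)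
    {χ : ↥A → K} (h : wt (fam (extend (K := K) ρ₀) A) χ ≠ ⊥) :
    wt (fam (extend (K := K) ρ₀) A) (fun a => ψ (χ a)) ≠ ⊥ := by
  obtain ⟨v, hv, hv0⟩ := (Submodule.ne_bot_iff _).mp h
  rw [Submodule.ne_bot_iff]
  refine ⟨fun j => ψ (v j), ?_, ?_⟩
  · rw [mem_wt] at hv ⊢
    intro a
    have h1 := hv a
    simp only [fam] at h1 ⊢
    rw [act_extend_comp ρ₀ ψ hψ, h1]
    funext i
    simp only [Pi.smul_apply, smul_eq_mul, map_mul]
  · intro h0
    apply hv0
    funext j
    have := congrFun h0 j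
    simp only [Pi.zero_apply] at this ⊢
    exact (map_eq_zero ψ).mp this

/-- The twist of a weight by a ring endomorphism fixing `F`. -/
noncomputable def frobTw (ψ : K →+* K) (hψ : ∀ x : F, ψ (algebraMap F K x) = algebraMap F K x)
    (x : Wts (extend (K := K) ρ₀) A) : Wts (extend (K := K) ρ₀) A :=
  ⟨fun a => ψ (x.1 a), wt_comp_ne_bot ρ₀ A ψ hψ x.2⟩

end frobenius


section roots

variable {K : Type*} [Field K] {n : ℕ} {P : Type*} [Group P]
  (ρ : P →* Matrix.GeneralLinearGroup (Fin n) K) (A : Subgroup P) [hA : A.Normal]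

theorem pow_apply_of_eigen {V : Type*} [AddCommGroup V] [Module K V] (φ : Module.End K V)
    {v : V} {c : K} (h : φ v = c • v) (k : ℕ) : (φ ^ k) v = c ^ k • v := by
  induction k with
  | zero => simp
  | succ k ih =>
    rw [pow_succ, Module.End.mul_apply, h, map_smul, ih, smul_smul, pow_succ, mul_comm]

/-- The values of a weight are roots of unity. -/
theorem wts_pow_eq_one (x : Wts ρ A) (a : ↥A) (k : ℕ) (hk : (a : P) ^ k = 1) :
    (x.1 a) ^ k = 1 := by
  obtain ⟨v, hv, hv0⟩ := (Submodule.ne_bot_iff _).mp x.2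
  rw [mem_wt] at hv
  have h1 := pow_apply_of_eigen (fam ρ A a) (hv a) k
  simp only [fam] at h1
  rw [← act_pow, hk, act_one] at h1
  have h2 : ((x.1 a) ^ k - 1) • v = 0 := by
    rw [sub_smul, one_smul, ← h1]
    simp
  rcases smul_eq_zero.mp h2 with h3 | h3
  · exact sub_eq_zero.mp h3
  · exact absurd h3 hv0

theorem cj_one (b : ↥A) : cj A 1 b = b := by
  apply Subtype.ext
  simp [cj]

theorem cj_cj (g h : P) (b : ↥A) : cj A h (cj A g b) = cj A (g * h) b := by
  apply Subtype.ext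
  simp only [cj, mul_inv_rev]
  group

end roots

section orbit

variable {F : Type*} [Field F] {K : Type*} [Field K] [Algebra F K]
  {n : ℕ} {P : Type*} [Group P] [Finite P] (ρ₀ : P →* Matrix.GeneralLinearGroup (Fin n) F)
  {p : ℕ} [hp : Fact p.Prime] (A : Subgroup P) [hA : A.Normal]

theorem key_inj (hP : IsPGroup p P) (q : ℕ) (hpq : ¬ p ∣ q) (hq0 : 0 < q)
    (ψ : ℕ → K →+* K) (hψ : ∀ i y, ψ i y = y ^ (q ^ i))
    (x y1 y2 : Wts (extend (K := K) ρ₀) A) (hnt : ∃ a, x.1 a ≠ 1)
    (h1 : y1 ∈ MulAction.orbit P x) (h2 : y2 ∈ MulAction.orbit P x)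
    (i j : ℕ) (hij : i ≤ j) (hje : j < orderOf (q : ZMod p))
    (heq : ∀ a, ψ i (y1.1 a) = ψ j (y2.1 a)) : i = j ∧ y1 = y2 := by
  have hpp := hp.out
  obtain ⟨d, rfl⟩ := Nat.exists_eq_add_of_le hij
  have hd : ∀ a, y1.1 a = (y2.1 a) ^ (q ^ d) := by
    intro a
    apply (ψ i).injective
    rw [heq a, hψ, hψ, ← pow_mul, ← pow_add, add_comm]
  obtain ⟨g1, hg1⟩ := h1
  obtain ⟨g2, hg2⟩ := h2
  have hy12 : y1 = (g1 * g2⁻¹) • y2 := by
    rw [← hg2, ← mul_smul, inv_mul_cancel_right]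
    exact hg1.symm
  set h := g1 * g2⁻¹ with hh
  have hstep : ∀ b, (y2.1 b) ^ (q ^ d) = y2.1 (cj A h b) := by
    intro b
    rw [← hd b, hy12]
    rfl
  have hiter : ∀ s b, (y2.1 b) ^ (q ^ (d * s)) = y2.1 (cj A (h ^ s) b) := by
    intro s
    induction s with
    | zero =>
      intro b
      rw [Nat.mul_zero, pow_zero, pow_one, pow_zero, cj_one]
    | succ s ih =>
      intro b
      rw [Nat.mul_succ, pow_add, pow_mul, ih b, hstep, cj_cj, ← pow_succ]
  obtain ⟨k, hk⟩ := hP h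
  have hfix : ∀ b, (y2.1 b) ^ (q ^ (d * p ^ k)) = y2.1 b := by
    intro b
    rw [hiter, hk, cj_one]
  -- a nontrivial value of y2
  obtain ⟨a0, ha0⟩ := hnt
  obtain ⟨b, hb⟩ : ∃ b, y2.1 b ≠ 1 := by
    refine ⟨cj A g2⁻¹ a0, ?_⟩
    rw [← hg2]
    show x.1 (cj A g2 (cj A g2⁻¹ a0)) ≠ 1
    rw [cj_cj, inv_mul_cancel, cj_one]
    exact ha0
  set ζ := y2.1 b with hζ
  obtain ⟨s0, hs0⟩ := hP (b : P)
  have hζ1 : ζ ^ (p ^ s0) = 1 := wts_pow_eq_one _ A y2 b _ hs0
  have hζ0 : ζ ≠ 0 := by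
    intro h0
    rw [h0, zero_pow (pow_ne_zero _ hpp.ne_zero)] at hζ1
    exact zero_ne_one hζ1
  have hqD : 1 ≤ q ^ (d * p ^ k) := Nat.one_le_pow _ _ hq0
  have hζ2 : ζ ^ (q ^ (d * p ^ k) - 1) = 1 := by
    have h3 := hfix b
    rw [← hζ] at h3
    have h4 : ζ ^ (q ^ (d * p ^ k) - 1) * ζ = 1 * ζ := by
      rw [← pow_succ, Nat.sub_add_cancel hqD, h3, one_mul]
    exact mul_right_cancel₀ hζ0 h4
  have ho1 : orderOf ζ ∣ p ^ s0 := orderOf_dvd_of_pow_eq_one hζ1
  have ho2 : orderOf ζ ∣ q ^ (d * p ^ k) - 1 := orderOf_dvd_of_pow_eq_one hζ2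
  obtain ⟨u, -, hu⟩ := (Nat.dvd_prime_pow hpp).mp ho1
  have hu0 : u ≠ 0 := by
    intro h0
    rw [h0, pow_zero, orderOf_eq_one_iff] at hu
    exact hb hu
  have hpdvd : p ∣ q ^ (d * p ^ k) - 1 := by
    refine dvd_trans ?_ ho2
    rw [hu]
    exact dvd_pow_self p hu0
  have hzm : (q : ZMod p) ^ (d * p ^ k) = 1 := by
    have h5 : ((q ^ (d * p ^ k) - 1 : ℕ) : ZMod p) = 0 :=
      (ZMod.natCast_eq_zero_iff _ _).mpr hpdvd
    rw [Nat.cast_sub hqD, Nat.cast_pow, Nat.cast_one, sub_eq_zero] at h5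
    exact h5
  have he1 : orderOf (q : ZMod p) ∣ d * p ^ k := orderOf_dvd_of_pow_eq_one hzm
  have hqne : (q : ZMod p) ≠ 0 := by
    intro h0
    exact hpq ((ZMod.natCast_eq_zero_iff _ _).mp h0)
  have he2 : orderOf (q : ZMod p) ∣ p - 1 :=
    orderOf_dvd_of_pow_eq_one (ZMod.pow_card_sub_one_eq_one hqne)
  have hepos : 0 < orderOf (q : ZMod p) := by
    rcases Nat.eq_zero_or_pos (orderOf (q : ZMod p)) with h0 | h0
    · rw [h0] at he2
      have := Nat.eq_zero_of_zero_dvd he2
      have := hpp.two_le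
      omega
    · exact h0
  have hcop : Nat.Coprime (orderOf (q : ZMod p)) p := by
    rw [Nat.coprime_comm, Nat.Prime.coprime_iff_not_dvd hpp]
    intro hdv
    have h6 := Nat.le_of_dvd hepos hdv
    have h7 := Nat.le_of_dvd (by have := hpp.two_le; omega) he2
    omega
  have he3 : orderOf (q : ZMod p) ∣ d := (hcop.pow_right k).dvd_of_dvd_mul_right he1
  have hd0 : d = 0 := Nat.eq_zero_of_dvd_of_lt he3 (by omega)
  subst hd0
  refine ⟨rfl, ?_⟩
  apply Subtype.ext
  funext a
  rw [hd a, pow_zero, pow_one]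

theorem orderOf_pos_of_not_dvd (q : ℕ) (hpq : ¬ p ∣ q) : 0 < orderOf (q : ZMod p) := by
  have hpp := hp.out
  have hqne : (q : ZMod p) ≠ 0 := by
    intro h0
    exact hpq ((ZMod.natCast_eq_zero_iff _ _).mp h0)
  have he2 : orderOf (q : ZMod p) ∣ p - 1 :=
    orderOf_dvd_of_pow_eq_one (ZMod.pow_card_sub_one_eq_one hqne)
  rcases Nat.eq_zero_or_pos (orderOf (q : ZMod p)) with h0 | h0
  · rw [h0] at he2
    have := Nat.eq_zero_of_zero_dvd he2
    have := hpp.two_le
    omega
  · exact h0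

theorem orbit_ncard_le [IsAlgClosed K] (hP : IsPGroup p P) (hpK : (p : K) ≠ 0)
    (hAab : ∀ x ∈ A, ∀ y ∈ A, x * y = y * x)
    (q : ℕ) (hpq : ¬ p ∣ q) (hq0 : 0 < q)
    (hen : orderOf (q : ZMod p) ≤ n)
    (ψ : ℕ → K →+* K) (hψ : ∀ i y, ψ i y = y ^ (q ^ i))
    (hψF : ∀ i (x : F), ψ i (algebraMap F K x) = algebraMap F K x)
    (x : Wts (extend (K := K) ρ₀) A) :
    (MulAction.orbit P x).ncard ≤ n / orderOf (q : ZMod p) := by
  have he := orderOf_pos_of_not_dvd (p := p) q hpq
  rw [Nat.le_div_iff_mul_le he]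
  by_cases hnt : ∃ a, x.1 a ≠ 1
  · set e := orderOf (q : ZMod p) with hedef
    let Φ : Fin e × ↥(MulAction.orbit P x) → Wts (extend (K := K) ρ₀) A :=
      fun iy => frobTw ρ₀ A (ψ iy.1) (hψF iy.1) iy.2.1
    have hΦ : Function.Injective Φ := by
      rintro ⟨i, y1⟩ ⟨j, y2⟩ h
      have hval : ∀ a, ψ i (y1.1.1 a) = ψ j (y2.1.1 a) := by
        intro a
        exact congrFun (congrArg Subtype.val h) a
      rcases le_total (i : ℕ) (j : ℕ) with hij | hij
      · obtain ⟨h1, h2⟩ := key_inj ρ₀ A hP q hpq hq0 ψ hψ x y1.1 y2.1 hnt y1.2 y2.2 i j hij j.2 hval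
        exact Prod.ext (Fin.ext h1) (Subtype.ext h2)
      · obtain ⟨h1, h2⟩ := key_inj ρ₀ A hP q hpq hq0 ψ hψ x y2.1 y1.1 hnt y2.2 y1.2 j i hij i.2
          (fun a => (hval a).symm)
        exact Prod.ext (Fin.ext h1.symm) (Subtype.ext h2.symm)
    haveI : Finite (Wts (extend (K := K) ρ₀) A) :=
      finite_wt _ (fam_commute _ A hAab) (fam_semisimple _ A hP hpK)
    have h1 := Nat.card_le_card_of_injective Φ hΦ
    have h2 : Nat.card (Wts (extend (K := K) ρ₀) A) ≤ n := by
      have := card_wt_le (fam (extend (K := K) ρ₀) A) (fam_commute _ A hAab)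
        (fam_semisimple _ A hP hpK)
      rwa [Module.finrank_fin_fun] at this
    rw [Nat.card_prod, Nat.card_fin, _root_.Nat.card_coe_set_eq] at h1
    rw [mul_comm]
    exact le_trans h1 h2
  · push Not at hnt
    have horb : MulAction.orbit P x = {x} := by
      ext y
      rw [Set.mem_singleton_iff]
      constructor
      · rintro ⟨g, rfl⟩
        apply Subtype.ext
        funext a
        show x.1 (cj A g a) = x.1 a
        rw [hnt, hnt]
      · rintro rfl
        exact MulAction.mem_orbit_self _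
    rw [horb, Set.ncard_singleton, one_mul]
    exact hen

end orbit

end Cfsg.Agent.Lib.Helper20.LinPGroup
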