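import Mathlib
import Cfsg.Agent.Lib.Helper20.LinPGroup

set_option autoImplicit false
set_option linter.style.haveILetI false
set_option linter.unusedSimpArgs false
set_option linter.unusedSectionVars false

/-!
Derived length of `p`-subgroups of `GL_n(q)`, `p` not dividing `q`.
-/

namespace Cfsg.Agent.Lib.Helper20.LinPGroup

open Module

/-- A `p`-subgroup of `GL_n(F)`, `|F| = q` prime to `p`, `e` the order of `q` modulo `p`,
has derived length at most `log_p (n / e) + 1`. -/
theorem derivedSeries_pgroup_GL {F : Type*} [Field F] [Fintype F] (q : ℕ)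
    (hF : Fintype.card F = q) (p : ℕ) [hp : Fact p.Prime] (hpq : ¬ p ∣ q) (n : ℕ)
    (hen : orderOf (q : ZMod p) ≤ n) (P : Subgroup (Matrix.GeneralLinearGroup (Fin n) F))
    (hP : IsPGroup p P) :
    derivedSeries ↥P (Nat.log p (n / orderOf (q : ZMod p)) + 1) = ⊥ := by
  classical
  have hpp := hp.out
  let K := AlgebraicClosure F
  set r := ringChar F with hr
  haveI : CharP F r := ringChar.charP F
  have hrp : r.Prime := CharP.char_is_prime F r
  haveI : Fact r.Prime := ⟨hrp⟩
  obtain ⟨t, -, ht⟩ := FiniteField.card F r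
  rw [hF] at ht
  haveI : CharP K r := charP_of_injective_algebraMap (algebraMap F K).injective r
  haveI : ExpChar K r := ExpChar.prime hrp
  have hq0 : 0 < q := by rw [ht]; exact pow_pos hrp.pos _
  let ψ : ℕ → K →+* K := fun i => iterateFrobenius K r ((t : ℕ) * i)
  have hψ : ∀ i y, ψ i y = y ^ (q ^ i) := by
    intro i y
    show iterateFrobenius K r ((t : ℕ) * i) y = _
    rw [iterateFrobenius_def, ht, ← pow_mul]
  have hψF : ∀ i (x : F), ψ i (algebraMap F K x) = algebraMap F K x := by
    intro i x
    rw [hψ, ← map_pow, ← hF, FiniteField.pow_card_pow]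
  have hpK : (p : K) ≠ 0 := by
    intro h0
    have h1 : r ∣ p := (CharP.cast_eq_zero_iff K r p).mp h0
    have h2 : r = p := (Nat.prime_dvd_prime_iff_eq hrp hpp).mp h1
    apply hpq
    rw [ht, ← h2]
    exact dvd_pow_self r t.ne_zero
  haveI : Finite (Matrix.GeneralLinearGroup (Fin n) F) := inferInstance
  haveI : Finite ↥P := inferInstance
  obtain ⟨A, hAn, hAab, hmax⟩ := exists_max_normal_abelian (P := ↥P)
  haveI := hAn
  have hCA := Cfsg.Agent.Lib.Helper53.centralizer_eq_of_max_normal_abelian hP A hAab hmax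
  have hinj : Function.Injective (P.subtype) := Subgroup.subtype_injective P
  exact derivedSeries_eq_bot (extend (K := K) P.subtype) A (extend_injective P.subtype hinj) hP hpK
    hAab hCA.le (n / orderOf (q : ZMod p))
    (orbit_ncard_le P.subtype A hP hpK hAab q hpq hq0 hen ψ hψ hψF)

end Cfsg.Agent.Lib.Helper20.LinPGroup
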