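import Mathlib
import Cfsg.Prelude.Def_Transfer

set_option autoImplicit false
set_option linter.style.haveILetI false
set_option linter.unusedSimpArgs false
set_option linter.unusedSectionVars false

/-!
Abstract properties of `2`-groups that pass to direct products and to regular wreath products
with a group of order two: squares lie in the derived subgroup, existence of a normal elementary
abelian subgroup of a given order, bound for normal elementary abelian subgroups.
-/

namespace Cfsg.Agent.Lib.Helper20.SylModel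

open RegularWreathProduct

/-- Every square lies in the derived subgroup. -/
def SqDer (G : Type*) [Group G] : Prop := ∀ x : G, x ^ 2 ∈ commutator G

/-- There is a normal elementary abelian `2`-subgroup of order `2 ^ r`. -/
def HasNEA (G : Type*) [Group G] (r : ℕ) : Prop :=
  ∃ E : Subgroup G, E.Normal ∧ Cfsg.IsElementaryAbelian 2 E ∧ Nat.card E = 2 ^ r

/-- All normal elementary abelian `2`-subgroups have order at most `2 ^ r`. -/
def NRle (G : Type*) [Group G] (r : ℕ) : Prop :=
  ∀ E : Subgroup G, E.Normal → Cfsg.IsElementaryAbelian 2 E → Nat.card E ≤ 2 ^ r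

section basic

variable {G H : Type*} [Group G] [Group H]

theorem map_mem_commutator (f : G →* H) {x : G} (hx : x ∈ commutator G) :
    f x ∈ commutator H := by
  have h1 : commutator G ≤ ((Abelianization.of (G := H)).comp f).ker :=
    Abelianization.commutator_subset_ker _
  have h2 := h1 hx
  rw [MonoidHom.mem_ker, MonoidHom.comp_apply] at h2
  rw [← Abelianization.ker_of H]
  exact h2

/-- The elements whose square lies in the derived subgroup form a subgroup. -/
def sqSub (G : Type*) [Group G] : Subgroup G :=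
  ((powMonoidHom 2 : Abelianization G →* Abelianization G).comp Abelianization.of).ker

theorem mem_sqSub {x : G} : x ∈ sqSub G ↔ x ^ 2 ∈ commutator G := by
  unfold sqSub
  rw [MonoidHom.mem_ker, MonoidHom.comp_apply, powMonoidHom_apply, ← map_pow,
    ← Abelianization.ker_of G, MonoidHom.mem_ker]

theorem sqDer_of_closure (S : Set G) (hS : Subgroup.closure S = ⊤)
    (h : ∀ s ∈ S, s ^ 2 ∈ commutator G) : SqDer G := by
  intro x
  rw [← mem_sqSub]
  have h1 : Subgroup.closure S ≤ sqSub G := by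
    rw [Subgroup.closure_le]
    intro s hs
    exact mem_sqSub.mpr (h s hs)
  rw [hS] at h1
  exact h1 (Subgroup.mem_top x)

theorem SqDer.of_mulEquiv (e : G ≃* H) (h : SqDer G) : SqDer H := by
  intro y
  have h1 := map_mem_commutator e.toMonoidHom (h (e.symm y))
  simpa using h1

theorem SqDer.prod (hG : SqDer G) (hH : SqDer H) : SqDer (G × H) := by
  rintro ⟨x, y⟩
  have h1 := map_mem_commutator (MonoidHom.inl G H) (hG x)
  have h2 := map_mem_commutator (MonoidHom.inr G H) (hH y)
  have h3 := (commutator (G × H)).mul_mem h1 h2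
  have h4 : ((x, y) : G × H) ^ 2 = MonoidHom.inl G H (x ^ 2) * MonoidHom.inr G H (y ^ 2) := by
    simp
  rw [h4]
  exact h3

theorem isElementaryAbelian_map (f : G →* H) {E : Subgroup G}
    (hE : Cfsg.IsElementaryAbelian 2 E) : Cfsg.IsElementaryAbelian 2 (E.map f) := by
  obtain ⟨h1, h2⟩ := hE
  refine ⟨⟨⟨?_⟩⟩, ?_⟩
  · rintro ⟨a, ha⟩ ⟨b, hb⟩
    obtain ⟨a', ha', rfl⟩ := Subgroup.mem_map.mp ha
    obtain ⟨b', hb', rfl⟩ := Subgroup.mem_map.mp hb
    apply Subtype.ext
    show f a' * f b' = f b' * f a'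
    have h3 : (⟨a', ha'⟩ : E) * ⟨b', hb'⟩ = ⟨b', hb'⟩ * ⟨a', ha'⟩ := h1.is_comm.comm _ _
    have h4 : a' * b' = b' * a' := congrArg Subtype.val h3
    rw [← map_mul, ← map_mul, h4]
  · intro a ha
    obtain ⟨a', ha', rfl⟩ := Subgroup.mem_map.mp ha
    rw [← map_pow, h2 a' ha', map_one]

theorem isElementaryAbelian_comm {E : Subgroup G} (hE : Cfsg.IsElementaryAbelian 2 E)
    {a b : G} (ha : a ∈ E) (hb : b ∈ E) : a * b = b * a := by
  have h3 : (⟨a, ha⟩ : E) * ⟨b, hb⟩ = ⟨b, hb⟩ * ⟨a, ha⟩ := hE.1.is_comm.comm _ _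
  exact congrArg Subtype.val h3

theorem isElementaryAbelian_of (E : Subgroup G) (h1 : ∀ a ∈ E, ∀ b ∈ E, a * b = b * a)
    (h2 : ∀ a ∈ E, a ^ 2 = 1) : Cfsg.IsElementaryAbelian 2 E := by
  refine ⟨⟨⟨?_⟩⟩, h2⟩
  rintro ⟨a, ha⟩ ⟨b, hb⟩
  exact Subtype.ext (h1 a ha b hb)

theorem HasNEA.of_mulEquiv (e : G ≃* H) {r : ℕ} (h : HasNEA G r) : HasNEA H r := by
  obtain ⟨E, hn, hE, hc⟩ := h
  refine ⟨E.map e.toMonoidHom, ?_, isElementaryAbelian_map _ hE, ?_⟩
  · exact hn.map e.toMonoidHom e.surjective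
  · rw [← hc]
    exact (Nat.card_congr (E.equivMapOfInjective e.toMonoidHom e.injective).toEquiv).symm

theorem NRle.of_mulEquiv (e : G ≃* H) {r : ℕ} (h : NRle G r) : NRle H r := by
  intro E hn hE
  have h1 := h (E.map e.symm.toMonoidHom) (hn.map e.symm.toMonoidHom e.symm.surjective)
    (isElementaryAbelian_map _ hE)
  have h2 : Nat.card (E.map e.symm.toMonoidHom) = Nat.card E :=
    (Nat.card_congr (E.equivMapOfInjective e.symm.toMonoidHom e.symm.injective).toEquiv).symm
  rw [h2] at h1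
  exact h1

theorem HasNEA.prod {r s : ℕ} (hG : HasNEA G r) (hH : HasNEA H s) : HasNEA (G × H) (r + s) := by
  obtain ⟨E, hn, hE, hc⟩ := hG
  obtain ⟨E', hn', hE', hc'⟩ := hH
  haveI := hn
  haveI := hn'
  refine ⟨E.prod E', inferInstance, ?_, ?_⟩
  · apply isElementaryAbelian_of
    · rintro ⟨a, a'⟩ ha ⟨b, b'⟩ hb
      obtain ⟨ha1, ha2⟩ := Subgroup.mem_prod.mp ha
      obtain ⟨hb1, hb2⟩ := Subgroup.mem_prod.mp hb
      ext
      · exact isElementaryAbelian_comm hE ha1 hb1
      · exact isElementaryAbelian_comm hE' ha2 hb2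
    · rintro ⟨a, a'⟩ ha
      obtain ⟨ha1, ha2⟩ := Subgroup.mem_prod.mp ha
      ext
      · exact hE.2 a ha1
      · exact hE'.2 a' ha2
  · rw [Nat.card_congr (Subgroup.prodEquiv E E').toEquiv, Nat.card_prod, hc, hc', pow_add]

theorem NRle.prod [Finite G] [Finite H] {r s : ℕ} (hG : NRle G r) (hH : NRle H s) :
    NRle (G × H) (r + s) := by
  intro E hn hE
  have h1 := hG (E.map (MonoidHom.fst G H)) (hn.map _ Prod.fst_surjective)
    (isElementaryAbelian_map _ hE)
  have h2 := hH (E.map (MonoidHom.snd G H)) (hn.map _ Prod.snd_surjective)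
    (isElementaryAbelian_map _ hE)
  have h3 : E ≤ (E.map (MonoidHom.fst G H)).prod (E.map (MonoidHom.snd G H)) := by
    intro x hx
    exact Subgroup.mem_prod.mpr ⟨Subgroup.mem_map_of_mem _ hx, Subgroup.mem_map_of_mem _ hx⟩
  calc Nat.card E ≤ Nat.card ((E.map (MonoidHom.fst G H)).prod (E.map (MonoidHom.snd G H))) :=
        Subgroup.card_le_of_le h3
    _ = Nat.card (E.map (MonoidHom.fst G H)) * Nat.card (E.map (MonoidHom.snd G H)) := by
        rw [Nat.card_congr (Subgroup.prodEquiv _ _).toEquiv, Nat.card_prod]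
    _ ≤ 2 ^ r * 2 ^ s := Nat.mul_le_mul h1 h2
    _ = 2 ^ (r + s) := (pow_add 2 r s).symm

end basic

end Cfsg.Agent.Lib.Helper20.SylModel
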