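import Mathlib
import Cfsg.Agent.Lib.Helper20.SylModelA

set_option autoImplicit false
set_option linter.style.haveILetI false
set_option linter.unusedSimpArgs false
set_option linter.unusedSectionVars false

/-!
The wreath step for the properties of `SylModelA`.
-/

namespace Cfsg.Agent.Lib.Helper20.SylModel

open RegularWreathProduct

/-- The group of order two. -/
abbrev C2 : Type := Multiplicative (ZMod 2)

/-- The generator. -/
def tC : C2 := Multiplicative.ofAdd 1

theorem C2_cases (x : C2) : x = 1 ∨ x = tC := by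
  revert x
  decide

theorem tC_ne_one : tC ≠ 1 := by decide

theorem one_ne_tC : (1 : C2) ≠ tC := by decide

theorem tC_inv : tC⁻¹ = tC := by decide

theorem tC_mul_tC : tC * tC = 1 := by decide

theorem C2_sq (x : C2) : x ^ 2 = 1 := by
  revert x
  decide

theorem card_C2 : Nat.card C2 = 2 := by
  rw [Nat.card_eq_fintype_card, Fintype.card_multiplicative, ZMod.card]

section wreath

variable {D : Type*} [Group D]

/-- The embedding of the base group. -/
def baseHom (D Q : Type*) [Group D] [Group Q] : (Q → D) →* D ≀ᵣ Q where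
  toFun f := ⟨f, 1⟩
  map_one' := rfl
  map_mul' f g := by
    ext x
    · simp [RegularWreathProduct.mul_left]
    · simp [RegularWreathProduct.mul_right]

theorem baseHom_left {Q : Type*} [Group Q] (f : Q → D) : (baseHom D Q f).left = f := rfl

theorem baseHom_right {Q : Type*} [Group Q] (f : Q → D) : (baseHom D Q f).right = 1 := rfl

theorem baseHom_injective {Q : Type*} [Group Q] : Function.Injective (baseHom D Q) := by
  intro f g h
  exact congrArg RegularWreathProduct.left h

theorem eq_baseHom_mul_inl {Q : Type*} [Group Q] (w : D ≀ᵣ Q) :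
    w = baseHom D Q w.left * inl w.right := by
  ext x
  · simp [RegularWreathProduct.mul_left, baseHom_left]
  · simp [RegularWreathProduct.mul_right, baseHom_right]

theorem eq_baseHom_of_right {Q : Type*} [Group Q] (w : D ≀ᵣ Q) (h : w.right = 1) :
    w = baseHom D Q w.left := by
  ext x
  · rfl
  · exact h

theorem fun_eq_mulSingle (f : C2 → D) : f = Pi.mulSingle 1 (f 1) * Pi.mulSingle tC (f tC) := by
  funext x
  rcases C2_cases x with rfl | rfl
  · simp [Pi.mulSingle_apply, one_ne_tC]
  · simp [Pi.mulSingle_apply, tC_ne_one]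

theorem SqDer.wreath (hD : SqDer D) : SqDer (D ≀ᵣ C2) := by
  apply sqDer_of_closure
    (Set.range (baseHom D C2) ∪ Set.range (inl : C2 →* D ≀ᵣ C2))
  · rw [eq_top_iff]
    intro w _
    rw [eq_baseHom_mul_inl w]
    exact mul_mem (Subgroup.subset_closure (Or.inl ⟨_, rfl⟩))
      (Subgroup.subset_closure (Or.inr ⟨_, rfl⟩))
  · rintro s (⟨f, rfl⟩ | ⟨q, rfl⟩)
    · rw [← map_pow]
      apply map_mem_commutator
      rw [fun_eq_mulSingle (f ^ 2)]
      exact mul_mem (map_mem_commutator (MonoidHom.mulSingle (fun _ : C2 => D) 1) (hD (f 1)))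
        (map_mem_commutator (MonoidHom.mulSingle (fun _ : C2 => D) tC) (hD (f tC)))
    · rw [← map_pow, C2_sq, map_one]
      exact one_mem _

/-- The functions with values in a subgroup, inside the base group. -/
def baseSub (E : Subgroup D) : Subgroup (D ≀ᵣ C2) :=
  (Subgroup.pi Set.univ (fun _ : C2 => E)).map (baseHom D C2)

theorem mem_baseSub {E : Subgroup D} {w : D ≀ᵣ C2} :
    w ∈ baseSub E ↔ w.right = 1 ∧ ∀ x, w.left x ∈ E := by
  unfold baseSub
  rw [Subgroup.mem_map]
  constructor
  · rintro ⟨f, hf, rfl⟩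
    exact ⟨rfl, fun x => hf x (Set.mem_univ x)⟩
  · rintro ⟨h1, h2⟩
    exact ⟨w.left, fun x _ => h2 x, (eq_baseHom_of_right w h1).symm⟩

theorem baseSub_normal (E : Subgroup D) [hE : E.Normal] : (baseSub E).Normal := by
  constructor
  intro b hb w
  obtain ⟨h1, h2⟩ := mem_baseSub.mp hb
  rw [mem_baseSub]
  refine ⟨?_, ?_⟩
  · simp [RegularWreathProduct.mul_right, RegularWreathProduct.inv_right, h1]
  · intro x
    have h3 : (w * b * w⁻¹).left x = w.left x * b.left (w.right⁻¹ * x) * (w.left x)⁻¹ := by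
      simp [RegularWreathProduct.mul_left, RegularWreathProduct.mul_right,
        RegularWreathProduct.inv_left, h1]
    rw [h3]
    exact hE.conj_mem _ (h2 _) _

theorem card_baseSub [Finite D] (E : Subgroup D) : Nat.card (baseSub E) = Nat.card E ^ 2 := by
  unfold baseSub
  rw [← Nat.card_congr ((Subgroup.pi Set.univ (fun _ : C2 => E)).equivMapOfInjective
    (baseHom D C2) baseHom_injective).toEquiv]
  have e : ↥(Subgroup.pi Set.univ (fun _ : C2 => E)) ≃ (C2 → ↥E) :=
    { toFun := fun f x => ⟨f.1 x, f.2 x (Set.mem_univ x)⟩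
      invFun := fun g => ⟨fun x => (g x : D), fun x _ => (g x).2⟩
      left_inv := fun f => rfl
      right_inv := fun g => rfl }
  rw [Nat.card_congr e, Nat.card_fun, card_C2]

theorem HasNEA.wreath [Finite D] {r : ℕ} (h : HasNEA D r) : HasNEA (D ≀ᵣ C2) (2 * r) := by
  obtain ⟨E, hn, hE, hc⟩ := h
  haveI := hn
  refine ⟨baseSub E, baseSub_normal E, ?_, ?_⟩
  · apply isElementaryAbelian_of
    · intro a ha b hb
      obtain ⟨ha1, ha2⟩ := mem_baseSub.mp ha
      obtain ⟨hb1, hb2⟩ := mem_baseSub.mp hb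
      rw [eq_baseHom_of_right a ha1, eq_baseHom_of_right b hb1, ← map_mul, ← map_mul]
      congr 1
      funext x
      exact isElementaryAbelian_comm hE (ha2 x) (hb2 x)
    · intro a ha
      obtain ⟨ha1, ha2⟩ := mem_baseSub.mp ha
      rw [eq_baseHom_of_right a ha1, ← map_pow]
      have : a.left ^ 2 = 1 := by
        funext x
        exact hE.2 _ (ha2 x)
      rw [this, map_one]
  · rw [card_baseSub, hc, ← pow_mul, mul_comm]

theorem isElementaryAbelian_comap {G H : Type*} [Group G] [Group H] (f : G →* H)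
    (hf : Function.Injective f) {E : Subgroup H} (hE : Cfsg.IsElementaryAbelian 2 E) :
    Cfsg.IsElementaryAbelian 2 (E.comap f) := by
  apply isElementaryAbelian_of
  · intro a ha b hb
    apply hf
    rw [map_mul, map_mul]
    exact isElementaryAbelian_comm hE ha hb
  · intro a ha
    apply hf
    rw [map_pow, map_one]
    exact hE.2 _ ha

theorem right_eq_one_of_mem {E : Subgroup (D ≀ᵣ C2)} (hn : E.Normal)
    (hE : Cfsg.IsElementaryAbelian 2 E) (d : D) (hd : d ^ 2 ≠ 1) {w : D ≀ᵣ C2} (hw : w ∈ E) :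
    w.right = 1 := by
  by_contra hne
  have ht : w.right = tC := (C2_cases w.right).resolve_left hne
  let b : D ≀ᵣ C2 := baseHom D C2 (Pi.mulSingle 1 d)
  have hc : b * w * b⁻¹ * w⁻¹ ∈ E := E.mul_mem (hn.conj_mem w hw b) (E.inv_mem hw)
  have h2 := hE.2 _ hc
  have hr : (b * w * b⁻¹ * w⁻¹).right = 1 := by
    simp [RegularWreathProduct.mul_right, RegularWreathProduct.inv_right, b, baseHom_right]
  have hl : (b * w * b⁻¹ * w⁻¹).left 1 = d := by
    simp [RegularWreathProduct.mul_left, RegularWreathProduct.mul_right,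
      RegularWreathProduct.inv_left, RegularWreathProduct.inv_right, b, baseHom_right,
      baseHom_left, ht, tC_inv, Pi.mulSingle_apply, tC_ne_one, tC_mul_tC]
  have hgen : ∀ v : D ≀ᵣ C2, v.right = 1 → (v ^ 2).left 1 = v.left 1 * v.left 1 := by
    intro v hv
    simp [pow_two, RegularWreathProduct.mul_left, hv]
  have h3 := hgen _ hr
  rw [h2, hl] at h3
  exact hd (by rw [pow_two]; exact h3.symm)

theorem NRle.wreath [Finite D] {r : ℕ} (h : NRle D r) (d : D) (hd : d ^ 2 ≠ 1) :
    NRle (D ≀ᵣ C2) (2 * r) := by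
  intro E hn hE
  let E' : Subgroup (C2 → D) := E.comap (baseHom D C2)
  have hE'n : E'.Normal := hn.comap _
  have hE' : Cfsg.IsElementaryAbelian 2 E' := isElementaryAbelian_comap _ baseHom_injective hE
  have hmap : E'.map (baseHom D C2) = E := by
    apply le_antisymm
    · exact Subgroup.map_comap_le _ _
    · intro w hw
      have h1 := right_eq_one_of_mem hn hE d hd hw
      refine Subgroup.mem_map.mpr ⟨w.left, ?_, (eq_baseHom_of_right w h1).symm⟩
      show baseHom D C2 w.left ∈ E
      rw [← eq_baseHom_of_right w h1]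
      exact hw
  have hcard : Nat.card E = Nat.card E' := by
    rw [← hmap]
    exact (Nat.card_congr (E'.equivMapOfInjective _ baseHom_injective).toEquiv).symm
  let φ : (C2 → D) →* D × D :=
    MonoidHom.prod (Pi.evalMonoidHom (fun _ : C2 => D) 1) (Pi.evalMonoidHom (fun _ : C2 => D) tC)
  have hφ : Function.Injective φ := by
    intro f g hfg
    have h1 : f 1 = g 1 := congrArg Prod.fst hfg
    have h2 : f tC = g tC := congrArg Prod.snd hfg
    funext x
    rcases C2_cases x with rfl | rfl
    · exact h1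
    · exact h2
  let E1 : Subgroup D := E'.map (Pi.evalMonoidHom (fun _ : C2 => D) 1)
  let E2 : Subgroup D := E'.map (Pi.evalMonoidHom (fun _ : C2 => D) tC)
  have hs1 : Function.Surjective (Pi.evalMonoidHom (fun _ : C2 => D) 1) :=
    fun d => ⟨fun _ => d, rfl⟩
  have hs2 : Function.Surjective (Pi.evalMonoidHom (fun _ : C2 => D) tC) :=
    fun d => ⟨fun _ => d, rfl⟩
  have h1 : Nat.card E1 ≤ 2 ^ r := h E1 (hE'n.map _ hs1) (isElementaryAbelian_map _ hE')
  have h2 : Nat.card E2 ≤ 2 ^ r := h E2 (hE'n.map _ hs2) (isElementaryAbelian_map _ hE')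
  have h3 : E'.map φ ≤ E1.prod E2 := by
    rintro _ ⟨f, hf, rfl⟩
    exact Subgroup.mem_prod.mpr ⟨Subgroup.mem_map_of_mem _ hf, Subgroup.mem_map_of_mem _ hf⟩
  calc Nat.card E = Nat.card E' := hcard
    _ = Nat.card (E'.map φ) := Nat.card_congr (E'.equivMapOfInjective _ hφ).toEquiv
    _ ≤ Nat.card (E1.prod E2) := Subgroup.card_le_of_le h3
    _ = Nat.card E1 * Nat.card E2 := by
        rw [Nat.card_congr (Subgroup.prodEquiv _ _).toEquiv, Nat.card_prod]
    _ ≤ 2 ^ r * 2 ^ r := Nat.mul_le_mul h1 h2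
    _ = 2 ^ (2 * r) := by rw [← pow_add, two_mul]

theorem exists_sq_ne_one_wreath (d : D) (hd : d ^ 2 ≠ 1) : ∃ w : D ≀ᵣ C2, w ^ 2 ≠ 1 := by
  refine ⟨baseHom D C2 (fun _ => d), ?_⟩
  rw [← map_pow]
  intro h
  have h1 := baseHom_injective (h.trans (map_one _).symm)
  exact hd (congrFun h1 1)

end wreath

end Cfsg.Agent.Lib.Helper20.SylModel
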