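import Mathlib
import Cfsg.Agent.Lib.Helper20.SylModelB

set_option autoImplicit false
set_option linter.style.haveILetI false
set_option linter.unusedSimpArgs false
set_option linter.unusedSectionVars false

/-!
Kernels of characters on wreath products and direct products: squares in the derived subgroup.
-/

namespace Cfsg.Agent.Lib.Helper20.SylModel

open RegularWreathProduct
open scoped commutatorElement

section defs

variable {G A : Type*} [Group G] [CommGroup A]

/-- Elements whose character value has square one have their square in the derived subgroup. -/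
def RSq (χ : G →* A) : Prop := ∀ g : G, χ g ^ 2 = 1 → g ^ 2 ∈ commutator G

/-- The image of the character is the cyclic group generated by `a`. -/
def Img (χ : G →* A) (a : A) : Prop := (∃ g₀ : G, χ g₀ = a) ∧ ∀ g : G, ∃ i : ℤ, χ g = a ^ i

theorem RSq.of_sqDer (h : SqDer G) (χ : G →* A) : RSq χ := fun g _ => h g

theorem mem_commutator_iff_of {x : G} : x ∈ commutator G ↔ Abelianization.of x = 1 := by
  rw [← Abelianization.ker_of G, MonoidHom.mem_ker]

theorem sqDer_subgroup (K : Subgroup G) (h : ∀ x ∈ K, x ^ 2 ∈ ⁅K, K⁆) : SqDer ↥K := by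
  intro x
  have h1 := h x x.2
  rw [← Subgroup.map_subtype_commutator, Subgroup.mem_map] at h1
  obtain ⟨y, hy, hyx⟩ := h1
  have : y = x ^ 2 := Subtype.ext (by simpa using hyx)
  rw [← this]
  exact hy

theorem sqDer_closure (S : Set G)
    (h : ∀ s ∈ S, s ^ 2 ∈ ⁅Subgroup.closure S, Subgroup.closure S⁆) :
    SqDer ↥(Subgroup.closure S) := by
  apply sqDer_of_closure (G := ↥(Subgroup.closure S))
    (((↑) : ↥(Subgroup.closure S) → G) ⁻¹' S) Subgroup.closure_closure_coe_preimage
  intro s hs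
  have h1 := h s.1 hs
  rw [← Subgroup.map_subtype_commutator, Subgroup.mem_map] at h1
  obtain ⟨y, hy, hyx⟩ := h1
  have : y = s ^ 2 := Subtype.ext (by simpa using hyx)
  rw [← this]
  exact hy

theorem Img.zpow_lift {χ : G →* A} {a : A} (h : Img χ a) (g : G) :
    ∃ u : G, χ u = (χ g)⁻¹ ∧ ∃ g₀ : G, ∃ i : ℤ, u = g₀ ^ i ∧ χ g₀ = a := by
  obtain ⟨⟨g₀, hg₀⟩, h2⟩ := h
  obtain ⟨i, hi⟩ := h2 g
  exact ⟨g₀ ^ (-i), by rw [map_zpow, hg₀, hi, zpow_neg], g₀, -i, rfl, hg₀⟩

end defs

section wreath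

variable {G A : Type*} [Group G] [CommGroup A]

theorem base_pair_eq_commutator (g : G) :
    baseHom G C2 (Pi.mulSingle 1 g * Pi.mulSingle tC g⁻¹) =
      ⁅baseHom G C2 (Pi.mulSingle 1 g), (inl tC : G ≀ᵣ C2)⁆ := by
  rw [commutatorElement_def]
  apply RegularWreathProduct.ext
  · funext x
    rcases C2_cases x with rfl | rfl <;>
      simp [RegularWreathProduct.mul_left, RegularWreathProduct.mul_right,
        RegularWreathProduct.inv_left, RegularWreathProduct.inv_right, baseHom_left,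
        baseHom_right, Pi.mulSingle_apply, tC_ne_one, one_ne_tC, tC_inv, tC_mul_tC]
  · simp [RegularWreathProduct.mul_right, RegularWreathProduct.inv_right, baseHom_right]

theorem base_mem_commutator (f : C2 → G) (h : f 1 * f tC ∈ commutator G) :
    baseHom G C2 f ∈ commutator (G ≀ᵣ C2) := by
  have e : f = (Pi.mulSingle 1 (f 1) * Pi.mulSingle tC (f 1)⁻¹) *
      Pi.mulSingle tC (f 1 * f tC) := by
    funext x
    rcases C2_cases x with rfl | rfl
    · simp [Pi.mulSingle_apply, one_ne_tC]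
    · simp [Pi.mulSingle_apply, tC_ne_one]
  rw [e, map_mul]
  apply mul_mem
  · rw [base_pair_eq_commutator]
    exact Subgroup.commutator_mem_commutator (Subgroup.mem_top _) (Subgroup.mem_top _)
  · exact map_mem_commutator ((baseHom G C2).comp (MonoidHom.mulSingle (fun _ : C2 => G) tC)) h

variable {χ : G →* A} {ψ : G ≀ᵣ C2 →* A}

theorem psi_eq (h1 : ∀ f : C2 → G, ψ (baseHom G C2 f) = χ (f 1) * χ (f tC)) (w : G ≀ᵣ C2) :
    ψ w = χ (w.left 1) * χ (w.left tC) * ψ (inl w.right) := by
  conv_lhs => rw [eq_baseHom_mul_inl w, map_mul, h1]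

theorem RSq.wreath (hR : RSq χ)
    (h1 : ∀ f : C2 → G, ψ (baseHom G C2 f) = χ (f 1) * χ (f tC))
    (h2 : ψ (inl tC) ^ 2 = 1) : RSq ψ := by
  intro w hw
  have hσ : ψ (inl w.right) ^ 2 = 1 := by
    rcases C2_cases w.right with h | h
    · rw [h, map_one, map_one, one_pow]
    · rw [h, h2]
  rw [psi_eq h1 w, mul_pow, hσ, mul_one, ← map_mul] at hw
  have h3 := hR _ hw
  have hr : (w ^ 2).right = 1 := by
    rw [pow_two, RegularWreathProduct.mul_right, ← pow_two, C2_sq]
  rw [eq_baseHom_of_right (w ^ 2) hr]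
  apply base_mem_commutator
  rw [mem_commutator_iff_of] at h3 ⊢
  rw [← h3]
  rcases C2_cases w.right with h | h
  · simp only [pow_two, RegularWreathProduct.mul_left, h, inv_one, one_mul, Pi.mul_apply,
      map_mul]
    simp only [mul_comm, mul_left_comm, mul_assoc]
  · simp only [pow_two, RegularWreathProduct.mul_left, h, tC_inv, mul_one, tC_mul_tC,
      Pi.mul_apply, map_mul]
    simp only [mul_comm, mul_left_comm, mul_assoc]

theorem Img.wreath {a : A} (hI : Img χ a)
    (h1 : ∀ f : C2 → G, ψ (baseHom G C2 f) = χ (f 1) * χ (f tC))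
    (h2 : ∃ i : ℤ, ψ (inl tC) = a ^ i) : Img ψ a := by
  obtain ⟨⟨g₀, hg₀⟩, hall⟩ := hI
  refine ⟨⟨baseHom G C2 (Pi.mulSingle 1 g₀), ?_⟩, ?_⟩
  · rw [h1]
    simp [Pi.mulSingle_apply, tC_ne_one, hg₀]
  · intro w
    obtain ⟨i, hi⟩ := hall (w.left 1)
    obtain ⟨j, hj⟩ := hall (w.left tC)
    obtain ⟨k, hk⟩ := h2
    rw [psi_eq h1 w, hi, hj]
    rcases C2_cases w.right with h | h
    · exact ⟨i + j, by rw [h, map_one, map_one, mul_one, zpow_add]⟩
    · exact ⟨i + j + k, by rw [h, hk, zpow_add, zpow_add]⟩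

theorem sqDer_ker_wreath {a : A} (hR : RSq χ) (hI : Img χ a)
    (h1 : ∀ f : C2 → G, ψ (baseHom G C2 f) = χ (f 1) * χ (f tC))
    (h2 : ψ (inl tC) = 1) : SqDer ↥ψ.ker := by
  let S : Set (G ≀ᵣ C2) :=
    {w | (∃ g : G, w = baseHom G C2 (Pi.mulSingle 1 g * Pi.mulSingle tC g⁻¹)) ∨
      (∃ k : G, χ k = 1 ∧ w = baseHom G C2 (Pi.mulSingle tC k)) ∨ w = inl tC}
  have hpair : ∀ g : G, baseHom G C2 (Pi.mulSingle 1 g * Pi.mulSingle tC g⁻¹) ∈ ψ.ker := by
    intro g
    rw [MonoidHom.mem_ker, h1]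
    simp [Pi.mulSingle_apply, tC_ne_one, one_ne_tC]
  have hsingle : ∀ k : G, χ k = 1 → baseHom G C2 (Pi.mulSingle tC k) ∈ ψ.ker := by
    intro k hk
    rw [MonoidHom.mem_ker, h1]
    simp [Pi.mulSingle_apply, one_ne_tC, hk]
  have htau : (inl tC : G ≀ᵣ C2) ∈ ψ.ker := h2
  have hSle : Subgroup.closure S ≤ ψ.ker := by
    rw [Subgroup.closure_le]
    rintro w (⟨g, rfl⟩ | ⟨k, hk, rfl⟩ | rfl)
    · exact hpair g
    · exact hsingle k hk
    · exact htau
  have hle : ψ.ker ≤ Subgroup.closure S := by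
    intro w hw
    have hw' : ψ w = 1 := hw
    rw [psi_eq h1 w] at hw'
    have hσ : ψ (inl w.right) = 1 := by
      rcases C2_cases w.right with h | h
      · rw [h, map_one, map_one]
      · rw [h, h2]
    rw [hσ, mul_one, ← map_mul] at hw'
    have e : w = baseHom G C2 (Pi.mulSingle 1 (w.left 1) * Pi.mulSingle tC (w.left 1)⁻¹) *
        baseHom G C2 (Pi.mulSingle tC (w.left 1 * w.left tC)) * inl w.right := by
      conv_lhs => rw [eq_baseHom_mul_inl w]
      rw [← map_mul]
      congr 2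
      funext x
      rcases C2_cases x with rfl | rfl
      · simp [Pi.mulSingle_apply, one_ne_tC]
      · simp [Pi.mulSingle_apply, tC_ne_one]
    rw [e]
    refine mul_mem (mul_mem (Subgroup.subset_closure (Or.inl ⟨_, rfl⟩))
      (Subgroup.subset_closure (Or.inr (Or.inl ⟨_, hw', rfl⟩)))) ?_
    rcases C2_cases w.right with h | h
    · rw [h, map_one]
      exact one_mem _
    · rw [h]
      exact Subgroup.subset_closure (Or.inr (Or.inr rfl))
  have hK : Subgroup.closure S = ψ.ker := le_antisymm hSle hle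
  have key : SqDer ↥(Subgroup.closure S) := by
    apply sqDer_closure
    rw [hK]
    -- the derived subgroup of the kernel contains the commutators in the second coordinate
    have hG' : commutator G ≤ (⁅ψ.ker, ψ.ker⁆).comap
        ((baseHom G C2).comp (MonoidHom.mulSingle (fun _ : C2 => G) tC)) := by
      rw [commutator_eq_closure, Subgroup.closure_le]
      rintro c ⟨u, v, rfl⟩
      obtain ⟨u', hu', g₀, i, rfl, -⟩ := hI.zpow_lift u
      obtain ⟨⟨g₁, hg₁⟩, hall⟩ := hI
      obtain ⟨j, hj⟩ := hall v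
      -- lifts as powers of one element, so that they commute
      obtain ⟨i', hi'⟩ := hall u
      let u'' : G := g₁ ^ (-i')
      let v'' : G := g₁ ^ (-j)
      have hu'' : χ u'' = (χ u)⁻¹ := by
        show χ (g₁ ^ (-i')) = _
        rw [map_zpow, hg₁, hi', zpow_neg]
      have hv'' : χ v'' = (χ v)⁻¹ := by
        show χ (g₁ ^ (-j)) = _
        rw [map_zpow, hg₁, hj, zpow_neg]
      have hcomm : ⁅u'', v''⁆ = 1 := by
        rw [commutatorElement_eq_one_iff_mul_comm]
        show g₁ ^ (-i') * g₁ ^ (-j) = g₁ ^ (-j) * g₁ ^ (-i')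
        rw [← zpow_add, ← zpow_add, add_comm]
      have hx : baseHom G C2 (Pi.mulSingle 1 u'' * Pi.mulSingle tC u) ∈ ψ.ker := by
        rw [MonoidHom.mem_ker, h1]
        simp [Pi.mulSingle_apply, tC_ne_one, one_ne_tC, hu'']
      have hy : baseHom G C2 (Pi.mulSingle 1 v'' * Pi.mulSingle tC v) ∈ ψ.ker := by
        rw [MonoidHom.mem_ker, h1]
        simp [Pi.mulSingle_apply, tC_ne_one, one_ne_tC, hv'']
      have hc := Subgroup.commutator_mem_commutator hx hy
      have e : ⁅baseHom G C2 (Pi.mulSingle 1 u'' * Pi.mulSingle tC u),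
          baseHom G C2 (Pi.mulSingle 1 v'' * Pi.mulSingle tC v)⁆ =
          baseHom G C2 (Pi.mulSingle tC ⁅u, v⁆) := by
        rw [← map_commutatorElement]
        congr 1
        funext x
        rcases C2_cases x with rfl | rfl
        · simp only [commutatorElement_def, Pi.mul_apply, Pi.inv_apply, Pi.mulSingle_apply,
            one_ne_tC, if_true, if_false, mul_one]
          simpa [commutatorElement_def] using hcomm
        · simp [commutatorElement_def, Pi.mulSingle_apply, tC_ne_one]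
      rw [e] at hc
      exact hc
    rintro s (⟨g, rfl⟩ | ⟨k, hk, rfl⟩ | rfl)
    · -- the square of a pair is a commutator with the swap
      have e : baseHom G C2 (Pi.mulSingle 1 g * Pi.mulSingle tC g⁻¹) ^ 2 =
          ⁅baseHom G C2 (Pi.mulSingle 1 g * Pi.mulSingle tC g⁻¹), (inl tC : G ≀ᵣ C2)⁆ := by
        rw [commutatorElement_def, pow_two]
        apply RegularWreathProduct.ext
        · funext x
          rcases C2_cases x with rfl | rfl <;>
            simp [RegularWreathProduct.mul_left, RegularWreathProduct.mul_right,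
              RegularWreathProduct.inv_left, RegularWreathProduct.inv_right, baseHom_left,
              baseHom_right, Pi.mulSingle_apply, tC_ne_one, one_ne_tC, tC_inv, tC_mul_tC]
        · simp [RegularWreathProduct.mul_right, RegularWreathProduct.inv_right, baseHom_right]
      rw [e]
      exact Subgroup.commutator_mem_commutator (hpair g) htau
    · rw [← map_pow]
      have h3 : k ^ 2 ∈ commutator G := hR k (by rw [hk, one_pow])
      have h4 := hG' h3
      rw [Subgroup.mem_comap, MonoidHom.comp_apply] at h4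
      have e : (Pi.mulSingle tC k : C2 → G) ^ 2 = Pi.mulSingle tC (k ^ 2) := by
        funext x
        rcases C2_cases x with rfl | rfl
        · simp [Pi.mulSingle_apply, one_ne_tC]
        · simp [Pi.mulSingle_apply]
      rw [e]
      exact h4
    · rw [← map_pow, C2_sq, map_one]
      exact one_mem _
  exact key.of_mulEquiv (MulEquiv.subgroupCongr hK)

end wreath

section prod

variable {G H A : Type*} [Group G] [Group H] [CommGroup A]

theorem Img.prod {χ : G →* A} {χ' : H →* A} {a : A} (h : Img χ a) (h' : Img χ' a) :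
    Img (χ.coprod χ') a := by
  obtain ⟨⟨g₀, hg₀⟩, hall⟩ := h
  obtain ⟨-, hall'⟩ := h'
  refine ⟨⟨(g₀, 1), by simp [hg₀]⟩, ?_⟩
  rintro ⟨g, k⟩
  obtain ⟨i, hi⟩ := hall g
  obtain ⟨j, hj⟩ := hall' k
  exact ⟨i + j, by rw [MonoidHom.coprod_apply, hi, hj, zpow_add]⟩

theorem sqDer_ker_prod {χ : G →* A} {χ' : H →* A} {a : A} (hG : SqDer G) (hH : SqDer H)
    (h : Img χ a) (h' : Img χ' a) : SqDer ↥(χ.coprod χ').ker := by
  apply sqDer_subgroup
  obtain ⟨⟨g₀, hg₀⟩, hall⟩ := h
  obtain ⟨⟨k₀, hk₀⟩, hall'⟩ := h'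
  have hG' : commutator G ≤ (⁅(χ.coprod χ').ker, (χ.coprod χ').ker⁆).comap
      (MonoidHom.inl G H) := by
    rw [commutator_eq_closure, Subgroup.closure_le]
    rintro c ⟨u, v, rfl⟩
    obtain ⟨i, hi⟩ := hall u
    obtain ⟨j, hj⟩ := hall v
    have hx : ((u, k₀ ^ (-i)) : G × H) ∈ (χ.coprod χ').ker := by
      rw [MonoidHom.mem_ker, MonoidHom.coprod_apply, map_zpow, hk₀, hi, zpow_neg,
        mul_inv_cancel]
    have hy : ((v, k₀ ^ (-j)) : G × H) ∈ (χ.coprod χ').ker := by
      rw [MonoidHom.mem_ker, MonoidHom.coprod_apply, map_zpow, hk₀, hj, zpow_neg,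
        mul_inv_cancel]
    have hc := Subgroup.commutator_mem_commutator hx hy
    have e : ⁅((u, k₀ ^ (-i)) : G × H), (v, k₀ ^ (-j))⁆ = MonoidHom.inl G H ⁅u, v⁆ := by
      have hcomm : ⁅k₀ ^ (-i), k₀ ^ (-j)⁆ = 1 := by
        rw [commutatorElement_eq_one_iff_mul_comm, ← zpow_add, ← zpow_add, add_comm]
      ext
      · simp [commutatorElement_def]
      · simpa [commutatorElement_def] using hcomm
    rw [e] at hc
    exact hc
  have hH' : commutator H ≤ (⁅(χ.coprod χ').ker, (χ.coprod χ').ker⁆).comap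
      (MonoidHom.inr G H) := by
    rw [commutator_eq_closure, Subgroup.closure_le]
    rintro c ⟨u, v, rfl⟩
    obtain ⟨i, hi⟩ := hall' u
    obtain ⟨j, hj⟩ := hall' v
    have hx : ((g₀ ^ (-i), u) : G × H) ∈ (χ.coprod χ').ker := by
      rw [MonoidHom.mem_ker, MonoidHom.coprod_apply, map_zpow, hg₀, hi, zpow_neg,
        inv_mul_cancel]
    have hy : ((g₀ ^ (-j), v) : G × H) ∈ (χ.coprod χ').ker := by
      rw [MonoidHom.mem_ker, MonoidHom.coprod_apply, map_zpow, hg₀, hj, zpow_neg,
        inv_mul_cancel]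
    have hc := Subgroup.commutator_mem_commutator hx hy
    have e : ⁅((g₀ ^ (-i), u) : G × H), (g₀ ^ (-j), v)⁆ = MonoidHom.inr G H ⁅u, v⁆ := by
      have hcomm : ⁅g₀ ^ (-i), g₀ ^ (-j)⁆ = 1 := by
        rw [commutatorElement_eq_one_iff_mul_comm, ← zpow_add, ← zpow_add, add_comm]
      ext
      · simpa [commutatorElement_def] using hcomm
      · simp [commutatorElement_def]
    rw [e] at hc
    exact hc
  rintro ⟨g, k⟩ -
  have h1 := hG' (hG g)
  have h2 := hH' (hH k)
  rw [Subgroup.mem_comap] at h1 h2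
  have e : ((g, k) : G × H) ^ 2 = MonoidHom.inl G H (g ^ 2) * MonoidHom.inr G H (k ^ 2) := by
    simp
  rw [e]
  exact mul_mem h1 h2

end prod

end Cfsg.Agent.Lib.Helper20.SylModel
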