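import Mathlib
import Cfsg.Agent.Lib.Helper20.SylKerA

set_option autoImplicit false
set_option linter.style.haveILetI false
set_option linter.unusedSimpArgs false
set_option linter.unusedSectionVars false

/-!
Kernels of characters of exponent two on wreath products and direct products: a second approach,
through the commutator of the group with the kernel.
-/

namespace Cfsg.Agent.Lib.Helper20.SylModel

open RegularWreathProduct
open scoped commutatorElement

section defs

variable {G A : Type*} [Group G] [CommGroup A]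

/-- Squares of elements of the kernel lie in the commutator of the group with the kernel. -/
def RSqN (χ : G →* A) : Prop := ∀ n ∈ χ.ker, n ^ 2 ∈ ⁅(⊤ : Subgroup G), χ.ker⁆

/-- The derived subgroup is the commutator of the group with the kernel. -/
def QProp (χ : G →* A) : Prop := commutator G ≤ ⁅(⊤ : Subgroup G), χ.ker⁆

/-- The character has values of exponent two. -/
def Exp2 (χ : G →* A) : Prop := ∀ g, χ g * χ g = 1

theorem Exp2.inv {χ : G →* A} (h : Exp2 χ) (g : G) : (χ g)⁻¹ = χ g :=
  inv_eq_of_mul_eq_one_left (h g)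

theorem mem_commutator_of_sqDer_subgroup {K : Subgroup G} (h : SqDer ↥K) {x : G} (hx : x ∈ K) :
    x ^ 2 ∈ ⁅K, K⁆ := by
  have h1 := h ⟨x, hx⟩
  rw [← Subgroup.map_subtype_commutator, Subgroup.mem_map]
  exact ⟨_, h1, rfl⟩

theorem RSqN.of_sqDer_ker {χ : G →* A} (h : SqDer ↥χ.ker) : RSqN χ := by
  intro n hn
  exact Subgroup.commutator_mono le_top le_rfl (mem_commutator_of_sqDer_subgroup h hn)

/-- Commutativity of a quotient checked on generators. -/
theorem commutator_le_of_generators (R : Subgroup G) [R.Normal] (S : Set G)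
    (hS : Subgroup.closure S = ⊤) (h : ∀ s ∈ S, ∀ s' ∈ S, ⁅s, s'⁆ ∈ R) : commutator G ≤ R := by
  have key : ∀ x y : G, Commute (QuotientGroup.mk' R x) (QuotientGroup.mk' R y) := by
    intro x y
    have hx : x ∈ Subgroup.closure S := by rw [hS]; exact Subgroup.mem_top x
    have hy : y ∈ Subgroup.closure S := by rw [hS]; exact Subgroup.mem_top y
    induction hx, hy using Subgroup.closure_induction₂ with
    | mem a b ha hb =>
      have h1 := h a ha b hb
      rw [← QuotientGroup.eq_one_iff, commutatorElement_def] at h1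
      have h2 : (QuotientGroup.mk' R a) * (QuotientGroup.mk' R b) * (QuotientGroup.mk' R a)⁻¹ *
          (QuotientGroup.mk' R b)⁻¹ = 1 := by
        rw [← map_inv, ← map_inv, ← map_mul, ← map_mul, ← map_mul]
        exact h1
      rw [mul_inv_eq_one, mul_inv_eq_iff_eq_mul] at h2
      exact h2
    | one_left a _ =>
      rw [map_one]
      exact Commute.one_left _
    | one_right a _ =>
      rw [map_one]
      exact Commute.one_right _
    | mul_left a b c _ _ _ h1 h2 =>
      rw [map_mul]
      exact h1.mul_left h2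
    | mul_right b c a _ _ _ h1 h2 =>
      rw [map_mul]
      exact h1.mul_right h2
    | inv_left a b _ _ h1 =>
      rw [map_inv]
      exact h1.inv_left
    | inv_right a b _ _ h1 =>
      rw [map_inv]
      exact h1.inv_right
  rw [commutator_def, Subgroup.commutator_le]
  intro x _ y _
  rw [← QuotientGroup.eq_one_iff, commutatorElement_def]
  have h2 : ((x * y * x⁻¹ * y⁻¹ : G) : G ⧸ R) = (QuotientGroup.mk' R x) * (QuotientGroup.mk' R y) *
      (QuotientGroup.mk' R x)⁻¹ * (QuotientGroup.mk' R y)⁻¹ := by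
    rw [← map_inv, ← map_inv, ← map_mul, ← map_mul, ← map_mul]
    rfl
  rw [h2, (key x y).eq, mul_inv_cancel_right, mul_inv_cancel]

end defs

section wreath

variable {G A : Type*} [Group G] [CommGroup A]

/-- The character of the wreath product with the group of order two. -/
def wrChar (χ : G →* A) : G ≀ᵣ C2 →* A where
  toFun w := χ (w.left 1) * χ (w.left tC)
  map_one' := by
    show χ 1 * χ 1 = 1
    rw [map_one, one_mul]
  map_mul' w w' := by
    rw [RegularWreathProduct.mul_left]
    simp only [Pi.mul_apply, map_mul]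
    rcases C2_cases w.right with h | h
    · rw [h, inv_one, one_mul, one_mul]
      simp only [mul_comm, mul_left_comm, mul_assoc]
    · rw [h, tC_inv, mul_one, tC_mul_tC]
      simp only [mul_comm, mul_left_comm, mul_assoc]

theorem wrChar_apply (χ : G →* A) (w : G ≀ᵣ C2) :
    wrChar χ w = χ (w.left 1) * χ (w.left tC) := rfl

theorem wrChar_baseHom (χ : G →* A) (f : C2 → G) :
    wrChar χ (baseHom G C2 f) = χ (f 1) * χ (f tC) := rfl

theorem wrChar_inl (χ : G →* A) (x : C2) : wrChar χ (inl x : G ≀ᵣ C2) = 1 := by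
  rw [wrChar_apply, left_inl]
  simp

theorem Exp2.wreath {χ : G →* A} (h : Exp2 χ) : Exp2 (wrChar χ) := by
  intro w
  rw [wrChar_apply]
  calc χ (w.left 1) * χ (w.left tC) * (χ (w.left 1) * χ (w.left tC))
      = (χ (w.left 1) * χ (w.left 1)) * (χ (w.left tC) * χ (w.left tC)) := by
        simp only [mul_comm, mul_left_comm, mul_assoc]
    _ = 1 := by rw [h, h, one_mul]

theorem wrChar_surjective {χ : G →* A} (h : Function.Surjective χ) :
    Function.Surjective (wrChar χ) := by
  intro a
  obtain ⟨g, hg⟩ := h a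
  refine ⟨baseHom G C2 (Pi.mulSingle 1 g), ?_⟩
  rw [wrChar_baseHom]
  simp [Pi.mulSingle_apply, tC_ne_one, hg]

/-- The diagonal embedding. -/
def diagHom (G : Type*) [Group G] : G →* G ≀ᵣ C2 :=
  (baseHom G C2).comp (Pi.constMonoidHom C2 G)

theorem diagHom_left (g : G) (x : C2) : (diagHom G g).left x = g := rfl

theorem diagHom_right (g : G) : (diagHom G g).right = 1 := rfl

/-- The embedding at the second coordinate. -/
def sndHom (G : Type*) [Group G] : G →* G ≀ᵣ C2 :=
  (baseHom G C2).comp (MonoidHom.mulSingle (fun _ : C2 => G) tC)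

theorem sndHom_left (g : G) : (sndHom G g).left = Pi.mulSingle tC g := rfl

/-- The embedding at the first coordinate. -/
def fstHom (G : Type*) [Group G] : G →* G ≀ᵣ C2 :=
  (baseHom G C2).comp (MonoidHom.mulSingle (fun _ : C2 => G) 1)

theorem fstHom_left (g : G) : (fstHom G g).left = Pi.mulSingle 1 g := rfl

theorem diagHom_mem_ker {χ : G →* A} (hE : Exp2 χ) (g : G) : diagHom G g ∈ (wrChar χ).ker := by
  rw [MonoidHom.mem_ker, wrChar_apply, diagHom_left, diagHom_left]
  exact hE g

theorem sndHom_mem_ker {χ : G →* A} {n : G} (hn : n ∈ χ.ker) : sndHom G n ∈ (wrChar χ).ker := by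
  rw [MonoidHom.mem_ker, wrChar_apply, sndHom_left]
  have h1 : χ n = 1 := hn
  simp [Pi.mulSingle_apply, one_ne_tC, h1]

theorem inl_mem_ker (χ : G →* A) (x : C2) : (inl x : G ≀ᵣ C2) ∈ (wrChar χ).ker :=
  wrChar_inl χ x

theorem comm_diag_snd (g n : G) : ⁅diagHom G g, sndHom G n⁆ = sndHom G ⁅g, n⁆ := by
  rw [commutatorElement_def, commutatorElement_def]
  apply RegularWreathProduct.ext
  · funext x
    rcases C2_cases x with rfl | rfl <;>
      simp [RegularWreathProduct.mul_left, RegularWreathProduct.mul_right,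
        RegularWreathProduct.inv_left, RegularWreathProduct.inv_right, diagHom, sndHom,
        baseHom_left, baseHom_right, Pi.mulSingle_apply, tC_ne_one, one_ne_tC]
  · simp [RegularWreathProduct.mul_right, RegularWreathProduct.inv_right, diagHom, sndHom,
      baseHom_right]

theorem comm_fst_diag (g a : G) : ⁅fstHom G g, diagHom G a⁆ = fstHom G ⁅g, a⁆ := by
  rw [commutatorElement_def, commutatorElement_def]
  apply RegularWreathProduct.ext
  · funext x
    rcases C2_cases x with rfl | rfl <;>
      simp [RegularWreathProduct.mul_left, RegularWreathProduct.mul_right,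
        RegularWreathProduct.inv_left, RegularWreathProduct.inv_right, diagHom, fstHom,
        baseHom_left, baseHom_right, Pi.mulSingle_apply, tC_ne_one, one_ne_tC]
  · simp [RegularWreathProduct.mul_right, RegularWreathProduct.inv_right, diagHom, fstHom,
      baseHom_right]

theorem comm_snd_diag (g a : G) : ⁅sndHom G g, diagHom G a⁆ = sndHom G ⁅g, a⁆ := by
  rw [commutatorElement_def, commutatorElement_def]
  apply RegularWreathProduct.ext
  · funext x
    rcases C2_cases x with rfl | rfl <;>
      simp [RegularWreathProduct.mul_left, RegularWreathProduct.mul_right,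
        RegularWreathProduct.inv_left, RegularWreathProduct.inv_right, diagHom, sndHom,
        baseHom_left, baseHom_right, Pi.mulSingle_apply, tC_ne_one, one_ne_tC]
  · simp [RegularWreathProduct.mul_right, RegularWreathProduct.inv_right, diagHom, sndHom,
      baseHom_right]

theorem comm_fst_snd (g a : G) : ⁅fstHom G g, sndHom G a⁆ = 1 := by
  rw [commutatorElement_def]
  apply RegularWreathProduct.ext
  · funext x
    rcases C2_cases x with rfl | rfl <;>
      simp [RegularWreathProduct.mul_left, RegularWreathProduct.mul_right,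
        RegularWreathProduct.inv_left, RegularWreathProduct.inv_right, sndHom, fstHom,
        baseHom_left, baseHom_right, Pi.mulSingle_apply, tC_ne_one, one_ne_tC]
  · simp [RegularWreathProduct.mul_right, RegularWreathProduct.inv_right, sndHom, fstHom,
      baseHom_right]

theorem eq_diag_snd_inl (w : G ≀ᵣ C2) :
    w = diagHom G (w.left 1) * sndHom G ((w.left 1)⁻¹ * w.left tC) * inl w.right := by
  apply RegularWreathProduct.ext
  · funext x
    rcases C2_cases x with rfl | rfl <;>
      simp [RegularWreathProduct.mul_left, RegularWreathProduct.mul_right, diagHom, sndHom,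
        baseHom_left, baseHom_right, Pi.mulSingle_apply, tC_ne_one, one_ne_tC]
  · simp [RegularWreathProduct.mul_right, diagHom, sndHom, baseHom_right]

theorem sqDer_ker_wreath2 {χ : G →* A} (hG : SqDer G) (hR : RSqN χ) (hE : Exp2 χ) :
    SqDer ↥(wrChar χ).ker := by
  let S : Set (G ≀ᵣ C2) :=
    {w | (∃ g : G, w = diagHom G g) ∨ (∃ n ∈ χ.ker, w = sndHom G n) ∨ w = inl tC}
  have hSle : Subgroup.closure S ≤ (wrChar χ).ker := by
    rw [Subgroup.closure_le]
    rintro w (⟨g, rfl⟩ | ⟨n, hn, rfl⟩ | rfl)
    · exact diagHom_mem_ker hE g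
    · exact sndHom_mem_ker hn
    · exact inl_mem_ker χ tC
  have hle : (wrChar χ).ker ≤ Subgroup.closure S := by
    intro w hw
    have hw' : χ (w.left 1) * χ (w.left tC) = 1 := hw
    have hn : (w.left 1)⁻¹ * w.left tC ∈ χ.ker := by
      rw [MonoidHom.mem_ker, map_mul, map_inv, hE.inv, hw']
    rw [eq_diag_snd_inl w]
    refine mul_mem (mul_mem (Subgroup.subset_closure (Or.inl ⟨_, rfl⟩))
      (Subgroup.subset_closure (Or.inr (Or.inl ⟨_, hn, rfl⟩)))) ?_
    rcases C2_cases w.right with h | h
    · rw [h, map_one]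
      exact one_mem _
    · rw [h]
      exact Subgroup.subset_closure (Or.inr (Or.inr rfl))
  have hK : Subgroup.closure S = (wrChar χ).ker := le_antisymm hSle hle
  have key : SqDer ↥(Subgroup.closure S) := by
    apply sqDer_closure
    rw [hK]
    have h1 : commutator G ≤ (⁅(wrChar χ).ker, (wrChar χ).ker⁆).comap (diagHom G) := by
      rw [commutator_def, Subgroup.commutator_le]
      intro u _ v _
      rw [Subgroup.mem_comap, map_commutatorElement]
      exact Subgroup.commutator_mem_commutator (diagHom_mem_ker hE u) (diagHom_mem_ker hE v)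
    have h2 : ⁅(⊤ : Subgroup G), χ.ker⁆ ≤
        (⁅(wrChar χ).ker, (wrChar χ).ker⁆).comap (sndHom G) := by
      rw [Subgroup.commutator_le]
      intro u _ n hn
      rw [Subgroup.mem_comap, ← comm_diag_snd]
      exact Subgroup.commutator_mem_commutator (diagHom_mem_ker hE u) (sndHom_mem_ker hn)
    rintro s (⟨g, rfl⟩ | ⟨n, hn, rfl⟩ | rfl)
    · rw [← map_pow]
      exact h1 (hG g)
    · rw [← map_pow]
      exact h2 (hR n hn)
    · rw [← map_pow, C2_sq, map_one]
      exact one_mem _
  exact key.of_mulEquiv (MulEquiv.subgroupCongr hK)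

theorem QProp.wreath {χ : G →* A} (hE : Exp2 χ) : QProp (wrChar χ) := by
  let S : Set (G ≀ᵣ C2) :=
    {w | (∃ g : G, w = fstHom G g) ∨ (∃ g : G, w = sndHom G g) ∨ w = inl tC}
  have hS : Subgroup.closure S = ⊤ := by
    rw [eq_top_iff]
    intro w _
    have e : w = fstHom G (w.left 1) * sndHom G (w.left tC) * inl w.right := by
      apply RegularWreathProduct.ext
      · funext x
        rcases C2_cases x with rfl | rfl <;>
          simp [RegularWreathProduct.mul_left, RegularWreathProduct.mul_right, fstHom, sndHom,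
            baseHom_left, baseHom_right, Pi.mulSingle_apply, tC_ne_one, one_ne_tC]
      · simp [RegularWreathProduct.mul_right, fstHom, sndHom, baseHom_right]
    rw [e]
    refine mul_mem (mul_mem (Subgroup.subset_closure (Or.inl ⟨_, rfl⟩))
      (Subgroup.subset_closure (Or.inr (Or.inl ⟨_, rfl⟩)))) ?_
    rcases C2_cases w.right with h | h
    · rw [h, map_one]
      exact one_mem _
    · rw [h]
      exact Subgroup.subset_closure (Or.inr (Or.inr rfl))
  haveI : (⁅(⊤ : Subgroup (G ≀ᵣ C2)), (wrChar χ).ker⁆).Normal := Subgroup.commutator_normal _ _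
  apply commutator_le_of_generators _ S hS
  have hR : ∀ (x : G ≀ᵣ C2) (k : G ≀ᵣ C2), k ∈ (wrChar χ).ker →
      ⁅x, k⁆ ∈ ⁅(⊤ : Subgroup (G ≀ᵣ C2)), (wrChar χ).ker⁆ := fun x k hk =>
    Subgroup.commutator_mem_commutator (Subgroup.mem_top x) hk
  have hR' : ∀ (x : G ≀ᵣ C2) (k : G ≀ᵣ C2), k ∈ (wrChar χ).ker →
      ⁅k, x⁆ ∈ ⁅(⊤ : Subgroup (G ≀ᵣ C2)), (wrChar χ).ker⁆ := fun x k hk => by
    rw [← commutatorElement_inv]
    exact inv_mem (hR x k hk)
  rintro s (⟨g, rfl⟩ | ⟨g, rfl⟩ | rfl) s' (⟨a, rfl⟩ | ⟨a, rfl⟩ | rfl)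
  · -- both at the first coordinate
    have e : ⁅fstHom G g, fstHom G a⁆ = ⁅fstHom G g, diagHom G a⁆ := by
      rw [comm_fst_diag, ← map_commutatorElement]
    rw [e]
    exact hR _ _ (diagHom_mem_ker hE a)
  · rw [comm_fst_snd]
    exact one_mem _
  · exact hR _ _ (inl_mem_ker χ tC)
  · rw [← commutatorElement_inv, comm_fst_snd, inv_one]
    exact one_mem _
  · have e : ⁅sndHom G g, sndHom G a⁆ = ⁅sndHom G g, diagHom G a⁆ := by
      rw [comm_snd_diag, ← map_commutatorElement]
    rw [e]
    exact hR _ _ (diagHom_mem_ker hE a)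
  · exact hR _ _ (inl_mem_ker χ tC)
  · exact hR' _ _ (inl_mem_ker χ tC)
  · exact hR' _ _ (inl_mem_ker χ tC)
  · rw [commutatorElement_self]
    exact one_mem _

end wreath

section prod

variable {G H A : Type*} [Group G] [Group H] [CommGroup A]

theorem Exp2.prod {χ : G →* A} {χ' : H →* A} (h : Exp2 χ) (h' : Exp2 χ') :
    Exp2 (χ.coprod χ') := by
  rintro ⟨g, k⟩
  rw [MonoidHom.coprod_apply]
  calc χ g * χ' k * (χ g * χ' k) = (χ g * χ g) * (χ' k * χ' k) := by
        simp only [mul_comm, mul_left_comm, mul_assoc]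
    _ = 1 := by rw [h, h', one_mul]

theorem coprod_surjective {χ : G →* A} (χ' : H →* A) (h : Function.Surjective χ) :
    Function.Surjective (χ.coprod χ') := by
  intro a
  obtain ⟨g, hg⟩ := h a
  exact ⟨(g, 1), by rw [MonoidHom.coprod_apply, hg, map_one, mul_one]⟩

theorem sqDer_ker_prod2 {χ : G →* A} {χ' : H →* A} (hG : SqDer G) (hH : SqDer H)
    (hQ : QProp χ) (hE' : Exp2 χ') (h12 : ∀ g, ∃ h, χ' h = χ g)
    (h21 : ∀ h, ∃ g, χ g = χ' h) : SqDer ↥(χ.coprod χ').ker := by
  apply sqDer_subgroup
  set K := (χ.coprod χ').ker with hK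
  have hmem : ∀ g h, χ g = χ' h → ((g, h) : G × H) ∈ K := by
    intro g h hgh
    rw [hK, MonoidHom.mem_ker, MonoidHom.coprod_apply, hgh]
    exact hE' h
  have h1 : ⁅(⊤ : Subgroup G), χ.ker⁆ ≤ (⁅K, K⁆).comap (MonoidHom.inl G H) := by
    rw [Subgroup.commutator_le]
    intro a _ n hn
    obtain ⟨ha, hha⟩ := h12 a
    have hx : ((a, ha) : G × H) ∈ K := hmem a ha hha.symm
    have hy : ((n, 1) : G × H) ∈ K := hmem n 1 (by rw [map_one]; exact hn)
    have hc := Subgroup.commutator_mem_commutator hx hy
    have e : ⁅((a, ha) : G × H), (n, 1)⁆ = MonoidHom.inl G H ⁅a, n⁆ := by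
      ext
      · simp [commutatorElement_def]
      · simp [commutatorElement_def]
    rw [e] at hc
    exact hc
  have h2 : commutator G ≤ (⁅K, K⁆).comap (MonoidHom.inl G H) := hQ.trans h1
  have h3 : commutator H ≤ (⁅K, K⁆).comap (MonoidHom.inr G H) := by
    rw [commutator_def, Subgroup.commutator_le]
    intro u _ v _
    obtain ⟨gu, hgu⟩ := h21 u
    obtain ⟨gv, hgv⟩ := h21 v
    have hx : ((gu, u) : G × H) ∈ K := hmem gu u hgu
    have hy : ((gv, v) : G × H) ∈ K := hmem gv v hgv
    have hc := Subgroup.commutator_mem_commutator hx hy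
    have hd : MonoidHom.inl G H ⁅gu, gv⁆ ∈ ⁅K, K⁆ :=
      h2 (Subgroup.commutator_mem_commutator (Subgroup.mem_top gu) (Subgroup.mem_top gv))
    have e : MonoidHom.inr G H ⁅u, v⁆ =
        (MonoidHom.inl G H ⁅gu, gv⁆)⁻¹ * ⁅((gu, u) : G × H), (gv, v)⁆ := by
      ext
      · simp only [commutatorElement_def, MonoidHom.inr_apply, MonoidHom.inl_apply, Prod.fst_mul,
          Prod.fst_inv, Prod.fst_one]
        group
      · simp [commutatorElement_def]
    rw [Subgroup.mem_comap, e]
    exact mul_mem (inv_mem hd) hc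
  rintro ⟨g, k⟩ -
  have h4 := h2 (hG g)
  have h5 := h3 (hH k)
  rw [Subgroup.mem_comap] at h4 h5
  have e : ((g, k) : G × H) ^ 2 = MonoidHom.inl G H (g ^ 2) * MonoidHom.inr G H (k ^ 2) := by
    simp
  rw [e]
  exact mul_mem h4 h5

end prod

end Cfsg.Agent.Lib.Helper20.SylModel
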