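import Mathlib

set_option autoImplicit false
set_option linter.style.haveILetI false
set_option linter.unusedSimpArgs false
set_option linter.unusedSectionVars false

/-!
Regular wreath products: derived length, linear action, and `p`-subgroups of `GL_n(q)` of large
derived length.
-/

namespace Cfsg.Agent.Lib.Helper20.WreathLin

open RegularWreathProduct
open scoped commutatorElement

universe u

section partA

variable {D Q : Type*} [Group D] [Group Q]

/-- The relation "`w` lies in the base group and has coordinate `d` at `1`". -/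
def Rsub (D Q : Type*) [Group D] [Group Q] : Subgroup ((D ≀ᵣ Q) × D) where
  carrier := {x | x.1.right = 1 ∧ x.1.left 1 = x.2}
  one_mem' := ⟨rfl, rfl⟩
  mul_mem' := by
    rintro ⟨w, d⟩ ⟨w', d'⟩ ⟨h1, h2⟩ ⟨h1', h2'⟩
    have h1 : w.right = 1 := h1
    have h2 : w.left 1 = d := h2
    have h1' : w'.right = 1 := h1'
    have h2' : w'.left 1 = d' := h2'
    refine ⟨?_, ?_⟩
    · show w.right * w'.right = 1
      rw [h1, h1', one_mul]
    · show w.left 1 * w'.left (w.right⁻¹ * 1) = d * d'
      rw [h1, inv_one, one_mul, h2, h2']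
  inv_mem' := by
    rintro ⟨w, d⟩ ⟨h1, h2⟩
    have h1 : w.right = 1 := h1
    have h2 : w.left 1 = d := h2
    refine ⟨?_, ?_⟩
    · show w.right⁻¹ = 1
      rw [h1, inv_one]
    · show (w.left (w.right * 1))⁻¹ = d⁻¹
      rw [h1, one_mul, h2]

theorem mem_Rsub {x : (D ≀ᵣ Q) × D} : x ∈ Rsub D Q ↔ x.1.right = 1 ∧ x.1.left 1 = x.2 := Iff.rfl

theorem comm_mem_Rsub (t : Q) (ht : t ≠ 1) (d : D) :
    ∃ w ∈ derivedSeries (D ≀ᵣ Q) 1, (w, d) ∈ Rsub D Q := by
  classical
  let a : D ≀ᵣ Q := ⟨Pi.mulSingle 1 d, 1⟩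
  let b : D ≀ᵣ Q := inl t
  refine ⟨⁅a, b⁆, ?_, ?_, ?_⟩
  · rw [derivedSeries_one]
    exact Subgroup.commutator_mem_commutator (Subgroup.mem_top a) (Subgroup.mem_top b)
  · show (a * b * a⁻¹ * b⁻¹).right = 1
    simp [a, b]
  · show (a * b * a⁻¹ * b⁻¹).left 1 = d
    have ht' : t⁻¹ ≠ 1 := by
      intro h
      exact ht (inv_eq_one.mp h)
    simp [a, b, Pi.mulSingle_apply, ht']

/-- projection of a subgroup through `Rsub` -/
def proj (T : Subgroup (D ≀ᵣ Q)) : Subgroup D :=
  ((T.prod ⊤) ⊓ Rsub D Q).map (MonoidHom.snd _ _)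

theorem mem_proj {T : Subgroup (D ≀ᵣ Q)} {d : D} :
    d ∈ proj T ↔ ∃ w ∈ T, (w, d) ∈ Rsub D Q := by
  unfold proj
  rw [Subgroup.mem_map]
  constructor
  · rintro ⟨⟨w, b⟩, ⟨⟨hw, -⟩, hR⟩, rfl⟩
    exact ⟨w, hw, hR⟩
  · rintro ⟨w, hw, hR⟩
    exact ⟨(w, d), ⟨⟨hw, Subgroup.mem_top _⟩, hR⟩, rfl⟩

theorem commutator_proj_le (T : Subgroup (D ≀ᵣ Q)) : ⁅proj T, proj T⁆ ≤ proj ⁅T, T⁆ := by
  rw [Subgroup.commutator_le]
  intro a ha b hb
  obtain ⟨σ, hσ, hσa⟩ := mem_proj.1 ha
  obtain ⟨τ, hτ, hτb⟩ := mem_proj.1 hb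
  refine mem_proj.2 ⟨⁅σ, τ⁆, Subgroup.commutator_mem_commutator hσ hτ, ?_⟩
  have : ((⁅σ, τ⁆, ⁅a, b⁆) : (D ≀ᵣ Q) × D) = ⁅(σ, a), (τ, b)⁆ := rfl
  rw [this]
  exact (Rsub D Q).mul_mem ((Rsub D Q).mul_mem ((Rsub D Q).mul_mem hσa hτb)
    ((Rsub D Q).inv_mem hσa)) ((Rsub D Q).inv_mem hτb)

theorem ds_le_proj (t : Q) (ht : t ≠ 1) (i : ℕ) :
    derivedSeries D i ≤ proj (derivedSeries (D ≀ᵣ Q) (i + 1)) := by
  induction i with
  | zero =>
    intro d _
    obtain ⟨w, hw, hR⟩ := comm_mem_Rsub (D := D) t ht d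
    exact mem_proj.2 ⟨w, hw, hR⟩
  | succ i ih =>
    rw [derivedSeries_succ, derivedSeries_succ (D ≀ᵣ Q) (i + 1)]
    exact le_trans (Subgroup.commutator_mono ih ih) (commutator_proj_le _)

theorem derivedSeries_wreath_ne_bot (t : Q) (ht : t ≠ 1) (i : ℕ) (h : derivedSeries D i ≠ ⊥) :
    derivedSeries (D ≀ᵣ Q) (i + 1) ≠ ⊥ := by
  intro hbot
  apply h
  rw [eq_bot_iff]
  intro d hd
  obtain ⟨w, hw, hR⟩ := mem_proj.1 (ds_le_proj (D := D) t ht i hd)
  rw [hbot, Subgroup.mem_bot] at hw
  subst hw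
  rw [Subgroup.mem_bot]
  exact hR.2.symm

theorem isPGroup_wreath {p : ℕ} [Fact p.Prime] [Finite D] [Finite Q] (hD : IsPGroup p D)
    (hQ : IsPGroup p Q) : IsPGroup p (D ≀ᵣ Q) := by
  obtain ⟨a, ha⟩ := IsPGroup.iff_card.mp hD
  obtain ⟨b, hb⟩ := IsPGroup.iff_card.mp hQ
  apply IsPGroup.of_card (n := a * p ^ b + b)
  rw [RegularWreathProduct.card, ha, hb, ← pow_mul, ← pow_add]

end partA

section partB

variable {D Q : Type*} [Group D] [Group Q]
  {F : Type*} [Field F] {V : Type*} [AddCommGroup V] [Module F V]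

/-- The linear action of the wreath product on `Q → V`. -/
def wrLin (ρ : D →* Module.End F V) (w : D ≀ᵣ Q) : Module.End F (Q → V) where
  toFun f := fun x => ρ (w.left x) (f (w.right⁻¹ * x))
  map_add' f g := by
    funext x
    simp
  map_smul' c f := by
    funext x
    simp

theorem wrLin_apply (ρ : D →* Module.End F V) (w : D ≀ᵣ Q) (f : Q → V) (x : Q) :
    wrLin ρ w f x = ρ (w.left x) (f (w.right⁻¹ * x)) := rfl

/-- The linear action as a monoid homomorphism. -/
def wrHom (ρ : D →* Module.End F V) : D ≀ᵣ Q →* Module.End F (Q → V) where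
  toFun := wrLin ρ
  map_one' := by
    refine LinearMap.ext fun f => funext fun x => ?_
    rw [wrLin_apply]
    simp
  map_mul' a b := by
    refine LinearMap.ext fun f => funext fun x => ?_
    rw [Module.End.mul_apply, wrLin_apply, wrLin_apply, wrLin_apply, mul_left, mul_right,
      Pi.mul_apply, map_mul, Module.End.mul_apply, mul_inv_rev, mul_assoc]

theorem wrHom_apply (ρ : D →* Module.End F V) (w : D ≀ᵣ Q) (f : Q → V) (x : Q) :
    wrHom ρ w f x = ρ (w.left x) (f (w.right⁻¹ * x)) := rfl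

theorem wrHom_injective (ρ : D →* Module.End F V) (hρ : Function.Injective ρ)
    (hV : ∃ v : V, v ≠ 0) : Function.Injective (wrHom (Q := Q) ρ) := by
  classical
  rw [injective_iff_map_eq_one]
  intro w hw
  obtain ⟨v, hv⟩ := hV
  have key : ∀ (f : Q → V) (x : Q), ρ (w.left x) (f (w.right⁻¹ * x)) = f x := by
    intro f x
    rw [← wrHom_apply, hw]
    rfl
  have hr : w.right = 1 := by
    by_contra hne
    have h1 := key (Pi.single 1 v) 1
    rw [Pi.single_eq_same, mul_one, Pi.single_eq_of_ne (by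
      intro h
      exact hne (inv_eq_one.mp h)), map_zero] at h1
    exact hv h1.symm
  have hl : ∀ x, w.left x = 1 := by
    intro x
    apply hρ
    rw [map_one]
    refine LinearMap.ext fun u => ?_
    have h1 := key (fun _ => u) x
    simpa using h1
  apply RegularWreathProduct.ext
  · funext x
    exact hl x
  · exact hr

end partB

section embed

variable {F : Type*} [Field F]

/-- A faithful linear representation of degree at most `n` gives an embedding in `GL_n`. -/
theorem exists_embedding {V : Type*} [AddCommGroup V] [Module F V] [Module.Finite F V]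
    {G : Type*} [Group G] (ρ : G →* Module.End F V) (hρ : Function.Injective ρ) (n : ℕ)
    (hn : Module.finrank F V ≤ n) :
    ∃ φ : G →* Matrix.GeneralLinearGroup (Fin n) F, Function.Injective φ := by
  have hrank : Module.finrank F (V × (Fin (n - Module.finrank F V) → F)) = n := by
    rw [Module.finrank_prod, Module.finrank_fin_fun]
    omega
  let b := Module.finBasisOfFinrankEq F (V × (Fin (n - Module.finrank F V) → F)) hrank
  let σ : G →* Module.End F (V × (Fin (n - Module.finrank F V) → F)) :=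
    (LinearMap.prodMapRingHom F V (Fin (n - Module.finrank F V) → F)).toMonoidHom.comp
      (MonoidHom.prod ρ 1)
  have hσ : Function.Injective σ := by
    intro g g' h
    apply hρ
    refine LinearMap.ext fun v => ?_
    have h1 := congrArg (fun T : Module.End F (V × (Fin (n - Module.finrank F V) → F)) =>
      (T (v, 0)).1) h
    exact h1
  let ψ : G →* Matrix (Fin n) (Fin n) F :=
    (LinearMap.toMatrixAlgEquiv b).toRingEquiv.toMulEquiv.toMonoidHom.comp σ
  have hψ : Function.Injective ψ := by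
    intro g g' h
    apply hσ
    exact (LinearMap.toMatrixAlgEquiv b).injective h
  refine ⟨ψ.toHomUnits, ?_⟩
  intro g g' h
  apply hψ
  have h1 := congrArg (fun M : (Matrix (Fin n) (Fin n) F)ˣ => (M : Matrix (Fin n) (Fin n) F)) h
  exact h1

end embed

section build

variable (F : Type u) [Field F] (p : ℕ) [hp : Fact p.Prime]

/-- Iterated wreath products with a faithful linear representation. -/
theorem exists_rep (e : ℕ) (he : 0 < e) (ζ : Matrix.GeneralLinearGroup (Fin e) F)
    (hζ : orderOf ζ = p) (k : ℕ) :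
    ∃ (G : Type u) (_ : Group G) (_ : Finite G) (V : Type u) (_ : AddCommGroup V)
      (_ : Module F V) (_ : Module.Finite F V) (ρ : G →* Module.End F V),
      IsPGroup p G ∧ Function.Injective ρ ∧ Module.finrank F V = e * p ^ k ∧
        derivedSeries G k ≠ ⊥ := by
  have hpp := hp.out
  haveI : NeZero p := ⟨hpp.ne_zero⟩
  haveI : Fact (1 < p) := ⟨hpp.one_lt⟩
  induction k with
  | zero =>
    let ρ : ↥(Subgroup.zpowers ζ) →* Module.End F (Fin e → F) :=
      ((Matrix.toLinAlgEquiv' : Matrix (Fin e) (Fin e) F ≃ₐ[F]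
        Module.End F (Fin e → F)).toRingEquiv.toMulEquiv.toMonoidHom.comp
          (Units.coeHom (Matrix (Fin e) (Fin e) F))).comp (Subgroup.zpowers ζ).subtype
    have hfin : Finite ↥(Subgroup.zpowers ζ) := by
      apply Nat.finite_of_card_ne_zero
      rw [Nat.card_zpowers, hζ]
      exact hpp.ne_zero
    refine ⟨↥(Subgroup.zpowers ζ), inferInstance, hfin, Fin e → F, inferInstance, inferInstance,
      inferInstance, ρ, ?_, ?_, ?_, ?_⟩
    · apply IsPGroup.of_card (n := 1)
      rw [Nat.card_zpowers, hζ, pow_one]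
    · intro x y h
      apply Subtype.ext
      apply Units.ext
      exact (Matrix.toLinAlgEquiv' : Matrix (Fin e) (Fin e) F ≃ₐ[F]
        Module.End F (Fin e → F)).injective h
    · rw [Module.finrank_fin_fun, pow_zero, mul_one]
    · rw [derivedSeries_zero]
      intro h
      have h1 : (⟨ζ, Subgroup.mem_zpowers ζ⟩ : ↥(Subgroup.zpowers ζ)) ∈
          (⊤ : Subgroup ↥(Subgroup.zpowers ζ)) := Subgroup.mem_top _
      rw [h, Subgroup.mem_bot] at h1
      have h2 : ζ = 1 := congrArg Subtype.val h1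
      rw [h2, orderOf_one] at hζ
      exact hpp.one_lt.ne hζ
  | succ k ih =>
    obtain ⟨G, hG, hfin, V, hV1, hV2, hV3, ρ, hpG, hinj, hrank, hds⟩ := ih
    have hVne : ∃ v : V, v ≠ 0 := by
      have h1 : 0 < Module.finrank F V := by
        rw [hrank]
        exact Nat.mul_pos he (pow_pos hpp.pos k)
      have h2 := Module.finrank_pos_iff.mp h1
      exact exists_ne 0
    let t : Multiplicative (ZMod p) := Multiplicative.ofAdd 1
    have ht : t ≠ 1 := by
      intro h
      have : (1 : ZMod p) = 0 := h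
      exact one_ne_zero this
    have hQ : IsPGroup p (Multiplicative (ZMod p)) := by
      apply IsPGroup.of_card (n := 1)
      rw [Nat.card_eq_fintype_card, Fintype.card_multiplicative, ZMod.card, pow_one]
    refine ⟨G ≀ᵣ Multiplicative (ZMod p), inferInstance, inferInstance,
      Multiplicative (ZMod p) → V, inferInstance, inferInstance, inferInstance,
      wrHom ρ, isPGroup_wreath hpG hQ, wrHom_injective ρ hinj hVne, ?_,
      derivedSeries_wreath_ne_bot t ht k hds⟩
    rw [Module.finrank_pi_fintype, Finset.sum_const, Finset.card_univ, smul_eq_mul,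
      Fintype.card_multiplicative, ZMod.card, hrank, pow_succ]
    ring

end build

end Cfsg.Agent.Lib.Helper20.WreathLin
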