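import Mathlib
import Cfsg.Agent.Lib.Helper20.WreathLin

set_option autoImplicit false
set_option linter.style.haveILetI false
set_option linter.unusedSimpArgs false
set_option linter.unusedSectionVars false

/-!
Wreath products acting on orthogonal sums of symplectic spaces.
-/

namespace Cfsg.Agent.Lib.Helper20.SympWreath

open RegularWreathProduct Cfsg.Agent.Lib.Helper20.WreathLin Module

variable {F : Type*} [Field F]

/-- A basis indexed by `ι ⊕ ι` in which the form has the standard matrix `J`. -/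
def IsSympBasis {ι V : Type*} [Fintype ι] [DecidableEq ι] [AddCommGroup V] [Module F V]
    (B : LinearMap.BilinForm F V) (b : Basis (ι ⊕ ι) F V) : Prop :=
  ∀ s t, B (b s) (b t) = Matrix.J ι F s t

section wreathStep

variable {D Q : Type*} [Group D] [Group Q] [Fintype Q] [DecidableEq Q]
  {V : Type*} [AddCommGroup V] [Module F V] {ι : Type*} [Fintype ι] [DecidableEq ι]

/-- The orthogonal sum of copies of a form. -/
def sumForm (B : LinearMap.BilinForm F V) : LinearMap.BilinForm F (Q → V) :=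
  ∑ x : Q, B.comp (LinearMap.proj x) (LinearMap.proj x)

theorem sumForm_apply (B : LinearMap.BilinForm F V) (f g : Q → V) :
    sumForm (Q := Q) B f g = ∑ x, B (f x) (g x) := by
  simp [sumForm, LinearMap.sum_apply]

theorem sumForm_wrHom (B : LinearMap.BilinForm F V) (ρ : D →* Module.End F V)
    (h : ∀ d u v, B (ρ d u) (ρ d v) = B u v) (w : D ≀ᵣ Q) (f g : Q → V) :
    sumForm B (wrHom ρ w f) (wrHom ρ w g) = sumForm B f g := by
  rw [sumForm_apply, sumForm_apply]
  simp only [wrHom_apply, h]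
  exact Fintype.sum_equiv (Equiv.mulLeft w.right⁻¹) _ _ (fun x => rfl)

theorem sumForm_single (B : LinearMap.BilinForm F V) (x y : Q) (u v : V) :
    sumForm B (Pi.single x u) (Pi.single y v) = if x = y then B u v else 0 := by
  rw [sumForm_apply, Finset.sum_eq_single x]
  · rw [Pi.single_eq_same]
    by_cases hxy : x = y
    · subst hxy
      rw [Pi.single_eq_same, if_pos rfl]
    · rw [Pi.single_eq_of_ne hxy, if_neg hxy, map_zero]
  · intro z _ hz
    rw [Pi.single_eq_of_ne hz, map_zero, LinearMap.zero_apply]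
  · intro h
    exact absurd (Finset.mem_univ x) h

/-- Reindexing of the basis of the sum. -/
def wrIdx (Q ι : Type*) : (Σ _ : Q, ι ⊕ ι) ≃ (Q × ι) ⊕ (Q × ι) :=
  (Equiv.sigmaEquivProd Q (ι ⊕ ι)).trans (Equiv.prodSumDistrib Q ι ι)

/-- The basis of the sum. -/
noncomputable def wrBasis (b : Basis (ι ⊕ ι) F V) : Basis ((Q × ι) ⊕ (Q × ι)) F (Q → V) :=
  (Pi.basis fun _ : Q => b).reindex (wrIdx Q ι)

theorem wrBasis_inl (b : Basis (ι ⊕ ι) F V) (x : Q) (i : ι) :
    wrBasis b (Sum.inl (x, i)) = Pi.single x (b (Sum.inl i)) := by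
  have h : (wrIdx Q ι).symm (Sum.inl (x, i)) = ⟨x, Sum.inl i⟩ := by
    rw [Equiv.symm_apply_eq]
    rfl
  rw [wrBasis, Basis.reindex_apply, h, Pi.basis_apply]

theorem wrBasis_inr (b : Basis (ι ⊕ ι) F V) (x : Q) (i : ι) :
    wrBasis b (Sum.inr (x, i)) = Pi.single x (b (Sum.inr i)) := by
  have h : (wrIdx Q ι).symm (Sum.inr (x, i)) = ⟨x, Sum.inr i⟩ := by
    rw [Equiv.symm_apply_eq]
    rfl
  rw [wrBasis, Basis.reindex_apply, h, Pi.basis_apply]

theorem wrBasis_symp (B : LinearMap.BilinForm F V) (b : Basis (ι ⊕ ι) F V)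
    (hb : IsSympBasis B b) : IsSympBasis (sumForm (Q := Q) B) (wrBasis b) := by
  intro s t
  rcases s with ⟨x, i⟩ | ⟨x, i⟩ <;> rcases t with ⟨y, j⟩ | ⟨y, j⟩
  · rw [wrBasis_inl, wrBasis_inl, sumForm_single, hb]
    simp [Matrix.J]
  · rw [wrBasis_inl, wrBasis_inr, sumForm_single, hb]
    simp only [Matrix.J, Matrix.fromBlocks_apply₁₂, Matrix.neg_apply, Matrix.one_apply,
      Prod.mk.injEq]
    by_cases hxy : x = y <;> by_cases hij : i = j <;> simp [hxy, hij]
  · rw [wrBasis_inr, wrBasis_inl, sumForm_single, hb]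
    simp only [Matrix.J, Matrix.fromBlocks_apply₂₁, Matrix.one_apply, Prod.mk.injEq]
    by_cases hxy : x = y <;> by_cases hij : i = j <;> simp [hxy, hij]
  · rw [wrBasis_inr, wrBasis_inr, sumForm_single, hb]
    simp [Matrix.J]

end wreathStep

end Cfsg.Agent.Lib.Helper20.SympWreath
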