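import Mathlib
import Cfsg.Agent.Lib.Helper20.QuatLift
import Cfsg.Agent.Lib.Helper20.SympWreath

set_option autoImplicit false
set_option linter.style.haveILetI false
set_option linter.unusedSimpArgs false
set_option linter.unusedSectionVars false

/-!
The quaternion group inside `Sp_2`, padding of symplectic representations, and the passage to
symplectic matrices.
-/

namespace Cfsg.Agent.Lib.Helper20.SympWreath

open RegularWreathProduct Cfsg.Agent.Lib.Helper20.WreathLin Module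
open scoped Matrix

universe u

section base

variable {F : Type*} [Field F] {ι : Type*} [Fintype ι] [DecidableEq ι]

/-- second generator -/
def yMat (a b : F) : Matrix (ι ⊕ ι) (ι ⊕ ι) F :=
  Matrix.fromBlocks (a • 1) (b • 1) (b • 1) ((-a) • 1)

theorem yMat_mem (a b : F) (hab : a ^ 2 + b ^ 2 = -1) :
    yMat (ι := ι) a b ∈ Matrix.symplecticGroup ι F := by
  rw [yMat, SymplecticGroup.fromBlocks_mem_iff]
  refine ⟨?_, ?_, ?_⟩
  · simp [Matrix.transpose_smul, smul_smul, mul_comm]
  · simp [Matrix.transpose_smul, smul_smul, mul_comm]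
  · simp only [Matrix.transpose_smul, Matrix.transpose_one, Matrix.smul_mul, Matrix.mul_smul,
      Matrix.one_mul, smul_smul, ← sub_smul]
    have : -a * a - b * b = 1 := by linear_combination -hab
    rw [this, one_smul]

theorem yMat_mul_self (a b : F) (hab : a ^ 2 + b ^ 2 = -1) :
    yMat (ι := ι) a b * yMat a b = -1 := by
  rw [yMat, Matrix.fromBlocks_multiply]
  simp only [Matrix.smul_mul, Matrix.mul_smul, Matrix.one_mul, smul_smul, ← add_smul]
  have h1 : a * a + b * b = -1 := by linear_combination hab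
  have h3 : b * a + -a * b = 0 := by ring
  have h4 : a * b + b * -a = 0 := by ring
  have h5 : b * b + -a * -a = -1 := by linear_combination hab
  rw [h1, h3, h4, h5, zero_smul, neg_smul, one_smul]
  rw [← Matrix.fromBlocks_one, Matrix.fromBlocks_neg, neg_zero]

theorem yMat_mul_J (a b : F) :
    yMat (ι := ι) a b * Matrix.J ι F = -Matrix.J ι F * yMat a b := by
  rw [yMat, Matrix.J, Matrix.fromBlocks_neg, Matrix.fromBlocks_multiply, Matrix.fromBlocks_multiply]
  simp

/-- first generator in the symplectic group -/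
def αS (F ι : Type*) [Field F] [Fintype ι] [DecidableEq ι] : ↥(Matrix.symplecticGroup ι F) :=
  ⟨Matrix.J ι F, SymplecticGroup.J_mem ι F⟩

/-- second generator in the symplectic group -/
def βS (a b : F) (hab : a ^ 2 + b ^ 2 = -1) : ↥(Matrix.symplecticGroup ι F) :=
  ⟨yMat a b, yMat_mem a b hab⟩

theorem αS_sq : ((αS F ι ^ 2 : ↥(Matrix.symplecticGroup ι F)) :
    Matrix (ι ⊕ ι) (ι ⊕ ι) F) = -1 := by
  rw [SubmonoidClass.coe_pow, pow_two]
  exact Matrix.J_squared ι F

theorem αS_pow_four : αS F ι ^ (2 * 2) = 1 := by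
  apply Subtype.ext
  rw [pow_mul, SubmonoidClass.coe_pow, αS_sq]
  simp

theorem neg_one_ne_one [Nonempty ι] (h2 : (2 : F) ≠ 0) :
    (-1 : Matrix (ι ⊕ ι) (ι ⊕ ι) F) ≠ 1 := by
  intro h
  obtain ⟨i⟩ := (inferInstance : Nonempty ι)
  have h1 := congrFun (congrFun h (Sum.inl i)) (Sum.inl i)
  rw [Matrix.neg_apply, Matrix.one_apply_eq] at h1
  apply h2
  linear_combination -h1

theorem αS_sq_ne_one [Nonempty ι] (h2 : (2 : F) ≠ 0) : αS F ι ^ 2 ≠ 1 := by
  intro h
  have h1 := congrArg (fun A : ↥(Matrix.symplecticGroup ι F) =>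
    (A : Matrix (ι ⊕ ι) (ι ⊕ ι) F)) h
  simp only [αS_sq] at h1
  exact neg_one_ne_one h2 h1

theorem orderOf_αS [Nonempty ι] (h2 : (2 : F) ≠ 0) : orderOf (αS F ι) = 2 * 2 := by
  have h := orderOf_eq_prime_pow (p := 2) (n := 1) (x := αS F ι)
    (by rw [pow_one]; exact αS_sq_ne_one h2)
    (by
      have := αS_pow_four (F := F) (ι := ι)
      norm_num at this ⊢
      exact this)
  rw [h]
  norm_num

theorem βS_mul_self (a b : F) (hab : a ^ 2 + b ^ 2 = -1) :
    βS (ι := ι) a b hab * βS a b hab = αS F ι ^ 2 := by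
  apply Subtype.ext
  rw [αS_sq]
  exact yMat_mul_self a b hab

theorem αS_inv : ((αS F ι)⁻¹ : ↥(Matrix.symplecticGroup ι F)) =
    ⟨-Matrix.J ι F, SymplecticGroup.neg_mem (SymplecticGroup.J_mem ι F)⟩ := by
  apply Subtype.ext
  rw [SymplecticGroup.coe_inv]
  show -Matrix.J ι F * (Matrix.J ι F)ᵀ * Matrix.J ι F = -Matrix.J ι F
  rw [Matrix.J_transpose, neg_mul_neg, Matrix.J_squared]
  simp

theorem βS_conj (a b : F) (hab : a ^ 2 + b ^ 2 = -1) :
    βS (ι := ι) a b hab * αS F ι * (βS a b hab)⁻¹ = (αS F ι)⁻¹ := by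
  rw [mul_inv_eq_iff_eq_mul, αS_inv]
  apply Subtype.ext
  exact yMat_mul_J a b

theorem βS_not_mem [Nonempty ι] (h2 : (2 : F) ≠ 0) (a b : F) (hab : a ^ 2 + b ^ 2 = -1) :
    βS (ι := ι) a b hab ∉ Subgroup.zpowers (αS F ι) := by
  intro h
  obtain ⟨k, hk⟩ := Subgroup.mem_zpowers_iff.mp h
  have hc : βS (ι := ι) a b hab * αS F ι = αS F ι * βS a b hab := by
    rw [← hk, ← zpow_add_one, ← zpow_one_add]
    congr 1
    ring
  have h1 := βS_conj (ι := ι) a b hab
  rw [hc, mul_inv_cancel_right] at h1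
  apply αS_sq_ne_one (F := F) (ι := ι) h2
  rw [pow_two]
  nth_rewrite 1 [h1]
  exact inv_mul_cancel _

/-- The quaternion group of order 8 inside the symplectic group. -/
noncomputable def quatHom (a b : F) (hab : a ^ 2 + b ^ 2 = -1) :
    QuaternionGroup 2 →* ↥(Matrix.symplecticGroup ι F) :=
  Cfsg.Agent.Lib.Helper20.quatLift (βS a b hab) (αS F ι) 2 αS_pow_four (βS_mul_self a b hab)
    (βS_conj a b hab)

theorem quatHom_injective [Nonempty ι] (h2 : (2 : F) ≠ 0) (a b : F)
    (hab : a ^ 2 + b ^ 2 = -1) : Function.Injective (quatHom (ι := ι) a b hab) :=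
  Cfsg.Agent.Lib.Helper20.quatLift_injective (βS a b hab) (αS F ι) 2 (orderOf_αS h2)
    (βS_mul_self a b hab) (βS_conj a b hab) (βS_not_mem h2 a b hab)

/-- The standard alternating form. -/
noncomputable def stdForm (F ι : Type*) [Field F] [Fintype ι] [DecidableEq ι] :
    LinearMap.BilinForm F (ι ⊕ ι → F) :=
  Matrix.toBilin' (Matrix.J ι F)

theorem stdForm_invariant (A : Matrix (ι ⊕ ι) (ι ⊕ ι) F) (hA : A ∈ Matrix.symplecticGroup ι F)
    (u v : ι ⊕ ι → F) :
    stdForm F ι (Matrix.toLin' A u) (Matrix.toLin' A v) = stdForm F ι u v := by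
  have h := Matrix.toBilin'_comp (Matrix.J ι F) A A
  rw [SymplecticGroup.mem_iff'.mp hA] at h
  have h1 := congrArg (fun B : LinearMap.BilinForm F (ι ⊕ ι → F) => B u v) h
  exact h1

theorem stdForm_symp : IsSympBasis (stdForm F ι) (Pi.basisFun F (ι ⊕ ι)) := by
  intro s t
  rw [Pi.basisFun_apply, Pi.basisFun_apply]
  exact Matrix.toBilin'_single _ s t

/-- The symplectic group acting on the standard space. -/
noncomputable def spAct (F ι : Type*) [Field F] [Fintype ι] [DecidableEq ι] :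
    ↥(Matrix.symplecticGroup ι F) →* Module.End F (ι ⊕ ι → F) :=
  (Matrix.toLinAlgEquiv' : Matrix (ι ⊕ ι) (ι ⊕ ι) F ≃ₐ[F]
    Module.End F (ι ⊕ ι → F)).toRingEquiv.toMulEquiv.toMonoidHom.comp
      (Matrix.symplecticGroup ι F).subtype

theorem spAct_apply (A : ↥(Matrix.symplecticGroup ι F)) (u : ι ⊕ ι → F) :
    spAct F ι A u = Matrix.toLin' (A : Matrix (ι ⊕ ι) (ι ⊕ ι) F) u := rfl

theorem spAct_injective : Function.Injective (spAct F ι) := by
  intro A A' h
  apply Subtype.ext
  exact (Matrix.toLinAlgEquiv' : Matrix (ι ⊕ ι) (ι ⊕ ι) F ≃ₐ[F]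
    Module.End F (ι ⊕ ι → F)).injective h

end base

end Cfsg.Agent.Lib.Helper20.SympWreath
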