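import Mathlib
import Cfsg.Agent.Lib.Helper20.SympBase
import Cfsg.Agent.Lib.Helper20.LinPGroupFin

set_option autoImplicit false
set_option linter.style.haveILetI false
set_option linter.unusedSimpArgs false
set_option linter.unusedSectionVars false

/-!
Sylow `2`-subgroups of `Sp_{2n}(q)`, `q` odd: the derived length.
-/

namespace Cfsg.Agent.Lib.Helper20.SympWreath

open RegularWreathProduct Cfsg.Agent.Lib.Helper20.WreathLin Module
open scoped Matrix commutatorElement

universe u

section pad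

variable {F : Type*} [Field F] {ι κ : Type*} [Fintype ι] [DecidableEq ι] [Fintype κ]
  [DecidableEq κ] {V : Type*} [AddCommGroup V] [Module F V] {G : Type*} [Group G]

/-- The form on the padded space. -/
noncomputable def padForm (B : LinearMap.BilinForm F V) (κ : Type*) [Fintype κ] [DecidableEq κ] :
    LinearMap.BilinForm F (V × (κ ⊕ κ → F)) :=
  B.comp (LinearMap.fst F V (κ ⊕ κ → F)) (LinearMap.fst F V (κ ⊕ κ → F)) +
    (stdForm F κ).comp (LinearMap.snd F V (κ ⊕ κ → F)) (LinearMap.snd F V (κ ⊕ κ → F))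

theorem padForm_apply (B : LinearMap.BilinForm F V) (x y : V × (κ ⊕ κ → F)) :
    padForm B κ x y = B x.1 y.1 + stdForm F κ x.2 y.2 := rfl

/-- The basis of the padded space. -/
noncomputable def padBasis (b : Basis (ι ⊕ ι) F V) (κ : Type*) [Fintype κ] [DecidableEq κ] :
    Basis ((ι ⊕ κ) ⊕ (ι ⊕ κ)) F (V × (κ ⊕ κ → F)) :=
  (b.prod (Pi.basisFun F (κ ⊕ κ))).reindex (Equiv.sumSumSumComm ι ι κ κ)

theorem padBasis_ll (b : Basis (ι ⊕ ι) F V) (i : ι) :
    padBasis b κ (Sum.inl (Sum.inl i)) = (b (Sum.inl i), 0) := by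
  have h : (Equiv.sumSumSumComm ι ι κ κ).symm (Sum.inl (Sum.inl i)) = Sum.inl (Sum.inl i) := rfl
  rw [padBasis, Basis.reindex_apply, h, Basis.prod_apply]
  rfl

theorem padBasis_lr (b : Basis (ι ⊕ ι) F V) (k : κ) :
    padBasis b κ (Sum.inl (Sum.inr k)) = (0, Pi.single (Sum.inl k) 1) := by
  have h : (Equiv.sumSumSumComm ι ι κ κ).symm (Sum.inl (Sum.inr k)) = Sum.inr (Sum.inl k) := rfl
  rw [padBasis, Basis.reindex_apply, h, Basis.prod_apply]
  simp [Pi.basisFun_apply]

theorem padBasis_rl (b : Basis (ι ⊕ ι) F V) (i : ι) :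
    padBasis b κ (Sum.inr (Sum.inl i)) = (b (Sum.inr i), 0) := by
  have h : (Equiv.sumSumSumComm ι ι κ κ).symm (Sum.inr (Sum.inl i)) = Sum.inl (Sum.inr i) := rfl
  rw [padBasis, Basis.reindex_apply, h, Basis.prod_apply]
  rfl

theorem padBasis_rr (b : Basis (ι ⊕ ι) F V) (k : κ) :
    padBasis b κ (Sum.inr (Sum.inr k)) = (0, Pi.single (Sum.inr k) 1) := by
  have h : (Equiv.sumSumSumComm ι ι κ κ).symm (Sum.inr (Sum.inr k)) = Sum.inr (Sum.inr k) := rfl
  rw [padBasis, Basis.reindex_apply, h, Basis.prod_apply]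
  simp [Pi.basisFun_apply]

theorem stdForm_single (s t : κ ⊕ κ) :
    stdForm F κ (Pi.single s 1) (Pi.single t 1) = Matrix.J κ F s t :=
  Matrix.toBilin'_single _ s t

theorem padBasis_symp (B : LinearMap.BilinForm F V) (b : Basis (ι ⊕ ι) F V)
    (hb : IsSympBasis B b) : IsSympBasis (padForm B κ) (padBasis b κ) := by
  have hb' : ∀ s t, B (b s) (b t) = Matrix.J ι F s t := hb
  intro s t
  rcases s with (i | k) | (i | k) <;> rcases t with (j | l) | (j | l) <;>
    simp only [padBasis_ll, padBasis_lr, padBasis_rl, padBasis_rr, padForm_apply, hb',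
      stdForm_single, map_zero, LinearMap.zero_apply, add_zero, zero_add] <;>
    simp [Matrix.J, Matrix.one_apply]

/-- The padded representation. -/
def padHom (ρ : G →* Module.End F V) (κ : Type*) : G →* Module.End F (V × (κ ⊕ κ → F)) :=
  (LinearMap.prodMapRingHom F V (κ ⊕ κ → F)).toMonoidHom.comp (MonoidHom.prod ρ 1)

theorem padHom_apply (ρ : G →* Module.End F V) (g : G) (x : V × (κ ⊕ κ → F)) :
    padHom ρ κ g x = (ρ g x.1, x.2) := rfl

theorem padHom_injective (ρ : G →* Module.End F V) (hρ : Function.Injective ρ) :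
    Function.Injective (padHom ρ κ) := by
  intro g g' h
  apply hρ
  refine LinearMap.ext fun v => ?_
  have h1 := congrArg (fun T : Module.End F (V × (κ ⊕ κ → F)) => (T (v, 0)).1) h
  exact h1

theorem padHom_invariant (B : LinearMap.BilinForm F V) (ρ : G →* Module.End F V)
    (h : ∀ g u v, B (ρ g u) (ρ g v) = B u v) (g : G) (x y : V × (κ ⊕ κ → F)) :
    padForm B κ (padHom ρ κ g x) (padHom ρ κ g y) = padForm B κ x y := by
  rw [padForm_apply, padForm_apply, padHom_apply, padHom_apply, h]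

end pad

section final

variable {F : Type*} [Field F] {V : Type*} [AddCommGroup V] [Module F V] {G : Type*} [Group G]

theorem J_sumCongr {ι' κ' : Type*} [Fintype ι'] [DecidableEq ι'] [Fintype κ'] [DecidableEq κ']
    (e : ι' ≃ κ') (s t : κ' ⊕ κ') :
    Matrix.J ι' F ((Equiv.sumCongr e e).symm s) ((Equiv.sumCongr e e).symm t) =
      Matrix.J κ' F s t := by
  rcases s with i | i <;> rcases t with j | j <;>
    simp [Matrix.J, Matrix.one_apply]

theorem exists_symp_embedding {n : ℕ} {ι' : Type*} [Fintype ι'] [DecidableEq ι']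
    (e : ι' ≃ Fin n) (B : LinearMap.BilinForm F V) (b : Basis (ι' ⊕ ι') F V)
    (hb : IsSympBasis B b) (ρ : G →* Module.End F V) (hρ : Function.Injective ρ)
    (hinv : ∀ g u v, B (ρ g u) (ρ g v) = B u v) :
    ∃ φ : G →* ↥(Matrix.symplecticGroup (Fin n) F), Function.Injective φ := by
  let b' : Basis (Fin n ⊕ Fin n) F V := b.reindex (Equiv.sumCongr e e)
  have hb' : ∀ s t, B (b' s) (b' t) = Matrix.J (Fin n) F s t := by
    intro s t
    show B (b.reindex (Equiv.sumCongr e e) s) (b.reindex (Equiv.sumCongr e e) t) = _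
    rw [Basis.reindex_apply, Basis.reindex_apply, hb]
    exact J_sumCongr e s t
  have hJ : LinearMap.BilinForm.toMatrix b' B = Matrix.J (Fin n) F := by
    ext s t
    rw [LinearMap.BilinForm.toMatrix_apply]
    exact hb' s t
  let ψ : G →* Matrix (Fin n ⊕ Fin n) (Fin n ⊕ Fin n) F :=
    (LinearMap.toMatrixAlgEquiv b').toRingEquiv.toMulEquiv.toMonoidHom.comp ρ
  have hψ : ∀ g, ψ g ∈ Matrix.symplecticGroup (Fin n) F := by
    intro g
    rw [SymplecticGroup.mem_iff']
    have h1 := LinearMap.BilinForm.toMatrix_comp b' b' B (ρ g) (ρ g)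
    have h2 : B.comp (ρ g) (ρ g) = B := by
      refine LinearMap.ext fun u => LinearMap.ext fun v => ?_
      exact hinv g u v
    rw [h2, hJ] at h1
    exact h1.symm
  refine ⟨ψ.codRestrict (Matrix.symplecticGroup (Fin n) F) hψ, ?_⟩
  intro g g' h
  apply hρ
  have h1 : ψ g = ψ g' := congrArg Subtype.val h
  exact (LinearMap.toMatrixAlgEquiv b').injective h1

end final

section build

variable (F : Type u) [Field F]

theorem exists_symp_rep (a b : F) (hab : a ^ 2 + b ^ 2 = -1) (h2 : (2 : F) ≠ 0) (j : ℕ) :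
    ∃ (G : Type) (_ : Group G) (_ : Finite G) (ι : Type) (_ : Fintype ι) (_ : DecidableEq ι)
      (V : Type u) (_ : AddCommGroup V) (_ : Module F V) (B : LinearMap.BilinForm F V)
      (bs : Basis (ι ⊕ ι) F V) (ρ : G →* Module.End F V),
      IsPGroup 2 G ∧ Function.Injective ρ ∧ Fintype.card ι = 2 ^ j ∧ IsSympBasis B bs ∧
        (∀ g u v, B (ρ g u) (ρ g v) = B u v) ∧ derivedSeries G (j + 1) ≠ ⊥ := by
  induction j with
  | zero =>
    refine ⟨QuaternionGroup 2, inferInstance, inferInstance, Fin 1, inferInstance, inferInstance,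
      (Fin 1 ⊕ Fin 1 → F), inferInstance, inferInstance, stdForm F (Fin 1),
      Pi.basisFun F (Fin 1 ⊕ Fin 1), (spAct F (Fin 1)).comp (quatHom a b hab),
      ?_, ?_, ?_, stdForm_symp, ?_, ?_⟩
    · apply IsPGroup.of_card (n := 3)
      rw [Nat.card_eq_fintype_card, QuaternionGroup.card]
      norm_num
    · exact spAct_injective.comp (quatHom_injective h2 a b hab)
    · simp
    · intro g u v
      exact stdForm_invariant _ (quatHom a b hab g).2 u v
    · intro h
      rw [zero_add, derivedSeries_one] at h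
      have h1 : ⁅(QuaternionGroup.a 1 : QuaternionGroup 2), QuaternionGroup.xa 0⁆ ∈
          commutator (QuaternionGroup 2) :=
        Subgroup.commutator_mem_commutator (Subgroup.mem_top _) (Subgroup.mem_top _)
      rw [h, Subgroup.mem_bot, commutatorElement_eq_one_iff_mul_comm] at h1
      exact absurd h1 (by decide)
  | succ j ih =>
    obtain ⟨G, hG, hfin, ι, hι1, hι2, V, hV1, hV2, B, bs, ρ, hpG, hinj, hcard, hsymp, hinv,
      hds⟩ := ih
    have hVne : ∃ v : V, v ≠ 0 := by
      have h0 : 0 < Fintype.card ι := by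
        rw [hcard]
        positivity
      obtain ⟨i⟩ := Fintype.card_pos_iff.mp h0
      exact ⟨bs (Sum.inl i), bs.ne_zero _⟩
    let t : Multiplicative (ZMod 2) := Multiplicative.ofAdd 1
    have ht : t ≠ 1 := by
      intro h
      have h1 : (1 : ZMod 2) = 0 := h
      exact absurd h1 (by decide)
    have hQ : IsPGroup 2 (Multiplicative (ZMod 2)) := by
      apply IsPGroup.of_card (n := 1)
      rw [Nat.card_eq_fintype_card, Fintype.card_multiplicative, ZMod.card, pow_one]
    refine ⟨G ≀ᵣ Multiplicative (ZMod 2), inferInstance, inferInstance,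
      Multiplicative (ZMod 2) × ι, inferInstance, inferInstance,
      Multiplicative (ZMod 2) → V, inferInstance, inferInstance, sumForm B, wrBasis bs, wrHom ρ,
      isPGroup_wreath hpG hQ, wrHom_injective ρ hinj hVne, ?_, wrBasis_symp B bs hsymp, ?_,
      derivedSeries_wreath_ne_bot t ht (j + 1) hds⟩
    · rw [Fintype.card_prod, Fintype.card_multiplicative, ZMod.card, hcard, pow_succ]
      ring
    · intro w f g
      exact sumForm_wrHom B ρ hinv w f g

end build

section sylow

theorem two_ne_zero_of_odd_card {F : Type*} [Field F] [Fintype F] (q : ℕ)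
    (hF : Fintype.card F = q) (hq : Odd q) : (2 : F) ≠ 0 := by
  intro h
  haveI : CharP F (ringChar F) := ringChar.charP F
  have h1 : ringChar F ∣ 2 := by
    have h0 : ((2 : ℕ) : F) = 0 := by exact_mod_cast h
    exact (ringChar.spec F 2).mp h0
  have hp := CharP.char_is_prime F (ringChar F)
  have h3 : ringChar F = 2 := (Nat.prime_dvd_prime_iff_eq hp Nat.prime_two).mp h1
  obtain ⟨t, -, ht⟩ := FiniteField.card F (ringChar F)
  rw [hF, h3] at ht
  have h4 : 2 ∣ q := by
    rw [ht]
    exact dvd_pow_self 2 t.ne_zero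
  exact (Nat.not_even_iff_odd.mpr hq) (even_iff_two_dvd.mpr h4)

theorem sylow_symp_ne_bot {F : Type u} [Field F] [Fintype F] [DecidableEq F] (q : ℕ)
    (hF : Fintype.card F = q) (hq : Odd q) (n : ℕ) (hn : 1 ≤ n)
    (R : Sylow 2 ↥(Matrix.symplecticGroup (Fin n) F)) :
    derivedSeries ↥(R : Subgroup ↥(Matrix.symplecticGroup (Fin n) F))
      (Nat.log 2 (2 * n)) ≠ ⊥ := by
  have h2 := two_ne_zero_of_odd_card q hF hq
  haveI : CharP F (ringChar F) := ringChar.charP F
  haveI : NeZero (ringChar F) := ⟨(CharP.char_is_prime F (ringChar F)).ne_zero⟩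
  obtain ⟨a, b, hab⟩ := CharP.sq_add_sq F (ringChar F) (-1)
  have hab' : (a : F) ^ 2 + (b : F) ^ 2 = -1 := by simpa using hab
  have hk1 : 0 < Nat.log 2 (2 * n) := Nat.log_pos (by norm_num) (by omega)
  have hpow : 2 ^ Nat.log 2 (2 * n) ≤ 2 * n := Nat.pow_log_le_self 2 (by omega)
  obtain ⟨j, hj⟩ : ∃ j, Nat.log 2 (2 * n) = j + 1 := ⟨Nat.log 2 (2 * n) - 1, by omega⟩
  rw [hj] at hpow ⊢
  have hjn : 2 ^ j ≤ n := by
    rw [pow_succ] at hpow
    omega
  obtain ⟨G, hG, hfin, ι, hι1, hι2, V, hV1, hV2, B, bs, ρ, hpG, hinj, hcard, hsymp, hinv,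
    hds⟩ := exists_symp_rep F (a : F) (b : F) hab' h2 j
  have hcard' : Fintype.card (ι ⊕ Fin (n - 2 ^ j)) = n := by
    rw [Fintype.card_sum, hcard, Fintype.card_fin]
    omega
  obtain ⟨φ, hφ⟩ := exists_symp_embedding (Fintype.equivFinOfCardEq hcard')
    (padForm B (Fin (n - 2 ^ j))) (padBasis bs (Fin (n - 2 ^ j))) (padBasis_symp B bs hsymp)
    (padHom ρ (Fin (n - 2 ^ j))) (padHom_injective ρ hinj) (padHom_invariant B ρ hinv)
  haveI : Finite ↥(Matrix.symplecticGroup (Fin n) F) := inferInstance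
  have hQ' : IsPGroup 2 φ.range := hpG.of_surjective φ.rangeRestrict φ.rangeRestrict_surjective
  obtain ⟨P', hP'⟩ := hQ'.exists_le_sylow
  let f : G →* ↥(R : Subgroup ↥(Matrix.symplecticGroup (Fin n) F)) :=
    (Sylow.equiv P' R).toMonoidHom.comp ((Subgroup.inclusion hP').comp φ.rangeRestrict)
  have hf : Function.Injective f := by
    intro x y hxy
    have h1 : (Subgroup.inclusion hP') (φ.rangeRestrict x) =
        (Subgroup.inclusion hP') (φ.rangeRestrict y) := (Sylow.equiv P' R).injective hxy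
    have h3 := Subgroup.inclusion_injective hP' h1
    apply hφ
    exact congrArg Subtype.val h3
  intro hbot
  apply hds
  have h1 := map_derivedSeries_le_derivedSeries f (j + 1)
  rw [hbot, le_bot_iff] at h1
  exact (Subgroup.map_eq_bot_iff_of_injective _ hf).mp h1

theorem derivedSeries_pgroup_of_injective {F : Type*} [Field F] [Fintype F] (q : ℕ)
    (hF : Fintype.card F = q) (p : ℕ) [hp : Fact p.Prime] (hpq : ¬ p ∣ q) (n : ℕ)
    (hen : orderOf (q : ZMod p) ≤ n) {G : Type*} [Group G] [Finite G] (hG : IsPGroup p G)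
    (ρ : G →* Matrix.GeneralLinearGroup (Fin n) F) (hρ : Function.Injective ρ) :
    derivedSeries G (Nat.log p (n / orderOf (q : ZMod p)) + 1) = ⊥ := by
  have h1 := Cfsg.Agent.Lib.Helper20.LinPGroup.derivedSeries_pgroup_GL q hF p hpq n hen ρ.range
    (hG.of_surjective ρ.rangeRestrict ρ.rangeRestrict_surjective)
  have h2 := map_derivedSeries_le_derivedSeries ρ.rangeRestrict
    (Nat.log p (n / orderOf (q : ZMod p)) + 1)
  rw [h1, le_bot_iff] at h2
  exact (Subgroup.map_eq_bot_iff_of_injective _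
    (ρ.rangeRestrict_injective_iff.mpr hρ)).mp h2

theorem sylow_symp_eq_bot {F : Type u} [Field F] [Fintype F] [DecidableEq F] (q : ℕ)
    (hF : Fintype.card F = q) (hq : Odd q) (n : ℕ) (hn : 1 ≤ n)
    (R : Sylow 2 ↥(Matrix.symplecticGroup (Fin n) F)) :
    derivedSeries ↥(R : Subgroup ↥(Matrix.symplecticGroup (Fin n) F))
      (Nat.log 2 (2 * n) + 1) = ⊥ := by
  let e : Fin n ⊕ Fin n ≃ Fin (2 * n) := finSumFinEquiv.trans (finCongr (two_mul n).symm)
  let ψ₀ : ↥(Matrix.symplecticGroup (Fin n) F) →* Matrix (Fin (2 * n)) (Fin (2 * n)) F :=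
    (Matrix.reindexAlgEquiv F F e).toRingEquiv.toMulEquiv.toMonoidHom.comp
      (Matrix.symplecticGroup (Fin n) F).subtype
  have hψ₀ : Function.Injective ψ₀ := by
    intro A A' h
    apply Subtype.ext
    exact (Matrix.reindexAlgEquiv F F e).injective h
  let ψ : ↥(R : Subgroup ↥(Matrix.symplecticGroup (Fin n) F)) →*
      Matrix.GeneralLinearGroup (Fin (2 * n)) F :=
    (ψ₀.toHomUnits).comp (R : Subgroup ↥(Matrix.symplecticGroup (Fin n) F)).subtype
  have hψ : Function.Injective ψ := by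
    intro x y h
    apply Subtype.ext
    apply hψ₀
    have h1 := congrArg (fun M : (Matrix (Fin (2 * n)) (Fin (2 * n)) F)ˣ =>
      (M : Matrix (Fin (2 * n)) (Fin (2 * n)) F)) h
    exact h1
  have hq2 : ¬ 2 ∣ q := hq.not_two_dvd_nat
  have hone : orderOf ((q : ℕ) : ZMod 2) = 1 := by
    rw [ZMod.natCast_eq_one_iff_odd.mpr hq, orderOf_one]
  haveI : Finite ↥(Matrix.symplecticGroup (Fin n) F) := inferInstance
  have h := derivedSeries_pgroup_of_injective q hF 2 hq2 (2 * n) (by rw [hone]; omega)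
    R.isPGroup' ψ hψ
  rw [hone, Nat.div_one] at h
  exact h

end sylow

end Cfsg.Agent.Lib.Helper20.SympWreath
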