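import Mathlib
import Cfsg.Agent.Lib.Helper20.SympSylow

set_option autoImplicit false
set_option linter.style.haveILetI false
set_option linter.unusedSimpArgs false
set_option linter.unusedSectionVars false

/-!
Orthogonal sums of two symplectic representations.
-/

namespace Cfsg.Agent.Lib.Helper20.SympWreath

open Module

section prod

variable {F : Type*} [Field F] {ι κ : Type*} [Fintype ι] [DecidableEq ι] [Fintype κ]
  [DecidableEq κ] {V W : Type*} [AddCommGroup V] [Module F V] [AddCommGroup W] [Module F W]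
  {G H : Type*} [Group G] [Group H]

/-- The orthogonal sum of two forms. -/
noncomputable def prodForm (B : LinearMap.BilinForm F V) (B' : LinearMap.BilinForm F W) :
    LinearMap.BilinForm F (V × W) :=
  B.comp (LinearMap.fst F V W) (LinearMap.fst F V W) +
    B'.comp (LinearMap.snd F V W) (LinearMap.snd F V W)

theorem prodForm_apply (B : LinearMap.BilinForm F V) (B' : LinearMap.BilinForm F W)
    (x y : V × W) : prodForm B B' x y = B x.1 y.1 + B' x.2 y.2 := rfl

/-- The basis of the orthogonal sum. -/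
noncomputable def prodBasis (b : Basis (ι ⊕ ι) F V) (b' : Basis (κ ⊕ κ) F W) :
    Basis ((ι ⊕ κ) ⊕ (ι ⊕ κ)) F (V × W) :=
  (b.prod b').reindex (Equiv.sumSumSumComm ι ι κ κ)

theorem prodBasis_ll (b : Basis (ι ⊕ ι) F V) (b' : Basis (κ ⊕ κ) F W) (i : ι) :
    prodBasis b b' (Sum.inl (Sum.inl i)) = (b (Sum.inl i), 0) := by
  have h : (Equiv.sumSumSumComm ι ι κ κ).symm (Sum.inl (Sum.inl i)) = Sum.inl (Sum.inl i) := rfl
  rw [prodBasis, Basis.reindex_apply, h, Basis.prod_apply]
  rfl

theorem prodBasis_lr (b : Basis (ι ⊕ ι) F V) (b' : Basis (κ ⊕ κ) F W) (k : κ) :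
    prodBasis b b' (Sum.inl (Sum.inr k)) = (0, b' (Sum.inl k)) := by
  have h : (Equiv.sumSumSumComm ι ι κ κ).symm (Sum.inl (Sum.inr k)) = Sum.inr (Sum.inl k) := rfl
  rw [prodBasis, Basis.reindex_apply, h, Basis.prod_apply]
  rfl

theorem prodBasis_rl (b : Basis (ι ⊕ ι) F V) (b' : Basis (κ ⊕ κ) F W) (i : ι) :
    prodBasis b b' (Sum.inr (Sum.inl i)) = (b (Sum.inr i), 0) := by
  have h : (Equiv.sumSumSumComm ι ι κ κ).symm (Sum.inr (Sum.inl i)) = Sum.inl (Sum.inr i) := rfl
  rw [prodBasis, Basis.reindex_apply, h, Basis.prod_apply]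
  rfl

theorem prodBasis_rr (b : Basis (ι ⊕ ι) F V) (b' : Basis (κ ⊕ κ) F W) (k : κ) :
    prodBasis b b' (Sum.inr (Sum.inr k)) = (0, b' (Sum.inr k)) := by
  have h : (Equiv.sumSumSumComm ι ι κ κ).symm (Sum.inr (Sum.inr k)) = Sum.inr (Sum.inr k) := rfl
  rw [prodBasis, Basis.reindex_apply, h, Basis.prod_apply]
  rfl

theorem prodBasis_symp (B : LinearMap.BilinForm F V) (B' : LinearMap.BilinForm F W)
    (b : Basis (ι ⊕ ι) F V) (b' : Basis (κ ⊕ κ) F W)
    (hb : IsSympBasis B b) (hb' : IsSympBasis B' b') :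
    IsSympBasis (prodForm B B') (prodBasis b b') := by
  have hb1 : ∀ s t, B (b s) (b t) = Matrix.J ι F s t := hb
  have hb2 : ∀ s t, B' (b' s) (b' t) = Matrix.J κ F s t := hb'
  intro s t
  rcases s with (i | k) | (i | k) <;> rcases t with (j | l) | (j | l) <;>
    simp only [prodBasis_ll, prodBasis_lr, prodBasis_rl, prodBasis_rr, prodForm_apply, hb1, hb2,
      map_zero, LinearMap.zero_apply, add_zero, zero_add] <;>
    simp [Matrix.J, Matrix.one_apply]

/-- The sum of two representations. -/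
def prodHom2 (ρ : G →* Module.End F V) (ρ' : H →* Module.End F W) :
    G × H →* Module.End F (V × W) :=
  (LinearMap.prodMapRingHom F V W).toMonoidHom.comp (MonoidHom.prodMap ρ ρ')

theorem prodHom2_apply (ρ : G →* Module.End F V) (ρ' : H →* Module.End F W) (g : G × H)
    (x : V × W) : prodHom2 ρ ρ' g x = (ρ g.1 x.1, ρ' g.2 x.2) := rfl

theorem prodHom2_injective (ρ : G →* Module.End F V) (ρ' : H →* Module.End F W)
    (hρ : Function.Injective ρ) (hρ' : Function.Injective ρ') :
    Function.Injective (prodHom2 ρ ρ') := by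
  rintro ⟨g, h⟩ ⟨g', h'⟩ hh
  ext
  · apply hρ
    refine LinearMap.ext fun v => ?_
    exact congrArg (fun T : Module.End F (V × W) => (T (v, 0)).1) hh
  · apply hρ'
    refine LinearMap.ext fun v => ?_
    exact congrArg (fun T : Module.End F (V × W) => (T (0, v)).2) hh

theorem prodHom2_invariant (B : LinearMap.BilinForm F V) (B' : LinearMap.BilinForm F W)
    (ρ : G →* Module.End F V) (ρ' : H →* Module.End F W)
    (h : ∀ g u v, B (ρ g u) (ρ g v) = B u v) (h' : ∀ g u v, B' (ρ' g u) (ρ' g v) = B' u v)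
    (g : G × H) (x y : V × W) :
    prodForm B B' (prodHom2 ρ ρ' g x) (prodHom2 ρ ρ' g y) = prodForm B B' x y := by
  rw [prodForm_apply, prodForm_apply, prodHom2_apply, prodHom2_apply, h, h']

end prod

end Cfsg.Agent.Lib.Helper20.SympWreath
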