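import Mathlib
import Cfsg.Agent.Lib.Helper20.SylOrthA
import Cfsg.Agent.Lib.Helper20.SympProd

set_option autoImplicit false
set_option linter.style.haveILetI false
set_option linter.unusedSimpArgs false
set_option linter.unusedSectionVars false

/-!
Reflections, products of reflections with their spinor data, and their behaviour under
orthogonal sums.
-/

namespace Cfsg.Agent.Lib.Helper20.Orth

open RegularWreathProduct Cfsg.Agent.Lib.Helper20.WreathLin Cfsg.Agent.Lib.Helper20.SympWreath
  Cfsg.Agent.Lib.Helper20.SylModel Module

section basic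

variable {F : Type*} [Field F] {V : Type*} [AddCommGroup V] [Module F V]

/-- The reflection along `v`. -/
def refl (B : LinearMap.BilinForm F V) (v : V) : Module.End F V :=
  LinearMap.id - (2 * (B v v)⁻¹) • (B.flip v).smulRight v

theorem refl_apply (B : LinearMap.BilinForm F V) (v x : V) :
    refl B v x = x - (2 * (B v v)⁻¹ * B x v) • v := by
  simp [refl, LinearMap.smulRight_apply, mul_smul]

open Classical in
/-- The spinor data of a reflection. -/
noncomputable def spinVal (B : LinearMap.BilinForm F V) (v : V) : ℤˣ × ℤˣ :=
  if IsSquare (B v v) then (-1, 1) else (1, -1)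

theorem spinVal_sq (B : LinearMap.BilinForm F V) (v : V) : spinVal B v * spinVal B v = 1 := by
  unfold spinVal
  split_ifs <;> ext <;> simp

/-- `T` is a product of reflections with spinor data `a`. -/
def Spin (B : LinearMap.BilinForm F V) (T : Module.End F V) (a : ℤˣ × ℤˣ) : Prop :=
  ∃ vs : List V, (∀ v ∈ vs, B v v ≠ 0) ∧ T = (vs.map (refl B)).prod ∧
    a = (vs.map (spinVal B)).prod

theorem Spin.one (B : LinearMap.BilinForm F V) : Spin B 1 1 :=
  ⟨[], by simp, by simp, by simp⟩

theorem Spin.mul {B : LinearMap.BilinForm F V} {T T' : Module.End F V} {a a' : ℤˣ × ℤˣ}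
    (h : Spin B T a) (h' : Spin B T' a') : Spin B (T * T') (a * a') := by
  obtain ⟨vs, h1, h2, h3⟩ := h
  obtain ⟨vs', h1', h2', h3'⟩ := h'
  refine ⟨vs ++ vs', ?_, ?_, ?_⟩
  · intro v hv
    rcases List.mem_append.mp hv with h | h
    · exact h1 v h
    · exact h1' v h
  · rw [List.map_append, List.prod_append, ← h2, ← h2']
  · rw [List.map_append, List.prod_append, ← h3, ← h3']

theorem Spin.of_refl (B : LinearMap.BilinForm F V) (v : V) (hv : B v v ≠ 0) :
    Spin B (refl B v) (spinVal B v) :=
  ⟨[v], by simpa using hv, by simp, by simp⟩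

theorem Spin.map {V' : Type*} [AddCommGroup V'] [Module F V'] {B : LinearMap.BilinForm F V}
    (B' : LinearMap.BilinForm F V') (j : V → V') (E : Module.End F V →* Module.End F V')
    (hj : ∀ v, B' (j v) (j v) = B v v) (hE : ∀ v, B v v ≠ 0 → E (refl B v) = refl B' (j v))
    {T : Module.End F V} {a : ℤˣ × ℤˣ} (h : Spin B T a) : Spin B' (E T) a := by
  obtain ⟨vs, h1, h2, h3⟩ := h
  refine ⟨vs.map j, ?_, ?_, ?_⟩
  · intro v hv
    obtain ⟨u, hu, rfl⟩ := List.mem_map.mp hv
    rw [hj]
    exact h1 u hu
  · rw [h2, map_list_prod, List.map_map, List.map_map]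
    congr 1
    apply List.map_congr_left
    intro v hv
    exact hE v (h1 v hv)
  · rw [h3, List.map_map]
    congr 1
    apply List.map_congr_left
    intro v _
    show spinVal B v = spinVal B' (j v)
    unfold spinVal
    rw [hj]

end basic

section ortho

variable {F : Type*} [Field F] {V W : Type*} [AddCommGroup V] [Module F V] [AddCommGroup W]
  [Module F W] {ι κ : Type*} [Fintype ι] [DecidableEq ι] [Fintype κ] [DecidableEq κ]

/-- An orthonormal basis. -/
def IsOrthoBasis (B : LinearMap.BilinForm F V) (b : Basis ι F V) : Prop :=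
  ∀ s t, B (b s) (b t) = if s = t then 1 else 0

theorem sumForm_single_right {Q : Type*} [Group Q] [Fintype Q] [DecidableEq Q]
    (B : LinearMap.BilinForm F V) (f : Q → V) (x : Q) (v : V) :
    sumForm B f (Pi.single x v) = B (f x) v := by
  rw [sumForm_apply, Finset.sum_eq_single x]
  · rw [Pi.single_eq_same]
  · intro z _ hz
    rw [Pi.single_eq_of_ne hz, map_zero]
  · intro h
    exact absurd (Finset.mem_univ x) h

theorem wr_ortho {Q : Type*} [Group Q] [Fintype Q] [DecidableEq Q] (B : LinearMap.BilinForm F V)
    (b : Basis ι F V) (hb : IsOrthoBasis B b) :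
    IsOrthoBasis (sumForm (Q := Q) B) (Pi.basis fun _ : Q => b) := by
  rintro ⟨x, i⟩ ⟨y, j⟩
  rw [Pi.basis_apply, Pi.basis_apply, sumForm_single, hb]
  by_cases hxy : x = y
  · subst hxy
    by_cases hij : i = j
    · subst hij
      simp
    · have : (⟨x, i⟩ : Σ _ : Q, ι) ≠ ⟨x, j⟩ := by
        intro h
        apply hij
        simpa using h
      simp [hij, this]
  · have : (⟨x, i⟩ : Σ _ : Q, ι) ≠ ⟨y, j⟩ := by
      intro h
      apply hxy
      exact congrArg Sigma.fst h
    simp [hxy, this]

theorem prod_ortho (B : LinearMap.BilinForm F V) (B' : LinearMap.BilinForm F W)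
    (b : Basis ι F V) (b' : Basis κ F W) (hb : IsOrthoBasis B b) (hb' : IsOrthoBasis B' b') :
    IsOrthoBasis (prodForm B B') (b.prod b') := by
  have hl : ∀ i, (b.prod b') (Sum.inl i) = (b i, 0) := fun i => by
    rw [Basis.prod_apply]
    rfl
  have hr : ∀ k, (b.prod b') (Sum.inr k) = (0, b' k) := fun k => by
    rw [Basis.prod_apply]
    rfl
  rintro (i | k) (j | l)
  · rw [hl, hl, prodForm_apply]
    simp [hb i j]
  · rw [hl, hr, prodForm_apply]
    simp
  · rw [hr, hl, prodForm_apply]
    simp
  · rw [hr, hr, prodForm_apply]
    simp [hb' k l]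

end ortho

section coord

variable {F : Type*} [Field F] {V W : Type*} [AddCommGroup V] [Module F V] [AddCommGroup W]
  [Module F W] {Q : Type*} [Group Q] [Fintype Q] [DecidableEq Q]

/-- An endomorphism acting at one coordinate. -/
def coordEnd (x : Q) : Module.End F V →* Module.End F (Q → V) where
  toFun T :=
    { toFun := fun f => Function.update f x (T (f x))
      map_add' := by
        intro f g
        funext y
        by_cases h : y = x
        · subst h
          simp
        · simp [Function.update_of_ne h]
      map_smul' := by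
        intro c f
        funext y
        by_cases h : y = x
        · subst h
          simp
        · simp [Function.update_of_ne h] }
  map_one' := by
    refine LinearMap.ext fun f => ?_
    show Function.update f x (f x) = f
    exact Function.update_eq_self x f
  map_mul' S T := by
    refine LinearMap.ext fun f => ?_
    show Function.update f x ((S * T) (f x)) =
      Function.update (Function.update f x (T (f x))) x
        (S ((Function.update f x (T (f x))) x))
    rw [Function.update_self, Function.update_idem]
    rfl

theorem coordEnd_apply (x : Q) (T : Module.End F V) (f : Q → V) :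
    coordEnd x T f = Function.update f x (T (f x)) := rfl

theorem coordEnd_refl (B : LinearMap.BilinForm F V) (x : Q) (v : V) :
    coordEnd x (refl B v) = refl (sumForm (Q := Q) B) (Pi.single x v) := by
  refine LinearMap.ext fun f => funext fun y => ?_
  rw [coordEnd_apply, refl_apply, refl_apply, sumForm_single, if_pos rfl, sumForm_single_right]
  by_cases h : y = x
  · subst h
    simp
  · simp [Function.update_of_ne h, Pi.single_eq_of_ne h]

theorem Spin.coord {B : LinearMap.BilinForm F V} (x : Q) {T : Module.End F V} {a : ℤˣ × ℤˣ}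
    (h : Spin B T a) : Spin (sumForm (Q := Q) B) (coordEnd x T) a := by
  refine h.map (sumForm (Q := Q) B) (fun v => Pi.single x v) (coordEnd x) ?_ ?_
  · intro v
    rw [sumForm_single, if_pos rfl]
  · intro v _
    exact coordEnd_refl B x v

/-- An endomorphism acting on the first summand. -/
def leftEnd (V W : Type*) [AddCommGroup V] [Module F V] [AddCommGroup W] [Module F W] :
    Module.End F V →* Module.End F (V × W) :=
  (LinearMap.prodMapRingHom F V W).toMonoidHom.comp (MonoidHom.inl _ _)

/-- An endomorphism acting on the second summand. -/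
def rightEnd (V W : Type*) [AddCommGroup V] [Module F V] [AddCommGroup W] [Module F W] :
    Module.End F W →* Module.End F (V × W) :=
  (LinearMap.prodMapRingHom F V W).toMonoidHom.comp (MonoidHom.inr _ _)

theorem leftEnd_apply (T : Module.End F V) (p : V × W) : leftEnd V W T p = (T p.1, p.2) := rfl

theorem rightEnd_apply (T : Module.End F W) (p : V × W) : rightEnd V W T p = (p.1, T p.2) := rfl

theorem leftEnd_refl (B : LinearMap.BilinForm F V) (B' : LinearMap.BilinForm F W) (v : V) :
    leftEnd V W (refl B v) = refl (prodForm B B') (v, 0) := by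
  refine LinearMap.ext fun p => ?_
  rw [leftEnd_apply, refl_apply, refl_apply, prodForm_apply, prodForm_apply]
  ext <;> simp

theorem rightEnd_refl (B : LinearMap.BilinForm F V) (B' : LinearMap.BilinForm F W) (v : W) :
    rightEnd V W (refl B' v) = refl (prodForm B B') (0, v) := by
  refine LinearMap.ext fun p => ?_
  rw [rightEnd_apply, refl_apply, refl_apply, prodForm_apply, prodForm_apply]
  ext <;> simp

theorem Spin.left {B : LinearMap.BilinForm F V} (B' : LinearMap.BilinForm F W)
    {T : Module.End F V} {a : ℤˣ × ℤˣ} (h : Spin B T a) :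
    Spin (prodForm B B') (leftEnd V W T) a := by
  refine h.map (prodForm B B') (fun v => (v, 0)) (leftEnd V W) ?_ ?_
  · intro v
    rw [prodForm_apply]
    simp
  · intro v _
    exact leftEnd_refl B B' v

theorem Spin.right (B : LinearMap.BilinForm F V) {B' : LinearMap.BilinForm F W}
    {T : Module.End F W} {a : ℤˣ × ℤˣ} (h : Spin B' T a) :
    Spin (prodForm B B') (rightEnd V W T) a := by
  refine h.map (prodForm B B') (fun v => (0, v)) (rightEnd V W) ?_ ?_
  · intro v
    rw [prodForm_apply]
    simp
  · intro v _
    exact rightEnd_refl B B' v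

end coord

end Cfsg.Agent.Lib.Helper20.Orth
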