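import Mathlib
import Cfsg.Agent.Lib.Helper20.OrthSpin

set_option autoImplicit false
set_option linter.style.haveILetI false
set_option linter.unusedSimpArgs false
set_option linter.unusedSectionVars false

/-!
The wreath and product representations in terms of coordinate endomorphisms, and the swap as a
product of reflections.
-/

namespace Cfsg.Agent.Lib.Helper20.Orth

open RegularWreathProduct Cfsg.Agent.Lib.Helper20.WreathLin Cfsg.Agent.Lib.Helper20.SympWreath
  Cfsg.Agent.Lib.Helper20.SylModel Module

section rel

variable {F : Type*} [Field F] {V W : Type*} [AddCommGroup V] [Module F V] [AddCommGroup W]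
  [Module F W] {G H : Type*} [Group G] [Group H]

theorem wrHom_baseHom_eq (ρ : G →* Module.End F V) (f : C2 → G) :
    wrHom ρ (baseHom G C2 f) = coordEnd 1 (ρ (f 1)) * coordEnd tC (ρ (f tC)) := by
  refine LinearMap.ext fun v => funext fun x => ?_
  rw [wrHom_apply, baseHom_left, baseHom_right, inv_one, one_mul, Module.End.mul_apply,
    coordEnd_apply, coordEnd_apply]
  rcases C2_cases x with rfl | rfl
  · rw [Function.update_self, Function.update_of_ne one_ne_tC]
  · rw [Function.update_of_ne tC_ne_one, Function.update_self]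

theorem prodHom2_eq (ρ : G →* Module.End F V) (ρ' : H →* Module.End F W) (g : G × H) :
    prodHom2 ρ ρ' g = leftEnd V W (ρ g.1) * rightEnd V W (ρ' g.2) := by
  refine LinearMap.ext fun p => ?_
  rw [Module.End.mul_apply, leftEnd_apply, rightEnd_apply, prodHom2_apply]

end rel

section swap

variable {F : Type*} [Field F] {V : Type*} [AddCommGroup V] [Module F V]
  {ι : Type*} [Fintype ι] [DecidableEq ι] {G : Type*} [Group G]

/-- The difference vectors. -/
noncomputable def dvec (b : Basis ι F V) (i : ι) : C2 → V := Pi.single 1 (b i) - Pi.single tC (b i)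

theorem sumForm_dvec (B : LinearMap.BilinForm F V) (b : Basis ι F V) (hb : IsOrthoBasis B b)
    (i j : ι) : sumForm B (dvec b i) (dvec b j) = if i = j then 2 else 0 := by
  have hb' : ∀ s t, B (b s) (b t) = if s = t then 1 else 0 := hb
  unfold dvec
  simp only [map_sub, LinearMap.sub_apply, sumForm_single, hb', if_pos rfl, if_neg one_ne_tC,
    if_neg tC_ne_one]
  by_cases h : i = j
  · simp only [h, if_true]
    norm_num
  · simp [h]

theorem sumForm_single_dvec (B : LinearMap.BilinForm F V) (b : Basis ι F V)
    (hb : IsOrthoBasis B b) (x : C2) (i j : ι) :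
    sumForm B (Pi.single x (b j)) (dvec b i) =
      if i = j then (if x = 1 then 1 else -1) else 0 := by
  have hb' : ∀ s t, B (b s) (b t) = if s = t then 1 else 0 := hb
  unfold dvec
  simp only [map_sub, sumForm_single, hb']
  by_cases h : i = j
  · subst h
    rcases C2_cases x with rfl | rfl
    · simp [one_ne_tC]
    · simp [tC_ne_one]
  · have h' : j ≠ i := fun e => h e.symm
    simp [h, h']

theorem refl_dvec_single (B : LinearMap.BilinForm F V) (b : Basis ι F V)
    (hb : IsOrthoBasis B b) (h2 : (2 : F) ≠ 0) (x : C2) (i j : ι) :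
    refl (sumForm B) (dvec b i) (Pi.single x (b j)) =
      if i = j then Pi.single (tC * x) (b j) else Pi.single x (b j) := by
  rw [refl_apply, sumForm_dvec B b hb, if_pos rfl, sumForm_single_dvec B b hb]
  by_cases h : i = j
  · subst h
    rw [if_pos rfl, if_pos rfl, mul_inv_cancel₀ h2, one_mul]
    rcases C2_cases x with rfl | rfl
    · rw [if_pos rfl, one_smul, mul_one]
      unfold dvec
      abel
    · rw [if_neg tC_ne_one, neg_smul, one_smul, tC_mul_tC]
      unfold dvec
      abel
  · rw [if_neg h, if_neg h, mul_zero, zero_smul, sub_zero]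

theorem prod_refl_single (B : LinearMap.BilinForm F V) (b : Basis ι F V)
    (hb : IsOrthoBasis B b) (h2 : (2 : F) ≠ 0) (l : List ι) (hl : l.Nodup) (x : C2) (j : ι) :
    (l.map (fun i => refl (sumForm B) (dvec b i))).prod (Pi.single x (b j)) =
      if j ∈ l then Pi.single (tC * x) (b j) else Pi.single x (b j) := by
  induction l with
  | nil => simp
  | cons i l ih =>
    have hi : i ∉ l := (List.nodup_cons.mp hl).1
    rw [List.map_cons, List.prod_cons, Module.End.mul_apply, ih (List.nodup_cons.mp hl).2]
    by_cases hj : j ∈ l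
    · have hij : i ≠ j := fun h => hi (h ▸ hj)
      rw [if_pos hj, refl_dvec_single B b hb h2, if_neg hij, if_pos (List.mem_cons_of_mem _ hj)]
    · rw [if_neg hj, refl_dvec_single B b hb h2]
      by_cases hij : i = j
      · subst hij
        rw [if_pos rfl, if_pos List.mem_cons_self]
      · rw [if_neg hij, if_neg]
        intro h
        rcases List.mem_cons.mp h with h | h
        · exact hij h.symm
        · exact hj h

theorem swap_eq_prod (B : LinearMap.BilinForm F V) (b : Basis ι F V)
    (hb : IsOrthoBasis B b) (h2 : (2 : F) ≠ 0) (ρ : G →* Module.End F V) :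
    wrHom ρ (inl tC : G ≀ᵣ C2) =
      ((Finset.univ : Finset ι).toList.map (fun i => refl (sumForm B) (dvec b i))).prod := by
  apply (Pi.basis fun _ : C2 => b).ext
  rintro ⟨x, j⟩
  rw [Pi.basis_apply, prod_refl_single B b hb h2 _ (Finset.nodup_toList _),
    if_pos (Finset.mem_toList.mpr (Finset.mem_univ j))]
  funext y
  rw [wrHom_apply, left_inl, right_inl, Pi.one_apply, map_one, Module.End.one_apply, tC_inv]
  rcases C2_cases x with rfl | rfl <;> rcases C2_cases y with rfl | rfl <;>
    simp [Pi.single_apply, tC_mul_tC, tC_ne_one, one_ne_tC]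

theorem spin_swap (B : LinearMap.BilinForm F V) (b : Basis ι F V)
    (hb : IsOrthoBasis B b) (h2 : (2 : F) ≠ 0) (hev : Even (Fintype.card ι))
    (ρ : G →* Module.End F V) : Spin (sumForm B) (wrHom ρ (inl tC : G ≀ᵣ C2)) 1 := by
  refine ⟨(Finset.univ : Finset ι).toList.map (dvec b), ?_, ?_, ?_⟩
  · intro v hv
    obtain ⟨i, -, rfl⟩ := List.mem_map.mp hv
    rw [sumForm_dvec B b hb, if_pos rfl]
    exact h2
  · rw [swap_eq_prod B b hb h2 ρ, List.map_map]
    rfl
  · rw [List.map_map]
    have hc : ∀ i, (spinVal (sumForm B) ∘ dvec b) i = spinVal (sumForm B) (dvec b i) :=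
      fun i => rfl
    obtain ⟨u, huu, hu⟩ : ∃ u : ℤˣ × ℤˣ, u * u = 1 ∧
        ∀ i, spinVal (sumForm B) (dvec b i) = u := by
      classical
      refine ⟨if IsSquare (2 : F) then (-1, 1) else (1, -1), ?_, ?_⟩
      · split_ifs <;> ext <;> simp
      · intro i
        unfold spinVal
        rw [sumForm_dvec B b hb, if_pos rfl]
    rw [List.map_congr_left (fun i _ => (hc i).trans (hu i)), List.map_const', List.prod_replicate,
      Finset.length_toList, Finset.card_univ]
    obtain ⟨k, hk⟩ := hev
    rw [hk, ← two_mul, pow_mul, pow_two, huu, one_pow]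

end swap

end Cfsg.Agent.Lib.Helper20.Orth
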