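import Mathlib
import Cfsg.Agent.Lib.Helper5.SympCard

set_option autoImplicit false
set_option linter.style.haveILetI false
set_option linter.unusedSimpArgs false
set_option linter.unusedSectionVars false

/-!
The `2`-part of the order of `Sp_{2n}(q)`, `q` odd.
-/

namespace Cfsg.Agent.Lib.Helper20.SylModel

/-- The sum of the `2`-adic valuations of `1, …, n`. -/
def T2 (n : ℕ) : ℕ := ∑ i ∈ Finset.range n, padicValNat 2 (i + 1)

theorem T2_succ (n : ℕ) : T2 (n + 1) = T2 n + padicValNat 2 (n + 1) := by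
  unfold T2
  rw [Finset.sum_range_succ]

theorem T2_one : T2 1 = 0 := by
  simp [T2]

theorem v2_pow_add (k j : ℕ) (hj0 : 0 < j) (hj : j < 2 ^ k) :
    padicValNat 2 (2 ^ k + j) = padicValNat 2 j := by
  have key : ∀ t, 2 ^ t ∣ 2 ^ k + j ↔ 2 ^ t ∣ j := by
    intro t
    rcases le_or_gt t k with h | h
    · have h1 : 2 ^ t ∣ 2 ^ k := pow_dvd_pow 2 h
      exact (Nat.dvd_add_right h1)
    · have h1 : 2 ^ (k + 1) ≤ 2 ^ t := Nat.pow_le_pow_right (by norm_num) h
      rw [pow_succ] at h1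
      constructor
      · intro h2
        have := Nat.le_of_dvd (by omega) h2
        omega
      · intro h2
        have := Nat.le_of_dvd hj0 h2
        omega
  have hne : 2 ^ k + j ≠ 0 := by omega
  have hj0' : j ≠ 0 := by omega
  apply le_antisymm
  · rw [← padicValNat_dvd_iff_le hj0', ← key]
    exact pow_padicValNat_dvd
  · rw [← padicValNat_dvd_iff_le hne, key]
    exact pow_padicValNat_dvd

theorem T2_add (k m : ℕ) (hm : m < 2 ^ k) : T2 (2 ^ k + m) = T2 (2 ^ k) + T2 m := by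
  unfold T2
  rw [Finset.sum_range_add]
  congr 1
  apply Finset.sum_congr rfl
  intro i hi
  rw [Finset.mem_range] at hi
  rw [add_assoc]
  exact v2_pow_add k (i + 1) (by omega) (by omega)

theorem T2_pow_succ (k : ℕ) : T2 (2 ^ (k + 1)) = 2 * T2 (2 ^ k) + 1 := by
  obtain ⟨N, hN⟩ : ∃ N, 2 ^ k = N + 1 := ⟨2 ^ k - 1, by have := Nat.one_le_two_pow (n := k); omega⟩
  have h1 : T2 (2 ^ k) = T2 N + k := by
    rw [hN, T2_succ, ← hN, padicValNat.prime_pow]
  have h2 : T2 (2 ^ (k + 1)) = T2 (2 ^ k) + (T2 N + (k + 1)) := by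
    have e : 2 ^ (k + 1) = 2 ^ k + (N + 1) := by rw [pow_succ]; omega
    rw [e]
    unfold T2
    rw [Finset.sum_range_add, Finset.sum_range_succ]
    congr 2
    · apply Finset.sum_congr rfl
      intro i hi
      rw [Finset.mem_range] at hi
      rw [add_assoc]
      exact v2_pow_add k (i + 1) (by omega) (by omega)
    · have e2 : 2 ^ k + N + 1 = 2 ^ (k + 1) := by rw [pow_succ]; omega
      rw [e2, padicValNat.prime_pow]
  rw [h2, h1]
  ring

section order

variable {F : Type*} [Field F] [Fintype F]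

theorem v2_pow_sub_one (q : ℕ) (hq : Odd q) (hq1 : 1 < q) (i : ℕ) :
    padicValNat 2 (q ^ (2 * (i + 1)) - 1) = padicValNat 2 (q ^ 2 - 1) + padicValNat 2 (i + 1) := by
  have hq2 : ¬ 2 ∣ q := hq.not_two_dvd_nat
  have h1 := padicValNat.pow_two_sub_one hq1 hq2 (n := 2 * (i + 1)) (by omega) (even_two_mul _)
  have h2 := padicValNat.pow_two_sub_one hq1 hq2 (n := 2) (by omega) even_two
  have h3 : padicValNat 2 (2 * (i + 1)) = 1 + padicValNat 2 (i + 1) := by
    rw [padicValNat.mul (by norm_num) (by omega), padicValNat_self]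
  have h4 : padicValNat 2 2 = 1 := padicValNat_self
  rw [h3] at h1
  rw [h4] at h2
  omega

theorem v2_prod (q : ℕ) (hq : Odd q) (hq1 : 1 < q) (n : ℕ) :
    padicValNat 2 (∏ i ∈ Finset.range n, (q ^ (2 * (i + 1)) - 1)) =
      n * padicValNat 2 (q ^ 2 - 1) + T2 n := by
  induction n with
  | zero => simp [T2]
  | succ n ih =>
    have hne : ∀ i, q ^ (2 * (i + 1)) - 1 ≠ 0 := by
      intro i
      have : 1 < q ^ (2 * (i + 1)) := Nat.one_lt_pow (by omega) hq1
      omega
    rw [Finset.prod_range_succ, padicValNat.mul (Finset.prod_ne_zero_iff.mpr fun i _ => hne i)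
      (hne n), ih, v2_pow_sub_one q hq hq1 n, T2_succ]
    ring

theorem factorization_card_symplectic (hq : Odd (Fintype.card F)) (n : ℕ) :
    (Nat.card (Matrix.symplecticGroup (Fin n) F)).factorization 2 =
      n * padicValNat 2 (Fintype.card F ^ 2 - 1) + T2 n := by
  have hq1 : 1 < Fintype.card F := Fintype.one_lt_card
  rw [Cfsg.Agent.Lib.Helper5.card_symplecticGroup_fin, Nat.factorization_def _ Nat.prime_two]
  have hne1 : Fintype.card F ^ (n ^ 2) ≠ 0 := by positivity
  have hne : ∀ i, Fintype.card F ^ (2 * (i + 1)) - 1 ≠ 0 := by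
    intro i
    have : 1 < Fintype.card F ^ (2 * (i + 1)) := Nat.one_lt_pow (by omega) hq1
    omega
  have hnd : ¬ 2 ∣ Fintype.card F ^ (n ^ 2) := fun h =>
    hq.not_two_dvd_nat (Nat.prime_two.dvd_of_dvd_pow h)
  rw [padicValNat.mul hne1 (Finset.prod_ne_zero_iff.mpr fun i _ => hne i),
    padicValNat.eq_zero_of_not_dvd hnd, zero_add, v2_prod _ hq hq1 n]

theorem three_le_v2 (q : ℕ) (hq : Odd q) (hq1 : 1 < q) : 3 ≤ padicValNat 2 (q ^ 2 - 1) := by
  have h1 : 8 ∣ q ^ 2 - 1 := Nat.eight_dvd_sq_sub_one_of_odd hq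
  have hne : q ^ 2 - 1 ≠ 0 := by
    have : 1 < q ^ 2 := Nat.one_lt_pow (by omega) hq1
    omega
  have h2 : (2 : ℕ) ^ 3 ∣ q ^ 2 - 1 := by norm_num; exact h1
  exact (padicValNat_dvd_iff_le hne).mp h2

end order

end Cfsg.Agent.Lib.Helper20.SylModel
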