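import Mathlib
import Cfsg.Agent.S0016
import Cfsg.Agent.Lib.Helper20.SylModelB
import Cfsg.Agent.Lib.Helper20.SylModelNum
import Cfsg.Agent.Lib.Helper20.SympProd

set_option autoImplicit false
set_option linter.style.haveILetI false
set_option linter.unusedSimpArgs false
set_option linter.unusedSectionVars false

/-!
The Sylow `2`-subgroups of `Sp_2(q)`, `q` odd.
-/

namespace Cfsg.Agent.Lib.Helper20.SylModel

open Matrix
open scoped commutatorElement

theorem a_two_mul_mem {n : ℕ} [NeZero n] (j : ZMod (2 * n)) :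
    QuaternionGroup.a (j + j) ∈ commutator (QuaternionGroup n) := by
  have h : ⁅(QuaternionGroup.xa 0 : QuaternionGroup n), QuaternionGroup.a (-j)⁆ =
      QuaternionGroup.a (j + j) := by
    rw [commutatorElement_def, mul_inv_eq_iff_eq_mul, mul_inv_eq_iff_eq_mul]
    simp
  rw [← h]
  exact Subgroup.commutator_mem_commutator (Subgroup.mem_top _) (Subgroup.mem_top _)

theorem sqDer_quaternion (k : ℕ) : SqDer (QuaternionGroup (2 ^ (k + 1))) := by
  intro x
  rcases x with i | i
  · have : (QuaternionGroup.a i : QuaternionGroup (2 ^ (k + 1))) ^ 2 =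
        QuaternionGroup.a (i + i) := by
      rw [pow_two]; simp
    rw [this]
    exact a_two_mul_mem i
  · have : (QuaternionGroup.xa i : QuaternionGroup (2 ^ (k + 1))) ^ 2 =
        QuaternionGroup.a (((2 ^ k : ℕ) : ZMod (2 * 2 ^ (k + 1))) +
          ((2 ^ k : ℕ) : ZMod (2 * 2 ^ (k + 1)))) := by
      rw [pow_two]
      simp [pow_succ]
      ring
    rw [this]
    exact a_two_mul_mem _

theorem sp2_sq_eq_one {F : Type*} [Field F] (h2 : (2 : F) ≠ 0)
    (A : Matrix (Fin 1 ⊕ Fin 1) (Fin 1 ⊕ Fin 1) F) (hA : A ∈ Matrix.symplecticGroup (Fin 1) F)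
    (hsq : A * A = 1) : A = 1 ∨ A = -1 := by
  rw [SymplecticGroup.mem_iff] at hA
  have e1 := congrFun (congrFun hA (Sum.inl 0)) (Sum.inr 0)
  have s11 := congrFun (congrFun hsq (Sum.inl 0)) (Sum.inl 0)
  have s12 := congrFun (congrFun hsq (Sum.inl 0)) (Sum.inr 0)
  have s21 := congrFun (congrFun hsq (Sum.inr 0)) (Sum.inl 0)
  simp [Matrix.mul_apply, Fintype.sum_sum_type, Matrix.J, Matrix.one_apply] at e1 s11 s12 s21
  set a := A (Sum.inl 0) (Sum.inl 0) with ha
  set b := A (Sum.inl 0) (Sum.inr 0) with hb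
  set c := A (Sum.inr 0) (Sum.inl 0) with hc
  set d := A (Sum.inr 0) (Sum.inr 0) with hd
  have hs : a * (a + d) = 2 := by linear_combination s11 - e1
  have hsne : a + d ≠ 0 := by
    intro h
    rw [h, mul_zero] at hs
    exact h2 hs.symm
  have hb0 : b = 0 := by
    have : b * (a + d) = 0 := by linear_combination s12
    exact (mul_eq_zero.mp this).resolve_right hsne
  have hc0 : c = 0 := by
    have : c * (a + d) = 0 := by linear_combination s21
    exact (mul_eq_zero.mp this).resolve_right hsne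
  have ha2 : a * a = 1 := by
    rw [hb0, zero_mul, add_zero] at s11
    exact s11
  have had : a * d = 1 := by
    rw [hb0, zero_mul, zero_add] at e1
    linear_combination -e1
  have hane : a ≠ 0 := by
    intro h
    rw [h, zero_mul] at ha2
    exact zero_ne_one ha2
  have hda : d = a := mul_left_cancel₀ hane (had.trans ha2.symm)
  have ha1 : a = 1 ∨ a = -1 := by
    have : (a - 1) * (a + 1) = 0 := by linear_combination ha2
    rcases mul_eq_zero.mp this with h | h
    · left; linear_combination h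
    · right; linear_combination h
  have hent : ∀ i j : Fin 1 ⊕ Fin 1, A i j = if i = j then a else 0 := by
    intro i j
    rcases i with i | i <;> rcases j with j | j <;>
      rw [Subsingleton.elim i 0, Subsingleton.elim j 0]
    · simp [ha]
    · simp [← hb, hb0]
    · simp [← hc, hc0]
    · simp [← hd, hda]
  rcases ha1 with h | h
  · left
    ext i j
    rw [hent, h, Matrix.one_apply]
  · right
    ext i j
    rw [hent, h, Matrix.neg_apply, Matrix.one_apply]
    split_ifs <;> simp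

section base

variable {F : Type*} [Field F] [Fintype F]

/-- Elements of square one in a subgroup of `Sp_2`. -/
theorem sq_cases (h2 : (2 : F) ≠ 0) (Q : Subgroup ↥(Matrix.symplecticGroup (Fin 1) F)) (x : ↥Q)
    (hx : x ^ 2 = 1) :
    ((x : ↥(Matrix.symplecticGroup (Fin 1) F)) : Matrix (Fin 1 ⊕ Fin 1) (Fin 1 ⊕ Fin 1) F) = 1 ∨
    ((x : ↥(Matrix.symplecticGroup (Fin 1) F)) : Matrix (Fin 1 ⊕ Fin 1) (Fin 1 ⊕ Fin 1) F) = -1 := by
  apply sp2_sq_eq_one h2 _ (x : ↥(Matrix.symplecticGroup (Fin 1) F)).2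
  have h1 := congrArg (fun y : ↥Q =>
    ((y : ↥(Matrix.symplecticGroup (Fin 1) F)) : Matrix (Fin 1 ⊕ Fin 1) (Fin 1 ⊕ Fin 1) F)) hx
  rw [pow_two] at h1
  exact h1

theorem eq_of_sq (h2 : (2 : F) ≠ 0) (Q : Subgroup ↥(Matrix.symplecticGroup (Fin 1) F))
    (x y : ↥Q) (hx : x ^ 2 = 1) (hy : y ^ 2 = 1) (hx1 : x ≠ 1) (hy1 : y ≠ 1) : x = y := by
  have hx' := sq_cases h2 Q x hx
  have hy' := sq_cases h2 Q y hy
  have hx'' := hx'.resolve_left (fun h => hx1 (Subtype.ext (Subtype.ext h)))
  have hy'' := hy'.resolve_left (fun h => hy1 (Subtype.ext (Subtype.ext h)))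
  exact Subtype.ext (Subtype.ext (hx''.trans hy''.symm))

theorem uniqP_base (h2 : (2 : F) ≠ 0) (Q : Subgroup ↥(Matrix.symplecticGroup (Fin 1) F)) :
    Cfsg.Agent.S0016.UniqP 2 ↥Q := by
  intro x y hx1 hx hy
  by_cases hy1 : y = 1
  · rw [hy1]
    exact one_mem _
  · rw [← eq_of_sq h2 Q x y hx hy hx1 hy1]
    exact Subgroup.mem_zpowers x

theorem nrle_base (h2 : (2 : F) ≠ 0) (Q : Subgroup ↥(Matrix.symplecticGroup (Fin 1) F)) :
    NRle ↥Q 1 := by
  classical
  intro E _ hE
  have hinj : Function.Injective (fun e : ↥E => decide ((e : ↥Q) = 1)) := by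
    intro e e' h
    have h' : decide ((e : ↥Q) = 1) = decide ((e' : ↥Q) = 1) := h
    by_cases h1 : (e : ↥Q) = 1
    · have h3 : (e' : ↥Q) = 1 := by simpa [h1] using h'
      exact Subtype.ext (h1.trans h3.symm)
    · have h3 : (e' : ↥Q) ≠ 1 := by
        intro h4
        simp [h1, h4] at h'
      exact Subtype.ext (eq_of_sq h2 Q _ _ (hE.2 _ e.2) (hE.2 _ e'.2) h1 h3)
  have h1 := Nat.card_le_card_of_injective _ hinj
  rw [Nat.card_eq_fintype_card (α := Bool), Fintype.card_bool] at h1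
  simpa using h1

theorem card_sylow_base (hq : Odd (Fintype.card F))
    (Q : Sylow 2 ↥(Matrix.symplecticGroup (Fin 1) F)) :
    Nat.card ↥(Q : Subgroup ↥(Matrix.symplecticGroup (Fin 1) F)) =
      2 ^ (1 * padicValNat 2 (Fintype.card F ^ 2 - 1) + T2 1) := by
  rw [Sylow.card_eq_multiplicity, factorization_card_symplectic hq 1]

theorem exists_sq_ne_one_base (hq : Odd (Fintype.card F)) (h2 : (2 : F) ≠ 0)
    (Q : Sylow 2 ↥(Matrix.symplecticGroup (Fin 1) F)) :
    ∃ d : ↥(Q : Subgroup ↥(Matrix.symplecticGroup (Fin 1) F)), d ^ 2 ≠ 1 := by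
  by_contra hcon
  push Not at hcon
  have hcomm : ∀ a b : ↥(Q : Subgroup ↥(Matrix.symplecticGroup (Fin 1) F)), a * b = b * a := by
    intro a b
    have h1 := hcon (a * b)
    have h3 : a * b = (a * b)⁻¹ := by
      rw [eq_inv_iff_mul_eq_one, ← pow_two]
      exact h1
    have ha : a⁻¹ = a := by
      rw [inv_eq_iff_mul_eq_one, ← pow_two]
      exact hcon a
    have hb : b⁻¹ = b := by
      rw [inv_eq_iff_mul_eq_one, ← pow_two]
      exact hcon b
    rw [h3, _root_.mul_inv_rev, ha, hb]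
  have h1 := nrle_base h2 (Q : Subgroup ↥(Matrix.symplecticGroup (Fin 1) F)) ⊤ inferInstance
    (isElementaryAbelian_of ⊤ (fun a _ b _ => hcomm a b) (fun a _ => hcon a))
  rw [Subgroup.card_top, card_sylow_base hq Q] at h1
  have h3 := three_le_v2 (Fintype.card F) hq Fintype.one_lt_card
  have h4 : 2 ^ 3 ≤ 2 ^ (1 * padicValNat 2 (Fintype.card F ^ 2 - 1) + T2 1) :=
    Nat.pow_le_pow_right (by norm_num) (by omega)
  omega

theorem hasNEA_of_pgroup {G : Type*} [Group G] [Finite G] [Nontrivial G] (hG : IsPGroup 2 G) :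
    HasNEA G 1 := by
  haveI := hG.center_nontrivial
  have hc : IsPGroup 2 ↥(Subgroup.center G) := hG.to_subgroup _
  obtain ⟨m, hm⟩ := IsPGroup.iff_card.mp hc
  have hm0 : m ≠ 0 := by
    intro h
    rw [h, pow_zero] at hm
    have := Finite.one_lt_card (α := ↥(Subgroup.center G))
    omega
  have hdvd : 2 ∣ Nat.card ↥(Subgroup.center G) := by
    rw [hm]
    exact dvd_pow_self 2 hm0
  obtain ⟨z, hz⟩ := exists_prime_orderOf_dvd_card' 2 hdvd
  have hzc : ∀ g : G, g * (z : G) = (z : G) * g := fun g => (Subgroup.mem_center_iff.mp z.2 g)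
  have hz2 : orderOf (z : G) = 2 := by
    rw [Subgroup.orderOf_coe]
    exact hz
  refine ⟨Subgroup.zpowers (z : G), ?_, ?_, ?_⟩
  · constructor
    intro x hx g
    obtain ⟨k, rfl⟩ := Subgroup.mem_zpowers_iff.mp hx
    have : g * (z : G) ^ k * g⁻¹ = (z : G) ^ k := by
      have h1 : Commute g ((z : G) ^ k) := (Commute.zpow_right (hzc g) k)
      rw [h1.eq, mul_inv_cancel_right]
    rw [this]
    exact Subgroup.zpow_mem_zpowers _ k
  · apply isElementaryAbelian_of
    · intro a ha b hb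
      obtain ⟨k, rfl⟩ := Subgroup.mem_zpowers_iff.mp ha
      obtain ⟨l, rfl⟩ := Subgroup.mem_zpowers_iff.mp hb
      rw [← _root_.zpow_add, ← _root_.zpow_add, add_comm]
    · intro a ha
      obtain ⟨k, rfl⟩ := Subgroup.mem_zpowers_iff.mp ha
      have h1 : (z : G) ^ 2 = 1 := by
        rw [← hz2]
        exact pow_orderOf_eq_one _
      rw [← zpow_natCast, ← _root_.zpow_mul, mul_comm, _root_.zpow_mul, zpow_natCast, h1, _root_.one_zpow]
  · rw [Nat.card_zpowers, hz2, pow_one]

theorem sqDer_base [DecidableEq F] (hq : Odd (Fintype.card F)) (h2 : (2 : F) ≠ 0)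
    (Q : Sylow 2 ↥(Matrix.symplecticGroup (Fin 1) F)) :
    SqDer ↥(Q : Subgroup ↥(Matrix.symplecticGroup (Fin 1) F)) := by
  haveI : Finite ↥(Matrix.symplecticGroup (Fin 1) F) := inferInstance
  haveI : CharP F (ringChar F) := ringChar.charP F
  haveI : NeZero (ringChar F) := ⟨(CharP.char_is_prime F (ringChar F)).ne_zero⟩
  obtain ⟨a, b, hab⟩ := CharP.sq_add_sq F (ringChar F) (-1)
  have hab' : (a : F) ^ 2 + (b : F) ^ 2 = -1 := by simpa using hab
  let φ := Cfsg.Agent.Lib.Helper20.SympWreath.quatHom (ι := Fin 1) (a : F) (b : F) hab'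
  have hφ : Function.Injective φ :=
    Cfsg.Agent.Lib.Helper20.SympWreath.quatHom_injective h2 (a : F) (b : F) hab'
  have hpG : IsPGroup 2 (QuaternionGroup 2) := by
    apply IsPGroup.of_card (n := 3)
    rw [Nat.card_eq_fintype_card, QuaternionGroup.card]
    norm_num
  have hQ' : IsPGroup 2 φ.range := hpG.of_surjective φ.rangeRestrict φ.rangeRestrict_surjective
  obtain ⟨P', hP'⟩ := hQ'.exists_le_sylow
  let f : QuaternionGroup 2 →* ↥(Q : Subgroup ↥(Matrix.symplecticGroup (Fin 1) F)) :=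
    (Sylow.equiv P' Q).toMonoidHom.comp ((Subgroup.inclusion hP').comp φ.rangeRestrict)
  have hf : Function.Injective f := by
    intro x y hxy
    have h1 : (Subgroup.inclusion hP') (φ.rangeRestrict x) =
        (Subgroup.inclusion hP') (φ.rangeRestrict y) := (Sylow.equiv P' Q).injective hxy
    have h3 := Subgroup.inclusion_injective hP' h1
    apply hφ
    exact congrArg Subtype.val h3
  rcases Cfsg.Agent.S0016.two_case Q.isPGroup'
    (uniqP_base h2 (Q : Subgroup ↥(Matrix.symplecticGroup (Fin 1) F))) with hcyc | ⟨n, ⟨e⟩⟩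
  · exfalso
    haveI := hcyc
    have h1 : f (QuaternionGroup.a 1) * f (QuaternionGroup.xa 0) =
        f (QuaternionGroup.xa 0) * f (QuaternionGroup.a 1) := by
      obtain ⟨g, hg⟩ := IsCyclic.exists_generator
        (α := ↥(Q : Subgroup ↥(Matrix.symplecticGroup (Fin 1) F)))
      obtain ⟨k, hk⟩ := Subgroup.mem_zpowers_iff.mp (hg (f (QuaternionGroup.a 1)))
      obtain ⟨l, hl⟩ := Subgroup.mem_zpowers_iff.mp (hg (f (QuaternionGroup.xa 0)))
      rw [← hk, ← hl, ← _root_.zpow_add, ← _root_.zpow_add, add_comm]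
    rw [← map_mul, ← map_mul] at h1
    exact absurd (hf h1) (by decide)
  · have hcard := card_sylow_base hq Q
    rw [Nat.card_congr e.toEquiv, Nat.card_eq_fintype_card, QuaternionGroup.card] at hcard
    have h3 := three_le_v2 (Fintype.card F) hq Fintype.one_lt_card
    have hn : n ≠ 0 := by
      intro h
      rw [h, pow_zero, mul_one] at hcard
      have h4 : 2 ^ 3 ≤ 2 ^ (1 * padicValNat 2 (Fintype.card F ^ 2 - 1) + T2 1) :=
        Nat.pow_le_pow_right (by norm_num) (by omega)
      omega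
    obtain ⟨k, rfl⟩ : ∃ k, n = k + 1 := ⟨n - 1, by omega⟩
    exact (sqDer_quaternion k).of_mulEquiv e.symm

end base

end Cfsg.Agent.Lib.Helper20.SylModel
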