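import Mathlib
import Cfsg.Agent.Lib.Helper20.SylModelBase

set_option autoImplicit false
set_option linter.style.haveILetI false
set_option linter.unusedSimpArgs false
set_option linter.unusedSectionVars false

/-!
A model for the Sylow `2`-subgroups of `Sp_{2n}(q)`, `q` odd.
-/

namespace Cfsg.Agent.Lib.Helper20.SylModel

open RegularWreathProduct Cfsg.Agent.Lib.Helper20.WreathLin Cfsg.Agent.Lib.Helper20.SympWreath
  Module

universe u

/-- A `2`-group of order `2 ^ c` with a faithful symplectic representation of degree `2 n` and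
the three properties of `SylModelA`. -/
def IsModel (F : Type u) [Field F] (n c : ℕ) (G : Type u) [Group G] : Prop :=
  Finite G ∧ 0 < n ∧ Nat.card G = 2 ^ c ∧ SqDer G ∧ HasNEA G n ∧ NRle G n ∧ (∃ d : G, d ^ 2 ≠ 1) ∧
  ∃ (ι : Type) (_ : Fintype ι) (_ : DecidableEq ι) (V : Type u) (_ : AddCommGroup V)
    (_ : Module F V) (B : LinearMap.BilinForm F V) (bs : Basis (ι ⊕ ι) F V)
    (ρ : G →* Module.End F V),
    Function.Injective ρ ∧ Fintype.card ι = n ∧ IsSympBasis B bs ∧
      ∀ g u v, B (ρ g u) (ρ g v) = B u v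

section steps

variable {F : Type u} [Field F]

theorem IsModel.wreath {n c : ℕ} {G : Type u} [Group G] (h : IsModel F n c G) :
    IsModel F (2 * n) (2 * c + 1) (G ≀ᵣ C2) := by
  obtain ⟨hfin, hn, hcard, hsq, hnea, hnr, ⟨d, hd⟩, ι, hι1, hι2, V, hV1, hV2, B, bs, ρ, hinj,
    hcι, hsymp, hinv⟩ := h
  haveI := hfin
  have hVne : ∃ v : V, v ≠ 0 := by
    have h0 : 0 < Fintype.card ι := by
      rw [hcι]
      exact hn
    obtain ⟨i⟩ := Fintype.card_pos_iff.mp h0
    exact ⟨bs (Sum.inl i), bs.ne_zero _⟩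
  refine ⟨inferInstance, by omega, ?_, hsq.wreath, hnea.wreath, hnr.wreath d hd,
    exists_sq_ne_one_wreath d hd, C2 × ι, inferInstance, inferInstance, C2 → V, inferInstance,
    inferInstance, sumForm B, wrBasis bs, wrHom ρ, wrHom_injective ρ hinj hVne, ?_,
    wrBasis_symp B bs hsymp, ?_⟩
  · rw [RegularWreathProduct.card, hcard, card_C2, ← pow_mul, pow_succ]
    ring
  · rw [Fintype.card_prod, Fintype.card_multiplicative, ZMod.card, hcι]
  · intro w f g
    exact sumForm_wrHom B ρ hinv w f g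

theorem IsModel.prod {n c m c' : ℕ} {G H : Type u} [Group G] [Group H] (h : IsModel F n c G)
    (h' : IsModel F m c' H) : IsModel F (n + m) (c + c') (G × H) := by
  obtain ⟨hfin, hn, hcard, hsq, hnea, hnr, ⟨d, hd⟩, ι, hι1, hι2, V, hV1, hV2, B, bs, ρ, hinj,
    hcι, hsymp, hinv⟩ := h
  obtain ⟨hfin', hn', hcard', hsq', hnea', hnr', -, κ, hκ1, hκ2, W, hW1, hW2, B', bs', ρ', hinj',
    hcκ, hsymp', hinv'⟩ := h'
  haveI := hfin
  haveI := hfin'
  refine ⟨inferInstance, by omega, ?_, hsq.prod hsq', hnea.prod hnea', hnr.prod hnr',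
    ⟨(d, 1), ?_⟩, ι ⊕ κ, inferInstance, inferInstance, V × W, inferInstance, inferInstance,
    prodForm B B', prodBasis bs bs', prodHom2 ρ ρ', prodHom2_injective ρ ρ' hinj hinj', ?_,
    prodBasis_symp B B' bs bs' hsymp hsymp', prodHom2_invariant B B' ρ ρ' hinv hinv'⟩
  · rw [Nat.card_prod, hcard, hcard', pow_add]
  · intro h
    exact hd (congrArg Prod.fst h)
  · rw [Fintype.card_sum, hcι, hcκ]

theorem IsModel.of_eq {n c n' c' : ℕ} {G : Type u} [Group G] (h : IsModel F n c G)
    (hn : n = n') (hc : c = c') : IsModel F n' c' G := by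
  subst hn
  subst hc
  exact h

end steps

section build

variable {F : Type u} [Field F] [Fintype F]

theorem isModel_base [DecidableEq F] (hq : Odd (Fintype.card F))
    (Q : Sylow 2 ↥(Matrix.symplecticGroup (Fin 1) F)) :
    IsModel F 1 (1 * padicValNat 2 (Fintype.card F ^ 2 - 1) + T2 1)
      ↥(Q : Subgroup ↥(Matrix.symplecticGroup (Fin 1) F)) := by
  have h2 : (2 : F) ≠ 0 := two_ne_zero_of_odd_card _ rfl hq
  haveI : Finite ↥(Matrix.symplecticGroup (Fin 1) F) := inferInstance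
  obtain ⟨d, hd⟩ := exists_sq_ne_one_base hq h2 Q
  haveI : Nontrivial ↥(Q : Subgroup ↥(Matrix.symplecticGroup (Fin 1) F)) := by
    refine ⟨⟨d, 1, ?_⟩⟩
    intro h
    rw [h, one_pow] at hd
    exact hd rfl
  refine ⟨inferInstance, Nat.one_pos, card_sylow_base hq Q, sqDer_base hq h2 Q,
    hasNEA_of_pgroup Q.isPGroup', nrle_base h2 _, ⟨d, hd⟩, Fin 1, inferInstance, inferInstance,
    (Fin 1 ⊕ Fin 1 → F), inferInstance, inferInstance, stdForm F (Fin 1),
    Pi.basisFun F (Fin 1 ⊕ Fin 1),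
    (spAct F (Fin 1)).comp (Q : Subgroup ↥(Matrix.symplecticGroup (Fin 1) F)).subtype,
    spAct_injective.comp Subtype.val_injective, by simp, stdForm_symp, ?_⟩
  intro g u v
  exact stdForm_invariant _ (g : ↥(Matrix.symplecticGroup (Fin 1) F)).2 u v

theorem exists_model_pow [DecidableEq F] (hq : Odd (Fintype.card F)) (k : ℕ) :
    ∃ (G : Type u) (_ : Group G),
      IsModel F (2 ^ k) (2 ^ k * padicValNat 2 (Fintype.card F ^ 2 - 1) + T2 (2 ^ k)) G := by
  induction k with
  | zero =>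
    haveI : Finite ↥(Matrix.symplecticGroup (Fin 1) F) := inferInstance
    obtain ⟨Q⟩ : Nonempty (Sylow 2 ↥(Matrix.symplecticGroup (Fin 1) F)) := inferInstance
    exact ⟨↥(Q : Subgroup ↥(Matrix.symplecticGroup (Fin 1) F)), inferInstance,
      (isModel_base hq Q).of_eq (by norm_num) (by norm_num)⟩
  | succ k ih =>
    obtain ⟨G, hG, hm⟩ := ih
    refine ⟨G ≀ᵣ C2, inferInstance, hm.wreath.of_eq (by rw [pow_succ]; ring) ?_⟩
    rw [T2_pow_succ, pow_succ]
    ring

theorem exists_model [DecidableEq F] (hq : Odd (Fintype.card F)) :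
    ∀ n : ℕ, 1 ≤ n → ∃ (G : Type u) (_ : Group G),
      IsModel F n (n * padicValNat 2 (Fintype.card F ^ 2 - 1) + T2 n) G := by
  intro n
  induction n using Nat.strong_induction_on with
  | _ n ih =>
    intro hn
    have hk1 : 2 ^ Nat.log 2 n ≤ n := Nat.pow_log_le_self 2 (by omega)
    have hk2 : n < 2 ^ (Nat.log 2 n + 1) := Nat.lt_pow_succ_log_self (by norm_num) n
    set k := Nat.log 2 n with hk
    obtain ⟨m, hm⟩ : ∃ m, n = 2 ^ k + m := ⟨n - 2 ^ k, by omega⟩
    have hmk : m < 2 ^ k := by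
      rw [pow_succ] at hk2
      omega
    obtain ⟨G, hG, hGm⟩ := exists_model_pow (F := F) hq k
    by_cases hm0 : m = 0
    · rw [hm0, add_zero] at hm
      rw [hm]
      exact ⟨G, hG, hGm⟩
    · have hmn : m < n := by
        have := Nat.one_le_two_pow (n := k)
        omega
      obtain ⟨H, hH, hHm⟩ := ih m hmn (by omega)
      refine ⟨G × H, inferInstance, (hGm.prod hHm).of_eq hm.symm ?_⟩
      rw [hm, T2_add k m hmk]
      ring

end build

section final

variable {F : Type u} [Field F] [Fintype F]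

theorem sylow_model [DecidableEq F] (hq : Odd (Fintype.card F)) (n : ℕ) (hn : 1 ≤ n)
    (P : Sylow 2 ↥(Matrix.symplecticGroup (Fin n) F)) :
    SqDer ↥(P : Subgroup ↥(Matrix.symplecticGroup (Fin n) F)) ∧
    HasNEA ↥(P : Subgroup ↥(Matrix.symplecticGroup (Fin n) F)) n ∧
    NRle ↥(P : Subgroup ↥(Matrix.symplecticGroup (Fin n) F)) n := by
  obtain ⟨G, hG, hfin, -, hcard, hsq, hnea, hnr, -, ι, hι1, hι2, V, hV1, hV2, B, bs, ρ, hinj,
    hcι, hsymp, hinv⟩ := exists_model (F := F) hq n hn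
  haveI := hfin
  haveI : Finite ↥(Matrix.symplecticGroup (Fin n) F) := inferInstance
  obtain ⟨φ, hφ⟩ := exists_symp_embedding (Fintype.equivFinOfCardEq hcι) B bs hsymp ρ hinj hinv
  have hcr : Nat.card φ.range = 2 ^ (Nat.card ↥(Matrix.symplecticGroup (Fin n) F)).factorization 2 := by
    rw [factorization_card_symplectic hq n, ← hcard]
    exact (Nat.card_congr (MonoidHom.ofInjective hφ).toEquiv).symm
  let P' : Sylow 2 ↥(Matrix.symplecticGroup (Fin n) F) := Sylow.ofCard φ.range hcr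
  let e : G ≃* ↥(P : Subgroup ↥(Matrix.symplecticGroup (Fin n) F)) :=
    (MonoidHom.ofInjective hφ).trans (Sylow.equiv P' P)
  exact ⟨hsq.of_mulEquiv e, hnea.of_mulEquiv e, hnr.of_mulEquiv e⟩

end final

end Cfsg.Agent.Lib.Helper20.SylModel
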