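import Mathlib
import Cfsg.Agent.Lib.Helper20.SylModelNum

set_option autoImplicit false
set_option linter.style.haveILetI false
set_option linter.unusedSimpArgs false
set_option linter.unusedSectionVars false

/-!
The `2`-part of the order of `GL_n(q)`, `q` odd.
-/

namespace Cfsg.Agent.Lib.Helper20.SylModel

/-- The sum of the `2`-adic valuations of `q ^ j - 1`, `1 ≤ j ≤ n`. -/
def A2 (q n : ℕ) : ℕ := ∑ j ∈ Finset.range n, padicValNat 2 (q ^ (j + 1) - 1)

theorem A2_succ (q n : ℕ) : A2 q (n + 1) = A2 q n + padicValNat 2 (q ^ (n + 1) - 1) := by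
  unfold A2
  rw [Finset.sum_range_succ]

theorem v2_pow_odd (q : ℕ) (hq : Odd q) (hq1 : 1 < q) (t : ℕ) :
    padicValNat 2 (q ^ (2 * t + 1) - 1) = padicValNat 2 (q - 1) := by
  have h1 := geom_sum_mul_of_one_le (x := q) (by omega) (2 * t + 1)
  have hodd : Odd (∑ i ∈ Finset.range (2 * t + 1), q ^ i) := by
    rw [Finset.odd_sum_iff_odd_card_odd]
    have : (Finset.range (2 * t + 1)).filter (fun i => Odd (q ^ i)) = Finset.range (2 * t + 1) := by
      apply Finset.filter_true_of_mem
      intro i _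
      exact hq.pow
    rw [this, Finset.card_range]
    exact ⟨t, rfl⟩
  have hne : (∑ i ∈ Finset.range (2 * t + 1), q ^ i) ≠ 0 := by
    intro h
    rw [h] at hodd
    exact absurd hodd (by decide)
  rw [← h1, padicValNat.mul hne (by omega),
    padicValNat.eq_zero_of_not_dvd hodd.not_two_dvd_nat, zero_add]

theorem A2_even_odd (q : ℕ) (hq : Odd q) (hq1 : 1 < q) (m : ℕ) :
    A2 q (2 * m) = m * padicValNat 2 (q - 1) + m * padicValNat 2 (q ^ 2 - 1) + T2 m ∧
    A2 q (2 * m + 1) =
      (m + 1) * padicValNat 2 (q - 1) + m * padicValNat 2 (q ^ 2 - 1) + T2 m := by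
  induction m with
  | zero =>
    refine ⟨by simp [A2, T2], ?_⟩
    have := v2_pow_odd q hq hq1 0
    simp only [mul_zero, zero_add, pow_one] at this
    simp [A2, T2]
  | succ m ih =>
    obtain ⟨ih1, ih2⟩ := ih
    have e1 : A2 q (2 * (m + 1)) = m.succ * padicValNat 2 (q - 1) +
        m.succ * padicValNat 2 (q ^ 2 - 1) + T2 m.succ := by
      have : 2 * (m + 1) = (2 * m + 1) + 1 := by ring
      rw [this, A2_succ, ih2, ← this, v2_pow_sub_one q hq hq1 m, T2_succ]
      simp only [Nat.succ_eq_add_one]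
      ring
    refine ⟨e1, ?_⟩
    rw [A2_succ, e1, v2_pow_odd q hq hq1 (m + 1)]
    simp only [Nat.succ_eq_add_one]
    ring

theorem T2_two_mul (m : ℕ) : T2 (2 * m) = m + T2 m := by
  induction m with
  | zero => simp [T2]
  | succ m ih =>
    have : 2 * (m + 1) = (2 * m + 1) + 1 := by ring
    rw [this, T2_succ, T2_succ, ih, ← this, T2_succ]
    have h1 : padicValNat 2 (2 * m + 1) = 0 :=
      padicValNat.eq_zero_of_not_dvd (by omega)
    have h2 : padicValNat 2 (2 * (m + 1)) = 1 + padicValNat 2 (m + 1) := by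
      rw [padicValNat.mul (by norm_num) (by omega), padicValNat_self]
    rw [h1, h2]
    ring

theorem v2_sq_sub_one (q : ℕ) (hq1 : 1 < q) :
    padicValNat 2 (q ^ 2 - 1) = padicValNat 2 (q - 1) + padicValNat 2 (q + 1) := by
  have h : q ^ 2 - 1 = (q - 1) * (q + 1) := by
    obtain ⟨r, rfl⟩ : ∃ r, q = r + 1 := ⟨q - 1, by omega⟩
    simp only [Nat.add_sub_cancel]
    have : (r + 1) ^ 2 = r * (r + 1 + 1) + 1 := by ring
    rw [this, Nat.add_sub_cancel]
  rw [h, padicValNat.mul (by omega) (by omega)]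

theorem v2_of_mod_four (x : ℕ) (hx : x % 4 = 2) : padicValNat 2 x = 1 := by
  obtain ⟨r, rfl⟩ : ∃ r, x = 2 * (2 * r + 1) := ⟨x / 4, by omega⟩
  rw [padicValNat.mul (by norm_num) (by omega), padicValNat_self,
    padicValNat.eq_zero_of_not_dvd (by omega)]

section order

variable {F : Type*} [Field F] [Fintype F]

theorem factorization_card_GL (hq : Odd (Fintype.card F)) (n : ℕ) :
    (Nat.card (Matrix.GeneralLinearGroup (Fin n) F)).factorization 2 = A2 (Fintype.card F) n := by
  have hq1 : 1 < Fintype.card F := Fintype.one_lt_card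
  rw [Matrix.card_GL_field,
    Fin.prod_univ_eq_prod_range (fun i => Fintype.card F ^ n - Fintype.card F ^ i) n]
  have hfac : ∀ i ∈ Finset.range n, Fintype.card F ^ n - Fintype.card F ^ i =
      Fintype.card F ^ i * (Fintype.card F ^ (n - 1 - i + 1) - 1) := by
    intro i hi
    rw [Finset.mem_range] at hi
    have : n = i + (n - 1 - i + 1) := by omega
    conv_lhs => rw [this, pow_add]
    rw [Nat.mul_sub, mul_one]
  rw [Finset.prod_congr rfl hfac]
  have hne : ∀ i ∈ Finset.range n,
      Fintype.card F ^ i * (Fintype.card F ^ (n - 1 - i + 1) - 1) ≠ 0 := by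
    intro i _
    have h1 : 1 < Fintype.card F ^ (n - 1 - i + 1) := Nat.one_lt_pow (by omega) hq1
    have h2 : 0 < Fintype.card F ^ i := by positivity
    have h3 : 0 < Fintype.card F ^ (n - 1 - i + 1) - 1 := by omega
    exact (Nat.mul_pos h2 h3).ne'
  rw [Nat.factorization_prod hne, Finsupp.finsetSum_apply]
  unfold A2
  rw [← Finset.sum_range_reflect]
  apply Finset.sum_congr rfl
  intro i hi
  rw [Finset.mem_range] at hi
  rw [Nat.factorization_def _ Nat.prime_two]
  have hk : n - 1 - (n - 1 - i) = i := by omega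
  rw [hk]
  have hnd : ¬ 2 ∣ Fintype.card F ^ (n - 1 - i) := fun h =>
    hq.not_two_dvd_nat (Nat.prime_two.dvd_of_dvd_pow h)
  have h1 : 1 < Fintype.card F ^ (i + 1) := Nat.one_lt_pow (by omega) hq1
  rw [padicValNat.mul (by positivity) (by omega), padicValNat.eq_zero_of_not_dvd hnd, zero_add]

end order

end Cfsg.Agent.Lib.Helper20.SylModel
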