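import Mathlib
import Cfsg.Agent.Lib.Helper20.SylModelMain
import Cfsg.Agent.Lib.Helper20.SylModelNumGL

set_option autoImplicit false
set_option linter.style.haveILetI false
set_option linter.unusedSimpArgs false
set_option linter.unusedSectionVars false

/-!
Models for Sylow `2`-subgroups of general linear groups: the generic construction.
-/

namespace Cfsg.Agent.Lib.Helper20.SylModel

open RegularWreathProduct Cfsg.Agent.Lib.Helper20.WreathLin Cfsg.Agent.Lib.Helper20.SympWreath
  Module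

universe u

/-- A `2`-group of order `2 ^ c` with a faithful representation of degree `n`, a normal
elementary abelian subgroup of order `2 ^ r`, and none larger. -/
def IsLinModel (F : Type u) [Field F] (n c r : ℕ) (G : Type u) [Group G] : Prop :=
  Finite G ∧ 0 < n ∧ Nat.card G = 2 ^ c ∧ HasNEA G r ∧ NRle G r ∧
  ∃ (V : Type u) (_ : AddCommGroup V) (_ : Module F V) (_ : Module.Finite F V)
    (ρ : G →* Module.End F V), Function.Injective ρ ∧ Module.finrank F V = n

section steps

variable {F : Type u} [Field F]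

theorem IsLinModel.wreath {n c r : ℕ} {G : Type u} [Group G] (h : IsLinModel F n c r G)
    (d : G) (hd : d ^ 2 ≠ 1) : IsLinModel F (2 * n) (2 * c + 1) (2 * r) (G ≀ᵣ C2) := by
  obtain ⟨hfin, hn, hcard, hnea, hnr, V, hV1, hV2, hV3, ρ, hinj, hrank⟩ := h
  haveI := hfin
  have hVne : ∃ v : V, v ≠ 0 := by
    haveI : Nontrivial V := Module.nontrivial_of_finrank_pos (R := F) (by omega)
    exact exists_ne 0
  refine ⟨inferInstance, by omega, ?_, hnea.wreath, hnr.wreath d hd, C2 → V, inferInstance,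
    inferInstance, inferInstance, wrHom ρ, wrHom_injective ρ hinj hVne, ?_⟩
  · rw [RegularWreathProduct.card, hcard, card_C2, ← pow_mul, pow_succ]
    ring
  · rw [Module.finrank_pi_fintype, Finset.sum_const, Finset.card_univ, hrank,
      Fintype.card_multiplicative, ZMod.card, smul_eq_mul]

theorem IsLinModel.prod {n c r m c' r' : ℕ} {G H : Type u} [Group G] [Group H]
    (h : IsLinModel F n c r G) (h' : IsLinModel F m c' r' H) :
    IsLinModel F (n + m) (c + c') (r + r') (G × H) := by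
  obtain ⟨hfin, hn, hcard, hnea, hnr, V, hV1, hV2, hV3, ρ, hinj, hrank⟩ := h
  obtain ⟨hfin', hn', hcard', hnea', hnr', W, hW1, hW2, hW3, ρ', hinj', hrank'⟩ := h'
  haveI := hfin
  haveI := hfin'
  refine ⟨inferInstance, by omega, ?_, hnea.prod hnea', hnr.prod hnr', V × W, inferInstance,
    inferInstance, inferInstance, prodHom2 ρ ρ', prodHom2_injective ρ ρ' hinj hinj', ?_⟩
  · rw [Nat.card_prod, hcard, hcard', pow_add]
  · rw [Module.finrank_prod, hrank, hrank']

theorem IsLinModel.of_eq {n c r n' c' r' : ℕ} {G : Type u} [Group G] (h : IsLinModel F n c r G)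
    (hn : n = n') (hc : c = c') (hr : r = r') : IsLinModel F n' c' r' G := by
  subst hn
  subst hc
  subst hr
  exact h

end steps

section build

variable {F : Type u} [Field F]

theorem exists_linmodel_pow {e c₀ : ℕ} {D₀ : Type u} [Group D₀] (hD : IsLinModel F e c₀ 1 D₀)
    (d₀ : D₀) (hd₀ : d₀ ^ 2 ≠ 1) (k : ℕ) :
    ∃ (G : Type u) (_ : Group G),
      IsLinModel F (e * 2 ^ k) (2 ^ k * c₀ + T2 (2 ^ k)) (2 ^ k) G ∧ (∃ d : G, d ^ 2 ≠ 1) ∧
        (SqDer D₀ → SqDer G) := by
  induction k with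
  | zero =>
    exact ⟨D₀, inferInstance, hD.of_eq (by norm_num) (by simp [T2]) (by norm_num),
      ⟨d₀, hd₀⟩, fun h => h⟩
  | succ k ih =>
    obtain ⟨G, hG, hm, ⟨d, hd⟩, hsq⟩ := ih
    refine ⟨G ≀ᵣ C2, inferInstance, (hm.wreath d hd).of_eq (by rw [pow_succ]; ring) ?_
      (by rw [pow_succ]; ring), exists_sq_ne_one_wreath d hd, fun h => (hsq h).wreath⟩
    rw [T2_pow_succ, pow_succ]
    ring

theorem exists_linmodel {e c₀ : ℕ} {D₀ : Type u} [Group D₀] (hD : IsLinModel F e c₀ 1 D₀)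
    (d₀ : D₀) (hd₀ : d₀ ^ 2 ≠ 1) :
    ∀ m : ℕ, 1 ≤ m → ∃ (G : Type u) (_ : Group G),
      IsLinModel F (e * m) (m * c₀ + T2 m) m G ∧ (∃ d : G, d ^ 2 ≠ 1) ∧
        (SqDer D₀ → SqDer G) := by
  intro n
  induction n using Nat.strong_induction_on with
  | _ n ih =>
    intro hn
    have hk1 : 2 ^ Nat.log 2 n ≤ n := Nat.pow_log_le_self 2 (by omega)
    have hk2 : n < 2 ^ (Nat.log 2 n + 1) := Nat.lt_pow_succ_log_self (by norm_num) n
    set k := Nat.log 2 n with hk
    obtain ⟨m, hm⟩ : ∃ m, n = 2 ^ k + m := ⟨n - 2 ^ k, by omega⟩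
    have hmk : m < 2 ^ k := by
      rw [pow_succ] at hk2
      omega
    obtain ⟨G, hG, hGm, ⟨d, hd⟩, hsq⟩ := exists_linmodel_pow hD d₀ hd₀ k
    by_cases hm0 : m = 0
    · rw [hm0, add_zero] at hm
      rw [hm]
      exact ⟨G, hG, hGm, ⟨d, hd⟩, hsq⟩
    · have hmn : m < n := by
        have := Nat.one_le_two_pow (n := k)
        omega
      obtain ⟨H, hH, hHm, -, hsq'⟩ := ih m hmn (by omega)
      refine ⟨G × H, inferInstance, (hGm.prod hHm).of_eq (by rw [hm]; ring) ?_ hm.symm,
        ⟨(d, 1), fun h => hd (congrArg Prod.fst h)⟩, fun h => (hsq h).prod (hsq' h)⟩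
      rw [hm, T2_add k m hmk]
      ring

end build

end Cfsg.Agent.Lib.Helper20.SylModel
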