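import Mathlib
import Cfsg.Agent.Lib.Helper20.OrthSwap
import Cfsg.Agent.Lib.Helper20.SylModelLin

set_option autoImplicit false
set_option linter.style.haveILetI false
set_option linter.unusedSimpArgs false
set_option linter.unusedSectionVars false

/-!
Models for Sylow `2`-subgroups of orthogonal groups: the generic construction.
-/

namespace Cfsg.Agent.Lib.Helper20.Orth

open RegularWreathProduct Cfsg.Agent.Lib.Helper20.WreathLin Cfsg.Agent.Lib.Helper20.SympWreath
  Cfsg.Agent.Lib.Helper20.SylModel Module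

universe u v

section chars

variable {G H A A' : Type*} [Group G] [Group H] [CommGroup A] [CommGroup A']

theorem exp2_units (χ : G →* ℤˣ × ℤˣ) : Exp2 χ := by
  intro g
  ext <;> simp [Int.units_mul_self]

theorem Exp2.comp {χ : G →* A} (h : Exp2 χ) (π : A →* A') : Exp2 (π.comp χ) := by
  intro g
  rw [MonoidHom.comp_apply, ← map_mul, h, map_one]

theorem comp_wrChar (π : A →* A') (χ : G →* A) : π.comp (wrChar χ) = wrChar (π.comp χ) := by
  refine MonoidHom.ext fun w => ?_
  rw [MonoidHom.comp_apply, wrChar_apply, wrChar_apply, map_mul]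
  rfl

end chars

/-- A `2`-group of order `2 ^ c` with a faithful orthogonal representation of degree `n` on a
space with an orthonormal basis, with spinor data given by a character, a projection `π` of which
is tracked. -/
def IsOrthModel (F : Type u) [Field F] {A : Type v} [CommGroup A] (π : ℤˣ × ℤˣ →* A)
    (n c : ℕ) (kr qf : Prop) (G : Type u) [Group G] : Prop :=
  Finite G ∧ 0 < n ∧ Nat.card G = 2 ^ c ∧ SqDer G ∧
  ∃ (V : Type u) (_ : AddCommGroup V) (_ : Module F V) (_ : Module.Finite F V)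
    (B : LinearMap.BilinForm F V) (ι : Type) (_ : Fintype ι) (_ : DecidableEq ι)
    (b : Basis ι F V) (ρ : G →* Module.End F V) (χ : G →* ℤˣ × ℤˣ),
    IsOrthoBasis B b ∧ Fintype.card ι = n ∧ Function.Injective ρ ∧
    (∀ g u w, B (ρ g u) (ρ g w) = B u w) ∧ (∀ g, Spin B (ρ g) (χ g)) ∧
    Function.Surjective (π.comp χ) ∧ RSqN (π.comp χ) ∧
    (kr → SqDer ↥(π.comp χ).ker) ∧ (qf → QProp (π.comp χ))

section steps

variable {F : Type u} [Field F] {A : Type v} [CommGroup A] {π : ℤˣ × ℤˣ →* A}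

theorem IsOrthModel.mono {n c : ℕ} {kr qf kr' qf' : Prop} {G : Type u} [Group G]
    (h : IsOrthModel F π n c kr qf G) (hk : kr' → kr) (hq : qf' → qf) :
    IsOrthModel F π n c kr' qf' G := by
  obtain ⟨hfin, hn, hcard, hsq, V, hV1, hV2, hV3, B, ι, hι1, hι2, b, ρ, χ, hb, hι, hinj, hinv,
    hS, hsurj, hR, hK, hQ⟩ := h
  exact ⟨hfin, hn, hcard, hsq, V, hV1, hV2, hV3, B, ι, hι1, hι2, b, ρ, χ, hb, hι, hinj, hinv,
    hS, hsurj, hR, fun h => hK (hk h), fun h => hQ (hq h)⟩

theorem IsOrthModel.of_eq {n c n' c' : ℕ} {kr qf : Prop} {G : Type u} [Group G]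
    (h : IsOrthModel F π n c kr qf G) (hn : n = n') (hc : c = c') :
    IsOrthModel F π n' c' kr qf G := by
  subst hn
  subst hc
  exact h

theorem IsOrthModel.wreath {n c : ℕ} {kr qf : Prop} {G : Type u} [Group G]
    (h : IsOrthModel F π n c kr qf G) (h2 : (2 : F) ≠ 0) (hev : Even n) :
    IsOrthModel F π (2 * n) (2 * c + 1) True True (G ≀ᵣ C2) := by
  obtain ⟨hfin, hn, hcard, hsq, V, hV1, hV2, hV3, B, ι, hι1, hι2, b, ρ, χ, hb, hι, hinj, hinv,
    hS, hsurj, hR, -, -⟩ := h
  haveI := hfin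
  have hVne : ∃ v : V, v ≠ 0 := by
    haveI : Nonempty ι := by
      rw [← Fintype.card_pos_iff, hι]
      exact hn
    obtain ⟨i⟩ := ‹Nonempty ι›
    exact ⟨b i, b.ne_zero i⟩
  have hE : Exp2 (π.comp χ) := Exp2.comp (exp2_units χ) π
  have hker : SqDer ↥(π.comp (wrChar χ)).ker := by
    rw [comp_wrChar]
    exact sqDer_ker_wreath2 hsq hR hE
  refine ⟨inferInstance, by omega, ?_, hsq.wreath, C2 → V, inferInstance, inferInstance,
    inferInstance, sumForm B, (Σ _ : C2, ι), inferInstance, inferInstance,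
    Pi.basis (fun _ : C2 => b), wrHom ρ, wrChar χ, wr_ortho B b hb, ?_,
    wrHom_injective ρ hinj hVne, ?_, ?_, ?_, RSqN.of_sqDer_ker hker, fun _ => hker, fun _ => ?_⟩
  · rw [RegularWreathProduct.card, hcard, card_C2, ← pow_mul, pow_succ]
    ring
  · rw [Fintype.card_sigma, Finset.sum_const, Finset.card_univ, hι,
      Fintype.card_multiplicative, ZMod.card, smul_eq_mul]
  · intro w f g
    exact sumForm_wrHom B ρ hinv w f g
  · intro w
    have e : wrHom ρ w = coordEnd 1 (ρ (w.left 1)) * coordEnd tC (ρ (w.left tC)) *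
        wrHom ρ (inl w.right : G ≀ᵣ C2) := by
      conv_lhs => rw [eq_baseHom_mul_inl w, map_mul, wrHom_baseHom_eq]
    have e2 : wrChar χ w = χ (w.left 1) * χ (w.left tC) * 1 := by
      rw [mul_one]
      rfl
    rw [e, e2]
    refine (((hS (w.left 1)).coord 1).mul ((hS (w.left tC)).coord tC)).mul ?_
    rcases C2_cases w.right with h | h
    · rw [h, map_one, map_one]
      exact Spin.one _
    · rw [h]
      exact spin_swap B b hb h2 (by rw [hι]; exact hev) ρ
  · rw [comp_wrChar]
    exact wrChar_surjective hsurj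
  · rw [comp_wrChar]
    exact QProp.wreath hE

theorem IsOrthModel.prod {n c m c' : ℕ} {kr kr' qf' : Prop} {G H : Type u} [Group G] [Group H]
    (h : IsOrthModel F π n c kr True G) (h' : IsOrthModel F π m c' kr' qf' H) :
    IsOrthModel F π (n + m) (c + c') True False (G × H) := by
  obtain ⟨hfin, hn, hcard, hsq, V, hV1, hV2, hV3, B, ι, hι1, hι2, b, ρ, χ, hb, hι, hinj, hinv,
    hS, hsurj, hR, -, hQ⟩ := h
  obtain ⟨hfin', hn', hcard', hsq', W, hW1, hW2, hW3, B', κ, hκ1, hκ2, b', ρ', χ', hb', hκ, hinj',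
    hinv', hS', hsurj', hR', -, -⟩ := h'
  haveI := hfin
  haveI := hfin'
  have hE' : Exp2 (π.comp χ') := Exp2.comp (exp2_units χ') π
  have hcomp : π.comp (χ.coprod χ') = (π.comp χ).coprod (π.comp χ') := MonoidHom.comp_coprod _ _ _
  have hker : SqDer ↥(π.comp (χ.coprod χ')).ker := by
    rw [hcomp]
    refine sqDer_ker_prod2 hsq hsq' (hQ trivial) hE' ?_ ?_
    · intro g
      exact hsurj' _
    · intro h
      exact hsurj _
  refine ⟨inferInstance, by omega, ?_, hsq.prod hsq', V × W, inferInstance, inferInstance,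
    inferInstance, prodForm B B', ι ⊕ κ, inferInstance, inferInstance, b.prod b',
    prodHom2 ρ ρ', χ.coprod χ', prod_ortho B B' b b' hb hb', ?_,
    prodHom2_injective ρ ρ' hinj hinj', ?_, ?_, ?_, RSqN.of_sqDer_ker hker, fun _ => hker,
    fun h => h.elim⟩
  · rw [Nat.card_prod, hcard, hcard', pow_add]
  · rw [Fintype.card_sum, hι, hκ]
  · intro g x y
    exact prodHom2_invariant B B' ρ ρ' hinv hinv' g x y
  · intro g
    rw [prodHom2_eq, MonoidHom.coprod_apply]
    exact ((hS g.1).left B').mul ((hS' g.2).right B)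
  · rw [hcomp]
    exact coprod_surjective _ hsurj

end steps

section build

variable {F : Type u} [Field F] {A : Type v} [CommGroup A] {π : ℤˣ × ℤˣ →* A}

theorem exists_orthmodel_pow {e c₀ : ℕ} {kr₀ qf₀ : Prop} {D₀ : Type u} [Group D₀]
    (hD : IsOrthModel F π e c₀ kr₀ qf₀ D₀) (h2 : (2 : F) ≠ 0) (he : Even e) (k : ℕ) :
    ∃ (G : Type u) (_ : Group G),
      IsOrthModel F π (e * 2 ^ k) (2 ^ k * c₀ + T2 (2 ^ k)) (1 ≤ k) (1 ≤ k) G := by
  induction k with
  | zero =>
    exact ⟨D₀, inferInstance, (hD.of_eq (by norm_num) (by simp [T2])).mono (by omega) (by omega)⟩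
  | succ k ih =>
    obtain ⟨G, hG, hm⟩ := ih
    refine ⟨G ≀ᵣ C2, inferInstance, ((hm.wreath h2 (he.mul_right _)).of_eq
      (by rw [pow_succ]; ring) ?_).mono (fun _ => trivial) (fun _ => trivial)⟩
    rw [T2_pow_succ, pow_succ]
    ring

theorem exists_orthmodel {e c₀ : ℕ} {kr₀ qf₀ : Prop} {D₀ : Type u} [Group D₀]
    (hD : IsOrthModel F π e c₀ kr₀ qf₀ D₀) (h2 : (2 : F) ≠ 0) (he : Even e) :
    ∀ m : ℕ, 1 ≤ m → ∃ (G : Type u) (_ : Group G),
      IsOrthModel F π (e * m) (m * c₀ + T2 m) (2 ≤ m) False G := by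
  intro n
  induction n using Nat.strong_induction_on with
  | _ n ih =>
    intro hn
    have hk1 : 2 ^ Nat.log 2 n ≤ n := Nat.pow_log_le_self 2 (by omega)
    have hk2 : n < 2 ^ (Nat.log 2 n + 1) := Nat.lt_pow_succ_log_self (by norm_num) n
    set k := Nat.log 2 n with hk
    obtain ⟨m, hm⟩ : ∃ m, n = 2 ^ k + m := ⟨n - 2 ^ k, by omega⟩
    have hmk : m < 2 ^ k := by
      rw [pow_succ] at hk2
      omega
    obtain ⟨G, hG, hGm⟩ := exists_orthmodel_pow hD h2 he k
    by_cases hm0 : m = 0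
    · rw [hm0, add_zero] at hm
      rw [hm]
      refine ⟨G, hG, hGm.mono ?_ (fun h => h.elim)⟩
      intro h2k
      by_contra hcon
      have : k = 0 := by omega
      rw [this, pow_zero] at h2k
      omega
    · have hmn : m < n := by
        have := Nat.one_le_two_pow (n := k)
        omega
      have hk0 : 1 ≤ k := by
        by_contra hcon
        have : k = 0 := by omega
        rw [this, pow_zero] at hmk
        omega
      obtain ⟨H, hH, hHm⟩ := ih m hmn (by omega)
      refine ⟨G × H, inferInstance,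
        (((hGm.mono (fun h => h) (fun _ => hk0)).prod hHm).of_eq (by rw [hm]; ring) ?_).mono
          (fun _ => trivial) (fun h => h)⟩
      rw [hm, T2_add k m hmk]
      ring

end build

end Cfsg.Agent.Lib.Helper20.Orth
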