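import Mathlib
import Cfsg.Agent.Lib.Helper20.OrthModel
import Cfsg.Agent.Lib.Helper37.OmegaIndex
import Cfsg.Agent.Lib.Helper37.SimGroup
import Cfsg.Agent.Lib.Helper37.TwoRank

set_option autoImplicit false
set_option linter.style.haveILetI false
set_option linter.unusedSimpArgs false
set_option linter.unusedSectionVars false

/-!
Matrices of isometries of the sum of squares: products of reflections and the pair of sign
characters.
-/

namespace Cfsg.Agent.Lib.Helper20.Orth

open Cfsg.Agent.Lib.Helper37 Cfsg.Agent.Lib.Helper20.SylModel Matrix Module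

section std

variable {κ : Type} [Fintype κ] [DecidableEq κ] {F : Type*} [Field F]

/-- The dot product. -/
noncomputable def dotB (κ : Type) [Fintype κ] [DecidableEq κ] (F : Type*) [Field F] :
    LinearMap.BilinForm F (κ → F) :=
  Matrix.toBilin' (1 : Matrix κ κ F)

theorem dotB_apply (x y : κ → F) : dotB κ F x y = ∑ k, x k * y k := by
  rw [dotB, Matrix.toBilin'_apply', Matrix.one_mulVec]
  rfl

theorem dotB_self (x : κ → F) : dotB κ F x x = stdQ κ F x := by
  rw [dotB_apply]
  unfold stdQ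
  apply Finset.sum_congr rfl
  intro k _
  rw [pow_two]

theorem dotB_comm (x y : κ → F) : dotB κ F x y = dotB κ F y x := by
  rw [dotB_apply, dotB_apply]
  apply Finset.sum_congr rfl
  intro k _
  rw [mul_comm]

theorem isGram_std (h2 : (2 : F) ≠ 0) : IsGram (stdQ κ F) ((2 : F) • (1 : Matrix κ κ F)) where
  two_ne := h2
  symm := by
    rw [Matrix.IsSymm, Matrix.transpose_smul, Matrix.transpose_one]
  self := by
    intro u
    rw [Matrix.toBilin'_apply', Matrix.smul_mulVec, Matrix.one_mulVec, dotProduct_smul,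
      smul_eq_mul]
    congr 1
    unfold stdQ
    apply Finset.sum_congr rfl
    intro k _
    rw [pow_two]

theorem det_std (h2 : (2 : F) ≠ 0) : ((2 : F) • (1 : Matrix κ κ F)).det ≠ 0 := by
  rw [Matrix.det_smul, Matrix.det_one, mul_one]
  exact pow_ne_zero _ h2

theorem toLin_refl (h2 : (2 : F) ≠ 0) (v : κ → F) :
    Matrix.toLinAlgEquiv' (Cfsg.reflectionMatrix (stdQ κ F) v) = refl (dotB κ F) v := by
  refine LinearMap.ext fun x => ?_
  rw [Matrix.toLinAlgEquiv'_apply, (isGram_std h2).refl_mulVec, refl_apply, dotB_self]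
  have e : Matrix.toBilin' ((2 : F) • (1 : Matrix κ κ F)) v x = 2 * dotB κ F x v := by
    rw [Matrix.toBilin'_apply', Matrix.smul_mulVec, Matrix.one_mulVec, dotProduct_smul,
      smul_eq_mul, dotB_comm, dotB_apply]
    rfl
  rw [e]
  congr 2
  ring

variable [Fintype F] [DecidableEq F]

theorem signPair_list (h2 : (2 : F) ≠ 0) (α : F) (hα : ¬ IsSquare α) (vs : List (κ → F))
    (hvs : ∀ v ∈ vs, stdQ κ F v ≠ 0) (g : ↥(Cfsg.isometryGroup F (stdQ κ F)))
    (hg : toMat (stdQ κ F) g =
      (vs.map (fun v => Cfsg.reflectionMatrix (stdQ κ F) v)).prod) :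
    IsGram.signPair (stdQ κ F) α g = (vs.map (spinVal (dotB κ F))).prod := by
  have h := isGram_std (κ := κ) h2
  have hg' : g = (vs.map h.reflG').prod := by
    apply toMat_injective
    rw [hg, h.toMat_list vs hvs]
  rw [hg', map_list_prod, List.map_map]
  congr 1
  apply List.map_congr_left
  intro v hv
  show IsGram.signPair (stdQ κ F) α (h.reflG' v) = spinVal (dotB κ F) v
  rw [h.reflG'_of_ne v (hvs v hv)]
  unfold spinVal
  rw [dotB_self]
  split_ifs with hsq
  · exact (h.signPair_reflG v (hvs v hv) α hα).1 hsq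
  · exact (h.signPair_reflG v (hvs v hv) α hα).2 hsq

theorem spin_of_isometry (h2 : (2 : F) ≠ 0) (α : F) (hα : ¬ IsSquare α)
    (g : ↥(Cfsg.isometryGroup F (stdQ κ F))) :
    Spin (dotB κ F) (Matrix.toLinAlgEquiv' (toMat (stdQ κ F) g))
      (IsGram.signPair (stdQ κ F) α g) := by
  obtain ⟨vs, hvs, hprod⟩ := (isGram_std (κ := κ) h2).cartan_dieudonne (det_std h2) g
  refine ⟨vs, fun v hv => by rw [dotB_self]; exact hvs v hv, ?_, signPair_list h2 α hα vs hvs g hprod⟩
  rw [hprod, map_list_prod, List.map_map]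
  congr 1
  apply List.map_congr_left
  intro v _
  exact toLin_refl h2 v

theorem signPair_of_spin (h2 : (2 : F) ≠ 0) (α : F) (hα : ¬ IsSquare α)
    (g : ↥(Cfsg.isometryGroup F (stdQ κ F))) (a : ℤˣ × ℤˣ)
    (h : Spin (dotB κ F) (Matrix.toLinAlgEquiv' (toMat (stdQ κ F) g)) a) :
    IsGram.signPair (stdQ κ F) α g = a := by
  obtain ⟨vs, hvs, hT, ha⟩ := h
  have hvs' : ∀ v ∈ vs, stdQ κ F v ≠ 0 := fun v hv => by
    rw [← dotB_self]
    exact hvs v hv
  have hmat : toMat (stdQ κ F) g =
      (vs.map (fun v => Cfsg.reflectionMatrix (stdQ κ F) v)).prod := by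
    apply (Matrix.toLinAlgEquiv' : Matrix κ κ F ≃ₐ[F] Module.End F (κ → F)).injective
    rw [hT, map_list_prod, List.map_map]
    congr 1
    apply List.map_congr_left
    intro v _
    exact (toLin_refl h2 v).symm
  rw [ha]
  exact signPair_list h2 α hα vs hvs' g hmat

end std

section embed

variable {κ : Type} [Fintype κ] [DecidableEq κ] {F : Type*} [Field F]
  {V : Type*} [AddCommGroup V] [Module F V]

/-- Conjugation by a linear equivalence, as a homomorphism of monoids. -/
def conjHom {V' : Type*} [AddCommGroup V'] [Module F V'] (φ : V ≃ₗ[F] V') :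
    Module.End F V →* Module.End F V' where
  toFun := φ.conj
  map_one' := φ.conj_id
  map_mul' S T := φ.conj_comp T S

theorem conjHom_apply {V' : Type*} [AddCommGroup V'] [Module F V'] (φ : V ≃ₗ[F] V')
    (T : Module.End F V) (x : V') : conjHom φ T x = φ (T (φ.symm x)) := rfl

theorem Spin.conj {V' : Type*} [AddCommGroup V'] [Module F V'] {B : LinearMap.BilinForm F V}
    (B' : LinearMap.BilinForm F V') (φ : V ≃ₗ[F] V') (hφ : ∀ x y, B' (φ x) (φ y) = B x y)
    {T : Module.End F V} {a : ℤˣ × ℤˣ} (h : Spin B T a) : Spin B' (conjHom φ T) a := by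
  refine h.map B' φ (conjHom φ) (fun v => hφ v v) ?_
  intro v _
  refine LinearMap.ext fun x => ?_
  rw [conjHom_apply, refl_apply, refl_apply, map_sub, map_smul, hφ]
  have : B (φ.symm x) v = B' x (φ v) := by
    rw [← hφ, LinearEquiv.apply_symm_apply]
  rw [this, LinearEquiv.apply_symm_apply]

variable [Fintype F] [DecidableEq F]

theorem exists_orth_embedding (h2 : (2 : F) ≠ 0) (α : F) (hα : ¬ IsSquare α)
    {ι : Type} [Fintype ι] [DecidableEq ι] (B : LinearMap.BilinForm F V) (b : Basis ι F V)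
    (hb : IsOrthoBasis B b) (e : ι ≃ κ) {G : Type*} [Group G] (ρ : G →* Module.End F V)
    (hinj : Function.Injective ρ) (hinv : ∀ g u w, B (ρ g u) (ρ g w) = B u w)
    (χ : G →* ℤˣ × ℤˣ) (hS : ∀ g, Spin B (ρ g) (χ g)) :
    ∃ Φ : G →* ↥(Cfsg.isometryGroup F (stdQ κ F)), Function.Injective Φ ∧
      ∀ g, IsGram.signPair (stdQ κ F) α (Φ g) = χ g := by
  let b' : Basis κ F V := b.reindex e
  let φ : V ≃ₗ[F] (κ → F) := b'.equivFun
  have hb' : ∀ s t, B (b' s) (b' t) = if s = t then 1 else 0 := by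
    intro s t
    show B (b.reindex e s) (b.reindex e t) = _
    rw [Basis.reindex_apply, Basis.reindex_apply, hb]
    by_cases hst : s = t
    · subst hst
      simp
    · have : e.symm s ≠ e.symm t := fun h => hst (e.symm.injective h)
      simp [hst, this]
  have hone : LinearMap.BilinForm.toMatrix b' B = 1 := by
    ext s t
    rw [LinearMap.BilinForm.toMatrix_apply, hb' s t, Matrix.one_apply]
  have hφ : ∀ x y, dotB κ F (φ x) (φ y) = B x y := by
    intro x y
    rw [LinearMap.BilinForm.apply_eq_dotProduct_toMatrix_mulVec b' B x y, hone,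
      Matrix.one_mulVec, dotB_apply]
    rfl
  let ψ : G →* Matrix κ κ F :=
    (LinearMap.toMatrixAlgEquiv b').toRingEquiv.toMulEquiv.toMonoidHom.comp ρ
  have hψ : ∀ g, Matrix.toLinAlgEquiv' (ψ g) = conjHom φ (ρ g) := by
    intro g
    refine LinearMap.ext fun u => ?_
    rw [Matrix.toLinAlgEquiv'_apply, conjHom_apply]
    have h1 := LinearMap.toMatrix_mulVec_repr b' b' (ρ g) (φ.symm u)
    have h2 : (b'.repr (φ.symm u) : κ → F) = u := by
      have := φ.apply_symm_apply u
      exact this
    rw [h2] at h1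
    exact h1
  have hmem : ∀ g, ψ.toHomUnits g ∈ Cfsg.isometryGroup F (stdQ κ F) := by
    intro g
    rw [mem_isometryGroup_iff']
    intro u
    have h1 : ((ψ.toHomUnits g : Matrix.GeneralLinearGroup κ F) : Matrix κ κ F) *ᵥ u =
        conjHom φ (ρ g) u := by
      rw [← hψ, Matrix.toLinAlgEquiv'_apply]
      rfl
    rw [h1, ← dotB_self, ← dotB_self, conjHom_apply, hφ, hinv, ← hφ, LinearEquiv.apply_symm_apply]
  let Φ : G →* ↥(Cfsg.isometryGroup F (stdQ κ F)) := ψ.toHomUnits.codRestrict _ hmem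
  refine ⟨Φ, ?_, ?_⟩
  · intro g g' h
    apply hinj
    have h1 : ψ g = ψ g' := by
      have := congrArg (fun x : ↥(Cfsg.isometryGroup F (stdQ κ F)) =>
        ((x : Matrix.GeneralLinearGroup κ F) : Matrix κ κ F)) h
      exact this
    exact (LinearMap.toMatrixAlgEquiv b').injective h1
  · intro g
    apply signPair_of_spin h2 α hα
    have h1 : toMat (stdQ κ F) (Φ g) = ψ g := rfl
    rw [h1, hψ]
    exact (hS g).conj (dotB κ F) φ hφ

end embed

end Cfsg.Agent.Lib.Helper20.Orth
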