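import Mathlib
import Cfsg.Agent.Lib.Helper20.OrthMat
import Cfsg.Agent.Lib.Helper37.TwoRank
import Cfsg.Agent.Lib.Helper37.OmegaIndex
import Cfsg.Agent.Lib.Helper37.SimGroup

set_option autoImplicit false
set_option linter.style.haveILetI false
set_option linter.unusedSimpArgs false
set_option linter.unusedSectionVars false

/-!
Signed permutation matrices inside the orthogonal group of the sum of squares.
-/

namespace Cfsg.Agent.Lib.Helper20.O7

open Cfsg.Agent.Lib.Helper37 Cfsg.Agent.Lib.Helper20.Orth Matrix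

section defs

variable (κ : Type) [Fintype κ] [DecidableEq κ] (F : Type*) [Field F]

/-- the full orthogonal group of the sum of squares -/
abbrev OG : Type _ := ↥(Cfsg.isometryGroup F (stdQ κ F))

/-- permutations acting on sign vectors -/
def permAct : Equiv.Perm κ →* MulAut (κ → ℤˣ) where
  toFun π :=
    { toFun := fun ε => ε ∘ ⇑π⁻¹
      invFun := fun ε => ε ∘ ⇑π
      left_inv := fun ε => by funext k; simp
      right_inv := fun ε => by funext k; simp
      map_mul' := fun _ _ => rfl }
  map_one' := by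
    apply MulEquiv.ext
    intro ε
    funext k
    simp
  map_mul' π σ := by
    apply MulEquiv.ext
    intro ε
    funext k
    simp [_root_.mul_inv_rev]

theorem permAct_apply (π : Equiv.Perm κ) (ε : κ → ℤˣ) (k : κ) :
    permAct κ π ε k = ε (π⁻¹ k) := rfl

/-- the group of signed permutations -/
abbrev SW : Type := (κ → ℤˣ) ⋊[permAct κ] Equiv.Perm κ

/-- permutation matrices in the orthogonal group: `e_b ↦ e_{π b}` -/
def permW : Equiv.Perm κ →* OG κ F where
  toFun π := ⟨permG κ F π⁻¹, permG_mem κ F π⁻¹⟩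
  map_one' := by
    apply Subtype.ext
    apply Units.ext
    show ((1 : Equiv.Perm κ)⁻¹).permMatrix F = 1
    simp
  map_mul' π σ := by
    apply Subtype.ext
    apply Units.ext
    show ((π * σ)⁻¹).permMatrix F = (π⁻¹).permMatrix F * (σ⁻¹).permMatrix F
    rw [_root_.mul_inv_rev, Matrix.permMatrix_mul]

theorem permW_conj (π : Equiv.Perm κ) (ε : κ → ℤˣ) :
    permW κ F π * signDW κ F ε * (permW κ F π)⁻¹ = signDW κ F (permAct κ π ε) := by
  apply Subtype.ext
  exact permG_conj_signD κ F π⁻¹ ε

/-- the signed permutation matrices -/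
def rho : SW κ →* OG κ F :=
  SemidirectProduct.lift (signDW κ F) (permW κ F) (by
    intro π
    apply MonoidHom.ext
    intro ε
    exact (permW_conj κ F π ε).symm)

theorem rho_apply (w : SW κ) : rho κ F w = signDW κ F w.left * permW κ F w.right := rfl

theorem rho_inl (ε : κ → ℤˣ) : rho κ F (SemidirectProduct.inl ε) = signDW κ F ε := by
  rw [rho_apply]
  simp

theorem rho_inr (π : Equiv.Perm κ) : rho κ F (SemidirectProduct.inr π) = permW κ F π := by
  rw [rho_apply]
  simp

/-- the matrix of an element of the orthogonal group -/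
def mat (g : OG κ F) : Matrix κ κ F := ((g : Matrix.GeneralLinearGroup κ F) : Matrix κ κ F)

theorem mat_mul (g h : OG κ F) : mat κ F (g * h) = mat κ F g * mat κ F h := rfl

theorem mat_one : mat κ F 1 = 1 := rfl

theorem mat_injective : Function.Injective (mat κ F) := by
  intro g h hgh
  apply Subtype.ext
  apply Units.ext
  exact hgh

theorem mat_mul_inv (g : OG κ F) : mat κ F g * mat κ F g⁻¹ = 1 := by
  rw [← mat_mul, mul_inv_cancel, mat_one]

theorem mat_inv_mul (g : OG κ F) : mat κ F g⁻¹ * mat κ F g = 1 := by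
  rw [← mat_mul, inv_mul_cancel, mat_one]

theorem mat_Q (g : OG κ F) (x : κ → F) : stdQ κ F (mat κ F g *ᵥ x) = stdQ κ F x :=
  (mem_isometryGroup_iff' _ _).mp g.2 x

theorem mat_rho (w : SW κ) :
    mat κ F (rho κ F w) =
      Matrix.diagonal (fun k => signCast F (w.left k)) * (w.right⁻¹).permMatrix F := rfl

theorem rho_mulVec (w : SW κ) (x : κ → F) (a : κ) :
    (mat κ F (rho κ F w) *ᵥ x) a = signCast F (w.left a) * x (w.right⁻¹ a) := by
  rw [mat_rho, ← Matrix.mulVec_mulVec, Matrix.mulVec_diagonal, Matrix.permMatrix_mulVec]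
  rfl

theorem mat_rho_apply (w : SW κ) (a b : κ) :
    mat κ F (rho κ F w) a b = if w.right⁻¹ a = b then signCast F (w.left a) else 0 := by
  have h := rho_mulVec κ F w (Pi.single b 1) a
  rw [Matrix.mulVec_single_one] at h
  rw [show mat κ F (rho κ F w) a b = (mat κ F (rho κ F w)).col b a from rfl, h]
  by_cases hab : w.right⁻¹ a = b
  · rw [if_pos hab, hab, Pi.single_eq_same, mul_one]
  · rw [if_neg hab, Pi.single_eq_of_ne hab, mul_zero]

theorem rho_injective (h2 : (2 : F) ≠ 0) : Function.Injective (rho κ F) := by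
  rw [injective_iff_map_eq_one]
  intro w hw
  have hm : ∀ a b, mat κ F (rho κ F w) a b = (1 : Matrix κ κ F) a b := by
    intro a b
    rw [hw, mat_one]
  have hr : ∀ a, w.right⁻¹ a = a := by
    intro a
    by_contra hne
    have h := hm a a
    rw [mat_rho_apply, if_neg hne, Matrix.one_apply_eq] at h
    exact zero_ne_one h
  have hl : ∀ a, w.left a = 1 := by
    intro a
    have h := hm a a
    rw [mat_rho_apply, if_pos (hr a), Matrix.one_apply_eq] at h
    apply signCast_injective h2
    rw [h, map_one]
  apply SemidirectProduct.ext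
  · funext a
    exact hl a
  · have : w.right⁻¹ = 1 := Equiv.ext hr
    exact inv_eq_one.mp this

end defs

section refl

variable {κ : Type} [Fintype κ] [DecidableEq κ] {F : Type*} [Field F]

theorem std_bilin (v x : κ → F) :
    Matrix.toBilin' ((2 : F) • (1 : Matrix κ κ F)) v x = 2 * ∑ k, v k * x k := by
  rw [Matrix.toBilin'_apply', Matrix.smul_mulVec, Matrix.one_mulVec, dotProduct_smul,
    smul_eq_mul]
  rfl

theorem std_refl_mulVec (h2 : (2 : F) ≠ 0) (v x : κ → F) :
    Cfsg.reflectionMatrix (stdQ κ F) v *ᵥ x =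
      x - ((stdQ κ F v)⁻¹ * (2 * ∑ k, v k * x k)) • v := by
  rw [(isGram_std h2).refl_mulVec, std_bilin]

theorem sum_single_mul (i : κ) (c : F) (x : κ → F) :
    ∑ k, (Pi.single i c : κ → F) k * x k = c * x i := by
  rw [Finset.sum_eq_single i]
  · rw [Pi.single_eq_same]
  · intro k _ hk
    rw [Pi.single_eq_of_ne hk, zero_mul]
  · intro h
    exact absurd (Finset.mem_univ i) h

theorem stdQ_eq_sum (v : κ → F) : stdQ κ F v = ∑ k, v k * v k := by
  unfold stdQ
  apply Finset.sum_congr rfl
  intro k _
  rw [pow_two]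

theorem stdQ_single (i : κ) (c : F) : stdQ κ F (Pi.single i c) = c * c := by
  rw [stdQ_eq_sum, sum_single_mul, Pi.single_eq_same]

/-- the sign vector with a single `-1` -/
def sg (i : κ) : κ → ℤˣ := Pi.mulSingle i (-1)

theorem sg_apply_same (i : κ) : sg i i = -1 := by
  unfold sg
  rw [Pi.mulSingle_eq_same]

theorem sg_apply_ne {i k : κ} (h : k ≠ i) : sg i k = 1 := by
  unfold sg
  rw [Pi.mulSingle_eq_of_ne h]

theorem signCast_neg_one : signCast F (-1) = -1 := by
  simp [signCast]

/-- the reflection in a basis vector is a sign change -/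
theorem mat_rho_sg (h2 : (2 : F) ≠ 0) (i : κ) :
    mat κ F (rho κ F (SemidirectProduct.inl (sg i))) =
      Cfsg.reflectionMatrix (stdQ κ F) (Pi.single i 1) := by
  apply Matrix.mulVec_injective
  funext x a
  rw [rho_mulVec, std_refl_mulVec h2, stdQ_single, sum_single_mul]
  simp only [SemidirectProduct.left_inl, SemidirectProduct.right_inl, inv_one,
    Equiv.Perm.coe_one, id_eq, Pi.sub_apply, Pi.smul_apply, smul_eq_mul, mul_one, inv_one, one_mul]
  by_cases ha : a = i
  · subst ha
    rw [sg_apply_same, signCast_neg_one, Pi.single_eq_same]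
    ring
  · rw [sg_apply_ne ha, map_one, Pi.single_eq_of_ne ha]
    ring

/-- the reflection in a difference of basis vectors is a transposition -/
theorem mat_rho_swap (h2 : (2 : F) ≠ 0) {i j : κ} (hij : i ≠ j) :
    mat κ F (rho κ F (SemidirectProduct.inr (Equiv.swap i j))) =
      Cfsg.reflectionMatrix (stdQ κ F) (Pi.single i 1 - Pi.single j 1) := by
  apply Matrix.mulVec_injective
  funext x a
  have hQ : stdQ κ F (Pi.single i 1 - Pi.single j 1 : κ → F) = 2 := by
    rw [stdQ_eq_sum]
    have : ∀ k, (Pi.single i 1 - Pi.single j 1 : κ → F) k * (Pi.single i 1 - Pi.single j 1 : κ → F) k =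
        (Pi.single i 1 : κ → F) k * (Pi.single i 1 : κ → F) k +
        (Pi.single j 1 : κ → F) k * (Pi.single j 1 : κ → F) k -
        2 * ((Pi.single i 1 : κ → F) k * (Pi.single j 1 : κ → F) k) := by
      intro k
      simp only [Pi.sub_apply]
      ring
    simp_rw [this]
    rw [Finset.sum_sub_distrib, Finset.sum_add_distrib, sum_single_mul, sum_single_mul,
      ← Finset.mul_sum, sum_single_mul, Pi.single_eq_same, Pi.single_eq_same,
      Pi.single_eq_of_ne hij]
    ring
  have hS : ∑ k, (Pi.single i 1 - Pi.single j 1 : κ → F) k * x k = x i - x j := by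
    simp_rw [Pi.sub_apply, sub_mul]
    rw [Finset.sum_sub_distrib, sum_single_mul, sum_single_mul]
    ring
  rw [rho_mulVec, std_refl_mulVec h2, hQ, hS]
  simp only [SemidirectProduct.left_inr, SemidirectProduct.right_inr, Equiv.swap_inv,
    Pi.one_apply, map_one, one_mul, Pi.sub_apply, Pi.smul_apply, smul_eq_mul]
  by_cases ha : a = i
  · subst ha
    rw [Equiv.swap_apply_left, Pi.single_eq_same, Pi.single_eq_of_ne hij]
    field_simp
    ring
  · by_cases hb : a = j
    · subst hb
      rw [Equiv.swap_apply_right, Pi.single_eq_same, Pi.single_eq_of_ne (Ne.symm hij)]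
      field_simp
      ring
    · rw [Equiv.swap_apply_of_ne_of_ne ha hb, Pi.single_eq_of_ne ha, Pi.single_eq_of_ne hb]
      ring

end refl

end Cfsg.Agent.Lib.Helper20.O7
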