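import Mathlib
import Cfsg.Agent.Lib.Helper20.O7Signed

set_option autoImplicit false
set_option linter.style.haveILetI false
set_option linter.unusedSimpArgs false
set_option linter.unusedSectionVars false

/-!
The determinant and the spinor norm of a signed permutation matrix, when `2` is not a square.
-/

namespace Cfsg.Agent.Lib.Helper20.O7

open Cfsg.Agent.Lib.Helper37 Cfsg.Agent.Lib.Helper20.Orth Matrix

section chi

variable (κ : Type) [Fintype κ] [DecidableEq κ]

/-- the pair (product of the signs, sign of the permutation) -/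
def chiW : SW κ →* ℤˣ × ℤˣ :=
  SemidirectProduct.lift ((MonoidHom.inl ℤˣ ℤˣ).comp (prodHom κ))
    ((MonoidHom.inr ℤˣ ℤˣ).comp Equiv.Perm.sign) (by
    intro π
    apply MonoidHom.ext
    intro ε
    simp only [MonoidHom.comp_apply, MulEquiv.coe_toMonoidHom, MulAut.conj_apply,
      mul_inv_cancel_comm]
    congr 1
    show ∏ k, ε (π⁻¹ k) = ∏ k, ε k
    exact Equiv.prod_comp π⁻¹ ε)

theorem chiW_apply (w : SW κ) : chiW κ w = (∏ k, w.left k, Equiv.Perm.sign w.right) := by
  show (MonoidHom.inl ℤˣ ℤˣ) (prodHom κ w.left) * (MonoidHom.inr ℤˣ ℤˣ) (Equiv.Perm.sign w.right)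
    = _
  apply Prod.ext
  · show prodHom κ w.left * 1 = ∏ k, w.left k
    rw [mul_one]
    rfl
  · show (1 : ℤˣ) * Equiv.Perm.sign w.right = Equiv.Perm.sign w.right
    rw [one_mul]

theorem chiW_eq_one_iff (w : SW κ) :
    chiW κ w = 1 ↔ (∏ k, w.left k = 1 ∧ Equiv.Perm.sign w.right = 1) := by
  rw [chiW_apply, Prod.ext_iff]
  rfl

theorem conj_inl (w : SW κ) (δ : κ → ℤˣ) :
    w * SemidirectProduct.inl δ * w⁻¹ = SemidirectProduct.inl (permAct κ w.right δ) := by
  apply SemidirectProduct.ext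
  · simp only [SemidirectProduct.mul_left, SemidirectProduct.mul_right,
      SemidirectProduct.left_inl, SemidirectProduct.right_inl, SemidirectProduct.inv_left,
      SemidirectProduct.inv_right, mul_one]
    rw [← MulAut.mul_apply, ← map_mul, mul_inv_cancel, map_one, MulAut.one_apply]
    rw [mul_comm, ← mul_assoc, inv_mul_cancel, one_mul]
  · simp

end chi

section sign

variable (κ : Type) [Fintype κ] [DecidableEq κ] (F : Type*) [Field F] [Fintype F] [DecidableEq F]

theorem rho_sg_eq (h2 : (2 : F) ≠ 0) (i : κ) :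
    rho κ F (SemidirectProduct.inl (sg i)) =
      (isGram_std (κ := κ) h2).reflG (Pi.single i 1) (by rw [stdQ_single]; simp) := by
  apply mat_injective
  rw [mat_rho_sg h2]
  rfl

theorem stdQ_single_sub {i j : κ} (hij : i ≠ j) :
    stdQ κ F (Pi.single i 1 - Pi.single j 1 : κ → F) = 2 := by
  rw [stdQ_eq_sum]
  have : ∀ k, (Pi.single i 1 - Pi.single j 1 : κ → F) k * (Pi.single i 1 - Pi.single j 1 : κ → F) k =
      (Pi.single i 1 : κ → F) k * (Pi.single i 1 : κ → F) k +
      (Pi.single j 1 : κ → F) k * (Pi.single j 1 : κ → F) k -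
      2 * ((Pi.single i 1 : κ → F) k * (Pi.single j 1 : κ → F) k) := by
    intro k
    simp only [Pi.sub_apply]
    ring
  simp_rw [this]
  rw [Finset.sum_sub_distrib, Finset.sum_add_distrib, sum_single_mul, sum_single_mul,
    ← Finset.mul_sum, sum_single_mul, Pi.single_eq_same, Pi.single_eq_same,
    Pi.single_eq_of_ne hij]
  ring

theorem rho_swap_eq (h2 : (2 : F) ≠ 0) {i j : κ} (hij : i ≠ j) :
    rho κ F (SemidirectProduct.inr (Equiv.swap i j)) =
      (isGram_std (κ := κ) h2).reflG (Pi.single i 1 - Pi.single j 1)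
        (by rw [stdQ_single_sub κ F hij]; exact h2) := by
  apply mat_injective
  rw [mat_rho_swap h2 hij]
  rfl

theorem signPair_rho (h2 : (2 : F) ≠ 0) (hns : ¬ IsSquare (2 : F)) :
    (IsGram.signPair (stdQ κ F) 2).comp (rho κ F) = chiW κ := by
  apply SemidirectProduct.hom_ext
  · apply MonoidHom.functions_ext
    intro i u
    rcases Int.units_eq_one_or u with rfl | rfl
    · rw [Pi.mulSingle_one, map_one, map_one]
    · show IsGram.signPair (stdQ κ F) 2 (rho κ F (SemidirectProduct.inl (sg i))) =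
        chiW κ (SemidirectProduct.inl (sg i))
      rw [rho_sg_eq κ F h2, chiW_apply]
      rw [((isGram_std (κ := κ) h2).signPair_reflG _ _ 2 hns).1
        (by rw [stdQ_single]; exact ⟨1, by ring⟩)]
      apply Prod.ext
      · show (-1 : ℤˣ) = prodHom κ (Pi.mulSingle i (-1))
        rw [prodHom_mulSingle]
      · simp
  · apply MonoidHom.eq_of_eqOn_dense Equiv.Perm.closure_isSwap
    rintro σ ⟨i, j, hij, rfl⟩
    show IsGram.signPair (stdQ κ F) 2 (rho κ F (SemidirectProduct.inr (Equiv.swap i j))) =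
      chiW κ (SemidirectProduct.inr (Equiv.swap i j))
    rw [rho_swap_eq κ F h2 hij, chiW_apply]
    rw [((isGram_std (κ := κ) h2).signPair_reflG _ _ 2 hns).2
      (by rw [stdQ_single_sub κ F hij]; exact hns)]
    apply Prod.ext
    · simp
    · simp [Equiv.Perm.sign_swap hij]

theorem signPair_rho_apply (h2 : (2 : F) ≠ 0) (hns : ¬ IsSquare (2 : F)) (w : SW κ) :
    IsGram.signPair (stdQ κ F) 2 (rho κ F w) = chiW κ w :=
  DFunLike.congr_fun (signPair_rho κ F h2 hns) w

theorem mem_omega_iff_signPair (h2 : (2 : F) ≠ 0) (hns : ¬ IsSquare (2 : F)) (g : OG κ F) :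
    g ∈ Cfsg.Omega F (stdQ κ F) ↔ IsGram.signPair (stdQ κ F) 2 g = 1 := by
  rw [← (isGram_std (κ := κ) h2).ker_signPair (det_std h2) 2 hns, MonoidHom.mem_ker]

theorem rho_mem_omega_iff (h2 : (2 : F) ≠ 0) (hns : ¬ IsSquare (2 : F)) (w : SW κ) :
    rho κ F w ∈ Cfsg.Omega F (stdQ κ F) ↔ chiW κ w = 1 := by
  rw [mem_omega_iff_signPair κ F h2 hns, signPair_rho_apply κ F h2 hns]

end sign

end Cfsg.Agent.Lib.Helper20.O7
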