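import Mathlib
import Cfsg.Agent.Lib.Helper20.O7Sign

set_option autoImplicit false
set_option linter.style.haveILetI false
set_option linter.unusedSimpArgs false
set_option linter.unusedSectionVars false

/-!
The even-weight sign vectors of length seven: a non-trivial set of them closed under products and
under even permutations is everything.
-/

namespace Cfsg.Agent.Lib.Helper20.O7

open Cfsg.Agent.Lib.Helper37

section gen

variable {κ : Type} [Fintype κ] [DecidableEq κ]

/-- the sign vector with two entries `-1` -/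
def dd (a b : κ) : κ → ℤˣ := sg a * sg b

theorem dd_comm (a b : κ) : dd a b = dd b a := mul_comm _ _

theorem sg_mul_self (a : κ) : sg a * sg a = 1 := by
  funext x
  rw [Pi.mul_apply, Pi.one_apply, Int.units_mul_self]

theorem dd_mul_self (a b : κ) : dd a b * dd a b = 1 := by
  funext x
  rw [Pi.mul_apply, Pi.one_apply, Int.units_mul_self]

theorem dd_star (a x y : κ) : dd x y = dd a x * dd a y := by
  unfold dd
  calc sg x * sg y = (sg a * sg a) * (sg x * sg y) := by rw [sg_mul_self, one_mul]
    _ = sg a * sg x * (sg a * sg y) := by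
      rw [mul_mul_mul_comm]

theorem prod_sg (a : κ) : ∏ k, (sg a : κ → ℤˣ) k = -1 :=
  prodHom_mulSingle κ a (-1)

theorem prod_dd (a b : κ) : ∏ k, (dd a b : κ → ℤˣ) k = 1 := by
  have h : prodHom κ (dd a b) = prodHom κ (sg a) * prodHom κ (sg b) := map_mul _ _ _
  have h1 : prodHom κ (sg a) = -1 := prodHom_mulSingle κ a (-1)
  have h2 : prodHom κ (sg b) = -1 := prodHom_mulSingle κ b (-1)
  rw [h1, h2] at h
  exact h.trans (by decide)

theorem dd_apply_left {a b : κ} (hab : a ≠ b) : dd a b a = -1 := by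
  unfold dd
  rw [Pi.mul_apply, sg_apply_same, sg_apply_ne hab, mul_one]

theorem dd_apply_right {a b : κ} (hab : a ≠ b) : dd a b b = -1 := by
  unfold dd
  rw [Pi.mul_apply, sg_apply_same, sg_apply_ne (Ne.symm hab), one_mul]

theorem dd_apply_ne {a b x : κ} (ha : x ≠ a) (hb : x ≠ b) : dd a b x = 1 := by
  unfold dd
  rw [Pi.mul_apply, sg_apply_ne ha, sg_apply_ne hb, mul_one]

theorem permAct_sg (σ : Equiv.Perm κ) (a : κ) : permAct κ σ (sg a) = sg (σ a) := by
  funext x
  rw [permAct_apply]
  by_cases hx : x = σ a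
  · rw [hx, sg_apply_same]
    have : σ⁻¹ (σ a) = a := σ.symm_apply_apply a
    rw [this, sg_apply_same]
  · rw [sg_apply_ne hx]
    apply sg_apply_ne
    intro h
    apply hx
    rw [← h]
    exact (σ.apply_symm_apply x).symm

theorem permAct_dd (σ : Equiv.Perm κ) (a b : κ) :
    permAct κ σ (dd a b) = dd (σ a) (σ b) := by
  unfold dd
  rw [map_mul, permAct_sg, permAct_sg]

theorem prod_permAct (σ : Equiv.Perm κ) (δ : κ → ℤˣ) :
    ∏ k, permAct κ σ δ k = ∏ k, δ k :=
  Equiv.prod_comp σ⁻¹ δ

/-- the three-cycle `a → b → c → a` -/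
def cyc (a b c : κ) : Equiv.Perm κ := Equiv.swap a b * Equiv.swap b c

theorem sign_cyc {a b c : κ} (hab : a ≠ b) (hbc : b ≠ c) : Equiv.Perm.sign (cyc a b c) = 1 := by
  unfold cyc
  rw [Equiv.Perm.sign_mul, Equiv.Perm.sign_swap hab, Equiv.Perm.sign_swap hbc]
  decide

theorem cyc_apply_1 {a b c : κ} (hab : a ≠ b) (hac : a ≠ c) : cyc a b c a = b := by
  unfold cyc
  rw [Equiv.Perm.mul_apply, Equiv.swap_apply_of_ne_of_ne hab hac, Equiv.swap_apply_left]

theorem cyc_apply_2 {a b c : κ} (hac : a ≠ c) (hbc : b ≠ c) : cyc a b c b = c := by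
  unfold cyc
  rw [Equiv.Perm.mul_apply, Equiv.swap_apply_left,
    Equiv.swap_apply_of_ne_of_ne (Ne.symm hac) (Ne.symm hbc)]

theorem cyc_apply_3 (a b c : κ) : cyc a b c c = a := by
  unfold cyc
  rw [Equiv.Perm.mul_apply, Equiv.swap_apply_right, Equiv.swap_apply_right]

theorem cyc_apply_ne {a b c x : κ} (ha : x ≠ a) (hb : x ≠ b) (hc : x ≠ c) : cyc a b c x = x := by
  unfold cyc
  rw [Equiv.Perm.mul_apply, Equiv.swap_apply_of_ne_of_ne hb hc,
    Equiv.swap_apply_of_ne_of_ne ha hb]

theorem cyc_inv_apply_1 {a b c : κ} (a' : κ) (h : cyc a b c a' = a) : (cyc a b c)⁻¹ a = a' := by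
  rw [Equiv.Perm.inv_eq_iff_eq, h]

end gen

section seven

theorem exists_third : ∀ i j : Fin 7, ∃ k, k ≠ i ∧ k ≠ j := by decide

theorem units_cases (u : ℤˣ) : u = 1 ∨ u = -1 := Int.units_eq_one_or u

theorem units_ne_one {u : ℤˣ} (h : u ≠ 1) : u = -1 := (units_cases u).resolve_left h

theorem units_ne_neg_one {u : ℤˣ} (h : u ≠ -1) : u = 1 := (units_cases u).resolve_right h

/-- step I: a pair -/
theorem even_code_pair (P : (Fin 7 → ℤˣ) → Prop)
    (hmul : ∀ δ δ', P δ → P δ' → P (δ * δ'))
    (hperm : ∀ σ : Equiv.Perm (Fin 7), Equiv.Perm.sign σ = 1 → ∀ δ, P δ →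
      P (permAct (Fin 7) σ δ))
    (δ₀ : Fin 7 → ℤˣ) (h0 : P δ₀) (hne : δ₀ ≠ 1) (hprod : ∏ k, δ₀ k = 1) :
    ∃ a b : Fin 7, a ≠ b ∧ P (dd a b) := by
  have hi : ∃ i, δ₀ i = -1 := by
    by_contra hcon
    push Not at hcon
    apply hne
    funext i
    exact units_ne_neg_one (hcon i)
  have hj : ∃ j, δ₀ j = 1 := by
    by_contra hcon
    push Not at hcon
    have hall : ∀ j, δ₀ j = -1 := fun j => units_ne_one (hcon j)
    have : ∏ k, δ₀ k = -1 := by
      rw [Finset.prod_congr rfl (fun k _ => hall k), Finset.prod_const, Finset.card_univ,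
        Fintype.card_fin]
      decide
    rw [this] at hprod
    exact absurd hprod (by decide)
  obtain ⟨i, hi⟩ := hi
  obtain ⟨j, hj⟩ := hj
  have hij : i ≠ j := by
    rintro rfl
    rw [hi] at hj
    exact absurd hj (by decide)
  obtain ⟨k, hki, hkj⟩ := exists_third i j
  have hP := hmul _ _ h0 (hperm (cyc i j k) (sign_cyc hij (Ne.symm hkj)) δ₀ h0)
  have e1 : (cyc i j k)⁻¹ i = k := cyc_inv_apply_1 k (cyc_apply_3 i j k)
  have e2 : (cyc i j k)⁻¹ j = i := by
    rw [Equiv.Perm.inv_eq_iff_eq, cyc_apply_1 hij (Ne.symm hki)]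
  have e3 : (cyc i j k)⁻¹ k = j := by
    rw [Equiv.Perm.inv_eq_iff_eq, cyc_apply_2 (Ne.symm hki) (Ne.symm hkj)]
  have e4 : ∀ x, x ≠ i → x ≠ j → x ≠ k → (cyc i j k)⁻¹ x = x := by
    intro x h1 h2 h3
    rw [Equiv.Perm.inv_eq_iff_eq, cyc_apply_ne h1 h2 h3]
  rcases units_cases (δ₀ k) with hk | hk
  · refine ⟨i, j, hij, ?_⟩
    have : δ₀ * permAct (Fin 7) (cyc i j k) δ₀ = dd i j := by
      funext x
      rw [Pi.mul_apply, permAct_apply]
      by_cases h1 : x = i
      · rw [h1, e1, hi, hk, dd_apply_left hij]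
        decide
      · by_cases h2 : x = j
        · rw [h2, e2, hi, hj, dd_apply_right hij]
          decide
        · by_cases h3 : x = k
          · rw [h3, e3, hj, hk, dd_apply_ne hki hkj]
            decide
          · rw [e4 x h1 h2 h3, Int.units_mul_self, dd_apply_ne h1 h2]
    rw [← this]
    exact hP
  · refine ⟨j, k, Ne.symm hkj, ?_⟩
    have : δ₀ * permAct (Fin 7) (cyc i j k) δ₀ = dd j k := by
      funext x
      rw [Pi.mul_apply, permAct_apply]
      by_cases h1 : x = i
      · rw [h1, e1, hi, hk, dd_apply_ne hij (Ne.symm hki)]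
        decide
      · by_cases h2 : x = j
        · rw [h2, e2, hi, hj, dd_apply_left (Ne.symm hkj)]
          decide
        · by_cases h3 : x = k
          · rw [h3, e3, hj, hk, dd_apply_right (Ne.symm hkj)]
            decide
          · rw [e4 x h1 h2 h3, Int.units_mul_self, dd_apply_ne h2 h3]
    rw [← this]
    exact hP

/-- step II and III: all pairs -/
theorem even_code_all_pairs (P : (Fin 7 → ℤˣ) → Prop)
    (hmul : ∀ δ δ', P δ → P δ' → P (δ * δ'))
    (hperm : ∀ σ : Equiv.Perm (Fin 7), Equiv.Perm.sign σ = 1 → ∀ δ, P δ →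
      P (permAct (Fin 7) σ δ))
    {a b : Fin 7} (hab : a ≠ b) (h : P (dd a b)) : ∀ x y : Fin 7, x ≠ y → P (dd x y) := by
  have star : ∀ c, c ≠ a → P (dd a c) := by
    intro c hca
    by_cases hcb : c = b
    · rw [hcb]
      exact h
    · have h1 := hperm (cyc a b c) (sign_cyc hab (Ne.symm hcb)) _ h
      rw [permAct_dd, cyc_apply_1 hab (Ne.symm hca), cyc_apply_2 (Ne.symm hca) (Ne.symm hcb)] at h1
      have h2 := hperm (cyc a b c) (sign_cyc hab (Ne.symm hcb)) _ h1
      rw [permAct_dd, cyc_apply_2 (Ne.symm hca) (Ne.symm hcb), cyc_apply_3, dd_comm] at h2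
      exact h2
  intro x y hxy
  by_cases hxa : x = a
  · rw [hxa]
    apply star
    rw [← hxa]
    exact Ne.symm hxy
  · by_cases hya : y = a
    · rw [hya, dd_comm]
      exact star x hxa
    · rw [dd_star a x y]
      exact hmul _ _ (star x hxa) (star y hya)

/-- a non-trivial set of even sign vectors closed under products and even permutations
contains every even sign vector -/
theorem even_code (P : (Fin 7 → ℤˣ) → Prop)
    (hmul : ∀ δ δ', P δ → P δ' → P (δ * δ'))
    (hperm : ∀ σ : Equiv.Perm (Fin 7), Equiv.Perm.sign σ = 1 → ∀ δ, P δ →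
      P (permAct (Fin 7) σ δ))
    (δ₀ : Fin 7 → ℤˣ) (h0 : P δ₀) (hne : δ₀ ≠ 1) (hprod : ∏ k, δ₀ k = 1) :
    ∀ δ : Fin 7 → ℤˣ, ∏ k, δ k = 1 → P δ := by
  obtain ⟨a, b, hab, hPab⟩ := even_code_pair P hmul hperm δ₀ h0 hne hprod
  have pairs := even_code_all_pairs P hmul hperm hab hPab
  have hone : P 1 := by
    rw [← dd_mul_self a b]
    exact hmul _ _ hPab hPab
  have key : ∀ n : ℕ, ∀ δ : Fin 7 → ℤˣ,
      (Finset.univ.filter (fun k => δ k = -1)).card = n → ∏ k, δ k = 1 → P δ := by
    intro n
    induction n using Nat.strong_induction_on with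
    | _ n ih =>
      intro δ hcard hprodδ
      by_cases hx : ∃ x, δ x = -1
      · obtain ⟨x, hx⟩ := hx
        have hy : ∃ y, y ≠ x ∧ δ y = -1 := by
          by_contra hcon
          push Not at hcon
          have : ∏ k, δ k = δ x := by
            apply Finset.prod_eq_single x
            · intro k _ hk
              exact units_ne_neg_one (hcon k hk)
            · intro h
              exact absurd (Finset.mem_univ x) h
          rw [this, hx] at hprodδ
          exact absurd hprodδ (by decide)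
        obtain ⟨y, hyx, hy⟩ := hy
        have hδ' : ∏ k, (δ * dd x y) k = 1 := by
          have h1 : prodHom (Fin 7) (δ * dd x y) = prodHom (Fin 7) δ * prodHom (Fin 7) (dd x y) :=
            map_mul _ _ _
          have h2 : prodHom (Fin 7) δ = 1 := hprodδ
          have h3 : prodHom (Fin 7) (dd x y) = 1 := prod_dd x y
          rw [h2, h3, one_mul] at h1
          exact h1
        have hsub : Finset.univ.filter (fun k => (δ * dd x y) k = -1) ⊂
            Finset.univ.filter (fun k => δ k = -1) := by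
          rw [Finset.ssubset_iff_of_subset]
          · refine ⟨x, ?_, ?_⟩
            · rw [Finset.mem_filter]
              exact ⟨Finset.mem_univ x, hx⟩
            · rw [Finset.mem_filter, Pi.mul_apply, hx, dd_apply_left (Ne.symm hyx)]
              simp
          · intro z hz
            rw [Finset.mem_filter] at hz ⊢
            refine ⟨Finset.mem_univ z, ?_⟩
            have hz2 := hz.2
            rw [Pi.mul_apply] at hz2
            by_cases h1 : z = x
            · rw [h1, hx]
            · by_cases h2 : z = y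
              · rw [h2, hy]
              · rw [dd_apply_ne h1 h2, mul_one] at hz2
                exact hz2
        have hlt := Finset.card_lt_card hsub
        rw [hcard] at hlt
        have hP' := ih _ hlt (δ * dd x y) rfl hδ'
        have : δ = δ * dd x y * dd x y := by
          rw [mul_assoc, dd_mul_self, mul_one]
        rw [this]
        exact hmul _ _ hP' (pairs x y (Ne.symm hyx))
      · push Not at hx
        have : δ = 1 := by
          funext k
          exact units_ne_neg_one (hx k)
        rw [this]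
        exact hone
  intro δ hδ
  exact key _ δ rfl hδ

end seven

end Cfsg.Agent.Lib.Helper20.O7
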