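import Mathlib

set_option autoImplicit false
set_option linter.style.haveILetI false
set_option linter.unusedSimpArgs false
set_option linter.unusedSectionVars false

/-!
A Sylow `2`-subgroup of the alternating group of degree seven, as an explicit list, and its
normaliser among the even permutations.
-/

namespace Cfsg.Agent.Lib.Helper20.O7

theorem perm_inv_apply {α : Type*} (f : Equiv.Perm α) (x : α) : f⁻¹ (f x) = x :=
  f.symm_apply_apply x

theorem perm_apply_inv {α : Type*} (f : Equiv.Perm α) (x : α) : f (f⁻¹ x) = x :=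
  f.apply_symm_apply x

def pa : Equiv.Perm (Fin 7) := Equiv.swap 0 1 * Equiv.swap 2 3
def pb : Equiv.Perm (Fin 7) := Equiv.swap 0 2 * Equiv.swap 1 3
def pc : Equiv.Perm (Fin 7) := Equiv.swap 0 1 * Equiv.swap 4 5

def d8List : List (Equiv.Perm (Fin 7)) :=
  [1, pa, pb, pa * pb, pc, pa * pc, pb * pc, pa * pb * pc]

/-- boolean equality test of permutations -/
def peq (x y : Equiv.Perm (Fin 7)) : Bool := (List.finRange 7).all fun i => x i == y i

theorem peq_iff (x y : Equiv.Perm (Fin 7)) : peq x y = true ↔ x = y := by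
  unfold peq
  rw [List.all_eq_true]
  constructor
  · intro h
    ext i
    have := h i (List.mem_finRange i)
    simpa using congrArg Fin.val (eq_of_beq this)
  · rintro rfl i _
    simp

theorem d8_mul_b :
    (d8List.all fun x => d8List.all fun y => d8List.any fun z => peq (x * y) z) = true := by
  decide +kernel

theorem d8_mul : ∀ x ∈ d8List, ∀ y ∈ d8List, x * y ∈ d8List := by
  intro x hx y hy
  have h := d8_mul_b
  rw [List.all_eq_true] at h
  have h1 := h x hx
  rw [List.all_eq_true] at h1
  have h2 := h1 y hy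
  rw [List.any_eq_true] at h2
  obtain ⟨z, hz, hxy⟩ := h2
  rw [peq_iff] at hxy
  rw [hxy]
  exact hz

theorem d8_inv_b : (d8List.all fun x => d8List.any fun z => peq x⁻¹ z) = true := by
  decide +kernel

theorem d8_inv : ∀ x ∈ d8List, x⁻¹ ∈ d8List := by
  intro x hx
  have h := d8_inv_b
  rw [List.all_eq_true] at h
  have h2 := h x hx
  rw [List.any_eq_true] at h2
  obtain ⟨z, hz, hxy⟩ := h2
  rw [peq_iff] at hxy
  rw [hxy]
  exact hz

/-- the Sylow `2`-subgroup -/
def D8 : Subgroup (Equiv.Perm (Fin 7)) where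
  carrier := {π | π ∈ d8List}
  mul_mem' := fun hx hy => d8_mul _ hx _ hy
  one_mem' := by
    show (1 : Equiv.Perm (Fin 7)) ∈ d8List
    simp [d8List]
  inv_mem' := fun hx => d8_inv _ hx

theorem mem_D8 (π : Equiv.Perm (Fin 7)) : π ∈ D8 ↔ π ∈ d8List := Iff.rfl

theorem pa_mem : pa ∈ D8 := by
  rw [mem_D8]
  simp [d8List]

theorem pb_mem : pb ∈ D8 := by
  rw [mem_D8]
  simp [d8List]

theorem pc_mem : pc ∈ D8 := by
  rw [mem_D8]
  simp [d8List]

set_option maxRecDepth 100000 in
theorem d8_nodup : d8List.Nodup := by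
  decide +kernel

theorem card_D8 : Nat.card ↥D8 = 8 := by
  have e : ↥D8 ≃ {x // x ∈ d8List.toFinset} :=
    Equiv.subtypeEquivRight (fun x => by rw [List.mem_toFinset]; rfl)
  rw [Nat.card_congr e, Nat.card_eq_fintype_card, Fintype.card_coe,
    List.toFinset_card_of_nodup d8_nodup]
  rfl

theorem d8_cases {P : Equiv.Perm (Fin 7) → Prop} (h1 : P 1) (h2 : P pa) (h3 : P pb)
    (h4 : P (pa * pb)) (h5 : P pc) (h6 : P (pa * pc)) (h7 : P (pb * pc)) (h8 : P (pa * pb * pc)) :
    ∀ x ∈ d8List, P x := by
  intro x hx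
  simp only [d8List, List.mem_cons, List.not_mem_nil, or_false] at hx
  rcases hx with rfl | rfl | rfl | rfl | rfl | rfl | rfl | rfl <;> assumption

theorem sign_pa : Equiv.Perm.sign pa = 1 := by
  simp [pa, Equiv.Perm.sign_mul, Equiv.Perm.sign_swap]

theorem sign_pb : Equiv.Perm.sign pb = 1 := by
  simp [pb, Equiv.Perm.sign_mul, Equiv.Perm.sign_swap]

theorem sign_pc : Equiv.Perm.sign pc = 1 := by
  simp [pc, Equiv.Perm.sign_mul, Equiv.Perm.sign_swap]

theorem d8_sign : ∀ x ∈ d8List, Equiv.Perm.sign x = 1 := by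
  apply d8_cases <;> simp [Equiv.Perm.sign_mul, sign_pa, sign_pb, sign_pc]

theorem d8_fix6_b : (d8List.all fun x => x 6 == 6) = true := by
  decide +kernel

theorem d8_fix6 : ∀ x ∈ d8List, x 6 = 6 := by
  intro x hx
  have h := d8_fix6_b
  rw [List.all_eq_true] at h
  exact eq_of_beq (h x hx)

theorem d8_comm_pa_b : (d8List.all fun x => peq (x * pa) (pa * x)) = true := by
  decide +kernel

theorem d8_comm_pa : ∀ x ∈ d8List, x * pa = pa * x := by
  intro x hx
  have h := d8_comm_pa_b
  rw [List.all_eq_true] at h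
  exact (peq_iff _ _).mp (h x hx)

theorem d8_center_b :
    (d8List.all fun x => !(d8List.all fun y => peq (x * y) (y * x)) || (peq x 1 || peq x pa))
      = true := by
  decide +kernel

theorem d8_center : ∀ x ∈ d8List, (∀ y ∈ d8List, x * y = y * x) → x = 1 ∨ x = pa := by
  intro x hx hc
  have h := d8_center_b
  rw [List.all_eq_true] at h
  have h1 := h x hx
  have h2 : (d8List.all fun y => peq (x * y) (y * x)) = true := by
    rw [List.all_eq_true]
    intro y hy
    exact (peq_iff _ _).mpr (hc y hy)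
  rw [h2] at h1
  simp only [Bool.not_true, Bool.false_or, Bool.or_eq_true] at h1
  rcases h1 with h1 | h1
  · exact Or.inl ((peq_iff _ _).mp h1)
  · exact Or.inr ((peq_iff _ _).mp h1)

theorem d8_fix_b :
    ((List.finRange 7).all fun i => !(d8List.all fun x => x i == i) || i == 6) = true := by
  decide +kernel

theorem d8_fix : ∀ i : Fin 7, (∀ x ∈ d8List, x i = i) → i = 6 := by
  intro i hi
  have h := d8_fix_b
  rw [List.all_eq_true] at h
  have h1 := h i (List.mem_finRange i)
  have h2 : (d8List.all fun x => x i == i) = true := by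
    rw [List.all_eq_true]
    intro x hx
    exact beq_iff_eq.mpr (hi x hx)
  rw [h2] at h1
  simp only [Bool.not_true, Bool.false_or] at h1
  exact eq_of_beq h1

theorem d8_reg_b :
    ((List.finRange 7).all fun p0 => (List.finRange 7).all fun p2 =>
      !(decide (p0 < 4) && decide (p2 < 4) && !(p2 == p0) && !(p2 == pa p0)) ||
        d8List.any fun y => y 0 == p0 && y 2 == p2) = true := by
  decide +kernel

theorem d8_reg : ∀ p0 p2 : Fin 7, p0 < 4 → p2 < 4 → p2 ≠ p0 → p2 ≠ pa p0 →
    ∃ y ∈ d8List, y 0 = p0 ∧ y 2 = p2 := by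
  intro p0 p2 h0 h2 hne hne'
  have h := d8_reg_b
  rw [List.all_eq_true] at h
  have h1 := h p0 (List.mem_finRange p0)
  rw [List.all_eq_true] at h1
  have h3 := h1 p2 (List.mem_finRange p2)
  have h4 : (decide (p0 < 4) && decide (p2 < 4) && !(p2 == p0) && !(p2 == pa p0)) = true := by
    simp [h0, h2, hne, hne']
  rw [h4] at h3
  simp only [Bool.not_true, Bool.false_or] at h3
  rw [List.any_eq_true] at h3
  obtain ⟨y, hy, hy2⟩ := h3
  rw [Bool.and_eq_true] at hy2
  exact ⟨y, hy, eq_of_beq hy2.1, eq_of_beq hy2.2⟩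

theorem pa_moves : ∀ i : Fin 7, pa i ≠ i → i < 4 := by
  decide +kernel

theorem pa_zero : pa 0 = 1 := by decide +kernel

theorem pa_two : pa 2 = 3 := by decide +kernel

theorem pa_ne_one : pa ≠ 1 := by
  intro h
  have := congrArg (fun z : Equiv.Perm (Fin 7) => z 0) h
  simp only [pa_zero, Equiv.Perm.coe_one, id_eq] at this
  exact absurd this (by decide)

theorem fin7_rest : ∀ v : Fin 7, v ≠ 0 → v ≠ 1 → v ≠ 2 → v ≠ 3 → v ≠ 6 → v = 4 ∨ v = 5 := by
  decide

/-- an even permutation normalising `D8` lies in `D8` -/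
theorem d8_normalizer (π : Equiv.Perm (Fin 7)) (hs : Equiv.Perm.sign π = 1)
    (hn : ∀ x ∈ D8, π * x * π⁻¹ ∈ D8) : π ∈ D8 := by
  have hsurj : ∀ y ∈ D8, ∃ x ∈ D8, π * x * π⁻¹ = y := by
    let f : ↥D8 → ↥D8 := fun x => ⟨π * x.1 * π⁻¹, hn x.1 x.2⟩
    have hf : Function.Injective f := by
      intro x y h
      have h1 : π * x.1 * π⁻¹ = π * y.1 * π⁻¹ := congrArg Subtype.val h
      apply Subtype.ext
      exact mul_left_cancel (mul_right_cancel h1)
    have hsf := Finite.surjective_of_injective hf
    intro y hy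
    obtain ⟨x, hx⟩ := hsf ⟨y, hy⟩
    exact ⟨x.1, x.2, congrArg Subtype.val hx⟩
  have hcen : π * pa * π⁻¹ = pa := by
    have h1 := hn pa pa_mem
    have hc : ∀ y ∈ d8List, π * pa * π⁻¹ * y = y * (π * pa * π⁻¹) := by
      intro y hy
      obtain ⟨x, hx, rfl⟩ := hsurj y hy
      have hc := d8_comm_pa x hx
      calc π * pa * π⁻¹ * (π * x * π⁻¹) = π * (pa * x) * π⁻¹ := by group
        _ = π * (x * pa) * π⁻¹ := by rw [hc]
        _ = π * x * π⁻¹ * (π * pa * π⁻¹) := by group
    rcases d8_center _ h1 hc with h | h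
    · exfalso
      apply pa_ne_one
      calc pa = π⁻¹ * (π * pa * π⁻¹) * π := by group
        _ = 1 := by rw [h]; group
    · exact h
  have hcomm' : π * pa = pa * π := by
    calc π * pa = (π * pa * π⁻¹) * π := by group
      _ = pa * π := by rw [hcen]
  have hcomm : ∀ i, π (pa i) = pa (π i) := fun i =>
    congrArg (fun z : Equiv.Perm (Fin 7) => z i) hcomm'
  have h6 : π 6 = 6 := by
    apply d8_fix
    intro x hx
    obtain ⟨x', hx', rfl⟩ := hsurj x hx
    show π (x' (π⁻¹ (π 6))) = π 6
    rw [perm_inv_apply, d8_fix6 x' hx']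
  have hinj := π.injective
  have hp0 : π 0 < 4 := by
    apply pa_moves
    rw [← hcomm, pa_zero]
    intro h
    exact absurd (hinj h) (by decide)
  have hp2 : π 2 < 4 := by
    apply pa_moves
    rw [← hcomm, pa_two]
    intro h
    exact absurd (hinj h) (by decide)
  have hne : π 2 ≠ π 0 := fun h => absurd (hinj h) (by decide)
  have hne' : π 2 ≠ pa (π 0) := by
    rw [← hcomm, pa_zero]
    exact fun h => absurd (hinj h) (by decide)
  obtain ⟨y, hy, hy0, hy2⟩ := d8_reg (π 0) (π 2) hp0 hp2 hne hne'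
  have hyc : y⁻¹ * pa = pa * y⁻¹ := by
    have := d8_comm_pa y hy
    calc y⁻¹ * pa = y⁻¹ * (pa * y) * y⁻¹ := by group
      _ = y⁻¹ * (y * pa) * y⁻¹ := by rw [this]
      _ = pa * y⁻¹ := by group
  set π' := y⁻¹ * π with hπ'
  have hc' : ∀ i, π' (pa i) = pa (π' i) := by
    intro i
    show y⁻¹ (π (pa i)) = pa (y⁻¹ (π i))
    rw [hcomm]
    exact congrArg (fun z : Equiv.Perm (Fin 7) => z (π i)) hyc
  have e0 : π' 0 = 0 := by
    show y⁻¹ (π 0) = 0
    rw [← hy0, perm_inv_apply]
  have e2 : π' 2 = 2 := by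
    show y⁻¹ (π 2) = 2
    rw [← hy2, perm_inv_apply]
  have e1 : π' 1 = 1 := by
    have := hc' 0
    rw [pa_zero, e0, pa_zero] at this
    exact this
  have e3 : π' 3 = 3 := by
    have := hc' 2
    rw [pa_two, e2, pa_two] at this
    exact this
  have e6 : π' 6 = 6 := by
    show y⁻¹ (π 6) = 6
    rw [h6, Equiv.Perm.inv_eq_iff_eq, d8_fix6 y hy]
  have hinj' := π'.injective
  have e4 : π' 4 = 4 ∨ π' 4 = 5 := by
    apply fin7_rest
    · rw [← e0]; exact fun h => absurd (hinj' h) (by decide)
    · rw [← e1]; exact fun h => absurd (hinj' h) (by decide)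
    · rw [← e2]; exact fun h => absurd (hinj' h) (by decide)
    · rw [← e3]; exact fun h => absurd (hinj' h) (by decide)
    · rw [← e6]; exact fun h => absurd (hinj' h) (by decide)
  have e5 : π' 5 = 4 ∨ π' 5 = 5 := by
    apply fin7_rest
    · rw [← e0]; exact fun h => absurd (hinj' h) (by decide)
    · rw [← e1]; exact fun h => absurd (hinj' h) (by decide)
    · rw [← e2]; exact fun h => absurd (hinj' h) (by decide)
    · rw [← e3]; exact fun h => absurd (hinj' h) (by decide)
    · rw [← e6]; exact fun h => absurd (hinj' h) (by decide)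
  have h45 : π' 4 ≠ π' 5 := fun h => absurd (hinj' h) (by decide)
  have hsign : Equiv.Perm.sign π' = 1 := by
    rw [hπ', Equiv.Perm.sign_mul, Equiv.Perm.sign_inv, d8_sign y hy, hs, one_mul]
  have hπy : π = y * π' := by rw [hπ']; group
  rcases e4 with e4 | e4
  · have e5' : π' 5 = 5 := by
      rcases e5 with e5 | e5
      · exact absurd (e4.trans e5.symm) h45
      · exact e5
    have h1 : π' = 1 := by
      apply Equiv.ext
      intro i
      fin_cases i
      · exact e0
      · exact e1
      · exact e2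
      · exact e3
      · exact e4
      · exact e5'
      · exact e6
    rw [hπy, h1, mul_one]
    exact hy
  · exfalso
    have e5' : π' 5 = 4 := by
      rcases e5 with e5 | e5
      · exact e5
      · exact absurd (e4.trans e5.symm) h45
    have h1 : π' = Equiv.swap 4 5 := by
      apply Equiv.ext
      intro i
      fin_cases i
      · exact e0.trans (by decide)
      · exact e1.trans (by decide)
      · exact e2.trans (by decide)
      · exact e3.trans (by decide)
      · exact e4.trans (by decide)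
      · exact e5'.trans (by decide)
      · exact e6.trans (by decide)
    rw [h1, Equiv.Perm.sign_swap (by decide)] at hsign
    exact absurd hsign (by decide)

end Cfsg.Agent.Lib.Helper20.O7
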