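import Mathlib
import Cfsg.Agent.Lib.Helper20.O7Sign
import Cfsg.Agent.Lib.Helper20.O7D8

set_option autoImplicit false
set_option linter.style.haveILetI false
set_option linter.unusedSimpArgs false
set_option linter.unusedSectionVars false

/-!
The monomial Sylow `2`-subgroup of `Ω₇(q)`, `q ≡ ±3 (mod 8)`.
-/

namespace Cfsg.Agent.Lib.Helper20.O7

open Cfsg.Agent.Lib.Helper37 Cfsg.Agent.Lib.Helper20.Orth Matrix

/-- the Sylow subgroup inside the signed permutation group -/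
def W0 : Subgroup (SW (Fin 7)) := (chiW (Fin 7)).ker ⊓ D8.comap SemidirectProduct.rightHom

theorem mem_W0 (w : SW (Fin 7)) : w ∈ W0 ↔ (∏ k, w.left k = 1) ∧ w.right ∈ D8 := by
  unfold W0
  rw [Subgroup.mem_inf, MonoidHom.mem_ker, chiW_eq_one_iff, Subgroup.mem_comap]
  constructor
  · rintro ⟨⟨h1, -⟩, h2⟩
    exact ⟨h1, h2⟩
  · rintro ⟨h1, h2⟩
    exact ⟨⟨h1, d8_sign _ h2⟩, h2⟩

theorem inl_mem_W0 (δ : Fin 7 → ℤˣ) :
    (SemidirectProduct.inl δ : SW (Fin 7)) ∈ W0 ↔ ∏ k, δ k = 1 := by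
  rw [mem_W0]
  simp only [SemidirectProduct.left_inl, SemidirectProduct.right_inl, and_iff_left_iff_imp]
  intro _
  exact D8.one_mem

theorem inr_mem_W0 (σ : Equiv.Perm (Fin 7)) :
    (SemidirectProduct.inr σ : SW (Fin 7)) ∈ W0 ↔ σ ∈ D8 := by
  rw [mem_W0]
  simp

theorem card_W0 : Nat.card ↥W0 = 512 := by
  have e : ↥W0 ≃ ↥(prodHom (Fin 7)).ker × ↥D8 :=
    { toFun := fun w => (⟨w.1.left, ((mem_W0 w.1).mp w.2).1⟩, ⟨w.1.right, ((mem_W0 w.1).mp w.2).2⟩)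
      invFun := fun p => ⟨⟨p.1.1, p.2.1⟩, (mem_W0 _).mpr ⟨p.1.2, p.2.2⟩⟩
      left_inv := fun w => rfl
      right_inv := fun p => rfl }
  rw [Nat.card_congr e, Nat.card_prod, card_D8]
  have h := card_ker_prodHom (Fin 7)
  rw [Fintype.card_fin] at h
  omega

section field

variable (F : Type*) [Field F] [Fintype F] [DecidableEq F]

/-- the Sylow subgroup of the orthogonal group -/
def S0 : Subgroup (OG (Fin 7) F) := W0.map (rho (Fin 7) F)

theorem card_S0 (h2 : (2 : F) ≠ 0) : Nat.card ↥(S0 F) = 512 := by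
  unfold S0
  rw [Subgroup.card_map_of_injective (rho_injective (Fin 7) F h2), card_W0]

theorem rho_mem_S0 (h2 : (2 : F) ≠ 0) (w : SW (Fin 7)) : rho (Fin 7) F w ∈ S0 F ↔ w ∈ W0 := by
  unfold S0
  exact Subgroup.mem_map_iff_mem (rho_injective (Fin 7) F h2)

theorem S0_le_omega (h2 : (2 : F) ≠ 0) (hns : ¬ IsSquare (2 : F)) :
    S0 F ≤ Cfsg.Omega F (stdQ (Fin 7) F) := by
  rintro g ⟨w, hw, rfl⟩
  rw [rho_mem_omega_iff (Fin 7) F h2 hns]
  exact (Subgroup.mem_inf.mp hw).1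

end field

end Cfsg.Agent.Lib.Helper20.O7
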