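import Mathlib
import Cfsg.Agent.Lib.Helper20.O7Syl
import Cfsg.Agent.Lib.Helper20.O7Code

set_option autoImplicit false
set_option linter.style.haveILetI false
set_option linter.unusedSimpArgs false
set_option linter.unusedSectionVars false

/-!
The centre of the monomial Sylow `2`-subgroup.
-/

namespace Cfsg.Agent.Lib.Helper20.O7

open Cfsg.Agent.Lib.Helper37

/-- the sign vector `(-1, …, -1, 1)` -/
def eps3 : Fin 7 → ℤˣ := fun k => if k = 6 then 1 else -1

theorem prod_eps3 : ∏ k, eps3 k = 1 := by
  decide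

theorem eps3_ne_one : eps3 ≠ 1 := by
  intro h
  have := congrFun h 0
  exact absurd this (by decide)

theorem permAct_eps3 {σ : Equiv.Perm (Fin 7)} (h6 : σ 6 = 6) : permAct (Fin 7) σ eps3 = eps3 := by
  funext k
  rw [permAct_apply]
  unfold eps3
  have : σ⁻¹ k = 6 ↔ k = 6 := by
    rw [Equiv.Perm.inv_eq_iff_eq, h6]
  by_cases hk : k = 6
  · rw [if_pos hk, if_pos (this.mpr hk)]
  · rw [if_neg hk, if_neg (fun h => hk (this.mp h))]

theorem eps3_central (w : SW (Fin 7)) (hw : w ∈ W0) :
    SemidirectProduct.inl eps3 * w = w * SemidirectProduct.inl eps3 := by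
  have h6 : w.right 6 = 6 := d8_fix6 _ ((mem_W0 w).mp hw).2
  have := conj_inl (Fin 7) w eps3
  rw [permAct_eps3 h6] at this
  calc SemidirectProduct.inl eps3 * w = (w * SemidirectProduct.inl eps3 * w⁻¹) * w := by rw [this]
    _ = w * SemidirectProduct.inl eps3 := by group

theorem pa_inv_0 : pa⁻¹ 0 = 1 := by decide +kernel
theorem pa_inv_2 : pa⁻¹ 2 = 3 := by decide +kernel
theorem pb_inv_0 : pb⁻¹ 0 = 2 := by decide +kernel
theorem pc_inv_4 : pc⁻¹ 4 = 5 := by decide +kernel

/-- the shape of the central elements -/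
theorem center_W0 (v : SW (Fin 7)) (hv : v ∈ W0) (hc : ∀ w ∈ W0, v * w = w * v) :
    v.right = 1 ∧ v.left 1 = v.left 0 ∧ v.left 2 = v.left 0 ∧ v.left 3 = v.left 0 ∧
      v.left 5 = v.left 4 ∧ v.left 6 = 1 := by
  have hr : v.right = 1 := by
    by_contra hr
    have : ∃ a, v.right a ≠ a := by
      by_contra hcon
      push Not at hcon
      exact hr (Equiv.ext hcon)
    obtain ⟨a, ha⟩ := this
    obtain ⟨c, hca, hcb⟩ := exists_third a (v.right a)
    have hδW : (SemidirectProduct.inl (dd a c) : SW (Fin 7)) ∈ W0 :=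
      (inl_mem_W0 _).mpr (prod_dd a c)
    have h1 := hc _ hδW
    have h2 : v * SemidirectProduct.inl (dd a c) * v⁻¹ = SemidirectProduct.inl (dd a c) := by
      rw [h1]
      group
    rw [conj_inl] at h2
    have h3 := congrFun (SemidirectProduct.inl_injective h2) (v.right a)
    rw [permAct_apply, perm_inv_apply, dd_apply_left (Ne.symm hca),
      dd_apply_ne ha (Ne.symm hcb)] at h3
    exact absurd h3 (by decide)
  have hinv : ∀ σ ∈ D8, ∀ k, v.left (σ⁻¹ k) = v.left k := by
    intro σ hσ k
    have h1 := hc _ ((inr_mem_W0 σ).mpr hσ)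
    have hvl : v = SemidirectProduct.inl v.left := by
      apply SemidirectProduct.ext
      · rfl
      · rw [hr]
        rfl
    have h2 : SemidirectProduct.inr σ * SemidirectProduct.inl v.left *
        (SemidirectProduct.inr σ : SW (Fin 7))⁻¹ = SemidirectProduct.inl v.left := by
      rw [← hvl, ← h1]
      group
    rw [conj_inl] at h2
    have h3 := congrFun (SemidirectProduct.inl_injective h2) k
    rw [permAct_apply] at h3
    exact h3
  have e1 : v.left 1 = v.left 0 := by
    have := hinv pa pa_mem 0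
    rw [pa_inv_0] at this
    exact this
  have e3 : v.left 3 = v.left 2 := by
    have := hinv pa pa_mem 2
    rw [pa_inv_2] at this
    exact this
  have e2 : v.left 2 = v.left 0 := by
    have := hinv pb pb_mem 0
    rw [pb_inv_0] at this
    exact this
  have e5 : v.left 5 = v.left 4 := by
    have := hinv pc pc_mem 4
    rw [pc_inv_4] at this
    exact this
  refine ⟨hr, e1, e2, e3.trans e2, e5, ?_⟩
  have hp := ((mem_W0 v).mp hv).1
  rw [Fin.prod_univ_seven, e1, e3, e2, e5] at hp
  have h00 : v.left 0 * v.left 0 = 1 := Int.units_mul_self _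
  have h44 : v.left 4 * v.left 4 = 1 := Int.units_mul_self _
  calc v.left 6 = (v.left 0 * v.left 0) * (v.left 0 * v.left 0) * (v.left 4 * v.left 4) * v.left 6 := by
        rw [h00, h44]
        simp
    _ = v.left 0 * v.left 0 * v.left 0 * v.left 0 * v.left 4 * v.left 4 * v.left 6 := by
        simp only [mul_assoc]
    _ = 1 := hp

end Cfsg.Agent.Lib.Helper20.O7
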