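import Mathlib
import Cfsg.Agent.Lib.Helper20.O7Code

set_option autoImplicit false
set_option linter.style.haveILetI false
set_option linter.unusedSimpArgs false
set_option linter.unusedSectionVars false

/-!
Conjugating a diagonal involution to a non-diagonal monomial involution by the reflection in a
vector `e_i + e_j + e_k + e_l`.
-/

namespace Cfsg.Agent.Lib.Helper20.O7

open Cfsg.Agent.Lib.Helper37 Cfsg.Agent.Lib.Helper20.Orth Matrix

section wv

variable {κ : Type} [Fintype κ] [DecidableEq κ] {F : Type*} [Field F]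

/-- four pairwise distinct indices -/
structure Dist4 (i j k l : κ) : Prop where
  ij : i ≠ j
  ik : i ≠ k
  il : i ≠ l
  jk : j ≠ k
  jl : j ≠ l
  kl : k ≠ l

/-- the vector `e_i + e_j + e_k + e_l` -/
def wv (F : Type*) [Field F] (i j k l : κ) : κ → F :=
  Pi.single i 1 + Pi.single j 1 + Pi.single k 1 + Pi.single l 1

theorem sum_wv (i j k l : κ) (x : κ → F) :
    ∑ m, wv F i j k l m * x m = x i + x j + x k + x l := by
  unfold wv
  simp_rw [Pi.add_apply, add_mul]
  rw [Finset.sum_add_distrib, Finset.sum_add_distrib, Finset.sum_add_distrib, sum_single_mul,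
    sum_single_mul, sum_single_mul, sum_single_mul]
  ring

variable {i j k l : κ}

theorem wv_1 (h : Dist4 i j k l) : wv F i j k l i = 1 := by
  simp [wv, Pi.single_apply, h.ij, h.ik, h.il]

theorem wv_2 (h : Dist4 i j k l) : wv F i j k l j = 1 := by
  simp [wv, Pi.single_apply, h.ij.symm, h.jk, h.jl]

theorem wv_3 (h : Dist4 i j k l) : wv F i j k l k = 1 := by
  simp [wv, Pi.single_apply, h.ik.symm, h.jk.symm, h.kl]

theorem wv_4 (h : Dist4 i j k l) : wv F i j k l l = 1 := by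
  simp [wv, Pi.single_apply, h.il.symm, h.jl.symm, h.kl.symm]

theorem wv_ne {a : κ} (h1 : a ≠ i) (h2 : a ≠ j) (h3 : a ≠ k) (h4 : a ≠ l) :
    wv F i j k l a = 0 := by
  simp [wv, Pi.single_apply, h1, h2, h3, h4]

theorem stdQ_wv (h : Dist4 i j k l) : stdQ κ F (wv F i j k l) = 4 := by
  rw [stdQ_eq_sum, sum_wv, wv_1 h, wv_2 h, wv_3 h, wv_4 h]
  norm_num

theorem four_inv_two (h2 : (2 : F) ≠ 0) (t : F) : (4 : F)⁻¹ * (2 * t) = 2⁻¹ * t := by
  have h4 : (4 : F) ≠ 0 := by
    have : (4 : F) = 2 * 2 := by norm_num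
    rw [this]
    exact mul_ne_zero h2 h2
  field_simp
  ring

theorem refl_wv_apply (h2 : (2 : F) ≠ 0) (h : Dist4 i j k l) (x : κ → F) (a : κ) :
    (Cfsg.reflectionMatrix (stdQ κ F) (wv F i j k l) *ᵥ x) a =
      x a - 2⁻¹ * (x i + x j + x k + x l) * wv F i j k l a := by
  rw [std_refl_mulVec h2, stdQ_wv h, sum_wv, four_inv_two h2]
  rfl

/-- the double transposition -/
def dswap (i j k l : κ) : Equiv.Perm κ := Equiv.swap i j * Equiv.swap k l

theorem dswap_inv_1 (h : Dist4 i j k l) : (dswap i j k l)⁻¹ i = j := by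
  rw [Equiv.Perm.inv_eq_iff_eq]
  unfold dswap
  rw [Equiv.Perm.mul_apply, Equiv.swap_apply_of_ne_of_ne h.jk h.jl, Equiv.swap_apply_right]

theorem dswap_inv_2 (h : Dist4 i j k l) : (dswap i j k l)⁻¹ j = i := by
  rw [Equiv.Perm.inv_eq_iff_eq]
  unfold dswap
  rw [Equiv.Perm.mul_apply, Equiv.swap_apply_of_ne_of_ne h.ik h.il, Equiv.swap_apply_left]

theorem dswap_inv_3 (h : Dist4 i j k l) : (dswap i j k l)⁻¹ k = l := by
  rw [Equiv.Perm.inv_eq_iff_eq]
  unfold dswap
  rw [Equiv.Perm.mul_apply, Equiv.swap_apply_right,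
    Equiv.swap_apply_of_ne_of_ne h.ik.symm h.jk.symm]

theorem dswap_inv_4 (h : Dist4 i j k l) : (dswap i j k l)⁻¹ l = k := by
  rw [Equiv.Perm.inv_eq_iff_eq]
  unfold dswap
  rw [Equiv.Perm.mul_apply, Equiv.swap_apply_left,
    Equiv.swap_apply_of_ne_of_ne h.il.symm h.jl.symm]

theorem dswap_inv_ne {a : κ} (h1 : a ≠ i) (h2 : a ≠ j) (h3 : a ≠ k) (h4 : a ≠ l) :
    (dswap i j k l)⁻¹ a = a := by
  rw [Equiv.Perm.inv_eq_iff_eq]
  unfold dswap
  rw [Equiv.Perm.mul_apply, Equiv.swap_apply_of_ne_of_ne h3 h4,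
    Equiv.swap_apply_of_ne_of_ne h1 h2]

theorem signCast_one' : signCast F 1 = 1 := map_one _

/-- the key matrix identity -/
theorem wv_conj_mulVec (h2 : (2 : F) ≠ 0) (h : Dist4 i j k l) (x : κ → F) :
    Cfsg.reflectionMatrix (stdQ κ F) (wv F i j k l) *ᵥ
        (mat κ F (rho κ F (SemidirectProduct.inl (dd i j))) *ᵥ x) =
      mat κ F (rho κ F ⟨dd k l, dswap i j k l⟩) *ᵥ
        (Cfsg.reflectionMatrix (stdQ κ F) (wv F i j k l) *ᵥ x) := by
  funext a
  have hy : ∀ m, (mat κ F (rho κ F (SemidirectProduct.inl (dd i j))) *ᵥ x) m =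
      signCast F (dd i j m) * x m := by
    intro m
    rw [rho_mulVec]
    rfl
  have hL := refl_wv_apply h2 h (mat κ F (rho κ F (SemidirectProduct.inl (dd i j))) *ᵥ x) a
  have hR := rho_mulVec κ F ⟨dd k l, dswap i j k l⟩
    (Cfsg.reflectionMatrix (stdQ κ F) (wv F i j k l) *ᵥ x) a
  rw [hL, hR, refl_wv_apply h2 h x, hy a, hy i, hy j, hy k, hy l,
    dd_apply_left h.ij, dd_apply_right h.ij, dd_apply_ne h.ik.symm h.jk.symm,
    dd_apply_ne h.il.symm h.jl.symm, signCast_neg_one, signCast_one']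
  show _ = signCast F (dd k l a) * _
  by_cases h1 : a = i
  · rw [h1, dswap_inv_1 h, dd_apply_left h.ij, dd_apply_ne h.ik h.il, wv_1 h, wv_2 h,
      signCast_neg_one, signCast_one']
    field_simp
    ring
  · by_cases h2' : a = j
    · rw [h2', dswap_inv_2 h, dd_apply_right h.ij, dd_apply_ne h.jk h.jl, wv_1 h, wv_2 h,
        signCast_neg_one, signCast_one']
      field_simp
      ring
    · by_cases h3 : a = k
      · rw [h3, dswap_inv_3 h, dd_apply_ne h.ik.symm h.jk.symm, dd_apply_left h.kl, wv_3 h,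
          wv_4 h, signCast_neg_one, signCast_one']
        field_simp
        ring
      · by_cases h4 : a = l
        · rw [h4, dswap_inv_4 h, dd_apply_ne h.il.symm h.jl.symm, dd_apply_right h.kl, wv_3 h,
            wv_4 h, signCast_neg_one, signCast_one']
          field_simp
          ring
        · rw [dswap_inv_ne h1 h2' h3 h4, dd_apply_ne h1 h2', dd_apply_ne h3 h4,
            wv_ne h1 h2' h3 h4, signCast_one']
          ring

end wv

section conj

variable {κ : Type} [Fintype κ] [DecidableEq κ] {F : Type*} [Field F] [Fintype F] [DecidableEq F]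
  {i j k l : κ}

theorem stdQ_wv_ne (h2 : (2 : F) ≠ 0) (h : Dist4 i j k l) : stdQ κ F (wv F i j k l) ≠ 0 := by
  rw [stdQ_wv h]
  have : (4 : F) = 2 * 2 := by norm_num
  rw [this]
  exact mul_ne_zero h2 h2

/-- the conjugating element: a reflection times a sign change -/
noncomputable def conjElt (h2 : (2 : F) ≠ 0) (h : Dist4 i j k l) (m : κ) : OG κ F :=
  (isGram_std (κ := κ) h2).reflG (wv F i j k l) (stdQ_wv_ne h2 h) *
    rho κ F (SemidirectProduct.inl (sg m))

theorem conjElt_mem (h2 : (2 : F) ≠ 0) (hns : ¬ IsSquare (2 : F)) (h : Dist4 i j k l) (m : κ) :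
    conjElt h2 h m ∈ Cfsg.Omega F (stdQ κ F) := by
  rw [mem_omega_iff_signPair κ F h2 hns, conjElt, map_mul, signPair_rho_apply κ F h2 hns,
    ((isGram_std (κ := κ) h2).signPair_reflG _ _ 2 hns).1
      (by rw [stdQ_wv h]; exact ⟨2, by norm_num⟩), chiW_apply]
  apply Prod.ext
  · show (-1 : ℤˣ) * ∏ x, (sg m : κ → ℤˣ) x = 1
    rw [prod_sg]
    decide
  · simp

theorem conjElt_conj (h2 : (2 : F) ≠ 0) (h : Dist4 i j k l) (m : κ) :
    conjElt h2 h m * rho κ F (SemidirectProduct.inl (dd i j)) * (conjElt h2 h m)⁻¹ =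
      rho κ F ⟨dd k l, dswap i j k l⟩ := by
  set R := (isGram_std (κ := κ) h2).reflG (wv F i j k l) (stdQ_wv_ne h2 h) with hR
  set s := rho κ F (SemidirectProduct.inl (sg m)) with hs
  set D := rho κ F (SemidirectProduct.inl (dd i j)) with hD
  set M := rho κ F ⟨dd k l, dswap i j k l⟩ with hM
  have hRD : R * D = M * R := by
    apply mat_injective
    rw [mat_mul, mat_mul]
    apply Matrix.mulVec_injective
    funext x
    rw [← Matrix.mulVec_mulVec, ← Matrix.mulVec_mulVec]
    exact wv_conj_mulVec h2 h x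
  have hsD : s * D = D * s := by
    rw [hs, hD, ← map_mul, ← map_mul, ← map_mul, ← map_mul, mul_comm]
  show R * s * D * (R * s)⁻¹ = M
  calc R * s * D * (R * s)⁻¹ = R * (s * D) * s⁻¹ * R⁻¹ := by group
    _ = R * (D * s) * s⁻¹ * R⁻¹ := by rw [hsD]
    _ = (R * D) * R⁻¹ := by group
    _ = M * R * R⁻¹ := by rw [hRD]
    _ = M := by group

end conj

end Cfsg.Agent.Lib.Helper20.O7
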