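import Mathlib
import Cfsg.Agent.Lib.Helper20.O7Syl
import Cfsg.Agent.Lib.Helper20.O7Conj

set_option autoImplicit false
set_option linter.style.haveILetI false
set_option linter.unusedSimpArgs false
set_option linter.unusedSectionVars false

/-!
No proper non-trivial strongly closed subgroup in the monomial Sylow `2`-subgroup of `Ω₇(q)`.
-/

namespace Cfsg.Agent.Lib.Helper20.O7

open Cfsg.Agent.Lib.Helper37 Cfsg.Agent.Lib.Helper20.Orth Matrix

variable (F : Type*) [Field F] [Fintype F] [DecidableEq F]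

theorem dswap_pa : dswap (0 : Fin 7) 1 2 3 = pa := rfl

theorem dswap_pb : dswap (0 : Fin 7) 2 1 3 = pb := rfl

theorem dswap_pc : dswap (0 : Fin 7) 1 4 5 = pc := rfl

theorem relA (h2 : (2 : F) ≠ 0) (hns : ¬ IsSquare (2 : F)) (T : Subgroup (OG (Fin 7) F))
    (hT : T ≤ S0 F) (hne : T ≠ ⊥)
    (hsc : ∀ x ∈ T, ∀ g ∈ Cfsg.Omega F (stdQ (Fin 7) F), g * x * g⁻¹ ∈ S0 F → g * x * g⁻¹ ∈ T) :
    T = S0 F := by
  classical
  have hΩ := S0_le_omega F h2 hns
  have hnorm : ∀ x ∈ T, ∀ g ∈ S0 F, g * x * g⁻¹ ∈ T := fun x hx g hg =>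
    hsc x hx g (hΩ hg) ((S0 F).mul_mem ((S0 F).mul_mem hg (hT hx)) ((S0 F).inv_mem hg))
  let P : (Fin 7 → ℤˣ) → Prop := fun δ => rho (Fin 7) F (SemidirectProduct.inl δ) ∈ T
  have hPprod : ∀ δ, P δ → ∏ k, δ k = 1 := fun δ hδ =>
    (inl_mem_W0 δ).mp ((rho_mem_S0 F h2 _).mp (hT hδ))
  have hmul : ∀ δ δ', P δ → P δ' → P (δ * δ') := by
    intro δ δ' h1 h2'
    show rho (Fin 7) F (SemidirectProduct.inl (δ * δ')) ∈ T
    rw [map_mul, map_mul]
    exact T.mul_mem h1 h2'
  have hperm : ∀ σ : Equiv.Perm (Fin 7), Equiv.Perm.sign σ = 1 → ∀ δ, P δ →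
      P (permAct (Fin 7) σ δ) := by
    intro σ hσ δ hδ
    have hg : rho (Fin 7) F (SemidirectProduct.inr σ) ∈ Cfsg.Omega F (stdQ (Fin 7) F) := by
      rw [rho_mem_omega_iff (Fin 7) F h2 hns, chiW_eq_one_iff]
      simp [hσ]
    have hc : rho (Fin 7) F (SemidirectProduct.inr σ) * rho (Fin 7) F (SemidirectProduct.inl δ) *
        (rho (Fin 7) F (SemidirectProduct.inr σ))⁻¹ =
        rho (Fin 7) F (SemidirectProduct.inl (permAct (Fin 7) σ δ)) := by
      rw [← map_inv, ← map_mul, ← map_mul, conj_inl]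
      rfl
    have := hsc _ hδ _ hg (by
      rw [hc, rho_mem_S0 F h2, inl_mem_W0, prod_permAct]
      exact hPprod δ hδ)
    rw [hc] at this
    exact this
  have hex : ∃ δ₀, P δ₀ ∧ δ₀ ≠ 1 := by
    obtain ⟨x, hxT, hx1⟩ : ∃ x ∈ T, x ≠ 1 := by
      by_contra hcon
      push Not at hcon
      apply hne
      rw [eq_bot_iff]
      intro x hx
      rw [Subgroup.mem_bot]
      exact hcon x hx
    obtain ⟨w, hw, rfl⟩ := hT hxT
    by_cases hr : w.right = 1
    · have hwl : w = SemidirectProduct.inl w.left := by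
        apply SemidirectProduct.ext
        · rfl
        · rw [hr]
          rfl
      refine ⟨w.left, ?_, ?_⟩
      · show rho (Fin 7) F (SemidirectProduct.inl w.left) ∈ T
        rw [← hwl]
        exact hxT
      · intro h
        apply hx1
        have : w = 1 := by
          rw [hwl, h]
          exact map_one _
        rw [this, map_one]
    · have : ∃ a, w.right a ≠ a := by
        by_contra hcon
        push Not at hcon
        exact hr (Equiv.ext hcon)
      obtain ⟨a, ha⟩ := this
      obtain ⟨c, hca, hcb⟩ := exists_third a (w.right a)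
      have hδW : (SemidirectProduct.inl (dd a c) : SW (Fin 7)) ∈ W0 :=
        (inl_mem_W0 _).mpr (prod_dd a c)
      have he : rho (Fin 7) F (SemidirectProduct.inl (dd a c)) ∈ S0 F :=
        (rho_mem_S0 F h2 _).mpr hδW
      have h1 := hnorm _ (T.inv_mem hxT) _ he
      have h2' := T.mul_mem hxT h1
      have hc : rho (Fin 7) F w * (rho (Fin 7) F (SemidirectProduct.inl (dd a c)) *
          (rho (Fin 7) F w)⁻¹ * (rho (Fin 7) F (SemidirectProduct.inl (dd a c)))⁻¹) =
          rho (Fin 7) F (SemidirectProduct.inl (permAct (Fin 7) w.right (dd a c) * (dd a c)⁻¹)) := by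
        have : w * (SemidirectProduct.inl (dd a c) * w⁻¹ * (SemidirectProduct.inl (dd a c))⁻¹) =
            SemidirectProduct.inl (permAct (Fin 7) w.right (dd a c) * (dd a c)⁻¹) := by
          rw [map_mul, map_inv, ← conj_inl]
          group
        rw [← this]
        simp only [map_mul, map_inv]
      refine ⟨permAct (Fin 7) w.right (dd a c) * (dd a c)⁻¹, ?_, ?_⟩
      · show rho (Fin 7) F (SemidirectProduct.inl _) ∈ T
        rw [← hc]
        exact h2'
      · intro h
        have h3 := congrFun h (w.right a)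
        rw [Pi.mul_apply, Pi.inv_apply, permAct_apply, perm_inv_apply, Pi.one_apply,
          dd_apply_left (Ne.symm hca), dd_apply_ne ha (Ne.symm hcb)] at h3
        exact absurd h3 (by decide)
  obtain ⟨δ₀, hP0, hne0⟩ := hex
  have hall := even_code P hmul hperm δ₀ hP0 hne0 (hPprod δ₀ hP0)
  have hgen : ∀ {i j k l : Fin 7} (h : Dist4 i j k l), dswap i j k l ∈ D8 →
      rho (Fin 7) F (SemidirectProduct.inr (dswap i j k l)) ∈ T := by
    intro i j k l h hD
    have hM : (⟨dd k l, dswap i j k l⟩ : SW (Fin 7)) ∈ W0 := (mem_W0 _).mpr ⟨prod_dd k l, hD⟩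
    have h1 := hsc _ (hall (dd i j) (prod_dd i j)) (conjElt h2 h i) (conjElt_mem h2 hns h i) (by
      rw [conjElt_conj]
      exact (rho_mem_S0 F h2 _).mpr hM)
    rw [conjElt_conj] at h1
    have h3 : rho (Fin 7) F (SemidirectProduct.inr (dswap i j k l)) =
        (rho (Fin 7) F (SemidirectProduct.inl (dd k l)))⁻¹ *
          rho (Fin 7) F ⟨dd k l, dswap i j k l⟩ := by
      rw [SemidirectProduct.mk_eq_inl_mul_inr, map_mul, inv_mul_cancel_left]
    rw [h3]
    exact T.mul_mem (T.inv_mem (hall _ (prod_dd k l))) h1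
  have ha : rho (Fin 7) F (SemidirectProduct.inr pa) ∈ T := by
    have := hgen (i := 0) (j := 1) (k := 2) (l := 3)
      ⟨by decide, by decide, by decide, by decide, by decide, by decide⟩ (by
        rw [dswap_pa]; exact pa_mem)
    rw [dswap_pa] at this
    exact this
  have hb : rho (Fin 7) F (SemidirectProduct.inr pb) ∈ T := by
    have := hgen (i := 0) (j := 2) (k := 1) (l := 3)
      ⟨by decide, by decide, by decide, by decide, by decide, by decide⟩ (by
        rw [dswap_pb]; exact pb_mem)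
    rw [dswap_pb] at this
    exact this
  have hc : rho (Fin 7) F (SemidirectProduct.inr pc) ∈ T := by
    have := hgen (i := 0) (j := 1) (k := 4) (l := 5)
      ⟨by decide, by decide, by decide, by decide, by decide, by decide⟩ (by
        rw [dswap_pc]; exact pc_mem)
    rw [dswap_pc] at this
    exact this
  have hD8 : ∀ σ ∈ d8List, rho (Fin 7) F (SemidirectProduct.inr σ) ∈ T := by
    apply d8_cases
    · rw [map_one, map_one]
      exact T.one_mem
    · exact ha
    · exact hb
    · rw [map_mul, map_mul]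
      exact T.mul_mem ha hb
    · exact hc
    · rw [map_mul, map_mul]
      exact T.mul_mem ha hc
    · rw [map_mul, map_mul]
      exact T.mul_mem hb hc
    · rw [map_mul, map_mul, map_mul, map_mul]
      exact T.mul_mem (T.mul_mem ha hb) hc
  apply le_antisymm hT
  rintro g ⟨w, hw, rfl⟩
  have hw' := (mem_W0 w).mp hw
  have : w = SemidirectProduct.inl w.left * SemidirectProduct.inr w.right :=
    (SemidirectProduct.inl_left_mul_inr_right w).symm
  rw [this]
  show rho (Fin 7) F (SemidirectProduct.inl w.left * SemidirectProduct.inr w.right) ∈ T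
  rw [map_mul]
  exact T.mul_mem (hall _ hw'.1) (hD8 _ hw'.2)

end Cfsg.Agent.Lib.Helper20.O7
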