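import Mathlib
import Cfsg.Agent.Lib.Helper20.O7Sign

set_option autoImplicit false
set_option linter.style.haveILetI false
set_option linter.unusedSimpArgs false
set_option linter.unusedSectionVars false

/-!
Monomial orthogonal matrices: recognition of signed permutation matrices, and reflections which
are monomial.
-/

namespace Cfsg.Agent.Lib.Helper20.O7

open Cfsg.Agent.Lib.Helper37 Cfsg.Agent.Lib.Helper20.Orth Matrix

section mono

variable {κ : Type} [Fintype κ] [DecidableEq κ] {F : Type*} [Field F]

theorem sum_mul_single (v : κ → F) (b : κ) : ∑ k, v k * (Pi.single b 1 : κ → F) k = v b := by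
  have : ∀ k, v k * (Pi.single b 1 : κ → F) k = (Pi.single b 1 : κ → F) k * v k :=
    fun k => mul_comm _ _
  simp_rw [this]
  rw [sum_single_mul, one_mul]

theorem refl_entry (h2 : (2 : F) ≠ 0) (v : κ → F) (hv : stdQ κ F v = 1) (a b : κ) :
    Cfsg.reflectionMatrix (stdQ κ F) v a b = (if a = b then 1 else 0) - 2 * v b * v a := by
  have h := congrFun (std_refl_mulVec h2 v (Pi.single b 1)) a
  rw [Matrix.mulVec_single_one, hv, sum_mul_single] at h
  rw [show Cfsg.reflectionMatrix (stdQ κ F) v a b =
    (Cfsg.reflectionMatrix (stdQ κ F) v).col b a from rfl, h]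
  simp only [Pi.sub_apply, Pi.smul_apply, smul_eq_mul, inv_one, one_mul, Pi.single_apply]

/-- a reflection in a vector of norm one which is a signed permutation matrix is the reflection
in a basis vector, provided `2` is not a square -/
theorem mono_refl (h2 : (2 : F) ≠ 0) (hns : ¬ IsSquare (2 : F)) (v : κ → F)
    (hv : stdQ κ F v = 1) (w : SW κ)
    (h : Cfsg.reflectionMatrix (stdQ κ F) v = mat κ F (rho κ F w)) :
    ∃ j, ∀ b, b ≠ j → v b = 0 := by
  have hne : ∃ j, v j ≠ 0 := by
    by_contra hcon
    push Not at hcon
    have : v = 0 := funext hcon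
    rw [this, stdQ_eq_sum] at hv
    simp at hv
  obtain ⟨j, hj⟩ := hne
  refine ⟨j, fun b hb => ?_⟩
  by_contra hvb
  have e1 : mat κ F (rho κ F w) j b ≠ 0 := by
    rw [← h, refl_entry h2 v hv, if_neg (Ne.symm hb), zero_sub, neg_ne_zero]
    exact mul_ne_zero (mul_ne_zero h2 hvb) hj
  have hr1 : w.right⁻¹ j = b := by
    by_contra hcon
    rw [mat_rho_apply, if_neg hcon] at e1
    exact e1 rfl
  have e2 : mat κ F (rho κ F w) b b = 0 := by
    by_contra hcon
    have hr2 : w.right⁻¹ b = b := by
      by_contra hcon2
      rw [mat_rho_apply, if_neg hcon2] at hcon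
      exact hcon rfl
    have : w.right⁻¹ j = w.right⁻¹ b := hr1.trans hr2.symm
    exact hb ((w.right⁻¹).injective this).symm
  rw [← h, refl_entry h2 v hv, if_pos rfl] at e2
  apply hns
  refine ⟨(v b)⁻¹, ?_⟩
  field_simp
  linear_combination -e2

theorem col_single (g : OG κ F) (i : κ) (b : κ) :
    (mat κ F g *ᵥ Pi.single i 1) b = mat κ F g b i := by
  rw [Matrix.mulVec_single_one]
  rfl

/-- an orthogonal matrix with one non-zero entry in each column is a signed permutation matrix -/
theorem exists_rho_eq (g : OG κ F)
    (h : ∀ i, ∃ j, ∀ b, b ≠ j → mat κ F g b i = 0) : ∃ w, rho κ F w = g := by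
  classical
  choose τ hτ using h
  have hsq : ∀ i, mat κ F g (τ i) i * mat κ F g (τ i) i = 1 := by
    intro i
    have h1 := mat_Q κ F g (Pi.single i 1)
    rw [stdQ_single, stdQ_eq_sum, Finset.sum_eq_single (τ i)] at h1
    · rw [col_single] at h1
      rw [h1, one_mul]
    · intro b _ hb
      rw [col_single, hτ i b hb, zero_mul]
    · intro hh
      exact absurd (Finset.mem_univ _) hh
  have hinj : Function.Injective τ := by
    intro i i' hii
    by_contra hne
    have h1 : (mat κ F g⁻¹ * mat κ F g) i i' = 0 := by
      rw [mat_inv_mul, Matrix.one_apply_ne hne]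
    have h2 : (mat κ F g⁻¹ * mat κ F g) i i = 1 := by
      rw [mat_inv_mul, Matrix.one_apply_eq]
    rw [Matrix.mul_apply, Finset.sum_eq_single (τ i')] at h1
    · rw [Matrix.mul_apply, Finset.sum_eq_single (τ i)] at h2
      · rw [hii] at h2
        have hz : mat κ F g (τ i') i' ≠ 0 := by
          intro hz
          have := hsq i'
          rw [hz, zero_mul] at this
          exact zero_ne_one this
        rcases mul_eq_zero.mp h1 with h3 | h3
        · rw [h3, zero_mul] at h2
          exact zero_ne_one h2
        · exact hz h3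
      · intro b _ hb
        rw [hτ i b hb, mul_zero]
      · intro hh
        exact absurd (Finset.mem_univ _) hh
    · intro b _ hb
      rw [hτ i' b hb, mul_zero]
    · intro hh
      exact absurd (Finset.mem_univ _) hh
  let π : Equiv.Perm κ := Equiv.ofBijective τ (Finite.injective_iff_bijective.mp hinj)
  have hπ : ∀ i, π i = τ i := fun i => rfl
  let ε : κ → ℤˣ := fun a => if mat κ F g a (π⁻¹ a) = 1 then 1 else -1
  refine ⟨⟨ε, π⟩, ?_⟩
  apply mat_injective
  ext a b
  rw [mat_rho_apply]
  show (if π⁻¹ a = b then signCast F (ε a) else 0) = mat κ F g a b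
  by_cases hab : π⁻¹ a = b
  · rw [if_pos hab]
    have hb : a = τ b := by
      rw [← hπ, ← hab]
      exact (π.apply_symm_apply a).symm
    have h1 := hsq b
    rw [← hb] at h1
    have h2 : (mat κ F g a b - 1) * (mat κ F g a b + 1) = 0 := by
      linear_combination h1
    show signCast F (if mat κ F g a (π⁻¹ a) = 1 then 1 else -1) = mat κ F g a b
    rw [hab]
    rcases mul_eq_zero.mp h2 with h3 | h3
    · have : mat κ F g a b = 1 := by linear_combination h3
      rw [if_pos this, this, map_one]
    · have h4 : mat κ F g a b = -1 := by linear_combination h3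
      by_cases h5 : mat κ F g a b = 1
      · rw [if_pos h5, h5, map_one]
      · rw [if_neg h5, h4, signCast_neg_one]
  · rw [if_neg hab]
    symm
    apply hτ
    intro h
    apply hab
    rw [h, ← hπ]
    exact π.symm_apply_apply b

end mono

end Cfsg.Agent.Lib.Helper20.O7
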