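import Mathlib
import Cfsg.Agent.Lib.Helper20.O7Syl
import Cfsg.Agent.Lib.Helper20.O7Center
import Cfsg.Agent.Lib.Helper20.O7Mono

set_option autoImplicit false
set_option linter.style.haveILetI false
set_option linter.unusedSimpArgs false
set_option linter.unusedSectionVars false

/-!
The monomial Sylow `2`-subgroup of `Ω₇(q)`, `q ≡ ±3 (mod 8)`, is its own normaliser.
-/

namespace Cfsg.Agent.Lib.Helper20.O7

open Cfsg.Agent.Lib.Helper37 Cfsg.Agent.Lib.Helper20.Orth Matrix

variable (F : Type*) [Field F] [Fintype F] [DecidableEq F]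

theorem trace_rho_inl (ε : Fin 7 → ℤˣ) :
    (mat (Fin 7) F (rho (Fin 7) F (SemidirectProduct.inl ε))).trace = ∑ k, signCast F (ε k) := by
  unfold Matrix.trace
  apply Finset.sum_congr rfl
  intro k _
  rw [Matrix.diag_apply, mat_rho_apply]
  simp

theorem eq_inl_of_right {v : SW (Fin 7)} (hr : v.right = 1) :
    v = SemidirectProduct.inl v.left := by
  apply SemidirectProduct.ext
  · rfl
  · rw [hr]
    rfl

theorem relB (h2 : (2 : F) ≠ 0) (hns : ¬ IsSquare (2 : F)) (g : OG (Fin 7) F)
    (hg : g ∈ Cfsg.Omega F (stdQ (Fin 7) F))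
    (hn : ∀ x ∈ S0 F, g * x * g⁻¹ ∈ S0 F) : g ∈ S0 F := by
  classical
  have hsurj : ∀ y ∈ S0 F, ∃ x ∈ S0 F, g * x * g⁻¹ = y := by
    let f : ↥(S0 F) → ↥(S0 F) := fun x => ⟨g * x.1 * g⁻¹, hn x.1 x.2⟩
    have hf : Function.Injective f := by
      intro x y h
      have h1 : g * x.1 * g⁻¹ = g * y.1 * g⁻¹ := congrArg Subtype.val h
      apply Subtype.ext
      exact mul_left_cancel (mul_right_cancel h1)
    have hsf := Finite.surjective_of_injective hf
    intro y hy
    obtain ⟨x, hx⟩ := hsf ⟨y, hy⟩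
    exact ⟨x.1, x.2, congrArg Subtype.val hx⟩
  set z := rho (Fin 7) F (SemidirectProduct.inl eps3) with hz
  have hzS : z ∈ S0 F := (rho_mem_S0 F h2 _).mpr ((inl_mem_W0 _).mpr prod_eps3)
  have hzc : ∀ x ∈ S0 F, z * x = x * z := by
    rintro x ⟨w, hw, rfl⟩
    rw [hz, ← map_mul, ← map_mul, eps3_central w hw]
  obtain ⟨v, hv, hvy⟩ := hn z hzS
  have hvc : ∀ w ∈ W0, v * w = w * v := by
    intro w hw
    apply rho_injective (Fin 7) F h2
    rw [map_mul, map_mul, hvy]
    obtain ⟨x, hx, hxw⟩ := hsurj _ ((rho_mem_S0 F h2 w).mpr hw)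
    rw [← hxw]
    have := hzc x hx
    calc g * z * g⁻¹ * (g * x * g⁻¹) = g * (z * x) * g⁻¹ := by group
      _ = g * (x * z) * g⁻¹ := by rw [this]
      _ = g * x * g⁻¹ * (g * z * g⁻¹) := by group
  obtain ⟨hr, e1, e2, e3, e5, e6⟩ := center_W0 v hv hvc
  have hvl := eq_inl_of_right hr
  have htr : (mat (Fin 7) F (rho (Fin 7) F v)).trace = (mat (Fin 7) F z).trace := by
    rw [hvy, mat_mul, mat_mul, Matrix.trace_mul_comm, ← Matrix.mul_assoc, mat_inv_mul,
      Matrix.one_mul]
  rw [hvl, trace_rho_inl, hz, trace_rho_inl, Fin.sum_univ_seven, Fin.sum_univ_seven, e1, e2, e3,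
    e5, e6] at htr
  have he3 : ∀ k : Fin 7, k ≠ 6 → eps3 k = -1 := fun k hk => if_neg hk
  rw [he3 0 (by decide), he3 1 (by decide), he3 2 (by decide), he3 3 (by decide),
    he3 4 (by decide), he3 5 (by decide), show eps3 6 = 1 from rfl, map_one,
    signCast_neg_one] at htr
  have h4ne : (4 : F) ≠ 0 := by
    have : (4 : F) = 2 * 2 := by norm_num
    rw [this]
    exact mul_ne_zero h2 h2
  have h8ne : (8 : F) ≠ 0 := by
    have : (8 : F) = 2 * 4 := by norm_num
    rw [this]
    exact mul_ne_zero h2 h4ne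
  have hv_eq : v = SemidirectProduct.inl eps3 := by
    rcases units_cases (v.left 0) with h0 | h0 <;> rcases units_cases (v.left 4) with h4 | h4
    · exfalso
      have hv1 : v = 1 := by
        rw [hvl]
        have : v.left = 1 := by
          funext k
          fin_cases k
          · exact h0
          · exact e1.trans h0
          · exact e2.trans h0
          · exact e3.trans h0
          · exact h4
          · exact e5.trans h4
          · exact e6
        rw [this]
        exact map_one _
      rw [hv1, map_one] at hvy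
      have hz1 : z = 1 := by
        calc z = g⁻¹ * (g * z * g⁻¹) * g := by group
          _ = 1 := by rw [← hvy]; group
      have : (SemidirectProduct.inl eps3 : SW (Fin 7)) = 1 := by
        apply rho_injective (Fin 7) F h2
        rw [map_one]
        exact hz1
      apply eps3_ne_one
      have h' := congrArg SemidirectProduct.left this
      exact h'
    · exfalso
      rw [h0, h4, map_one, signCast_neg_one] at htr
      apply h8ne
      linear_combination htr
    · exfalso
      rw [h0, h4, map_one, signCast_neg_one] at htr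
      apply h4ne
      linear_combination htr
    · rw [hvl]
      congr 1
      funext k
      fin_cases k
      · exact h0
      · exact e1.trans h0
      · exact e2.trans h0
      · exact e3.trans h0
      · exact h4
      · exact e5.trans h4
      · exact e6
  have hgz : g * z = z * g := by
    have : g * z * g⁻¹ = z := by rw [← hvy, hv_eq]
    calc g * z = (g * z * g⁻¹) * g := by group
      _ = z * g := by rw [this]
  have hZ : mat (Fin 7) F z = Matrix.diagonal (fun k => signCast F (eps3 k)) := by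
    rw [hz, rho_inl]
    rfl
  have hcol6 : ∀ a : Fin 7, a ≠ 6 → mat (Fin 7) F g a 6 = 0 := by
    intro a ha
    have h1 := congrFun (congrFun (congrArg (mat (Fin 7) F) hgz) a) 6
    rw [mat_mul, mat_mul, hZ, Matrix.mul_diagonal, Matrix.diagonal_mul,
      show eps3 6 = 1 from rfl, he3 a ha, map_one, signCast_neg_one] at h1
    have h3 : (2 : F) * mat (Fin 7) F g a 6 = 0 := by linear_combination h1
    exact (mul_eq_zero.mp h3).resolve_left h2
  have hlam : mat (Fin 7) F g 6 6 * mat (Fin 7) F g 6 6 = 1 := by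
    have h1 := mat_Q (Fin 7) F g (Pi.single 6 1)
    rw [stdQ_single, stdQ_eq_sum, Finset.sum_eq_single (6 : Fin 7)] at h1
    · rw [col_single] at h1
      rw [h1, one_mul]
    · intro b _ hb
      rw [col_single, hcol6 b hb, zero_mul]
    · intro hh
      exact absurd (Finset.mem_univ _) hh
  have hlam0 : mat (Fin 7) F g 6 6 ≠ 0 := by
    intro h0
    rw [h0, zero_mul] at hlam
    exact zero_ne_one hlam
  have hge6 : mat (Fin 7) F g *ᵥ Pi.single 6 1 =
      (mat (Fin 7) F g 6 6) • (Pi.single 6 1 : Fin 7 → F) := by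
    funext b
    rw [col_single]
    by_cases hb : b = 6
    · subst hb
      simp
    · rw [hcol6 b hb]
      simp [Pi.single_eq_of_ne hb]
  have hG := isGram_std (κ := Fin 7) (F := F) h2
  have hcols : ∀ i, ∃ j, ∀ b, b ≠ j → mat (Fin 7) F g b i = 0 := by
    intro i
    by_cases hi : i = 6
    · subst hi
      exact ⟨6, hcol6⟩
    · have hdS : rho (Fin 7) F (SemidirectProduct.inl (dd i 6)) ∈ S0 F :=
        (rho_mem_S0 F h2 _).mpr ((inl_mem_W0 _).mpr (prod_dd i 6))
      obtain ⟨u, hu, hux⟩ := hn _ hdS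
      have hQvi : stdQ (Fin 7) F (mat (Fin 7) F g *ᵥ Pi.single i 1) = 1 := by
        rw [mat_Q, stdQ_single, one_mul]
      have hQ6 : stdQ (Fin 7) F (Pi.single 6 1 : Fin 7 → F) ≠ 0 := by
        rw [stdQ_single, one_mul]
        exact one_ne_zero
      have hm : Cfsg.reflectionMatrix (stdQ (Fin 7) F) (mat (Fin 7) F g *ᵥ Pi.single i 1) =
          mat (Fin 7) F (rho (Fin 7) F (u * SemidirectProduct.inl (sg 6))) := by
        have c1 : mat (Fin 7) F g * Cfsg.reflectionMatrix (stdQ (Fin 7) F) (Pi.single i 1) *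
            mat (Fin 7) F g⁻¹ =
            Cfsg.reflectionMatrix (stdQ (Fin 7) F) (mat (Fin 7) F g *ᵥ Pi.single i 1) :=
          hG.conj_refl g (Pi.single i 1)
        have c2 : mat (Fin 7) F g * Cfsg.reflectionMatrix (stdQ (Fin 7) F) (Pi.single 6 1) *
            mat (Fin 7) F g⁻¹ =
            Cfsg.reflectionMatrix (stdQ (Fin 7) F) (Pi.single 6 1) := by
          have := hG.conj_refl g (Pi.single 6 1)
          rw [show ((g : Matrix.GeneralLinearGroup (Fin 7) F) : Matrix (Fin 7) (Fin 7) F) =
            mat (Fin 7) F g from rfl, hge6, hG.refl_smul _ _ hlam0] at this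
          exact this
        have hd : mat (Fin 7) F (rho (Fin 7) F (SemidirectProduct.inl (dd i 6))) =
            Cfsg.reflectionMatrix (stdQ (Fin 7) F) (Pi.single i 1) *
              Cfsg.reflectionMatrix (stdQ (Fin 7) F) (Pi.single 6 1) := by
          unfold dd
          rw [map_mul, map_mul, mat_mul, mat_rho_sg h2, mat_rho_sg h2]
        have h1 : mat (Fin 7) F (rho (Fin 7) F u) =
            Cfsg.reflectionMatrix (stdQ (Fin 7) F) (mat (Fin 7) F g *ᵥ Pi.single i 1) *
              Cfsg.reflectionMatrix (stdQ (Fin 7) F) (Pi.single 6 1) := by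
          rw [hux, mat_mul, mat_mul, hd, ← c1]
          nth_rewrite 2 [← c2]
          simp only [Matrix.mul_assoc]
          rw [← Matrix.mul_assoc (mat (Fin 7) F g⁻¹) (mat (Fin 7) F g), mat_inv_mul,
            Matrix.one_mul]
        rw [map_mul, mat_mul, h1, mat_rho_sg h2, Matrix.mul_assoc, hG.refl_refl _ hQ6,
          Matrix.mul_one]
      obtain ⟨j, hj⟩ := mono_refl h2 hns _ hQvi _ hm
      refine ⟨j, fun b hb => ?_⟩
      rw [← col_single]
      exact hj b hb
  obtain ⟨w, hw⟩ := exists_rho_eq g hcols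
  subst hw
  have hchi := (rho_mem_omega_iff (Fin 7) F h2 hns w).mp hg
  rw [chiW_eq_one_iff] at hchi
  have hD : w.right ∈ D8 := by
    apply d8_normalizer _ hchi.2
    intro σ hσ
    have h1 := hn _ ((rho_mem_S0 F h2 _).mpr ((inr_mem_W0 σ).mpr hσ))
    rw [← map_inv, ← map_mul, ← map_mul, rho_mem_S0 F h2] at h1
    have h3 := ((mem_W0 _).mp h1).2
    simpa using h3
  exact (rho_mem_S0 F h2 w).mpr ((mem_W0 w).mpr ⟨hchi.1, hD⟩)

end Cfsg.Agent.Lib.Helper20.O7
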