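import Mathlib
import Cfsg.Agent.Lib.Helper95.FusionTransport

set_option autoImplicit false
set_option linter.style.haveILetI false
set_option linter.unusedSimpArgs false
set_option linter.unusedSectionVars false

/-!
Relative versions (inside an ambient group) of the two hypotheses of the simplicity criterion for
fusion systems, and their transport.
-/

namespace Cfsg.Agent.Lib.Helper20.O7

open Cfsg.Agent.Lib.Helper95.Fusion

section rel

variable {A B : Type*} [Group A] [Group B]

/-- no proper non-trivial subgroup of `S` is strongly closed with respect to `Ω` -/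
def RelA (Ω S : Subgroup A) : Prop :=
  ∀ T : Subgroup A, T ≤ S → T ≠ ⊥ →
    (∀ x ∈ T, ∀ g ∈ Ω, g * x * g⁻¹ ∈ S → g * x * g⁻¹ ∈ T) → T = S

/-- `S` is its own normaliser in `Ω` -/
def RelB (Ω S : Subgroup A) : Prop :=
  ∀ g ∈ Ω, (∀ x ∈ S, g * x * g⁻¹ ∈ S) → g ∈ S

theorem RelA.map {Ω S : Subgroup A} (e : A ≃* B) (h : RelA Ω S) :
    RelA (Ω.map e.toMonoidHom) (S.map e.toMonoidHom) := by
  intro T' hT' hne' hsc'
  have key : T'.comap e.toMonoidHom = S := by
    apply h
    · intro x hx
      obtain ⟨s, hs, hsx⟩ := hT' (Subgroup.mem_comap.mp hx)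
      have : s = x := e.injective hsx
      rw [← this]
      exact hs
    · intro hbot
      apply hne'
      rw [eq_bot_iff]
      intro y hy
      have h1 : e.symm y ∈ T'.comap e.toMonoidHom := by
        rw [Subgroup.mem_comap]
        show e (e.symm y) ∈ T'
        rw [e.apply_symm_apply]
        exact hy
      rw [hbot, Subgroup.mem_bot] at h1
      rw [Subgroup.mem_bot]
      have := congrArg e h1
      rw [e.apply_symm_apply, map_one] at this
      exact this
    · intro x hx g hg hgx
      rw [Subgroup.mem_comap] at hx ⊢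
      have h1 : e.toMonoidHom (g * x * g⁻¹) =
          e.toMonoidHom g * e.toMonoidHom x * (e.toMonoidHom g)⁻¹ := by
        rw [map_mul, map_mul, map_inv]
      rw [h1]
      apply hsc' _ hx _ (Subgroup.mem_map_of_mem _ hg)
      rw [← h1]
      exact Subgroup.mem_map_of_mem _ hgx
  rw [← key, Subgroup.map_comap_eq_self_of_surjective e.surjective]

theorem RelB.map {Ω S : Subgroup A} (e : A ≃* B) (h : RelB Ω S) :
    RelB (Ω.map e.toMonoidHom) (S.map e.toMonoidHom) := by
  rintro g' ⟨g, hg, rfl⟩ hn
  apply Subgroup.mem_map_of_mem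
  apply h g hg
  intro x hx
  obtain ⟨s, hs, hsx⟩ := hn _ (Subgroup.mem_map_of_mem _ hx)
  have h1 : e.toMonoidHom (g * x * g⁻¹) =
      e.toMonoidHom g * e.toMonoidHom x * (e.toMonoidHom g)⁻¹ := by
    rw [map_mul, map_mul, map_inv]
  rw [← h1] at hsx
  have : s = g * x * g⁻¹ := e.injective hsx
  rw [← this]
  exact hs

theorem propA_of_relA {Ω S : Subgroup A} (h : RelA Ω S) :
    PropA (S.subgroupOf Ω) := by
  intro T hT hne hsc
  have key : T.map Ω.subtype = S := by
    apply h
    · rintro x ⟨y, hy, rfl⟩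
      exact Subgroup.mem_subgroupOf.mp (hT hy)
    · intro hbot
      apply hne
      rw [eq_bot_iff]
      intro y hy
      have h1 : Ω.subtype y ∈ T.map Ω.subtype := Subgroup.mem_map_of_mem _ hy
      rw [hbot, Subgroup.mem_bot] at h1
      rw [Subgroup.mem_bot]
      exact Subtype.ext h1
    · rintro x ⟨y, hy, rfl⟩ g hg hgx
      have h1 := hsc y hy ⟨g, hg⟩ (by
        rw [Subgroup.mem_subgroupOf]
        exact hgx)
      exact ⟨_, h1, rfl⟩
  ext y
  rw [Subgroup.mem_subgroupOf, ← key]
  exact (Subgroup.mem_map_iff_mem Ω.subtype_injective).symm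

theorem propB_of_relB {Ω S : Subgroup A} (hS : S ≤ Ω) (h : RelB Ω S) :
    PropB (S.subgroupOf Ω) := by
  intro g hn
  rw [Subgroup.mem_subgroupOf]
  apply h g.1 g.2
  intro x hx
  have hxΩ : x ∈ Ω := hS hx
  have h1 := hn ⟨x, hxΩ⟩ (by rw [Subgroup.mem_subgroupOf]; exact hx)
  rw [Subgroup.mem_subgroupOf] at h1
  exact h1

end rel

end Cfsg.Agent.Lib.Helper20.O7
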