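import Mathlib
import Cfsg.Agent.Lib.Helper20.OrthMat
import Cfsg.Agent.Lib.Helper20.SylModelNumGL
import Cfsg.Agent.Lib.Helper14.SL2Order4

set_option autoImplicit false
set_option linter.style.haveILetI false
set_option linter.unusedSimpArgs false
set_option linter.unusedSectionVars false

/-!
The base of the orthogonal models: a Sylow `2`-subgroup of the orthogonal group of the plane
`x² + y²`.
-/

namespace Cfsg.Agent.Lib.Helper20.Orth

open Cfsg.Agent.Lib.Helper37 Cfsg.Agent.Lib.Helper20.SylModel Matrix Module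
open scoped commutatorElement

universe u v

section abstract

/-- A Sylow `2`-subgroup maps onto every `2`-group quotient. -/
theorem sylow_image_top {G A : Type*} [Group G] [Finite G] [Group A] (f : G →* A)
    (hf : Function.Surjective f) (hA : IsPGroup 2 A) (P : Sylow 2 G) (a : A) :
    ∃ g ∈ (P : Subgroup G), f g = a := by
  have h1 : (⊤ : Subgroup A) = ((P.mapSurjective hf : Sylow 2 A) : Subgroup A) :=
    (P.mapSurjective hf).is_maximal' (hA.to_subgroup ⊤) le_top
  have h2 : a ∈ ((P.mapSurjective hf : Sylow 2 A) : Subgroup A) := by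
    rw [← h1]
    exact Subgroup.mem_top a
  rw [Sylow.coe_mapSurjective, Subgroup.mem_map] at h2
  exact h2

theorem isPGroup_units_prod : IsPGroup 2 (ℤˣ × ℤˣ) := by
  refine IsPGroup.of_card (n := 2) ?_
  rw [Nat.card_eq_fintype_card, Fintype.card_prod, Fintype.card_units_int]
  norm_num

/-- In a group of generalised dihedral shape, squares are commutators with any subgroup they
come from. -/
theorem gd_sq_mem {D : Type*} [Group D] (R : Subgroup D) (ha : ∀ x, x ∉ R → x * x = 1)
    {s : D} (hs : s ∉ R) (N : Subgroup D) {n : D} (hn : n ∈ N) :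
    n ^ 2 ∈ ⁅(⊤ : Subgroup D), N⁆ := by
  by_cases hnR : n ∈ R
  · have hsn : s * n ∉ R := fun h => hs (by
      have := R.mul_mem h (R.inv_mem hnR)
      rwa [mul_inv_cancel_right] at this)
    have h1 : s * n * (s * n) = 1 := ha _ hsn
    have h2 : s * s = 1 := ha _ hs
    have h3 : ⁅s, n⁆ ∈ ⁅(⊤ : Subgroup D), N⁆ :=
      Subgroup.commutator_mem_commutator (Subgroup.mem_top s) hn
    have hsinv : s⁻¹ = s := inv_eq_of_mul_eq_one_left h2
    have h5 : s * n * s = n⁻¹ := by
      rw [eq_inv_iff_mul_eq_one, mul_assoc (s * n) s n]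
      exact h1
    have h4 : ⁅s, n⁆ = (n ^ 2)⁻¹ := by
      rw [commutatorElement_def, hsinv, h5, pow_two, _root_.mul_inv_rev]
    rw [h4] at h3
    exact (Subgroup.inv_mem_iff _).mp h3
  · have : n ^ 2 = 1 := by
      rw [pow_two]
      exact ha n hnR
    rw [this]
    exact Subgroup.one_mem _

end abstract

section plane

variable {F : Type*} [Field F]

theorem stdQ_two (x : Fin 2 → F) : stdQ (Fin 2) F x = x 0 ^ 2 + x 1 ^ 2 := by
  unfold stdQ
  rw [Fin.sum_univ_two]

theorem mulVec_two (M : Matrix (Fin 2) (Fin 2) F) (x : Fin 2 → F) (i : Fin 2) :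
    (M *ᵥ x) i = M i 0 * x 0 + M i 1 * x 1 := by
  rw [Matrix.mulVec, dotProduct, Fin.sum_univ_two]

theorem orth2_rel (h2 : (2 : F) ≠ 0) (M : Matrix (Fin 2) (Fin 2) F)
    (hM : ∀ u, stdQ (Fin 2) F (M *ᵥ u) = stdQ (Fin 2) F u) :
    M 0 0 ^ 2 + M 1 0 ^ 2 = 1 ∧ M 0 1 ^ 2 + M 1 1 ^ 2 = 1 ∧
      M 0 0 * M 0 1 + M 1 0 * M 1 1 = 0 := by
  have e1 := hM ![1, 0]
  have e2 := hM ![0, 1]
  have e3 := hM ![1, 1]
  rw [stdQ_two, stdQ_two, mulVec_two, mulVec_two] at e1 e2 e3
  simp only [Matrix.cons_val_zero, Matrix.cons_val_one] at e1 e2 e3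
  refine ⟨by linear_combination e1, by linear_combination e2, ?_⟩
  apply mul_left_cancel₀ h2
  linear_combination e3 - e1 - e2

theorem orth2_det (h2 : (2 : F) ≠ 0) (M : Matrix (Fin 2) (Fin 2) F)
    (hM : ∀ u, stdQ (Fin 2) F (M *ᵥ u) = stdQ (Fin 2) F u) :
    M.det * M.det = 1 ∧ M 1 1 = M.det * M 0 0 ∧ M 0 1 = -(M.det * M 1 0) := by
  obtain ⟨e1, e2, e3⟩ := orth2_rel h2 M hM
  rw [Matrix.det_fin_two]
  refine ⟨?_, ?_, ?_⟩
  · linear_combination (M 0 1 ^ 2 + M 1 1 ^ 2) * e1 + e2 -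
      (M 0 0 * M 0 1 + M 1 0 * M 1 1) * e3
  · linear_combination (-(M 1 1)) * e1 + M 1 0 * e3
  · linear_combination (-(M 0 1)) * e1 + M 0 0 * e3

/-- The matrix with first column `(a, b)` and second column `ε (-b, a)`. -/
def circMat (a b ε : F) : Matrix (Fin 2) (Fin 2) F := !![a, -(ε * b); b, ε * a]

theorem circMat_det (a b ε : F) : (circMat a b ε).det = ε * (a ^ 2 + b ^ 2) := by
  rw [circMat, Matrix.det_fin_two_of]
  ring

theorem circMat_isom (a b ε : F) (h : a ^ 2 + b ^ 2 = 1) (hε : ε * ε = 1) (u : Fin 2 → F) :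
    stdQ (Fin 2) F (circMat a b ε *ᵥ u) = stdQ (Fin 2) F u := by
  rw [stdQ_two, stdQ_two, mulVec_two, mulVec_two]
  have e00 : circMat a b ε 0 0 = a := rfl
  have e01 : circMat a b ε 0 1 = -(ε * b) := rfl
  have e10 : circMat a b ε 1 0 = b := rfl
  have e11 : circMat a b ε 1 1 = ε * a := rfl
  rw [e00, e01, e10, e11]
  linear_combination (u 0 ^ 2 + ε ^ 2 * u 1 ^ 2) * h + (u 1 ^ 2) * hε

theorem eq_circMat (h2 : (2 : F) ≠ 0) (M : Matrix (Fin 2) (Fin 2) F)
    (hM : ∀ u, stdQ (Fin 2) F (M *ᵥ u) = stdQ (Fin 2) F u) :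
    M = circMat (M 0 0) (M 1 0) M.det := by
  obtain ⟨-, h11, h01⟩ := orth2_det h2 M hM
  ext i j
  fin_cases i <;> fin_cases j
  · rfl
  · exact h01
  · rfl
  · exact h11

theorem circMat_sq (a b : F) (h : a ^ 2 + b ^ 2 = 1) :
    circMat a b (-1) * circMat a b (-1) = 1 := by
  have e : circMat a b (-1) = !![a, b; b, -a] := by
    rw [circMat]
    simp
  rw [e, Matrix.mul_fin_two, Matrix.one_fin_two]
  have h1 : a * a + b * b = 1 := by linear_combination h
  have h2' : a * b + b * -a = 0 := by ring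
  have h3 : b * a + -a * b = 0 := by ring
  have h4 : b * b + -a * -a = 1 := by linear_combination h
  rw [h1, h2', h3, h4]

/-- The orthogonal group of the plane `x² + y²`. -/
abbrev O2 (F : Type*) [Field F] : Type _ := ↥(Cfsg.isometryGroup F (stdQ (Fin 2) F))

/-- The element of the orthogonal group with matrix `circMat a b ε`. -/
noncomputable def circElt (a b ε : F) (h : a ^ 2 + b ^ 2 = 1) (hε : ε * ε = 1) : O2 F :=
  ⟨Matrix.GeneralLinearGroup.mkOfDetNeZero (circMat a b ε) (by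
      rw [circMat_det, h, mul_one]
      intro h0
      rw [h0, mul_zero] at hε
      exact zero_ne_one hε), by
    rw [mem_isometryGroup_iff']
    intro u
    exact circMat_isom a b ε h hε u⟩

theorem toMat_circElt (a b ε : F) (h : a ^ 2 + b ^ 2 = 1) (hε : ε * ε = 1) :
    toMat (stdQ (Fin 2) F) (circElt a b ε h hε) = circMat a b ε := rfl

theorem toMat_rel (h2 : (2 : F) ≠ 0) (g : O2 F) :
    toMat (stdQ (Fin 2) F) g =
      circMat (toMat (stdQ (Fin 2) F) g 0 0) (toMat (stdQ (Fin 2) F) g 1 0)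
        (toMat (stdQ (Fin 2) F) g).det :=
  eq_circMat h2 _ (IsGram.toMat_isometry g)

theorem det_cases (h2 : (2 : F) ≠ 0) (g : O2 F) :
    (toMat (stdQ (Fin 2) F) g).det = 1 ∨ (toMat (stdQ (Fin 2) F) g).det = -1 := by
  obtain ⟨h, -, -⟩ := orth2_det h2 _ (IsGram.toMat_isometry g)
  have : ((toMat (stdQ (Fin 2) F) g).det - 1) * ((toMat (stdQ (Fin 2) F) g).det + 1) = 0 := by
    linear_combination h
  rcases mul_eq_zero.mp this with h | h
  · left
    linear_combination h
  · right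
    linear_combination h

theorem mul_self_of_det_ne (h2 : (2 : F) ≠ 0) (g : O2 F)
    (hg : (toMat (stdQ (Fin 2) F) g).det ≠ 1) : g * g = 1 := by
  have hd : (toMat (stdQ (Fin 2) F) g).det = -1 := by
    rcases det_cases h2 g with h | h
    · exact absurd h hg
    · exact h
  obtain ⟨e1, -, -⟩ := orth2_rel h2 _ (IsGram.toMat_isometry g)
  apply toMat_injective
  rw [map_mul, map_one, toMat_rel h2 g, hd]
  exact circMat_sq _ _ e1

theorem card_O2 [Fintype F] [DecidableEq F] (h2 : (2 : F) ≠ 0) :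
    Nat.card (O2 F) = 2 * Nat.card {p : F × F // p.1 ^ 2 + p.2 ^ 2 = 1} := by
  let sg : Bool → F := fun b => if b then 1 else -1
  have hsg : ∀ b, sg b * sg b = 1 := by
    intro b
    cases b <;> simp [sg]
  have h11 : (1 : F) ≠ -1 := fun h => h2 (by linear_combination h)
  let f : {p : F × F // p.1 ^ 2 + p.2 ^ 2 = 1} × Bool → O2 F :=
    fun x => circElt x.1.1.1 x.1.1.2 (sg x.2) x.1.2 (hsg x.2)
  have hf : Function.Bijective f := by
    constructor
    · rintro ⟨⟨⟨a, b⟩, h⟩, s⟩ ⟨⟨⟨a', b'⟩, h'⟩, s'⟩ hxy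
      have hm : circMat a b (sg s) = circMat a' b' (sg s') :=
        congrArg (toMat (stdQ (Fin 2) F)) hxy
      have h00 : a = a' := congrFun (congrFun hm 0) 0
      have h10 : b = b' := congrFun (congrFun hm 1) 0
      have hd := congrArg Matrix.det hm
      simp only at h h'
      rw [circMat_det, circMat_det, h, h', mul_one, mul_one] at hd
      subst h00
      subst h10
      have hs : s = s' := by
        cases s <;> cases s'
        · rfl
        · exact absurd hd.symm h11
        · exact absurd hd h11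
        · rfl
      subst hs
      rfl
    · intro g
      obtain ⟨e1, -, -⟩ := orth2_rel h2 _ (IsGram.toMat_isometry g)
      rcases det_cases h2 g with hd | hd
      · refine ⟨⟨⟨(toMat (stdQ (Fin 2) F) g 0 0, toMat (stdQ (Fin 2) F) g 1 0), e1⟩, true⟩, ?_⟩
        apply toMat_injective
        have e := toMat_rel h2 g
        rw [hd] at e
        exact e.symm
      · refine ⟨⟨⟨(toMat (stdQ (Fin 2) F) g 0 0, toMat (stdQ (Fin 2) F) g 1 0), e1⟩, false⟩, ?_⟩
        apply toMat_injective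
        have e := toMat_rel h2 g
        rw [hd] at e
        exact e.symm
  rw [← Nat.card_congr (Equiv.ofBijective f hf), Nat.card_prod,
    Nat.card_eq_fintype_card (α := Bool), Fintype.card_bool, mul_comm]

theorem v2_card_O2 [Fintype F] [DecidableEq F] (hq : Odd (Fintype.card F)) (h2 : (2 : F) ≠ 0) :
    (Nat.card (O2 F)).factorization 2 = padicValNat 2 (Fintype.card F ^ 2 - 1) := by
  have hq1 : 1 < Fintype.card F := Fintype.one_lt_card
  rw [card_O2 h2, Cfsg.Agent.Lib.Helper14.SL2Order4.card_circle hq h2,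
    Nat.factorization_def _ Nat.prime_two, v2_sq_sub_one _ hq1]
  obtain ⟨r, hr⟩ := hq
  split_ifs with h4
  · rw [padicValNat.mul (by norm_num) (by omega), padicValNat_self,
      v2_of_mod_four (Fintype.card F + 1) (by omega)]
    omega
  · rw [padicValNat.mul (by norm_num) (by omega), padicValNat_self,
      v2_of_mod_four (Fintype.card F - 1) (by omega)]

end plane

section polar

variable {κ : Type} [Fintype κ] [DecidableEq κ] {F : Type*} [Field F]

theorem stdQ_add (x y : κ → F) :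
    stdQ κ F (x + y) = stdQ κ F x + stdQ κ F y + 2 * dotB κ F x y := by
  rw [← dotB_self, ← dotB_self, ← dotB_self]
  simp only [map_add, LinearMap.add_apply]
  rw [dotB_comm y x]
  ring

theorem dotB_invariant (h2 : (2 : F) ≠ 0) (g : ↥(Cfsg.isometryGroup F (stdQ κ F)))
    (u w : κ → F) :
    dotB κ F (toMat (stdQ κ F) g *ᵥ u) (toMat (stdQ κ F) g *ᵥ w) = dotB κ F u w := by
  apply mul_left_cancel₀ h2
  have h1 := stdQ_add (toMat (stdQ κ F) g *ᵥ u) (toMat (stdQ κ F) g *ᵥ w)
  rw [← Matrix.mulVec_add, IsGram.toMat_isometry (Q := stdQ κ F),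
    IsGram.toMat_isometry (Q := stdQ κ F), IsGram.toMat_isometry (Q := stdQ κ F),
    stdQ_add u w] at h1
  linear_combination -h1

end polar

section base

variable {F : Type u} [Field F] [Fintype F] [DecidableEq F] {A : Type v} [CommGroup A]

theorem isOrthModel_base (hq : Odd (Fintype.card F)) (h2 : (2 : F) ≠ 0) (α : F)
    (hα : ¬ IsSquare α) (π : ℤˣ × ℤˣ →* A) (hπ : Function.Surjective π) (P : Sylow 2 (O2 F)) :
    IsOrthModel F π 2 (padicValNat 2 (Fintype.card F ^ 2 - 1)) False False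
      ↥(P : Subgroup (O2 F)) := by
  let dO : O2 F →* Fˣ := Matrix.GeneralLinearGroup.det.comp (Subgroup.subtype _)
  let dt : ↥(P : Subgroup (O2 F)) →* Fˣ := dO.comp (Subgroup.subtype _)
  have hdO : ∀ x : O2 F, ((dO x : Fˣ) : F) = (toMat (stdQ (Fin 2) F) x).det := fun x => rfl
  have ha : ∀ x : ↥(P : Subgroup (O2 F)), x ∉ dt.ker → x * x = 1 := by
    intro x hx
    apply Subtype.ext
    refine mul_self_of_det_ne h2 x.1 ?_
    intro h
    apply hx
    rw [MonoidHom.mem_ker]
    apply Units.ext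
    show ((dO x.1 : Fˣ) : F) = 1
    rw [hdO, h]
  obtain ⟨s, hs⟩ : ∃ s : ↥(P : Subgroup (O2 F)), s ∉ dt.ker := by
    have hp : IsPGroup 2 ↥dO.range := by
      rintro ⟨y, g, rfl⟩
      refine ⟨1, Subtype.ext (Units.ext ?_)⟩
      obtain ⟨h, -, -⟩ := orth2_det h2 _ (IsGram.toMat_isometry g)
      show (((dO g) ^ 2 ^ 1 : Fˣ) : F) = 1
      rw [pow_one, pow_two, Units.val_mul, hdO]
      exact h
    let s₀ : O2 F := circElt 1 0 (-1) (by ring) (by ring)
    obtain ⟨g, hg, hgs⟩ := sylow_image_top dO.rangeRestrict dO.rangeRestrict_surjective hp P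
      (dO.rangeRestrict s₀)
    refine ⟨⟨g, hg⟩, ?_⟩
    intro hker
    rw [MonoidHom.mem_ker] at hker
    have h1 : dO g = dO s₀ := congrArg Subtype.val hgs
    have h3 : ((dO s₀ : Fˣ) : F) = -1 := by
      show (circMat (1 : F) 0 (-1)).det = -1
      rw [circMat_det]
      ring
    have h4 : ((dO g : Fˣ) : F) = 1 := by
      have : dt ⟨g, hg⟩ = dO g := rfl
      rw [← this, hker]
      rfl
    rw [h1, h3] at h4
    exact h2 (by linear_combination -h4)
  let χ : ↥(P : Subgroup (O2 F)) →* ℤˣ × ℤˣ :=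
    (IsGram.signPair (stdQ (Fin 2) F) α).comp (Subgroup.subtype _)
  let ρ : ↥(P : Subgroup (O2 F)) →* Module.End F (Fin 2 → F) :=
    ((Matrix.toLinAlgEquiv' : Matrix (Fin 2) (Fin 2) F ≃ₐ[F]
      Module.End F (Fin 2 → F)).toRingEquiv.toMulEquiv.toMonoidHom.comp
      (toMat (stdQ (Fin 2) F))).comp (Subgroup.subtype _)
  have hρ : ∀ g, ρ g = Matrix.toLinAlgEquiv' (toMat (stdQ (Fin 2) F) g.1) := fun g => rfl
  refine ⟨inferInstance, by norm_num, ?_, ?_, Fin 2 → F, inferInstance, inferInstance,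
    inferInstance, dotB (Fin 2) F, Fin 2, inferInstance, inferInstance, Pi.basisFun F (Fin 2),
    ρ, χ, ?_, by simp, ?_, ?_, ?_, ?_, ?_, fun h => h.elim, fun h => h.elim⟩
  · rw [P.card_eq_multiplicity, v2_card_O2 hq h2]
  · intro x
    rw [commutator_def]
    exact gd_sq_mem dt.ker ha hs ⊤ (Subgroup.mem_top x)
  · intro s t
    rw [Pi.basisFun_apply, Pi.basisFun_apply, dotB, Matrix.toBilin'_single, Matrix.one_apply]
  · intro g g' h
    rw [hρ, hρ] at h
    exact Subtype.ext (toMat_injective _ (Matrix.toLinAlgEquiv'.injective h))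
  · intro g u w
    rw [hρ, Matrix.toLinAlgEquiv'_apply, Matrix.toLinAlgEquiv'_apply]
    exact dotB_invariant h2 g.1 u w
  · intro g
    exact spin_of_isometry h2 α hα g.1
  · intro a
    obtain ⟨z, rfl⟩ := hπ a
    obtain ⟨g, hg, hgz⟩ := sylow_image_top _
      ((isGram_std h2).signPair_surjective (det_std h2) (by simp) α hα) isPGroup_units_prod P z
    exact ⟨⟨g, hg⟩, congrArg π hgz⟩
  · intro n hn
    exact gd_sq_mem dt.ker ha hs _ hn

end base

end Cfsg.Agent.Lib.Helper20.Orth
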