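import Mathlib
import Cfsg.Agent.Lib.Helper20.OrthBase
import Cfsg.Agent.Lib.Helper43.OrthCardForms
import Cfsg.Agent.S2235

set_option autoImplicit false
set_option linter.style.haveILetI false
set_option linter.unusedSimpArgs false
set_option linter.unusedSectionVars false

/-!
Sylow `2`-subgroups of `Ω_{2m+1}(q)`, `q` odd.
-/

namespace Cfsg.Agent.Lib.Helper20.Orth

open Cfsg.Agent.Lib.Helper37 Cfsg.Agent.Lib.Helper20.SylModel Matrix Module
  Cfsg.Agent.Lib.Helper20.SympWreath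
open scoped commutatorElement

universe u

section generic

theorem sqDer_sylow_of_embedding {K H : Type*} [Group K] [Group H] [Finite H] (φ : K →* H)
    (hφ : Function.Injective φ) (hK : SqDer K)
    (hcard : Nat.card K = 2 ^ (Nat.card H).factorization 2) (P : Sylow 2 H) :
    SqDer ↥(P : Subgroup H) := by
  have hcr : Nat.card φ.range = 2 ^ (Nat.card H).factorization 2 := by
    rw [← hcard]
    exact (Nat.card_congr (MonoidHom.ofInjective hφ).toEquiv).symm
  let P' : Sylow 2 H := Sylow.ofCard φ.range hcr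
  exact hK.of_mulEquiv ((MonoidHom.ofInjective hφ).trans (Sylow.equiv P' P))

end generic

section line

variable (F : Type*) [Field F]

/-- The group of signs acting on the line. -/
def lineHom : ℤˣ →* Module.End F F :=
  ((algebraMap F (Module.End F F) : F →* Module.End F F).comp
    (Int.castRingHom F : ℤ →* F)).comp (Units.coeHom ℤ)

theorem lineHom_apply (z : ℤˣ) (x : F) : lineHom F z x = (((z : ℤˣ) : ℤ) : F) * x := rfl

theorem cast_unit_mul_self (z : ℤˣ) : ((((z : ℤˣ) : ℤ) : F)) * (((z : ℤˣ) : ℤ) : F) = 1 := by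
  rw [← Int.cast_mul, ← Units.val_mul, Int.units_mul_self, Units.val_one, Int.cast_one]

theorem lineHom_invariant (z : ℤˣ) (x y : F) :
    LinearMap.mul F F (lineHom F z x) (lineHom F z y) = LinearMap.mul F F x y := by
  rw [LinearMap.mul_apply', LinearMap.mul_apply', lineHom_apply, lineHom_apply]
  linear_combination (x * y) * cast_unit_mul_self F z

theorem line_ortho : IsOrthoBasis (LinearMap.mul F F) (Basis.singleton Unit F) := by
  intro s t
  rw [Basis.singleton_apply, LinearMap.mul_apply', mul_one, if_pos (Subsingleton.elim s t)]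

theorem lineHom_spin (z : ℤˣ) : Spin (LinearMap.mul F F) (lineHom F z) (z, 1) := by
  rcases Int.units_eq_one_or z with rfl | rfl
  · rw [map_one]
    exact Spin.one _
  · have h1 : lineHom F (-1) = refl (LinearMap.mul F F) 1 := by
      refine LinearMap.ext fun x => ?_
      rw [lineHom_apply, refl_apply, LinearMap.mul_apply', LinearMap.mul_apply']
      simp
      ring
    have h2 : spinVal (LinearMap.mul F F) (1 : F) = (-1, 1) := by
      unfold spinVal
      rw [if_pos]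
      rw [LinearMap.mul_apply', mul_one]
      exact ⟨1, by ring⟩
    rw [h1, ← h2]
    refine Spin.of_refl _ _ ?_
    rw [LinearMap.mul_apply', mul_one]
    exact one_ne_zero

end line

section transfer

variable {F : Type*} [Field F] [Fintype F]

theorem isGram_odd (h2 : (2 : F) ≠ 0) (m : ℕ) :
    IsGram (Cfsg.quadFormOdd m F) (Cfsg.Agent.S2235.gram m F) where
  two_ne := h2
  symm := Cfsg.Agent.S2235.gram_isSymm m F
  self := Cfsg.Agent.S2235.gram_self m F

theorem gram_odd_det (h2 : (2 : F) ≠ 0) (m : ℕ) : (Cfsg.Agent.S2235.gram m F).det ≠ 0 := by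
  intro h
  have := congrArg Matrix.det (Cfsg.Agent.S2235.gram_mul_gramInv m F h2)
  rw [Matrix.det_mul, h, zero_mul, Matrix.det_one] at this
  exact zero_ne_one this

theorem exists_P_odd (h2 : (2 : F) ≠ 0) (m : ℕ) :
    ∃ (c : F) (P : Matrix.GeneralLinearGroup (Unit ⊕ (Fin m ⊕ Fin m)) F),
      ∀ x, Cfsg.quadFormOdd m F ((P : Matrix _ _ F) *ᵥ x) =
        c * stdQ (Unit ⊕ (Fin m ⊕ Fin m)) F x := by
  have hS : (Matrix.toBilin' (Cfsg.Agent.S2235.gram m F)).IsSymm :=
    Matrix.isSymm_toBilin'_iff_isSymm.mpr (Cfsg.Agent.S2235.gram_isSymm m F)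
  have hB : (Matrix.toBilin' (Cfsg.Agent.S2235.gram m F)).Nondegenerate :=
    LinearMap.BilinForm.nondegenerate_toBilin'_of_det_ne_zero' _ (gram_odd_det h2 m)
  obtain ⟨c, b, hb1, hb2⟩ :=
    exists_equal_norm_orthogonal_basis h2 _ hS hB (Cfsg.Agent.S2235.finrank_eq m F)
  have hcard : Fintype.card (Fin (2 * m + 1)) = Fintype.card (Unit ⊕ (Fin m ⊕ Fin m)) := by
    simp [Fintype.card_sum]
    omega
  let e : Fin (2 * m + 1) ≃ Unit ⊕ (Fin m ⊕ Fin m) := Fintype.equivOfCardEq hcard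
  obtain ⟨P, hP⟩ := exists_P_of_orthogonal_basis h2 (Cfsg.quadFormOdd m F)
    (Matrix.toBilin' (Cfsg.Agent.S2235.gram m F)) (Cfsg.Agent.S2235.gram_self m F) (b.reindex e)
    (by
      intro i j hij
      simp only [Basis.reindex_apply]
      exact hb1 _ _ (fun h => hij (e.symm.injective h)))
    c (by intro i; simp only [Basis.reindex_apply]; exact hb2 _)
  exact ⟨_, P, hP⟩

theorem v2_card_omega_odd (hq : Odd (Fintype.card F)) (h2 : (2 : F) ≠ 0) (m : ℕ) (hm : 1 ≤ m) :
    (Nat.card ↥(Cfsg.Omega F (Cfsg.quadFormOdd m F))).factorization 2 + 1 =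
      m * padicValNat 2 (Fintype.card F ^ 2 - 1) + T2 m := by
  classical
  have hq1 : 1 < Fintype.card F := Fintype.one_lt_card
  have hidx := index_omega_eq_four (isGram_odd h2 m) (gram_odd_det h2 m)
    (by simp [Fintype.card_sum]; omega)
  have hmul := Subgroup.card_mul_index (Cfsg.Omega F (Cfsg.quadFormOdd m F))
  rw [hidx, Cfsg.Agent.Lib.Helper43.card_isometryGroup_odd m F h2] at hmul
  have hne : ∀ i, Fintype.card F ^ (2 * (i + 1)) - 1 ≠ 0 := by
    intro i
    have : 1 < Fintype.card F ^ (2 * (i + 1)) := Nat.one_lt_pow (by omega) hq1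
    omega
  have hne1 : Fintype.card F ^ (m ^ 2) ≠ 0 := by positivity
  have hnd : ¬ 2 ∣ Fintype.card F ^ (m ^ 2) := fun h =>
    hq.not_two_dvd_nat (Nat.prime_two.dvd_of_dvd_pow h)
  have h3 := congrArg (padicValNat 2) hmul
  rw [padicValNat.mul Nat.card_pos.ne' (by norm_num),
    padicValNat.mul (mul_ne_zero (by norm_num) hne1)
      (Finset.prod_ne_zero_iff.mpr fun i _ => hne i),
    padicValNat.mul (by norm_num) hne1, padicValNat_self,
    padicValNat.eq_zero_of_not_dvd hnd, v2_prod _ hq hq1 m] at h3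
  have h4 : padicValNat 2 4 = 2 := by
    have : (4 : ℕ) = 2 ^ 2 := by norm_num
    rw [this, padicValNat.prime_pow]
  rw [h4] at h3
  rw [Nat.factorization_def _ Nat.prime_two]
  omega

end transfer

section main

variable {F : Type u} [Field F] [Fintype F]

theorem sqDer_sylow_omega_odd (hq : Odd (Fintype.card F)) (m : ℕ) (hm : 2 ≤ m)
    (P : Sylow 2 ↥(Cfsg.Omega F (Cfsg.quadFormOdd m F))) :
    SqDer ↥(P : Subgroup ↥(Cfsg.Omega F (Cfsg.quadFormOdd m F))) := by
  classical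
  have h2 : (2 : F) ≠ 0 := Cfsg.Agent.Lib.Helper37.two_ne_zero_of_odd_card hq
  have hq1 : 1 < Fintype.card F := Fintype.one_lt_card
  obtain ⟨α, hα⟩ := FiniteField.exists_nonsquare (ringChar_ne_two_of_two_ne_zero h2) (F := F)
  have hπ : Function.Surjective (MonoidHom.snd ℤˣ ℤˣ) := fun b => ⟨(1, b), rfl⟩
  have hD := isOrthModel_base hq h2 α hα (MonoidHom.snd ℤˣ ℤˣ) hπ (default : Sylow 2 (O2 F))
  obtain ⟨G, hG, hGm⟩ := exists_orthmodel hD h2 even_two m (by omega)
  obtain ⟨hfin, hn, hcard, hsq, V, hV1, hV2, hV3, B, ι, hι1, hι2, b, ρ, χ, hb, hι, hinj, hinv,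
    hS, hsurj, hR, hK, -⟩ := hGm
  haveI := hfin
  set c₀ := padicValNat 2 (Fintype.card F ^ 2 - 1) with hc₀
  have hc3 : 3 ≤ c₀ := three_le_v2 _ hq hq1
  -- the kernel
  have hKsq : SqDer ↥((MonoidHom.snd ℤˣ ℤˣ).comp χ).ker := hK hm
  have hKcard : Nat.card ↥((MonoidHom.snd ℤˣ ℤˣ).comp χ).ker * 2 = 2 ^ (m * c₀ + T2 m) := by
    have h1 := Subgroup.card_mul_index ((MonoidHom.snd ℤˣ ℤˣ).comp χ).ker
    rw [Subgroup.index_ker, MonoidHom.range_eq_top.mpr hsurj, Subgroup.card_top,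
      Nat.card_eq_fintype_card (α := ℤˣ), Fintype.card_units_int, hcard] at h1
    exact h1
  -- the representation of the kernel on the orthogonal sum with a line
  let ψ : ↥((MonoidHom.snd ℤˣ ℤˣ).comp χ).ker →* G × ℤˣ :=
    ((MonoidHom.id G).prod ((MonoidHom.fst ℤˣ ℤˣ).comp χ)).comp (Subgroup.subtype _)
  let ρ' : ↥((MonoidHom.snd ℤˣ ℤˣ).comp χ).ker →* Module.End F (V × F) :=
    (prodHom2 ρ (lineHom F)).comp ψ
  have hρ' : ∀ k, ρ' k = leftEnd V F (ρ k.1) * rightEnd V F (lineHom F (χ k.1).1) := by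
    intro k
    exact prodHom2_eq ρ (lineHom F) (ψ k)
  have hinj' : Function.Injective ρ' := by
    intro k k' h
    apply Subtype.ext
    apply hinj
    refine LinearMap.ext fun v => ?_
    have h1 := congrArg (fun T : Module.End F (V × F) => (T (v, 0)).1) h
    exact h1
  have hinv' : ∀ k u w, prodForm B (LinearMap.mul F F) (ρ' k u) (ρ' k w) =
      prodForm B (LinearMap.mul F F) u w := by
    intro k u w
    exact prodHom2_invariant B (LinearMap.mul F F) ρ (lineHom F) hinv (lineHom_invariant F)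
      (ψ k) u w
  have hS' : ∀ k, Spin (prodForm B (LinearMap.mul F F)) (ρ' k)
      ((1 : ↥((MonoidHom.snd ℤˣ ℤˣ).comp χ).ker →* ℤˣ × ℤˣ) k) := by
    intro k
    have hk : (χ k.1).2 = 1 := k.2
    have h1 := ((hS k.1).left (LinearMap.mul F F)).mul
      ((lineHom_spin F (χ k.1).1).right B)
    rw [← hρ'] at h1
    have h3 : χ k.1 * ((χ k.1).1, 1) = 1 := by
      refine Prod.ext ?_ ?_
      · show (χ k.1).1 * (χ k.1).1 = 1
        exact Int.units_mul_self _
      · show (χ k.1).2 * 1 = 1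
        rw [hk, mul_one]
    rw [h3] at h1
    exact h1
  have hcardκ : Fintype.card (ι ⊕ Unit) = Fintype.card (Unit ⊕ (Fin m ⊕ Fin m)) := by
    simp [Fintype.card_sum, hι]
    omega
  obtain ⟨Φ, hΦinj, hΦ⟩ := exists_orth_embedding (κ := Unit ⊕ (Fin m ⊕ Fin m)) h2 α hα
    (prodForm B (LinearMap.mul F F)) (b.prod (Basis.singleton Unit F))
    (prod_ortho B (LinearMap.mul F F) b (Basis.singleton Unit F) hb (line_ortho F))
    (Fintype.equivOfCardEq hcardκ) ρ' hinj' hinv' 1 hS'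
  have hΦΩ : ∀ k, Φ k ∈ Cfsg.Omega F (stdQ (Unit ⊕ (Fin m ⊕ Fin m)) F) := by
    intro k
    rw [← (isGram_std h2).ker_signPair (det_std h2) α hα, MonoidHom.mem_ker]
    exact hΦ k
  obtain ⟨c, Pm, hPm⟩ := exists_P_odd (F := F) h2 m
  let Ψ₀ : ↥((MonoidHom.snd ℤˣ ℤˣ).comp χ).ker →* ↥(Cfsg.isometryGroup F (Cfsg.quadFormOdd m F)) :=
    (conjIso (Cfsg.quadFormOdd m F) Pm c hPm).comp Φ
  have hΨ₀ : ∀ k, Ψ₀ k ∈ Cfsg.Omega F (Cfsg.quadFormOdd m F) := fun k =>
    Cfsg.Agent.Lib.Helper37.map_mem_commutator (conjIso (Cfsg.quadFormOdd m F) Pm c hPm) (hΦΩ k)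
  let Ψ : ↥((MonoidHom.snd ℤˣ ℤˣ).comp χ).ker →* ↥(Cfsg.Omega F (Cfsg.quadFormOdd m F)) :=
    Ψ₀.codRestrict _ hΨ₀
  have hΨ : Function.Injective Ψ := by
    intro k k' h
    have h1 : Ψ₀ k = Ψ₀ k' := congrArg Subtype.val h
    exact hΦinj (conjIso_injective _ Pm c hPm h1)
  have hv := v2_card_omega_odd hq h2 m (by omega)
  have hcount : Nat.card ↥((MonoidHom.snd ℤˣ ℤˣ).comp χ).ker =
      2 ^ (Nat.card ↥(Cfsg.Omega F (Cfsg.quadFormOdd m F))).factorization 2 := by
    have h1 : m * c₀ + T2 m =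
        (Nat.card ↥(Cfsg.Omega F (Cfsg.quadFormOdd m F))).factorization 2 + 1 := hv.symm
    rw [h1, pow_succ] at hKcard
    exact Nat.eq_of_mul_eq_mul_right (by norm_num) hKcard
  exact sqDer_sylow_of_embedding Ψ hΨ hKsq hcount P

end main

end Cfsg.Agent.Lib.Helper20.Orth
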