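import Mathlib
import Cfsg.Agent.Lib.Helper20.OrthOdd
import Cfsg.Agent.Lib.Helper20.O7Rel
import Cfsg.Agent.Lib.Helper20.O7PropA
import Cfsg.Agent.Lib.Helper20.O7PropB

set_option autoImplicit false
set_option linter.style.haveILetI false
set_option linter.unusedSimpArgs false
set_option linter.unusedSectionVars false

/-!
Change of coordinates between the isometry groups of two equivalent quadratic forms (possibly with
different index types), and the model of the Sylow `2`-subgroup of `Ω₇(q)`.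
-/

namespace Cfsg.Agent.Lib.Helper20.O7

open Cfsg.Agent.Lib.Helper37 Cfsg.Agent.Lib.Helper20.Orth Matrix
open Cfsg.Agent.Lib.Helper95.Fusion

section rect

variable {ι κ : Type} [Fintype ι] [DecidableEq ι] [Fintype κ] [DecidableEq κ]
  {F : Type*} [Field F]

theorem rect_mul (M : Matrix κ ι F) (N : Matrix ι κ F) (hNM : N * M = 1) (X Y : Matrix ι ι F) :
    (M * X * N) * (M * Y * N) = M * (X * Y) * N := by
  calc (M * X * N) * (M * Y * N) = M * X * (N * M) * Y * N := by simp only [Matrix.mul_assoc]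
    _ = M * (X * Y) * N := by
      rw [hNM, Matrix.mul_one]
      simp only [Matrix.mul_assoc]

/-- conjugation by an invertible rectangular matrix -/
def rectHom (Q : (κ → F) → F) (Q' : (ι → F) → F) (M : Matrix κ ι F) (N : Matrix ι κ F)
    (hMN : M * N = 1) (hNM : N * M = 1) (c : F) (hQ : ∀ x, Q (M *ᵥ x) = c * Q' x) :
    ↥(Cfsg.isometryGroup F Q') →* ↥(Cfsg.isometryGroup F Q) where
  toFun g := ⟨⟨M * (g.1 : Matrix ι ι F) * N,
    M * ((g.1⁻¹ : Matrix.GeneralLinearGroup ι F) : Matrix ι ι F) * N,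
    by
      rw [rect_mul M N hNM, ← Units.val_mul, mul_inv_cancel, Units.val_one, Matrix.mul_one, hMN],
    by
      rw [rect_mul M N hNM, ← Units.val_mul, inv_mul_cancel, Units.val_one, Matrix.mul_one, hMN]⟩,
    by
    rw [mem_isometryGroup_iff']
    intro u
    have hg := (mem_isometryGroup_iff' Q' g.1).mp g.2
    show Q ((M * (g.1 : Matrix ι ι F) * N) *ᵥ u) = Q u
    have hu : u = M *ᵥ (N *ᵥ u) := by
      rw [Matrix.mulVec_mulVec, hMN, Matrix.one_mulVec]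
    rw [← Matrix.mulVec_mulVec, ← Matrix.mulVec_mulVec, hQ, hg]
    conv_rhs => rw [hu, hQ]⟩
  map_one' := by
    apply Subtype.ext
    apply Units.ext
    show M * ((1 : Matrix.GeneralLinearGroup ι F) : Matrix ι ι F) * N = 1
    rw [Units.val_one, Matrix.mul_one, hMN]
  map_mul' g h := by
    apply Subtype.ext
    apply Units.ext
    show M * ((g.1 * h.1 : Matrix.GeneralLinearGroup ι F) : Matrix ι ι F) * N =
      (M * (g.1 : Matrix ι ι F) * N) * (M * (h.1 : Matrix ι ι F) * N)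
    rw [Units.val_mul, rect_mul M N hNM]

theorem rectHom_val (Q : (κ → F) → F) (Q' : (ι → F) → F) (M : Matrix κ ι F) (N : Matrix ι κ F)
    (hMN : M * N = 1) (hNM : N * M = 1) (c : F) (hQ : ∀ x, Q (M *ᵥ x) = c * Q' x)
    (g : ↥(Cfsg.isometryGroup F Q')) :
    (((rectHom Q Q' M N hMN hNM c hQ g : ↥(Cfsg.isometryGroup F Q)) :
      Matrix.GeneralLinearGroup κ F) : Matrix κ κ F) = M * (g.1 : Matrix ι ι F) * N := rfl

/-- the isomorphism of isometry groups -/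
def rectIso (Q : (κ → F) → F) (Q' : (ι → F) → F) (M : Matrix κ ι F) (N : Matrix ι κ F)
    (hMN : M * N = 1) (hNM : N * M = 1) (c : F) (hc : c ≠ 0) (hQ : ∀ x, Q (M *ᵥ x) = c * Q' x) :
    ↥(Cfsg.isometryGroup F Q') ≃* ↥(Cfsg.isometryGroup F Q) :=
  have hQ' : ∀ u, Q' (N *ᵥ u) = c⁻¹ * Q u := by
    intro u
    have hu : u = M *ᵥ (N *ᵥ u) := by
      rw [Matrix.mulVec_mulVec, hMN, Matrix.one_mulVec]
    conv_rhs => rw [hu, hQ]
    rw [← mul_assoc, inv_mul_cancel₀ hc, one_mul]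
  MonoidHom.toMulEquiv (rectHom Q Q' M N hMN hNM c hQ) (rectHom Q' Q N M hNM hMN c⁻¹ hQ')
    (by
      apply MonoidHom.ext
      intro g
      apply Subtype.ext
      apply Units.ext
      show N * (M * (g.1 : Matrix ι ι F) * N) * M = (g.1 : Matrix ι ι F)
      calc N * (M * (g.1 : Matrix ι ι F) * N) * M
          = (N * M) * (g.1 : Matrix ι ι F) * (N * M) := by simp only [Matrix.mul_assoc]
        _ = (g.1 : Matrix ι ι F) := by rw [hNM, Matrix.one_mul, Matrix.mul_one])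
    (by
      apply MonoidHom.ext
      intro g
      apply Subtype.ext
      apply Units.ext
      show M * (N * (g.1 : Matrix κ κ F) * M) * N = (g.1 : Matrix κ κ F)
      calc M * (N * (g.1 : Matrix κ κ F) * M) * N
          = (M * N) * (g.1 : Matrix κ κ F) * (M * N) := by simp only [Matrix.mul_assoc]
        _ = (g.1 : Matrix κ κ F) := by rw [hMN, Matrix.one_mul, Matrix.mul_one])

end rect

section model

variable {F : Type*} [Field F] [Fintype F] [DecidableEq F]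

theorem exists_rect_odd (h2 : (2 : F) ≠ 0) :
    ∃ (c : F) (M : Matrix (Unit ⊕ (Fin 3 ⊕ Fin 3)) (Fin 7) F)
      (N : Matrix (Fin 7) (Unit ⊕ (Fin 3 ⊕ Fin 3)) F),
      c ≠ 0 ∧ M * N = 1 ∧ N * M = 1 ∧
        ∀ x, Cfsg.quadFormOdd 3 F (M *ᵥ x) = c * stdQ (Fin 7) F x := by
  obtain ⟨c, P, hP⟩ := exists_P_odd (F := F) h2 3
  have hcard : Fintype.card (Fin 7) = Fintype.card (Unit ⊕ (Fin 3 ⊕ Fin 3)) := by
    simp [Fintype.card_sum]
  let e : Fin 7 ≃ Unit ⊕ (Fin 3 ⊕ Fin 3) := Fintype.equivOfCardEq hcard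
  let E : Matrix (Unit ⊕ (Fin 3 ⊕ Fin 3)) (Fin 7) F :=
    (1 : Matrix (Unit ⊕ (Fin 3 ⊕ Fin 3)) (Unit ⊕ (Fin 3 ⊕ Fin 3)) F).submatrix id e
  let E' : Matrix (Fin 7) (Unit ⊕ (Fin 3 ⊕ Fin 3)) F :=
    (1 : Matrix (Unit ⊕ (Fin 3 ⊕ Fin 3)) (Unit ⊕ (Fin 3 ⊕ Fin 3)) F).submatrix e id
  have hEE' : E * E' = 1 := by
    show (1 : Matrix (Unit ⊕ (Fin 3 ⊕ Fin 3)) (Unit ⊕ (Fin 3 ⊕ Fin 3)) F).submatrix id e *
      (1 : Matrix (Unit ⊕ (Fin 3 ⊕ Fin 3)) (Unit ⊕ (Fin 3 ⊕ Fin 3)) F).submatrix e id = 1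
    rw [Matrix.submatrix_mul_equiv, Matrix.one_mul, Matrix.submatrix_id_id]
  have hE'E : E' * E = 1 := by
    show (1 : Matrix (Unit ⊕ (Fin 3 ⊕ Fin 3)) (Unit ⊕ (Fin 3 ⊕ Fin 3)) F).submatrix e id *
      (1 : Matrix (Unit ⊕ (Fin 3 ⊕ Fin 3)) (Unit ⊕ (Fin 3 ⊕ Fin 3)) F).submatrix id e = 1
    rw [← Matrix.submatrix_mul _ _ _ _ _ Function.bijective_id, Matrix.one_mul,
      Matrix.submatrix_one_equiv]
  have hEv : ∀ x : Fin 7 → F, E *ᵥ x = x ∘ e.symm := by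
    intro x
    show (1 : Matrix (Unit ⊕ (Fin 3 ⊕ Fin 3)) (Unit ⊕ (Fin 3 ⊕ Fin 3)) F).submatrix id e *ᵥ x = _
    rw [Matrix.submatrix_mulVec_equiv, Matrix.one_mulVec]
    rfl
  set Pm : Matrix (Unit ⊕ (Fin 3 ⊕ Fin 3)) (Unit ⊕ (Fin 3 ⊕ Fin 3)) F :=
    ((P : Matrix.GeneralLinearGroup (Unit ⊕ (Fin 3 ⊕ Fin 3)) F) :
      Matrix (Unit ⊕ (Fin 3 ⊕ Fin 3)) (Unit ⊕ (Fin 3 ⊕ Fin 3)) F) with hPm
  set Pin : Matrix (Unit ⊕ (Fin 3 ⊕ Fin 3)) (Unit ⊕ (Fin 3 ⊕ Fin 3)) F :=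
    ((P⁻¹ : Matrix.GeneralLinearGroup (Unit ⊕ (Fin 3 ⊕ Fin 3)) F) :
      Matrix (Unit ⊕ (Fin 3 ⊕ Fin 3)) (Unit ⊕ (Fin 3 ⊕ Fin 3)) F) with hPin
  have hPP : Pm * Pin = 1 := by
    rw [hPm, hPin, ← Units.val_mul, mul_inv_cancel, Units.val_one]
  have hPP' : Pin * Pm = 1 := by
    rw [hPm, hPin, ← Units.val_mul, inv_mul_cancel, Units.val_one]
  have hMN : Pm * E * (E' * Pin) = 1 := by
    calc Pm * E * (E' * Pin) = Pm * (E * E') * Pin := by
          simp only [Matrix.mul_assoc]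
      _ = 1 := by rw [hEE', Matrix.mul_one, hPP]
  have hNM : E' * Pin * (Pm * E) = 1 := by
    calc E' * Pin * (Pm * E) = E' * (Pin * Pm) * E := by
          simp only [Matrix.mul_assoc]
      _ = 1 := by rw [hPP', Matrix.mul_one, hE'E]
  have hQ : ∀ x, Cfsg.quadFormOdd 3 F ((Pm * E) *ᵥ x) = c * stdQ (Fin 7) F x := by
    intro x
    rw [← Matrix.mulVec_mulVec, hP, hEv]
    congr 1
    unfold stdQ
    exact Equiv.sum_comp e.symm (fun b => x b ^ 2)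
  refine ⟨c, _, _, ?_, hMN, hNM, hQ⟩
  rintro rfl
  have h1 := hQ ((E' * Pin) *ᵥ Pi.single (Sum.inl ()) 1)
  rw [Matrix.mulVec_mulVec, hMN, Matrix.one_mulVec, zero_mul] at h1
  simp [Cfsg.quadFormOdd] at h1

theorem omega7_model (h2 : (2 : F) ≠ 0) (hns : ¬ IsSquare (2 : F)) :
    ∃ S' : Subgroup ↥(Cfsg.Omega F (Cfsg.quadFormOdd 3 F)),
      Nat.card S' = 512 ∧ PropA S' ∧ PropB S' := by
  obtain ⟨c, M, N, hc, hMN, hNM, hQ⟩ := exists_rect_odd (F := F) h2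
  obtain ⟨Φ⟩ : Nonempty (↥(Cfsg.isometryGroup F (stdQ (Fin 7) F)) ≃*
      ↥(Cfsg.isometryGroup F (Cfsg.quadFormOdd 3 F))) :=
    ⟨rectIso (Cfsg.quadFormOdd 3 F) (stdQ (Fin 7) F) M N hMN hNM c hc hQ⟩
  have hsurj : Function.Surjective Φ.toMonoidHom := Φ.surjective
  have hinj : Function.Injective Φ.toMonoidHom := Φ.injective
  have hΩ : (Cfsg.Omega F (stdQ (Fin 7) F)).map Φ.toMonoidHom =
      Cfsg.Omega F (Cfsg.quadFormOdd 3 F) := by
    show (commutator _).map _ = commutator _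
    rw [commutator_def, Subgroup.map_commutator, commutator_def, ← MonoidHom.range_eq_map,
      MonoidHom.range_eq_top.mpr hsurj]
  have hA : RelA (Cfsg.Omega F (stdQ (Fin 7) F)) (S0 F) := relA F h2 hns
  have hB : RelB (Cfsg.Omega F (stdQ (Fin 7) F)) (S0 F) := relB F h2 hns
  have hA' := hA.map Φ
  have hB' := hB.map Φ
  rw [hΩ] at hA' hB'
  have hle : (S0 F).map Φ.toMonoidHom ≤ Cfsg.Omega F (Cfsg.quadFormOdd 3 F) := by
    rw [← hΩ]
    exact Subgroup.map_mono (S0_le_omega F h2 hns)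
  refine ⟨((S0 F).map Φ.toMonoidHom).subgroupOf (Cfsg.Omega F (Cfsg.quadFormOdd 3 F)), ?_,
    propA_of_relA hA', propB_of_relB hle hB'⟩
  rw [Nat.card_congr (Subgroup.subgroupOfEquivOfLe hle).toEquiv,
    Subgroup.card_map_of_injective hinj, card_S0 F h2]

end model

end Cfsg.Agent.Lib.Helper20.O7
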