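import Mathlib
import Cfsg.Agent.Lib.Helper20.O7Iso

set_option autoImplicit false
set_option linter.style.haveILetI false
set_option linter.unusedSimpArgs false
set_option linter.unusedSectionVars false

/-!
From the two hypotheses to the three conclusions about the fusion system, and the arithmetic.
-/

namespace Cfsg.Agent.Lib.Helper20.O7

open Cfsg Cfsg.FusionSystem Cfsg.Agent.Lib.Helper95.Fusion

section fusion

variable {G : Type*} [Group G]

theorem fusion_three [Finite G] {p : ℕ} [Fact p.Prime] (S : Sylow p G)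
    (hS : (S : Subgroup G) ≠ ⊥) (hA : PropA (S : Subgroup G)) (hB : PropB (S : Subgroup G)) :
    (groupFusionSystem (S : Subgroup G)).autGroup (S : Subgroup G) = Cfsg.Inn ↥(S : Subgroup G) ∧
    (∀ T : Subgroup G, (groupFusionSystem (S : Subgroup G)).StronglyClosed T →
      T = ⊥ ∨ T = (S : Subgroup G)) ∧
    (groupFusionSystem (S : Subgroup G)).IsSimple p := by
  refine ⟨?_, ?_, isSimple_of_selfNormalizing S hS hA hB⟩
  · apply le_antisymm
    · intro α hα
      obtain ⟨s, hs, hsx⟩ := autGroup_conj (S : Subgroup G)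
        (fun g hg => ⟨g, hB g hg, fun _ _ => rfl⟩) α hα
      refine ⟨⟨s, hs⟩, ?_⟩
      apply MulEquiv.ext
      intro x
      apply Subtype.ext
      rw [hsx x]
      rfl
    · rintro α ⟨s, rfl⟩
      unfold FusionSystem.autGroup
      apply Subgroup.subset_closure
      show (S : Subgroup G).subtype.comp (MulAut.conj s).toMonoidHom ∈
        (groupFusionSystem (S : Subgroup G)).Hom (S : Subgroup G)
      have h1 : (S : Subgroup G).subtype.comp (MulAut.conj s).toMonoidHom =
          conjHom (S : Subgroup G) (s : G) := by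
        apply MonoidHom.ext
        intro x
        rfl
      rw [h1]
      exact (groupFusionSystem (S : Subgroup G)).conj_mem (le_refl _) s.2
  · intro T hsc
    by_cases hT : T = ⊥
    · exact Or.inl hT
    · right
      apply hA T hsc.1 hT
      intro x hx g hg
      have hR : Subgroup.zpowers x ≤ T := by
        rw [Subgroup.zpowers_le]
        exact hx
      have hφ : conjHom (Subgroup.zpowers x) g ∈
          (groupFusionSystem (S : Subgroup G)).Hom (Subgroup.zpowers x) := by
        refine ⟨hR.trans hsc.1, ?_, g, fun y => rfl⟩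
        rintro ⟨y, k, rfl⟩
        rw [conjHom_apply]
        have : g * x ^ k * g⁻¹ = (g * x * g⁻¹) ^ k := by
          rw [conj_zpow]
        show g * x ^ k * g⁻¹ ∈ (S : Subgroup G)
        rw [this]
        exact Subgroup.zpow_mem _ hg k
      exact hsc.2 _ hR _ hφ ⟨x, Subgroup.mem_zpowers x⟩

open scoped Pointwise in
theorem fusion_three_of_model [Finite G] {p : ℕ} [Fact p.Prime] (S' : Subgroup G)
    (hc : Nat.card S' = p ^ (Nat.card G).factorization p) (hne : Nat.card S' ≠ 1)
    (hA : PropA S') (hB : PropB S') (S : Sylow p G) :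
    (groupFusionSystem (S : Subgroup G)).autGroup (S : Subgroup G) = Cfsg.Inn ↥(S : Subgroup G) ∧
    (∀ T : Subgroup G, (groupFusionSystem (S : Subgroup G)).StronglyClosed T →
      T = ⊥ ∨ T = (S : Subgroup G)) ∧
    (groupFusionSystem (S : Subgroup G)).IsSimple p := by
  obtain ⟨k, rfl⟩ := MulAction.exists_smul_eq G (Sylow.ofCard S' hc) S
  have hcoe : ((k • Sylow.ofCard S' hc : Sylow p G) : Subgroup G) = MulAut.conj k • S' := rfl
  apply fusion_three
  · intro hbot
    have h1 := (k • Sylow.ofCard S' hc : Sylow p G).card_eq_multiplicity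
    rw [hbot, Subgroup.card_bot, ← hc] at h1
    exact hne h1.symm
  · rw [hcoe]
    exact propA_conj k hA
  · rw [hcoe]
    exact propB_conj k hB

end fusion

section arith

theorem v2_sq_sub_one (q : ℕ) (hq : q % 8 = 3 ∨ q % 8 = 5) : padicValNat 2 (q ^ 2 - 1) = 3 := by
  have key : ∃ m : ℕ, q ^ 2 - 1 = 2 ^ 3 * m ∧ ¬ 2 ∣ m := by
    rcases hq with h | h
    · obtain ⟨k, rfl⟩ : ∃ k, q = 8 * k + 3 := ⟨q / 8, by omega⟩
      refine ⟨8 * k ^ 2 + 6 * k + 1, ?_, ?_⟩
      · have : (8 * k + 3) ^ 2 = 2 ^ 3 * (8 * k ^ 2 + 6 * k + 1) + 1 := by ring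
        rw [this, Nat.add_sub_cancel]
      · generalize k ^ 2 = t
        omega
    · obtain ⟨k, rfl⟩ : ∃ k, q = 8 * k + 5 := ⟨q / 8, by omega⟩
      refine ⟨8 * k ^ 2 + 10 * k + 3, ?_, ?_⟩
      · have : (8 * k + 5) ^ 2 = 2 ^ 3 * (8 * k ^ 2 + 10 * k + 3) + 1 := by ring
        rw [this, Nat.add_sub_cancel]
      · generalize k ^ 2 = t
        omega
  obtain ⟨m, hm, hodd⟩ := key
  have hm0 : m ≠ 0 := by
    rintro rfl
    exact hodd (dvd_zero 2)
  rw [hm, padicValNat.mul (by norm_num) hm0, padicValNat.prime_pow,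
    padicValNat.eq_zero_of_not_dvd hodd]

theorem T2_three : Cfsg.Agent.Lib.Helper20.SylModel.T2 3 = 1 := by
  unfold Cfsg.Agent.Lib.Helper20.SylModel.T2
  rw [Finset.sum_range_succ, Finset.sum_range_succ, Finset.sum_range_one]
  have h1 : padicValNat 2 (0 + 1) = 0 := by simp
  have h2 : padicValNat 2 (1 + 1) = 1 := by
    show padicValNat 2 2 = 1
    exact padicValNat_self
  have h3 : padicValNat 2 (2 + 1) = 0 := padicValNat.eq_zero_of_not_dvd (by norm_num)
  rw [h1, h2, h3]

end arith

end Cfsg.Agent.Lib.Helper20.O7
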