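import Mathlib
import Cfsg.Agent.Lib.Helper20.OrthOdd
import Cfsg.Agent.Lib.Helper37.EvenDim
import Cfsg.Agent.S0756

set_option autoImplicit false
set_option linter.style.haveILetI false
set_option linter.unusedSimpArgs false
set_option linter.unusedSectionVars false

/-!
Embedding a model into the isometry group of a general form with a Gram matrix, through a basis
with matching Gram matrix.
-/

namespace Cfsg.Agent.Lib.Helper20.Orth

open Cfsg.Agent.Lib.Helper37 Cfsg.Agent.Lib.Helper20.SylModel Matrix Module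

universe u

section gen

variable {κ : Type} [Fintype κ] [DecidableEq κ] {F : Type*} [Field F] {Q : (κ → F) → F}
  {G : Matrix κ κ F}

/-- Half of the bilinear form of a Gram matrix: the bilinear form whose diagonal is `Q`. -/
noncomputable def halfB (G : Matrix κ κ F) : LinearMap.BilinForm F (κ → F) :=
  (2⁻¹ : F) • Matrix.toBilin' G

theorem halfB_apply (G : Matrix κ κ F) (x y : κ → F) :
    halfB G x y = 2⁻¹ * Matrix.toBilin' G x y := by
  rw [halfB, LinearMap.smul_apply, LinearMap.smul_apply, smul_eq_mul]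

theorem halfB_eq (G : Matrix κ κ F) : halfB G = Matrix.toBilin' ((2⁻¹ : F) • G) := by
  rw [halfB, map_smul]

theorem halfB_self (h : IsGram Q G) (x : κ → F) : halfB G x x = Q x := by
  rw [halfB_apply, h.self, ← mul_assoc, inv_mul_cancel₀ h.two_ne, one_mul]

theorem toLin_refl_gen (h : IsGram Q G) (v : κ → F) :
    Matrix.toLinAlgEquiv' (Cfsg.reflectionMatrix Q v) = refl (halfB G) v := by
  refine LinearMap.ext fun x => ?_
  rw [Matrix.toLinAlgEquiv'_apply, h.refl_mulVec, refl_apply, halfB_self h, halfB_apply,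
    h.symmB x v]
  congr 2
  rw [show 2 * (Q v)⁻¹ * (2⁻¹ * Matrix.toBilin' G v x) =
    (2 * 2⁻¹) * ((Q v)⁻¹ * Matrix.toBilin' G v x) by ring, mul_inv_cancel₀ h.two_ne, one_mul]

variable [Fintype F] [DecidableEq F]

theorem signPair_list_gen (h : IsGram Q G) (α : F) (hα : ¬ IsSquare α) (vs : List (κ → F))
    (hvs : ∀ v ∈ vs, Q v ≠ 0) (g : ↥(Cfsg.isometryGroup F Q))
    (hg : toMat Q g = (vs.map (fun v => Cfsg.reflectionMatrix Q v)).prod) :
    IsGram.signPair Q α g = (vs.map (spinVal (halfB G))).prod := by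
  have hg' : g = (vs.map h.reflG').prod := by
    apply toMat_injective
    rw [hg, h.toMat_list vs hvs]
  rw [hg', map_list_prod, List.map_map]
  congr 1
  apply List.map_congr_left
  intro v hv
  show IsGram.signPair Q α (h.reflG' v) = spinVal (halfB G) v
  rw [h.reflG'_of_ne v (hvs v hv)]
  unfold spinVal
  rw [halfB_self h]
  split_ifs with hsq
  · exact (h.signPair_reflG v (hvs v hv) α hα).1 hsq
  · exact (h.signPair_reflG v (hvs v hv) α hα).2 hsq

theorem signPair_of_spin_gen (h : IsGram Q G) (α : F) (hα : ¬ IsSquare α)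
    (g : ↥(Cfsg.isometryGroup F Q)) (a : ℤˣ × ℤˣ)
    (hs : Spin (halfB G) (Matrix.toLinAlgEquiv' (toMat Q g)) a) :
    IsGram.signPair Q α g = a := by
  obtain ⟨vs, hvs, hT, ha⟩ := hs
  have hvs' : ∀ v ∈ vs, Q v ≠ 0 := fun v hv => by
    rw [← halfB_self h]
    exact hvs v hv
  have hmat : toMat Q g = (vs.map (fun v => Cfsg.reflectionMatrix Q v)).prod := by
    apply (Matrix.toLinAlgEquiv' : Matrix κ κ F ≃ₐ[F] Module.End F (κ → F)).injective
    rw [hT, map_list_prod, List.map_map]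
    congr 1
    apply List.map_congr_left
    intro v _
    exact (toLin_refl_gen h v).symm
  rw [ha]
  exact signPair_list_gen h α hα vs hvs' g hmat

theorem exists_orth_embedding_gen (h : IsGram Q G) (α : F) (hα : ¬ IsSquare α)
    {V : Type*} [AddCommGroup V] [Module F V]
    {ι κ' : Type} [Fintype ι] [DecidableEq ι] [Fintype κ'] [DecidableEq κ']
    (B : LinearMap.BilinForm F V) (b : Basis ι F V) (b₀ : Basis κ' F (κ → F)) (e : ι ≃ κ')
    (hb : ∀ s t, B (b s) (b t) = halfB G (b₀ (e s)) (b₀ (e t)))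
    {H : Type*} [Group H] (ρ : H →* Module.End F V)
    (hinj : Function.Injective ρ) (hinv : ∀ g u w, B (ρ g u) (ρ g w) = B u w)
    (χ : H →* ℤˣ × ℤˣ) (hS : ∀ g, Spin B (ρ g) (χ g)) :
    ∃ Φ : H →* ↥(Cfsg.isometryGroup F Q), Function.Injective Φ ∧
      ∀ g, IsGram.signPair Q α (Φ g) = χ g := by
  let φ : V ≃ₗ[F] (κ → F) := b.equiv b₀ e
  have hcomp : (halfB G).compl₁₂ φ.toLinearMap φ.toLinearMap = B := by
    refine LinearMap.ext_basis b b fun s t => ?_
    rw [LinearMap.compl₁₂_apply, hb]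
    show halfB G (b.equiv b₀ e (b s)) (b.equiv b₀ e (b t)) = _
    rw [Basis.equiv_apply, Basis.equiv_apply]
  have hφ : ∀ x y, halfB G (φ x) (φ y) = B x y := by
    intro x y
    rw [← hcomp]
    rfl
  let ψ : H →* Matrix κ κ F :=
    (LinearMap.toMatrixAlgEquiv' : Module.End F (κ → F) ≃ₐ[F]
      Matrix κ κ F).toRingEquiv.toMulEquiv.toMonoidHom.comp ((conjHom φ).comp ρ)
  have hψ : ∀ g, Matrix.toLinAlgEquiv' (ψ g) = conjHom φ (ρ g) := by
    intro g
    exact Matrix.toLinAlgEquiv'_toMatrixAlgEquiv' _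
  have hmem : ∀ g, ψ.toHomUnits g ∈ Cfsg.isometryGroup F Q := by
    intro g
    rw [mem_isometryGroup_iff']
    intro u
    have h1 : ((ψ.toHomUnits g : Matrix.GeneralLinearGroup κ F) : Matrix κ κ F) *ᵥ u =
        conjHom φ (ρ g) u := by
      rw [← hψ, Matrix.toLinAlgEquiv'_apply]
      rfl
    rw [h1, ← halfB_self h, ← halfB_self h, conjHom_apply, hφ, hinv, ← hφ,
      LinearEquiv.apply_symm_apply]
  let Φ : H →* ↥(Cfsg.isometryGroup F Q) := ψ.toHomUnits.codRestrict _ hmem
  refine ⟨Φ, ?_, ?_⟩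
  · intro g g' hgg
    apply hinj
    have h1 : ψ g = ψ g' := by
      have := congrArg (fun x : ↥(Cfsg.isometryGroup F Q) =>
        ((x : Matrix.GeneralLinearGroup κ F) : Matrix κ κ F)) hgg
      exact this
    have h2 : conjHom φ (ρ g) = conjHom φ (ρ g') := by
      rw [← hψ, ← hψ, h1]
    refine LinearMap.ext fun v => ?_
    have h3 := congrArg (fun T : Module.End F (κ → F) => φ.symm (T (φ v))) h2
    simp only [conjHom_apply, LinearEquiv.symm_apply_apply] at h3
    exact h3
  · intro g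
    apply signPair_of_spin_gen h α hα
    have h1 : toMat Q (Φ g) = ψ g := rfl
    rw [h1, hψ]
    exact (hS g).conj (halfB G) φ hφ

/-- A basis orthogonal for half the form of the Gram matrix, with norms `1` except possibly the
last, which records the class of the determinant (even dimension). -/
theorem exists_half_basis (h : IsGram Q G) (hdet : G.det ≠ 0) (α : F) (hα : ¬ IsSquare α)
    (N : ℕ) (hκ : Fintype.card κ = N + 1) (hev : Even (N + 1)) :
    ∃ b₀ : Basis (Fin (N + 1)) F (κ → F),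
      (∀ i j, i ≠ j → halfB G (b₀ i) (b₀ j) = 0) ∧
      (∀ i, i ≠ Fin.last N → halfB G (b₀ i) (b₀ i) = 1) ∧
      halfB G (b₀ (Fin.last N)) (b₀ (Fin.last N)) = (if IsSquare G.det then 1 else α) := by
  have h2 := h.two_ne
  have h2i : (2⁻¹ : F) ≠ 0 := inv_ne_zero h2
  have hsym : ((2⁻¹ : F) • G).IsSymm := h.symm.smul _
  have hdet' : ((2⁻¹ : F) • G).det = (2⁻¹ : F) ^ (N + 1) * G.det := by
    rw [Matrix.det_smul, hκ]
  have hdet0 : ((2⁻¹ : F) • G).det ≠ 0 := by
    rw [hdet']
    exact mul_ne_zero (pow_ne_zero _ h2i) hdet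
  have hS : (Matrix.toBilin' ((2⁻¹ : F) • G)).IsSymm :=
    Matrix.isSymm_toBilin'_iff_isSymm.mpr hsym
  have hB : (Matrix.toBilin' ((2⁻¹ : F) • G)).Nondegenerate :=
    LinearMap.BilinForm.nondegenerate_toBilin'_of_det_ne_zero' _ hdet0
  have hfin : Module.finrank F (κ → F) = N + 1 := by
    rw [Module.finrank_fintype_fun_eq_card, hκ]
  obtain ⟨b, hb1, hb2, hb3⟩ := Cfsg.Agent.S0756.result h2 _ hS hB hfin α hα
  obtain ⟨t, ht0, ht⟩ := disc_ratio_gram ((2⁻¹ : F) • G) b hb1
  rw [Fin.prod_univ_castSucc] at ht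
  have e1 : ∏ i : Fin N, Matrix.toBilin' ((2⁻¹ : F) • G) (b i.castSucc) (b i.castSucc) = 1 := by
    apply Finset.prod_eq_one
    intro i _
    exact hb2 _ (Fin.castSucc_lt_last i).ne
  rw [e1, one_mul, hdet'] at ht
  obtain ⟨r, hr⟩ := hev
  have hpow : (2⁻¹ : F) ^ (N + 1) = ((2⁻¹ : F) ^ r) ^ 2 := by
    rw [hr, ← pow_mul]
    congr 1
    ring
  rw [hpow] at ht
  have hs0 : t * (2⁻¹ : F) ^ r ≠ 0 := mul_ne_zero ht0 (pow_ne_zero _ h2i)
  rw [halfB_eq]
  refine ⟨b, hb1, hb2, ?_⟩
  split_ifs with hsq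
  · rcases hb3 with h1 | h1
    · exact h1
    · exfalso
      rw [h1] at ht
      obtain ⟨s, hs⟩ := hsq
      apply hα
      refine ⟨t * (2⁻¹ : F) ^ r * s, ?_⟩
      rw [ht, hs]
      ring
  · rcases hb3 with h1 | h1
    · exfalso
      rw [h1] at ht
      apply hsq
      refine ⟨(t * (2⁻¹ : F) ^ r)⁻¹, ?_⟩
      field_simp
      linear_combination -ht
    · exact h1

end gen

section final

variable {κ : Type} [Fintype κ] [DecidableEq κ] {F : Type u} [Field F] [Fintype F]
  [DecidableEq F] {Q : (κ → F) → F} {G : Matrix κ κ F}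

/-- The final step: a group with the right order and a faithful orthogonal representation with
trivial spinor data is a Sylow `2`-subgroup of `Ω`. -/
theorem sqDer_sylow_omega_of_model (h : IsGram Q G) (hdet : G.det ≠ 0)
    (hκ : 2 ≤ Fintype.card κ) (α : F) (hα : ¬ IsSquare α) {K : Type u} [Group K] (hK : SqDer K)
    {c : ℕ} (hcard : Nat.card K * 4 = 2 ^ c)
    (hv : (Nat.card ↥(Cfsg.isometryGroup F Q)).factorization 2 = c)
    {V : Type u} [AddCommGroup V] [Module F V]
    {ι κ' : Type} [Fintype ι] [DecidableEq ι] [Fintype κ'] [DecidableEq κ']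
    (B : LinearMap.BilinForm F V) (b : Basis ι F V) (b₀ : Basis κ' F (κ → F)) (e : ι ≃ κ')
    (hb : ∀ s t, B (b s) (b t) = halfB G (b₀ (e s)) (b₀ (e t)))
    (ρ : K →* Module.End F V)
    (hinj : Function.Injective ρ) (hinv : ∀ g u w, B (ρ g u) (ρ g w) = B u w)
    (hS : ∀ g, Spin B (ρ g) 1) (P : Sylow 2 ↥(Cfsg.Omega F Q)) :
    SqDer ↥(P : Subgroup ↥(Cfsg.Omega F Q)) := by
  obtain ⟨Φ, hΦinj, hΦ⟩ := exists_orth_embedding_gen h α hα B b b₀ e hb ρ hinj hinv 1 hS
  have hΦΩ : ∀ k, Φ k ∈ Cfsg.Omega F Q := by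
    intro k
    rw [← h.ker_signPair hdet α hα, MonoidHom.mem_ker]
    exact hΦ k
  let Ψ : K →* ↥(Cfsg.Omega F Q) := Φ.codRestrict _ hΦΩ
  have hΨ : Function.Injective Ψ := by
    intro k k' hk
    exact hΦinj (congrArg Subtype.val hk)
  have hidx := index_omega_eq_four h hdet hκ
  have hmul := Subgroup.card_mul_index (Cfsg.Omega F Q)
  rw [hidx] at hmul
  have h4 : (Nat.factorization 4) 2 = 2 := by
    rw [show (4 : ℕ) = 2 ^ 2 by norm_num, Nat.Prime.factorization_pow Nat.prime_two]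
    simp
  have hfac : (Nat.card ↥(Cfsg.Omega F Q)).factorization 2 + 2 = c := by
    rw [← hv, ← hmul, Nat.factorization_mul Nat.card_pos.ne' (by norm_num), Finsupp.add_apply, h4]
  have hcount : Nat.card K = 2 ^ (Nat.card ↥(Cfsg.Omega F Q)).factorization 2 := by
    rw [← hfac, pow_add] at hcard
    exact Nat.eq_of_mul_eq_mul_right (by norm_num) hcard
  exact sqDer_sylow_of_embedding Ψ hΨ hK hcount P

end final

end Cfsg.Agent.Lib.Helper20.Orth
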