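import Mathlib
import Cfsg.Agent.Lib.Helper20.OrthMatG

set_option autoImplicit false
set_option linter.style.haveILetI false
set_option linter.unusedSimpArgs false
set_option linter.unusedSectionVars false

/-!
Sylow `2`-subgroups of `Ω` in even dimension: the two cases of the discriminant.
-/

namespace Cfsg.Agent.Lib.Helper20.Orth

open Cfsg.Agent.Lib.Helper37 Cfsg.Agent.Lib.Helper20.SylModel Matrix Module
  Cfsg.Agent.Lib.Helper20.SympWreath

universe u

section diag

variable {F : Type*} [Field F] {V W : Type*} [AddCommGroup V] [Module F V] [AddCommGroup W]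
  [Module F W] {ι κ : Type*} [Fintype ι] [DecidableEq ι] [Fintype κ] [DecidableEq κ]

/-- An orthogonal basis with prescribed norms. -/
def IsDiagBasis (B : LinearMap.BilinForm F V) (b : Basis ι F V) (d : ι → F) : Prop :=
  ∀ s t, B (b s) (b t) = if s = t then d s else 0

theorem IsOrthoBasis.diag {B : LinearMap.BilinForm F V} {b : Basis ι F V}
    (h : IsOrthoBasis B b) : IsDiagBasis B b (fun _ => 1) := h

theorem prod_diag (B : LinearMap.BilinForm F V) (B' : LinearMap.BilinForm F W)
    (b : Basis ι F V) (b' : Basis κ F W) {d : ι → F} {d' : κ → F} (hb : IsDiagBasis B b d)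
    (hb' : IsDiagBasis B' b' d') :
    IsDiagBasis (prodForm B B') (b.prod b') (Sum.elim d d') := by
  have hl : ∀ i, (b.prod b') (Sum.inl i) = (b i, 0) := fun i => by
    rw [Basis.prod_apply]
    rfl
  have hr : ∀ k, (b.prod b') (Sum.inr k) = (0, b' k) := fun k => by
    rw [Basis.prod_apply]
    rfl
  rintro (i | k) (j | l)
  · rw [hl, hl, prodForm_apply]
    simp [hb i j]
  · rw [hl, hr, prodForm_apply]
    simp
  · rw [hr, hl, prodForm_apply]
    simp
  · rw [hr, hr, prodForm_apply]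
    simp [hb' k l]

/-- The form `d x y` on the line. -/
noncomputable def lineB (F : Type*) [Field F] (d : F) : LinearMap.BilinForm F F :=
  d • LinearMap.mul F F

theorem lineB_apply (d x y : F) : lineB F d x y = d * (x * y) := by
  rw [lineB, LinearMap.smul_apply, LinearMap.smul_apply, LinearMap.mul_apply', smul_eq_mul]

theorem lineB_invariant (d : F) (z : ℤˣ) (x y : F) :
    lineB F d (lineHom F z x) (lineHom F z y) = lineB F d x y := by
  rw [lineB_apply, lineB_apply, lineHom_apply, lineHom_apply]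
  linear_combination (d * x * y) * cast_unit_mul_self F z

theorem lineB_diag (d : F) : IsDiagBasis (lineB F d) (Basis.singleton Unit F) (fun _ => d) := by
  intro s t
  rw [Basis.singleton_apply, lineB_apply, mul_one, mul_one, if_pos (Subsingleton.elim s t)]

theorem lineB_spin_nsq (d : F) (hd : d ≠ 0) (hsq : ¬ IsSquare d) (z : ℤˣ) :
    Spin (lineB F d) (lineHom F z) (1, z) := by
  rcases Int.units_eq_one_or z with rfl | rfl
  · rw [map_one]
    exact Spin.one _
  · have h1 : lineHom F (-1) = refl (lineB F d) 1 := by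
      refine LinearMap.ext fun x => ?_
      rw [lineHom_apply, refl_apply, lineB_apply, lineB_apply]
      simp
      field_simp
      ring
    have h2 : spinVal (lineB F d) (1 : F) = (1, -1) := by
      unfold spinVal
      rw [if_neg]
      rw [lineB_apply, mul_one, mul_one]
      exact hsq
    rw [h1, ← h2]
    refine Spin.of_refl _ _ ?_
    rw [lineB_apply, mul_one, mul_one]
    exact hd

end diag

section cases

variable {κ : Type} [Fintype κ] [DecidableEq κ] {F : Type u} [Field F] [Fintype F]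
  [DecidableEq F] {Q : (κ → F) → F} {G : Matrix κ κ F}

/-- Square discriminant: the Sylow `2`-subgroup of `Ω` is the kernel of the spinor character on
the model of degree `2 m`. -/
theorem sqDer_sylow_omega_R (hq : Odd (Fintype.card F)) (h : IsGram Q G) (hdet : G.det ≠ 0)
    (α : F) (hα : ¬ IsSquare α) (m : ℕ) (hm : 2 ≤ m)
    {κ' : Type} [Fintype κ'] [DecidableEq κ'] (b₀ : Basis κ' F (κ → F))
    (hκ' : Fintype.card κ' = 2 * m) (hκ : Fintype.card κ = 2 * m)
    (hb₀ : ∀ i j, halfB G (b₀ i) (b₀ j) = if i = j then 1 else 0)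
    (hv : (Nat.card ↥(Cfsg.isometryGroup F Q)).factorization 2 =
      m * padicValNat 2 (Fintype.card F ^ 2 - 1) + T2 m)
    (P : Sylow 2 ↥(Cfsg.Omega F Q)) : SqDer ↥(P : Subgroup ↥(Cfsg.Omega F Q)) := by
  have h2 := h.two_ne
  have hπ : Function.Surjective (MonoidHom.id (ℤˣ × ℤˣ)) := fun a => ⟨a, rfl⟩
  have hD := isOrthModel_base hq h2 α hα (MonoidHom.id (ℤˣ × ℤˣ)) hπ (default : Sylow 2 (O2 F))
  obtain ⟨G₁, hG₁, hGm⟩ := exists_orthmodel hD h2 even_two m (by omega)
  obtain ⟨hfin, hn, hcard, hsq, V, hV1, hV2, hV3, B, ι, hι1, hι2, b, ρ, χ, hb, hι, hinj, hinv,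
    hS, hsurj, hR, hK, -⟩ := hGm
  haveI := hfin
  have hKsq : SqDer ↥((MonoidHom.id (ℤˣ × ℤˣ)).comp χ).ker := hK hm
  have hKcard : Nat.card ↥((MonoidHom.id (ℤˣ × ℤˣ)).comp χ).ker * 4 =
      2 ^ (m * padicValNat 2 (Fintype.card F ^ 2 - 1) + T2 m) := by
    have h1 := Subgroup.card_mul_index ((MonoidHom.id (ℤˣ × ℤˣ)).comp χ).ker
    rw [Subgroup.index_ker, MonoidHom.range_eq_top.mpr hsurj, Subgroup.card_top,
      Nat.card_eq_fintype_card (α := ℤˣ × ℤˣ), Fintype.card_prod, Fintype.card_units_int,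
      hcard] at h1
    exact h1
  refine sqDer_sylow_omega_of_model h hdet (by omega) α hα hKsq hKcard hv B b b₀
    (Fintype.equivOfCardEq (by rw [hι, hκ'])) ?_ (ρ.comp (Subgroup.subtype _)) ?_ ?_ ?_ P
  · intro s t
    rw [hb s t, hb₀]
    simp only [EmbeddingLike.apply_eq_iff_eq]
  · intro k k' hk
    exact Subtype.ext (hinj hk)
  · intro k u w
    exact hinv k.1 u w
  · intro k
    have hk : χ k.1 = 1 := k.2
    have h1 := hS k.1
    rw [hk] at h1
    exact h1

/-- Non-square discriminant: the Sylow `2`-subgroup of `Ω` is isomorphic to the model of degree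
`2 (m - 1)`. -/
theorem sqDer_sylow_omega_W (hq : Odd (Fintype.card F)) (h : IsGram Q G) (hdet : G.det ≠ 0)
    (α : F) (hα : ¬ IsSquare α) (m : ℕ) (hm : 2 ≤ m) (N : ℕ) (hN : N + 1 = 2 * m)
    (hκ : Fintype.card κ = 2 * m) (b₀ : Basis (Fin (N + 1)) F (κ → F))
    (hb1 : ∀ i j, i ≠ j → halfB G (b₀ i) (b₀ j) = 0)
    (hb2 : ∀ i, i ≠ Fin.last N → halfB G (b₀ i) (b₀ i) = 1)
    (hb3 : halfB G (b₀ (Fin.last N)) (b₀ (Fin.last N)) = α)
    (hv : (Nat.card ↥(Cfsg.isometryGroup F Q)).factorization 2 =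
      (m - 1) * padicValNat 2 (Fintype.card F ^ 2 - 1) + T2 (m - 1) + 2)
    (P : Sylow 2 ↥(Cfsg.Omega F Q)) : SqDer ↥(P : Subgroup ↥(Cfsg.Omega F Q)) := by
  have h2 := h.two_ne
  have hα0 : α ≠ 0 := by
    rintro rfl
    exact hα ⟨0, by simp⟩
  have hπ : Function.Surjective (MonoidHom.id (ℤˣ × ℤˣ)) := fun a => ⟨a, rfl⟩
  have hD := isOrthModel_base hq h2 α hα (MonoidHom.id (ℤˣ × ℤˣ)) hπ (default : Sylow 2 (O2 F))
  obtain ⟨G₁, hG₁, hGm⟩ := exists_orthmodel hD h2 even_two (m - 1) (by omega)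
  obtain ⟨hfin, hn, hcard, hsq, V, hV1, hV2, hV3, B, ι, hι1, hι2, b, ρ, χ, hb, hι, hinj, hinv,
    hS, -, -, -, -⟩ := hGm
  haveI := hfin
  let ψ : G₁ →* (G₁ × ℤˣ) × ℤˣ :=
    ((MonoidHom.id G₁).prod ((MonoidHom.fst ℤˣ ℤˣ).comp χ)).prod ((MonoidHom.snd ℤˣ ℤˣ).comp χ)
  let ρ' : G₁ →* Module.End F ((V × F) × F) :=
    (prodHom2 (prodHom2 ρ (lineHom F)) (lineHom F)).comp ψ
  have hρ' : ∀ g, ρ' g = leftEnd (V × F) F (leftEnd V F (ρ g) *
      rightEnd V F (lineHom F (χ g).1)) * rightEnd (V × F) F (lineHom F (χ g).2) := by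
    intro g
    rw [← prodHom2_eq ρ (lineHom F) (g, (χ g).1)]
    exact prodHom2_eq (prodHom2 ρ (lineHom F)) (lineHom F) (ψ g)
  have hinj' : Function.Injective ρ' := by
    intro g g' hgg
    apply hinj
    refine LinearMap.ext fun v => ?_
    have h1 := congrArg (fun T : Module.End F ((V × F) × F) => (T ((v, 0), 0)).1.1) hgg
    exact h1
  have hinv' : ∀ g u w,
      prodForm (prodForm B (LinearMap.mul F F)) (lineB F α) (ρ' g u) (ρ' g w) =
        prodForm (prodForm B (LinearMap.mul F F)) (lineB F α) u w := by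
    intro g u w
    exact prodHom2_invariant (prodForm B (LinearMap.mul F F)) (lineB F α)
      (prodHom2 ρ (lineHom F)) (lineHom F)
      (prodHom2_invariant B (LinearMap.mul F F) ρ (lineHom F) hinv (lineHom_invariant F))
      (lineB_invariant α) (ψ g) u w
  have hS' : ∀ g, Spin (prodForm (prodForm B (LinearMap.mul F F)) (lineB F α)) (ρ' g) 1 := by
    intro g
    have h1 := ((((hS g).left (LinearMap.mul F F)).mul
      ((lineHom_spin F (χ g).1).right B)).left (lineB F α)).mul
      ((lineB_spin_nsq α hα0 hα (χ g).2).right (prodForm B (LinearMap.mul F F)))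
    rw [← hρ'] at h1
    have h3 : χ g * ((χ g).1, 1) * (1, (χ g).2) = 1 := by
      refine Prod.ext ?_ ?_
      · show (χ g).1 * (χ g).1 * 1 = 1
        rw [mul_one]
        exact Int.units_mul_self _
      · show (χ g).2 * 1 * (χ g).2 = 1
        rw [mul_one]
        exact Int.units_mul_self _
    rw [h3] at h1
    exact h1
  have hb' : IsDiagBasis (prodForm (prodForm B (LinearMap.mul F F)) (lineB F α))
      ((b.prod (Basis.singleton Unit F)).prod (Basis.singleton Unit F))
      (Sum.elim (Sum.elim (fun _ => 1) (fun _ => 1)) (fun _ => α)) :=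
    prod_diag _ _ _ _ (prod_diag _ _ _ _ hb.diag (line_ortho F).diag) (lineB_diag α)
  have hcard' : Fintype.card ((ι ⊕ Unit) ⊕ Unit) = Fintype.card (Fin (N + 1)) := by
    simp [Fintype.card_sum, hι]
    omega
  let e₀ : (ι ⊕ Unit) ⊕ Unit ≃ Fin (N + 1) := Fintype.equivOfCardEq hcard'
  let e : (ι ⊕ Unit) ⊕ Unit ≃ Fin (N + 1) :=
    e₀.trans (Equiv.swap (e₀ (Sum.inr ())) (Fin.last N))
  have he : e (Sum.inr ()) = Fin.last N := by
    show Equiv.swap (e₀ (Sum.inr ())) (Fin.last N) (e₀ (Sum.inr ())) = Fin.last N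
    exact Equiv.swap_apply_left _ _
  have hbb : ∀ s t, prodForm (prodForm B (LinearMap.mul F F)) (lineB F α)
      (((b.prod (Basis.singleton Unit F)).prod (Basis.singleton Unit F)) s)
      (((b.prod (Basis.singleton Unit F)).prod (Basis.singleton Unit F)) t) =
      halfB G (b₀ (e s)) (b₀ (e t)) := by
    intro s t
    rw [hb' s t]
    by_cases hst : s = t
    · subst hst
      rw [if_pos rfl]
      rcases s with s | u
      · have hne : e (Sum.inl s) ≠ Fin.last N := by
          rw [← he]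
          intro hh
          exact Sum.inl_ne_inr (e.injective hh)
        rw [hb2 _ hne]
        rcases s with s | u <;> rfl
      · have hu : (Sum.inr u : (ι ⊕ Unit) ⊕ Unit) = Sum.inr () := rfl
        rw [hu, he, hb3]
        rfl
    · rw [if_neg hst, hb1 _ _ (fun hh => hst (e.injective hh))]
  refine sqDer_sylow_omega_of_model h hdet (by omega) α hα hsq
    (c := (m - 1) * padicValNat 2 (Fintype.card F ^ 2 - 1) + T2 (m - 1) + 2) ?_ hv
    (prodForm (prodForm B (LinearMap.mul F F)) (lineB F α))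
    ((b.prod (Basis.singleton Unit F)).prod (Basis.singleton Unit F)) b₀ e hbb ρ' hinj' hinv'
    hS' P
  rw [hcard, pow_succ, pow_succ]
  ring

end cases

end Cfsg.Agent.Lib.Helper20.Orth
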