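import Mathlib
import Cfsg.Agent.Lib.Helper20.OrthEven
import Cfsg.Agent.Lib.Helper37.PlusAut
import Cfsg.Agent.Lib.Helper37.PlusType
import Cfsg.Agent.Lib.Helper37.MinusAut
import Cfsg.Agent.Lib.Helper37.MinusType
import Cfsg.Agent.Lib.Helper43.OrthCardForms
import Cfsg.Agent.Lib.Helper43.OrthCardMinus

set_option autoImplicit false
set_option linter.style.haveILetI false
set_option linter.unusedSimpArgs false
set_option linter.unusedSectionVars false

/-!
Sylow `2`-subgroups of `Ω^±_{2m}(q)`, `q` odd.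
-/

namespace Cfsg.Agent.Lib.Helper20.Orth

open Cfsg.Agent.Lib.Helper37 Cfsg.Agent.Lib.Helper20.SylModel Matrix Module

universe u

section num

theorem v2_pow_add_one_odd (q : ℕ) (hq : Odd q) (hq1 : 1 < q) (t : ℕ) :
    padicValNat 2 (q ^ (2 * t + 1) + 1) = padicValNat 2 (q + 1) := by
  have hx1 : 1 < q ^ (2 * t + 1) := Nat.one_lt_pow (by omega) hq1
  have h1 := v2_sq_sub_one (q ^ (2 * t + 1)) hx1
  have h2 := v2_pow_sub_one q hq hq1 (2 * t)
  have h3 := v2_pow_odd q hq hq1 t
  have h4 := v2_sq_sub_one q hq1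
  have h5 : padicValNat 2 (2 * t + 1) = 0 := padicValNat.eq_zero_of_not_dvd (by omega)
  have h6 : (q ^ (2 * t + 1)) ^ 2 = q ^ (2 * (2 * t + 1)) := by
    rw [← pow_mul, mul_comm]
  rw [h6] at h1
  omega

theorem pow_mod_four_cases (q m : ℕ) (hq : Odd q) :
    q ^ m % 4 = if q % 4 = 3 ∧ Odd m then 3 else 1 := by
  obtain ⟨s, hs⟩ := hq
  have hq4 : q % 4 = 1 ∨ q % 4 = 3 := by omega
  rcases hq4 with h | h
  · rw [if_neg (by omega), Nat.pow_mod, h, one_pow]
    all_goals norm_num
  · have hsq : q ^ 2 % 4 = 1 := by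
      rw [Nat.pow_mod, h]
    rcases Nat.even_or_odd' m with ⟨r, rfl | rfl⟩
    · rw [if_neg (by
        rintro ⟨-, h1⟩
        exact (Nat.not_even_iff_odd.mpr h1) (even_two_mul r)), pow_mul, Nat.pow_mod, hsq, one_pow]
      all_goals norm_num
    · rw [if_pos ⟨h, ⟨r, rfl⟩⟩, pow_succ, Nat.mul_mod, pow_mul, Nat.pow_mod (q ^ 2), hsq,
        one_pow, h]
      all_goals norm_num

theorem v2_order_even (q : ℕ) (hq : Odd q) (hq1 : 1 < q) (k e x : ℕ) (hx : x ≠ 0) :
    padicValNat 2 (2 * q ^ e * x * ∏ i ∈ Finset.range k, (q ^ (2 * (i + 1)) - 1)) =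
      1 + padicValNat 2 x + (k * padicValNat 2 (q ^ 2 - 1) + T2 k) := by
  have hne : ∀ i, q ^ (2 * (i + 1)) - 1 ≠ 0 := by
    intro i
    have : 1 < q ^ (2 * (i + 1)) := Nat.one_lt_pow (by omega) hq1
    omega
  have hne1 : q ^ e ≠ 0 := by positivity
  have hnd : ¬ 2 ∣ q ^ e := fun h => hq.not_two_dvd_nat (Nat.prime_two.dvd_of_dvd_pow h)
  rw [padicValNat.mul (mul_ne_zero (mul_ne_zero (by norm_num) hne1) hx)
      (Finset.prod_ne_zero_iff.mpr fun i _ => hne i),
    padicValNat.mul (mul_ne_zero (by norm_num) hne1) hx,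
    padicValNat.mul (by norm_num) hne1, padicValNat_self,
    padicValNat.eq_zero_of_not_dvd hnd, v2_prod _ hq hq1 k]

end num

section plus

variable {F : Type u} [Field F] [Fintype F]

theorem sqDer_sylow_omega_plus (hq : Odd (Fintype.card F)) (m : ℕ) (hm : 2 ≤ m)
    (P : Sylow 2 ↥(Cfsg.Omega F (Cfsg.quadFormPlus m F))) :
    SqDer ↥(P : Subgroup ↥(Cfsg.Omega F (Cfsg.quadFormPlus m F))) := by
  classical
  have h2 : (2 : F) ≠ 0 := Cfsg.Agent.Lib.Helper37.two_ne_zero_of_odd_card hq
  have hq1 : 1 < Fintype.card F := Fintype.one_lt_card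
  have hq2 : ¬ 2 ∣ Fintype.card F := hq.not_two_dvd_nat
  obtain ⟨α, hα⟩ := FiniteField.exists_nonsquare (ringChar_ne_two_of_two_ne_zero h2) (F := F)
  have hG := plus_isGram (F := F) h2 m
  have hdet := gramP_det_ne_zero (F := F) m
  have hκ : Fintype.card (Fin m ⊕ Fin m) = 2 * m := plus_card_two_mul m
  obtain ⟨k, rfl⟩ : ∃ k, m = k + 1 := ⟨m - 1, by omega⟩
  have hx1 : 1 < Fintype.card F ^ (k + 1) := Nat.one_lt_pow (by omega) hq1
  have hvO : (Nat.card ↥(Cfsg.isometryGroup F (Cfsg.quadFormPlus (k + 1) F))).factorization 2 =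
      1 + padicValNat 2 (Fintype.card F ^ (k + 1) - 1) +
        (k * padicValNat 2 (Fintype.card F ^ 2 - 1) + T2 k) := by
    rw [Cfsg.Agent.Lib.Helper43.card_isometryGroup_plus F k, Nat.factorization_def _ Nat.prime_two]
    exact v2_order_even _ hq hq1 k _ _ (by omega)
  have hc₀ := v2_sq_sub_one (Fintype.card F) hq1
  obtain ⟨b₀, hb1, hb2, hb3⟩ := exists_half_basis hG hdet α hα (2 * (k + 1) - 1)
    (by rw [hκ]; omega) ⟨k + 1, by omega⟩
  have hq4 : Fintype.card F % 4 = 1 ∨ Fintype.card F % 4 = 3 := by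
    obtain ⟨s, hs⟩ := hq
    omega
  by_cases hsq : IsSquare (gramP (k + 1) F).det
  · rw [if_pos hsq] at hb3
    refine sqDer_sylow_omega_R hq hG hdet α hα (k + 1) hm b₀ (by simp; omega) hκ ?_ ?_ P
    · intro i j
      by_cases hij : i = j
      · subst hij
        rw [if_pos rfl]
        by_cases hi : i = Fin.last _
        · rw [hi]
          exact hb3
        · exact hb2 i hi
      · rw [if_neg hij]
        exact hb1 i j hij
    · rw [hvO, T2_succ]
      rcases Nat.even_or_odd (k + 1) with hev | hodd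
      · have h1 := padicValNat.pow_two_sub_one hq1 hq2 (n := k + 1) (by omega) hev
        rw [hc₀]
        ring_nf
        ring_nf at h1
        omega
      · rw [gramP_det, hodd.neg_one_pow, FiniteField.isSquare_neg_one_iff] at hsq
        have h41 : Fintype.card F % 4 = 1 := by omega
        obtain ⟨t, ht⟩ := hodd
        have h1 := v2_pow_odd _ hq hq1 t
        rw [← ht] at h1
        have h3 : padicValNat 2 (Fintype.card F + 1) = 1 := v2_of_mod_four _ (by omega)
        have h5 : padicValNat 2 (k + 1) = 0 := padicValNat.eq_zero_of_not_dvd (by omega)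
        rw [hc₀, h1, h3, h5]
        ring
  · rw [if_neg hsq] at hb3
    refine sqDer_sylow_omega_W hq hG hdet α hα (k + 1) hm (2 * (k + 1) - 1) (by omega) hκ b₀
      hb1 hb2 hb3 ?_ P
    rw [gramP_det] at hsq
    have hodd : Odd (k + 1) := by
      rcases Nat.even_or_odd (k + 1) with hev | hodd
      · exfalso
        apply hsq
        rw [hev.neg_one_pow]
        exact ⟨1, by ring⟩
      · exact hodd
    rw [hodd.neg_one_pow, FiniteField.isSquare_neg_one_iff] at hsq
    have h43 : Fintype.card F % 4 = 3 := by omega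
    obtain ⟨t, ht⟩ := hodd
    have h1 := v2_pow_odd _ hq hq1 t
    rw [← ht] at h1
    have h3 : padicValNat 2 (Fintype.card F - 1) = 1 := v2_of_mod_four _ (by omega)
    rw [hvO, h1, h3, Nat.add_sub_cancel]
    ring

end plus

section minus

variable {F : Type u} [Field F] [Fintype F]

theorem sqDer_sylow_omega_minus (hq : Odd (Fintype.card F)) (k : ℕ) (hk : 1 ≤ k) (a b : F)
    (hab : ∀ z₁ z₂ : F, z₁ ^ 2 + a * z₁ * z₂ + b * z₂ ^ 2 = 0 → z₁ = 0 ∧ z₂ = 0)
    (P : Sylow 2 ↥(Cfsg.Omega F (Cfsg.quadFormMinus k F a b))) :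
    SqDer ↥(P : Subgroup ↥(Cfsg.Omega F (Cfsg.quadFormMinus k F a b))) := by
  classical
  have h2 : (2 : F) ≠ 0 := Cfsg.Agent.Lib.Helper37.two_ne_zero_of_odd_card hq
  have hq1 : 1 < Fintype.card F := Fintype.one_lt_card
  have hq2 : ¬ 2 ∣ Fintype.card F := hq.not_two_dvd_nat
  obtain ⟨α, hα⟩ := FiniteField.exists_nonsquare (ringChar_ne_two_of_two_ne_zero h2) (F := F)
  have hiff := isSquare_gramM_det_iff hq (k + 1) (by omega) a b hab
  rw [Nat.add_sub_cancel] at hiff
  have hm : 2 ≤ k + 1 := by omega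
  have hG := minus_isGram (F := F) h2 k a b
  have hdet := gramM_det_ne_zero (F := F) h2 k a b hab
  have hκ : Fintype.card ((Fin k ⊕ Fin k) ⊕ Fin 2) = 2 * (k + 1) := by
    simp [Fintype.card_sum]
    ring
  have hx1 : 1 < Fintype.card F ^ (k + 1) := Nat.one_lt_pow (by omega) hq1
  have hvO : (Nat.card ↥(Cfsg.isometryGroup F (Cfsg.quadFormMinus k F a b))).factorization 2 =
      1 + padicValNat 2 (Fintype.card F ^ (k + 1) + 1) +
        (k * padicValNat 2 (Fintype.card F ^ 2 - 1) + T2 k) := by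
    rw [Cfsg.Agent.Lib.Helper43.card_isometryGroup_minus k F a b hab,
      Nat.factorization_def _ Nat.prime_two]
    exact v2_order_even _ hq hq1 k _ _ (by omega)
  have hc₀ := v2_sq_sub_one (Fintype.card F) hq1
  obtain ⟨b₀, hb1, hb2, hb3⟩ := exists_half_basis hG hdet α hα (2 * (k + 1) - 1)
    (by rw [hκ]; omega) ⟨k + 1, by omega⟩
  have hcases := pow_mod_four_cases (Fintype.card F) (k + 1) hq
  by_cases hsq : IsSquare (gramM k F a b).det
  · rw [if_pos hsq] at hb3
    refine sqDer_sylow_omega_R hq hG hdet α hα (k + 1) hm b₀ (by simp; omega) hκ ?_ ?_ P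
    · intro i j
      by_cases hij : i = j
      · subst hij
        rw [if_pos rfl]
        by_cases hi : i = Fin.last _
        · rw [hi]
          exact hb3
        · exact hb2 i hi
      · rw [if_neg hij]
        exact hb1 i j hij
    · have h3 := hiff.mp hsq
      rw [h3] at hcases
      have hc : Fintype.card F % 4 = 3 ∧ Odd (k + 1) := by
        by_contra hcon
        rw [if_neg hcon] at hcases
        omega
      obtain ⟨h43, t, ht⟩ := hc
      have h1 := v2_pow_add_one_odd _ hq hq1 t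
      rw [← ht] at h1
      have h4 : padicValNat 2 (Fintype.card F - 1) = 1 := v2_of_mod_four _ (by omega)
      have h5 : padicValNat 2 (k + 1) = 0 := padicValNat.eq_zero_of_not_dvd (by omega)
      rw [hvO, T2_succ, hc₀, h1, h4, h5]
      ring
  · rw [if_neg hsq] at hb3
    refine sqDer_sylow_omega_W hq hG hdet α hα (k + 1) hm (2 * (k + 1) - 1) (by omega) hκ b₀
      hb1 hb2 hb3 ?_ P
    have h3 : Fintype.card F ^ (k + 1) % 4 = 1 := by
      have hne : ¬ Fintype.card F ^ (k + 1) % 4 = 3 := fun hh => hsq (hiff.mpr hh)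
      split_ifs at hcases with hc
      · exact absurd hcases hne
      · exact hcases
    have h1 : padicValNat 2 (Fintype.card F ^ (k + 1) + 1) = 1 := v2_of_mod_four _ (by omega)
    rw [hvO, h1, Nat.add_sub_cancel]
    ring

end minus

end Cfsg.Agent.Lib.Helper20.Orth
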