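import Mathlib

set_option autoImplicit false
set_option linter.style.haveILetI false
set_option linter.unusedSimpArgs false
set_option linter.unusedSectionVars false

namespace Cfsg.Agent.Lib.Helper20

namespace PSL3Invol

open Matrix

variable {F : Type*} [Field F]

/-- the standard involution `diag(1,-1,-1)` -/
def d0 : Matrix (Fin 3) (Fin 3) F := Matrix.diagonal ![1, -1, -1]

/-- choose column `j` from `M` or from `N` -/
def cm (e : Fin 3 → Bool) (M N : Matrix (Fin 3) (Fin 3) F) : Matrix (Fin 3) (Fin 3) F :=
  Matrix.of fun i j => if e j then M i j else N i j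

theorem det_add_eq (M N : Matrix (Fin 3) (Fin 3) F) :
    (M + N).det = (cm ![true, true, true] M N).det + (cm ![true, true, false] M N).det
      + (cm ![true, false, true] M N).det + (cm ![true, false, false] M N).det
      + (cm ![false, true, true] M N).det + (cm ![false, true, false] M N).det
      + (cm ![false, false, true] M N).det + (cm ![false, false, false] M N).det := by
  simp only [Matrix.det_fin_three, cm, Matrix.of_apply, Matrix.add_apply]
  simp
  ring

theorem mul_cm (A B B' : Matrix (Fin 3) (Fin 3) F) (hB : A * B = B) (hB' : A * B' = -B')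
    (e : Fin 3 → Bool) :
    A * cm e B B' = cm e B B' * Matrix.diagonal (fun j => if e j then (1 : F) else -1) := by
  ext i j
  rw [Matrix.mul_diagonal, Matrix.mul_apply]
  by_cases he : e j = true
  · simp only [cm, Matrix.of_apply, he, if_true, mul_one]
    have := congrFun (congrFun hB i) j
    rw [Matrix.mul_apply] at this
    exact this
  · have he' : e j = false := by simpa using he
    simp only [cm, Matrix.of_apply, he', Bool.false_eq_true, if_false]
    have := congrFun (congrFun hB' i) j
    rw [Matrix.mul_apply] at this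
    rw [this]
    simp

theorem perm_cols (A P : Matrix (Fin 3) (Fin 3) F) (d : Fin 3 → F) (σ : Equiv.Perm (Fin 3))
    (h : A * P = P * Matrix.diagonal d) :
    A * P.submatrix id σ = P.submatrix id σ * Matrix.diagonal (d ∘ σ) := by
  ext i j
  rw [Matrix.mul_diagonal]
  simp only [Matrix.mul_apply, Matrix.submatrix_apply, id, Function.comp]
  have := congrFun (congrFun h i) (σ j)
  rw [Matrix.mul_diagonal, Matrix.mul_apply] at this
  exact this

theorem det_perm_cols_ne_zero (P : Matrix (Fin 3) (Fin 3) F) (σ : Equiv.Perm (Fin 3))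
    (h : P.det ≠ 0) : (P.submatrix id σ).det ≠ 0 := by
  rw [Matrix.det_permute']
  apply mul_ne_zero _ h
  rcases Int.units_eq_one_or (Equiv.Perm.sign σ) with h1 | h1 <;> rw [h1] <;> simp

/-- scaling the first column to make the determinant one -/
theorem exists_det_one (A P : Matrix (Fin 3) (Fin 3) F) (hP : P.det ≠ 0) (h : A * P = P * d0) :
    ∃ P' : Matrix (Fin 3) (Fin 3) F, P'.det = 1 ∧ A * P' = P' * d0 := by
  refine ⟨P * Matrix.diagonal ![(P.det)⁻¹, 1, 1], ?_, ?_⟩
  · rw [det_mul, det_diagonal, Fin.prod_univ_three]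
    simp [hP]
  · rw [← mul_assoc, h, mul_assoc, mul_assoc]
    congr 1
    rw [d0, Matrix.diagonal_mul_diagonal, Matrix.diagonal_mul_diagonal]
    congr 1
    funext j
    exact mul_comm _ _

theorem exists_diag (h2 : (2 : F) ≠ 0) (A : Matrix (Fin 3) (Fin 3) F) (hA2 : A * A = 1)
    (hdet : A.det = 1) (hA1 : A ≠ 1) :
    ∃ P : Matrix (Fin 3) (Fin 3) F, P.det = 1 ∧ A * P = P * d0 := by
  obtain ⟨B, hBdef⟩ : ∃ B, B = 1 + A := ⟨_, rfl⟩
  obtain ⟨B', hB'def⟩ : ∃ B', B' = 1 - A := ⟨_, rfl⟩
  have hB : A * B = B := by rw [hBdef, mul_add, mul_one, hA2, add_comm]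
  have hB' : A * B' = -B' := by rw [hB'def, mul_sub, mul_one, hA2]; abel
  have hsum : B + B' = (2 : F) • (1 : Matrix (Fin 3) (Fin 3) F) := by
    rw [hBdef, hB'def, two_smul]; abel
  have hdetsum : (B + B').det = 8 := by
    rw [hsum, det_smul, det_one]; simp; norm_num
  have h8 : (8 : F) ≠ 0 := by
    have : (8 : F) = 2 ^ 3 := by norm_num
    rw [this]; exact pow_ne_zero 3 h2
  have hm1 : (-1 : F) ≠ 1 := by
    intro h; apply h2
    have : (2 : F) = 1 - (-1) := by ring
    rw [this, h]; ring
  have key : ∀ e : Fin 3 → Bool, (cm e B B').det ≠ 0 →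
      (∏ j, (if e j then (1 : F) else -1)) = 1 := by
    intro e he
    have h1 := congrArg Matrix.det (mul_cm A B B' hB hB' e)
    rw [det_mul, det_mul, det_diagonal, hdet, one_mul] at h1
    have h3 : (cm e B B').det * 1 = (cm e B B').det * ∏ j, (if e j then (1 : F) else -1) := by
      rw [mul_one]; exact h1
    exact (mul_left_cancel₀ he h3).symm
  have z1 : (cm ![true, true, false] B B').det = 0 := by
    by_contra h
    have := key _ h
    simp [Fin.prod_univ_three] at this
    exact hm1 this
  have z2 : (cm ![true, false, true] B B').det = 0 := by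
    by_contra h
    have := key _ h
    simp [Fin.prod_univ_three] at this
    exact hm1 this
  have z3 : (cm ![false, true, true] B B').det = 0 := by
    by_contra h
    have := key _ h
    simp [Fin.prod_univ_three] at this
    exact hm1 this
  have z4 : (cm ![false, false, false] B B').det = 0 := by
    by_contra h
    have := key _ h
    simp [Fin.prod_univ_three] at this
    exact hm1 this
  have z5 : (cm ![true, true, true] B B').det = 0 := by
    by_contra h
    have e1 : cm ![true, true, true] B B' = B := by
      ext i j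
      fin_cases j <;> simp [cm]
    rw [e1] at h
    apply hA1
    have hu : IsUnit B := (Matrix.isUnit_iff_isUnit_det B).mpr (Ne.isUnit h)
    obtain ⟨u, hu⟩ := hu
    have h4 : A * (u : Matrix (Fin 3) (Fin 3) F) = 1 * (u : Matrix (Fin 3) (Fin 3) F) := by
      rw [hu, one_mul]; exact hB
    exact (Units.mul_left_inj u).mp h4
  rw [det_add_eq, z1, z2, z3, z4, z5] at hdetsum
  have hne : (cm ![true, false, false] B B').det ≠ 0 ∨ (cm ![false, true, false] B B').det ≠ 0
      ∨ (cm ![false, false, true] B B').det ≠ 0 := by
    by_contra hcon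
    push Not at hcon
    obtain ⟨c1, c2, c3⟩ := hcon
    rw [c1, c2, c3] at hdetsum
    apply h8
    rw [← hdetsum]; ring
  rcases hne with h | h | h
  · apply exists_det_one A _ h
    rw [mul_cm A B B' hB hB', d0]
    congr 2
    funext j
    fin_cases j <;> simp
  · apply exists_det_one A _ (det_perm_cols_ne_zero _ (Equiv.swap 0 1) h)
    rw [perm_cols A _ _ (Equiv.swap 0 1) (mul_cm A B B' hB hB' _), d0]
    congr 2
    funext j
    fin_cases j <;> simp [Equiv.swap_apply_def]
  · apply exists_det_one A _ (det_perm_cols_ne_zero _ (Equiv.swap 0 2) h)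
    rw [perm_cols A _ _ (Equiv.swap 0 2) (mul_cm A B B' hB hB' _), d0]
    congr 2
    funext j
    fin_cases j <;> simp [Equiv.swap_apply_def]

end PSL3Invol

end Cfsg.Agent.Lib.Helper20
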