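import Mathlib
import Cfsg.Agent.Lib.Helper20.PSL3Diag

set_option autoImplicit false
set_option linter.style.haveILetI false
set_option linter.unusedSimpArgs false
set_option linter.unusedSectionVars false

namespace Cfsg.Agent.Lib.Helper20

namespace PSL3Invol

open Matrix

variable {F : Type*} [Field F]

/-- block diagonal matrix `diag(a, M)` -/
def blk (a : F) (M : Matrix (Fin 2) (Fin 2) F) : Matrix (Fin 3) (Fin 3) F :=
  !![a, 0, 0; 0, M 0 0, M 0 1; 0, M 1 0, M 1 1]

theorem blk_mul (a b : F) (M N : Matrix (Fin 2) (Fin 2) F) :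
    blk a M * blk b N = blk (a * b) (M * N) := by
  ext i j
  fin_cases i <;> fin_cases j <;>
    simp [blk, Matrix.mul_apply, Fin.sum_univ_three, Fin.sum_univ_two]

theorem det_blk (a : F) (M : Matrix (Fin 2) (Fin 2) F) : (blk a M).det = a * M.det := by
  rw [Matrix.det_fin_three, Matrix.det_fin_two]
  simp [blk]
  ring

theorem blk_one : blk (1 : F) 1 = 1 := by
  ext i j
  fin_cases i <;> fin_cases j <;> simp [blk]

theorem blk_mul_d0 (a : F) (M : Matrix (Fin 2) (Fin 2) F) : blk a M * d0 = d0 * blk a M := by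
  ext i j
  rw [d0, Matrix.mul_diagonal, Matrix.diagonal_mul]
  fin_cases i <;> fin_cases j <;> simp [blk]

/-- `diag(1,-1,-1)` in `SL(3,F)` -/
def D0 : SpecialLinearGroup (Fin 3) F :=
  ⟨d0, by simp [d0, Matrix.det_diagonal, Fin.prod_univ_three]⟩

theorem det_ne_zero_of_GL (B : GL (Fin 2) F) : (B : Matrix (Fin 2) (Fin 2) F).det ≠ 0 :=
  ((Matrix.isUnit_iff_isUnit_det _).mp B.isUnit).ne_zero

/-- `B ↦ diag(det B⁻¹, B)` -/
noncomputable def emb : GL (Fin 2) F →* SpecialLinearGroup (Fin 3) F where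
  toFun B := ⟨blk ((B : Matrix (Fin 2) (Fin 2) F).det)⁻¹ (B : Matrix (Fin 2) (Fin 2) F), by
    rw [det_blk]
    exact inv_mul_cancel₀ (det_ne_zero_of_GL B)⟩
  map_one' := by
    apply Subtype.ext
    simp [blk_one]
  map_mul' B C := by
    apply Subtype.ext
    show blk ((↑(B * C) : Matrix (Fin 2) (Fin 2) F).det)⁻¹ (↑(B * C) : Matrix (Fin 2) (Fin 2) F) =
      blk _ _ * blk _ _
    rw [blk_mul, Units.val_mul, Matrix.det_mul, mul_inv]

theorem emb_val (B : GL (Fin 2) F) :
    (emb B).1 = blk ((B : Matrix (Fin 2) (Fin 2) F).det)⁻¹ (B : Matrix (Fin 2) (Fin 2) F) := rfl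

theorem eq_zero_of_neg_eq (h2 : (2 : F) ≠ 0) {x : F} (h : -x = x) : x = 0 := by
  have : (2 : F) * x = 0 := by
    rw [two_mul]
    nth_rewrite 1 [← h]
    exact neg_add_cancel x
  exact (mul_eq_zero.mp this).resolve_left h2

theorem exists_emb_eq (h2 : (2 : F) ≠ 0) (g : SpecialLinearGroup (Fin 3) F)
    (hg : g.1 * d0 = d0 * g.1) : ∃ B : GL (Fin 2) F, emb B = g := by
  have e : ∀ i j : Fin 3, ((g.1 : Matrix (Fin 3) (Fin 3) F) * (d0 : Matrix (Fin 3) (Fin 3) F)) i j
      = ((d0 : Matrix (Fin 3) (Fin 3) F) * g.1) i j := fun i j => by rw [hg]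
  simp only [d0, Matrix.mul_diagonal, Matrix.diagonal_mul] at e
  have h01 : g.1 0 1 = 0 := by
    have := e 0 1
    simp at this
    exact eq_zero_of_neg_eq h2 this
  have h02 : g.1 0 2 = 0 := by
    have := e 0 2
    simp at this
    exact eq_zero_of_neg_eq h2 this
  have h10 : g.1 1 0 = 0 := by
    have := e 1 0
    simp at this
    exact eq_zero_of_neg_eq h2 this.symm
  have h20 : g.1 2 0 = 0 := by
    have := e 2 0
    simp at this
    exact eq_zero_of_neg_eq h2 this.symm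
  obtain ⟨M, hM⟩ : ∃ M : Matrix (Fin 2) (Fin 2) F, M = !![g.1 1 1, g.1 1 2; g.1 2 1, g.1 2 2] :=
    ⟨_, rfl⟩
  have hgb : g.1 = blk (g.1 0 0) M := by
    ext i j
    fin_cases i <;> fin_cases j <;> simp [blk, hM, h01, h02, h10, h20]
  have hdet : g.1 0 0 * M.det = 1 := by
    rw [← det_blk, ← hgb]; exact g.2
  have hMdet : M.det ≠ 0 := by
    intro h0; rw [h0, mul_zero] at hdet; exact zero_ne_one hdet
  refine ⟨Matrix.GeneralLinearGroup.mkOfDetNeZero M hMdet, ?_⟩
  apply Subtype.ext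
  rw [emb_val]
  have hc : ((Matrix.GeneralLinearGroup.mkOfDetNeZero M hMdet : GL (Fin 2) F) :
      Matrix (Fin 2) (Fin 2) F) = M := rfl
  rw [hc, hgb]
  congr 1
  exact (eq_inv_of_mul_eq_one_left hdet).symm

theorem trace_d0 : Matrix.trace (d0 : Matrix (Fin 3) (Fin 3) F) = -1 := by
  rw [Matrix.trace_fin_three]
  simp [d0]

theorem eq_one_of_scalar (g g' : Matrix (Fin 3) (Fin 3) F) (hgg : g * g' = 1) (r : F)
    (h : g * d0 = r • (d0 * g)) : r = 1 := by
  have hg'g : g' * g = 1 := mul_eq_one_comm.mp hgg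
  have t1 : Matrix.trace (g' * (g * d0)) = Matrix.trace (d0 : Matrix (Fin 3) (Fin 3) F) := by
    rw [← mul_assoc, hg'g, one_mul]
  have t2 : Matrix.trace (g' * (r • (d0 * g))) =
      r * Matrix.trace (d0 : Matrix (Fin 3) (Fin 3) F) := by
    rw [Matrix.mul_smul, Matrix.trace_smul, Matrix.trace_mul_comm, mul_assoc, hgg, mul_one,
      smul_eq_mul]
  rw [h, t2, trace_d0] at t1
  have : r = 1 := by
    have h3 : -r = -1 := by rw [← t1]; ring
    exact neg_injective h3
  exact this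

end PSL3Invol

end Cfsg.Agent.Lib.Helper20
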