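import Mathlib
import Cfsg.Agent.Lib.Helper20.PSL3Cent

set_option autoImplicit false
set_option linter.style.haveILetI false
set_option linter.unusedSimpArgs false
set_option linter.unusedSectionVars false

namespace Cfsg.Agent.Lib.Helper20

namespace PSL3Invol

open Matrix

variable {F : Type*} [Field F]

/-- the image of `diag(1,-1,-1)` in `PSL(3,F)` -/
def t0 : ProjectiveSpecialLinearGroup (Fin 3) F := QuotientGroup.mk D0

/-- `GL(2,F) → PSL(3,F)` -/
noncomputable def phi : GL (Fin 2) F →* ProjectiveSpecialLinearGroup (Fin 3) F :=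
  (QuotientGroup.mk' (Subgroup.center (SpecialLinearGroup (Fin 3) F))).comp emb

theorem phi_apply (B : GL (Fin 2) F) : phi B = QuotientGroup.mk (emb B) := rfl

theorem emb_mul_D0 (B : GL (Fin 2) F) : emb B * D0 = D0 * emb B := by
  apply Subtype.ext
  show blk _ _ * d0 = d0 * blk _ _
  exact blk_mul_d0 _ _

theorem range_phi (h2 : (2 : F) ≠ 0) :
    (phi : GL (Fin 2) F →* ProjectiveSpecialLinearGroup (Fin 3) F).range =
      Subgroup.centralizer {(t0 : ProjectiveSpecialLinearGroup (Fin 3) F)} := by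
  ext x
  constructor
  · rintro ⟨B, rfl⟩
    rw [Subgroup.mem_centralizer_iff]
    intro h hh
    rw [Set.mem_singleton_iff] at hh
    rw [hh, phi_apply, t0, ← QuotientGroup.mk_mul, ← QuotientGroup.mk_mul, emb_mul_D0]
  · intro hx
    rw [Subgroup.mem_centralizer_iff] at hx
    have hx' := hx t0 (Set.mem_singleton _)
    obtain ⟨g, rfl⟩ := QuotientGroup.mk_surjective x
    rw [t0, ← QuotientGroup.mk_mul, ← QuotientGroup.mk_mul, QuotientGroup.eq] at hx'
    obtain ⟨r, hr, hrs⟩ := Matrix.SpecialLinearGroup.mem_center_iff.mp hx'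
    -- g * D0 = D0 * g * c
    have h0 : g * D0 = (D0 * g) * ((D0 * g)⁻¹ * (g * D0)) := by rw [mul_inv_cancel_left]
    have h1 : (g * D0).1 = (D0 * g).1 * ((D0 * g)⁻¹ * (g * D0)).1 := by
      conv_lhs => rw [h0]
      rfl
    rw [← hrs] at h1
    have h3 : (g.1 : Matrix (Fin 3) (Fin 3) F) * d0 = r • (d0 * g.1) := by
      have : (g * D0).1 = g.1 * d0 := rfl
      rw [← this, h1]
      have : (D0 * g).1 = d0 * g.1 := rfl
      rw [this]
      ext i j
      simp [Matrix.scalar_apply, Matrix.mul_diagonal, mul_comm]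
    have hgg : (g.1 : Matrix (Fin 3) (Fin 3) F) * (g⁻¹).1 = 1 :=
      congrArg Subtype.val (mul_inv_cancel g)
    have hr1 := eq_one_of_scalar g.1 (g⁻¹).1 hgg r h3
    rw [hr1, one_smul] at h3
    obtain ⟨B, hB⟩ := exists_emb_eq h2 g h3
    exact ⟨B, by rw [phi_apply, hB]⟩

/-- scalar matrices in `GL(2,F)` -/
noncomputable def sc : Fˣ →* GL (Fin 2) F := Units.map (Matrix.scalar (Fin 2)).toMonoidHom

theorem sc_val (μ : Fˣ) : ((sc μ : GL (Fin 2) F) : Matrix (Fin 2) (Fin 2) F) =
    Matrix.scalar (Fin 2) (μ : F) := rfl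

theorem sc_injective : Function.Injective (sc : Fˣ →* GL (Fin 2) F) := by
  intro a b hab
  have h1 : Matrix.scalar (Fin 2) (a : F) = Matrix.scalar (Fin 2) (b : F) := by
    rw [← sc_val, ← sc_val, hab]
  have h2 := congrFun (congrFun h1 0) 0
  simp [Matrix.scalar_apply] at h2
  exact Units.ext h2

theorem ker_phi : (phi : GL (Fin 2) F →* ProjectiveSpecialLinearGroup (Fin 3) F).ker =
    ((powMonoidHom 3 : Fˣ →* Fˣ).ker).map sc := by
  ext B
  rw [MonoidHom.mem_ker, phi_apply, QuotientGroup.eq_one_iff, Matrix.SpecialLinearGroup.mem_center_iff]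
  constructor
  · rintro ⟨r, hr, hrs⟩
    have hr3 : r ^ 3 = 1 := by simpa using hr
    have hr0 : r ≠ 0 := by
      rintro rfl
      simp at hr3
    rw [emb_val] at hrs
    have e : ∀ i j : Fin 3, (Matrix.scalar (Fin 3) r) i j =
        (blk ((B : Matrix (Fin 2) (Fin 2) F).det)⁻¹ (B : Matrix (Fin 2) (Fin 2) F)) i j :=
      fun i j => by rw [hrs]
    have b00 := e 1 1
    have b01 := e 1 2
    have b10 := e 2 1
    have b11 := e 2 2
    simp [blk, Matrix.scalar_apply] at b00 b01 b10 b11
    refine ⟨Units.mk0 r hr0, ?_, ?_⟩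
    · rw [SetLike.mem_coe, MonoidHom.mem_ker, powMonoidHom_apply]
      apply Units.ext
      simpa using hr3
    · apply Units.ext
      rw [sc_val]
      ext i j
      fin_cases i <;> fin_cases j <;> simp [Matrix.scalar_apply, ← b00, ← b01, ← b10, ← b11]
  · rintro ⟨μ, hμ, rfl⟩
    rw [SetLike.mem_coe, MonoidHom.mem_ker, powMonoidHom_apply] at hμ
    have hμ3 : (μ : F) ^ 3 = 1 := by
      have := congrArg Units.val hμ
      simpa using this
    refine ⟨(μ : F), by simpa using hμ3, ?_⟩
    rw [emb_val, sc_val]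
    have hdet : (Matrix.scalar (Fin 2) (μ : F)).det = (μ : F) ^ 2 := by
      rw [Matrix.det_fin_two]; simp [Matrix.scalar_apply]; ring
    rw [hdet]
    have hinv : ((μ : F) ^ 2)⁻¹ = (μ : F) := by
      have : (μ : F) * (μ : F) ^ 2 = 1 := by rw [← hμ3]; ring
      exact (eq_inv_of_mul_eq_one_left this).symm
    rw [hinv]
    ext i j
    fin_cases i <;> fin_cases j <;> simp [blk, Matrix.scalar_apply]

theorem ker_phi_le_center : (phi : GL (Fin 2) F →* ProjectiveSpecialLinearGroup (Fin 3) F).ker ≤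
    Subgroup.center (GL (Fin 2) F) := by
  rw [ker_phi]
  rintro B ⟨μ, -, rfl⟩
  rw [Subgroup.mem_center_iff]
  intro C
  apply Units.ext
  rw [Units.val_mul, Units.val_mul, sc_val]
  exact ((Matrix.scalar_commute (n := Fin 2) (μ : F) (Commute.all (μ : F))
    (C : Matrix (Fin 2) (Fin 2) F)).eq).symm

theorem card_ker_phi [Fintype F] :
    Nat.card (phi : GL (Fin 2) F →* ProjectiveSpecialLinearGroup (Fin 3) F).ker =
      Nat.gcd (Fintype.card F - 1) 3 := by
  classical
  rw [ker_phi, Subgroup.card_map_of_injective sc_injective, IsCyclic.card_powMonoidHom_ker,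
    Nat.card_eq_fintype_card, Fintype.card_units]

/-- conjugate elements have isomorphic centralizers -/
def centConj {G : Type*} [Group G] (c t : G) :
    Subgroup.centralizer {t} ≃* Subgroup.centralizer {c * t * c⁻¹} where
  toFun x := ⟨c * x * c⁻¹, by
    have hx := Subgroup.mem_centralizer_iff.mp x.2 t (Set.mem_singleton t)
    rw [Subgroup.mem_centralizer_iff]
    intro h hh
    rw [Set.mem_singleton_iff] at hh
    rw [hh]
    calc c * t * c⁻¹ * (c * x * c⁻¹) = c * (t * x) * c⁻¹ := by group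
      _ = c * (x * t) * c⁻¹ := by rw [hx]
      _ = c * x * c⁻¹ * (c * t * c⁻¹) := by group⟩
  invFun y := ⟨c⁻¹ * y * c, by
    have hy := Subgroup.mem_centralizer_iff.mp y.2 _ (Set.mem_singleton _)
    rw [Subgroup.mem_centralizer_iff]
    intro h hh
    rw [Set.mem_singleton_iff] at hh
    rw [hh]
    calc t * (c⁻¹ * y * c) = c⁻¹ * (c * t * c⁻¹ * y) * c := by group
      _ = c⁻¹ * (y * (c * t * c⁻¹)) * c := by rw [hy]
      _ = c⁻¹ * y * c * t := by group⟩
  left_inv x := Subtype.ext (by simp [mul_assoc])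
  right_inv y := Subtype.ext (by simp [mul_assoc])
  map_mul' x y := Subtype.ext (by simp [mul_assoc])

end PSL3Invol

end Cfsg.Agent.Lib.Helper20
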