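import Mathlib
import Cfsg.Agent.Lib.Helper20.PslConj

set_option autoImplicit false
set_option linter.style.haveILetI false
set_option linter.unusedSimpArgs false
set_option linter.unusedSectionVars false

/-!
# The unitriangular group is generated by the upper transvections
-/

namespace Cfsg.Agent.Lib.Helper20.PslF

open Matrix Subgroup

variable {n : ℕ} {K : Type*} [Field K] [Fintype K]

theorem tv_congr {i j i' j' : Fin n} (hij : i ≠ j) (hij' : i' ≠ j') (c c' : K)
    (hi : i = i') (hj : j = j') (hc : c = c') : tv hij c = tv hij' c' := by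
  subst hi; subst hj; subst hc; rfl

/-- the off-diagonal part of a row matrix -/
def rowA (m : Fin n) (ρ : Fin n → K) : Matrix (Fin n) (Fin n) K :=
  Matrix.of fun x y => if x = m ∧ m < y then ρ y else 0

theorem rowA_apply (m : Fin n) (ρ : Fin n → K) (x y : Fin n) :
    rowA m ρ x y = if x = m ∧ m < y then ρ y else 0 := rfl

theorem rowA_add (m : Fin n) (ρ ρ' : Fin n → K) : rowA m (ρ + ρ') = rowA m ρ + rowA m ρ' := by
  ext x y
  rw [Matrix.add_apply, rowA_apply, rowA_apply, rowA_apply]
  split_ifs
  · rfl
  · rw [add_zero]

theorem rowA_zero (m : Fin n) : rowA m (0 : Fin n → K) = 0 := by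
  ext x y
  rw [rowA_apply]
  split_ifs <;> rfl

theorem rowA_mul_rowA (m : Fin n) (ρ ρ' : Fin n → K) : rowA m ρ * rowA m ρ' = 0 := by
  ext x y
  rw [Matrix.mul_apply, Matrix.zero_apply]
  apply Finset.sum_eq_zero
  intro z _
  by_cases h : x = m ∧ m < z
  · have h2 : ¬ (z = m ∧ m < y) := fun h3 => absurd h3.1 (ne_of_gt h.2)
    rw [rowA_apply m ρ' z y, if_neg h2, mul_zero]
  · rw [rowA_apply m ρ x z, if_neg h, zero_mul]

/-- the row element `1 + e_m ρ` -/
noncomputable def rowEl (m : Fin n) (ρ : Fin n → K) : SLn n K :=
  ⟨1 + rowA m ρ, by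
    have hup : (1 + rowA m ρ : Matrix (Fin n) (Fin n) K).IsUpperTriangular := by
      intro i j hij
      have hij' : j < i := hij
      have h2 : ¬ (i = m ∧ m < j) := by
        rintro ⟨rfl, h3⟩
        exact absurd hij' (not_lt.mpr h3.le)
      rw [Matrix.add_apply, Matrix.one_apply_ne (ne_of_gt hij'), rowA_apply, if_neg h2, add_zero]
    rw [Matrix.det_of_isUpperTriangular hup]
    apply Finset.prod_eq_one
    intro i _
    have h2 : ¬ (i = m ∧ m < i) := by
      rintro ⟨rfl, h3⟩
      exact lt_irrefl _ h3
    rw [Matrix.add_apply, Matrix.one_apply_eq, rowA_apply, if_neg h2, add_zero]⟩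

theorem mt_rowEl (m : Fin n) (ρ : Fin n → K) : mt (rowEl m ρ) = 1 + rowA m ρ := rfl

theorem rowEl_add (m : Fin n) (ρ ρ' : Fin n → K) :
    rowEl m (ρ + ρ') = rowEl m ρ * rowEl m ρ' := by
  apply mt_ext
  rw [mt_mul, mt_rowEl, mt_rowEl, mt_rowEl, rowA_add, mul_add, add_mul, add_mul, one_mul, mul_one,
    one_mul, rowA_mul_rowA, add_zero, add_assoc]

theorem rowEl_zero (m : Fin n) : rowEl m (0 : Fin n → K) = 1 := by
  apply mt_ext
  rw [mt_rowEl, rowA_zero, add_zero, mt_one]

theorem rowEl_inv (m : Fin n) (ρ : Fin n → K) : (rowEl m ρ)⁻¹ = rowEl m (-ρ) := by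
  apply inv_eq_of_mul_eq_one_right
  rw [← rowEl_add, add_neg_cancel, rowEl_zero]

theorem rowEl_mem_UU (m : Fin n) (ρ : Fin n → K) : rowEl m ρ ∈ (UU : Subgroup (SLn n K)) := by
  rw [mem_UU]
  refine ⟨fun x y hxy => ?_, fun x => ?_⟩
  · have h2 : ¬ (x = m ∧ m < y) := by
      rintro ⟨rfl, h3⟩
      exact absurd hxy (not_lt.mpr h3.le)
    rw [mt_rowEl, Matrix.add_apply, Matrix.one_apply_ne (ne_of_gt hxy), rowA_apply, if_neg h2,
      add_zero]
  · have h2 : ¬ (x = m ∧ m < x) := by
      rintro ⟨rfl, h3⟩
      exact lt_irrefl _ h3
    rw [mt_rowEl, Matrix.add_apply, Matrix.one_apply_eq, rowA_apply, if_neg h2, add_zero]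

theorem rowEl_single_of_lt {m l : Fin n} (h : m < l) (c : K) :
    rowEl m (Pi.single l c) = tv (ne_of_lt h) c := by
  apply mt_ext
  ext x y
  rw [mt_rowEl, Matrix.add_apply, rowA_apply, mt_tv_apply, Matrix.one_apply]
  congr 1
  by_cases h1 : x = m ∧ m < y
  · rw [if_pos h1]
    by_cases h2 : y = l
    · rw [h2, Pi.single_eq_same, if_pos ⟨h1.1.symm, rfl⟩]
    · rw [Pi.single_eq_of_ne h2, if_neg]
      rintro ⟨-, h3⟩
      exact h2 h3.symm
  · rw [if_neg h1, if_neg]
    rintro ⟨h3, h4⟩
    apply h1
    rw [← h3, ← h4]
    exact ⟨rfl, h⟩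

theorem rowEl_single_of_not_lt {m l : Fin n} (h : ¬ m < l) (c : K) :
    rowEl m (Pi.single l c) = 1 := by
  apply mt_ext
  ext x y
  rw [mt_rowEl, Matrix.add_apply, rowA_apply, mt_one]
  by_cases h1 : x = m ∧ m < y
  · rw [if_pos h1, Pi.single_eq_of_ne, add_zero]
    intro h2
    rw [h2] at h1
    exact h h1.2
  · rw [if_neg h1, add_zero]

theorem rowEl_mem (H : Subgroup (SLn n K))
    (hH : ∀ (k l : Fin n) (h : k < l) (c : K), tv (ne_of_lt h) c ∈ H) (m : Fin n)
    (ρ : Fin n → K) : rowEl m ρ ∈ H := by
  let S : AddSubmonoid (Fin n → K) :=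
    { carrier := {ρ | rowEl m ρ ∈ H}
      add_mem' := fun {a b} ha hb => by
        show rowEl m (a + b) ∈ H
        rw [rowEl_add]
        exact mul_mem ha hb
      zero_mem' := by
        show rowEl m 0 ∈ H
        rw [rowEl_zero]
        exact one_mem _ }
  have hs : ∀ l : Fin n, Pi.single l (ρ l) ∈ S := by
    intro l
    show rowEl m (Pi.single l (ρ l)) ∈ H
    by_cases h : m < l
    · rw [rowEl_single_of_lt h]
      exact hH m l h _
    · rw [rowEl_single_of_not_lt h]
      exact one_mem _
  have := S.sum_mem (fun l (_ : l ∈ Finset.univ) => hs l)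
  rw [Finset.univ_sum_single] at this
  exact this

/-- the unitriangular group is generated by upper transvections -/
theorem UU_le_of_tv (H : Subgroup (SLn n K))
    (hH : ∀ (k l : Fin n) (h : k < l) (c : K), tv (ne_of_lt h) c ∈ H) :
    (UU : Subgroup (SLn n K)) ≤ H := by
  have key : ∀ m : ℕ, ∀ u ∈ (UU : Subgroup (SLn n K)),
      (∀ x y : Fin n, m ≤ (x : ℕ) → x ≠ y → mt u x y = 0) → u ∈ H := by
    intro m
    induction m with
    | zero =>
      intro u hu hrows
      have : u = 1 := by
        apply mt_ext
        ext x y
        rw [mt_one]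
        by_cases hxy : x = y
        · rw [hxy, ((mem_UU u).mp hu).2, Matrix.one_apply_eq]
        · rw [hrows x y (Nat.zero_le _) hxy, Matrix.one_apply_ne hxy]
      rw [this]
      exact one_mem _
    | succ m ih =>
      intro u hu hrows
      by_cases hm : m < n
      · set mm : Fin n := ⟨m, hm⟩ with hmm
        set ρ : Fin n → K := fun y => mt u mm y with hρ
        have hr : rowEl mm ρ ∈ H := rowEl_mem H hH mm ρ
        have hu' : (rowEl mm ρ)⁻¹ * u ∈ H := by
          apply ih
          · exact mul_mem (inv_mem (rowEl_mem_UU mm ρ)) hu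
          · intro x y hx hxy
            rw [rowEl_inv, mt_mul, mt_rowEl, add_mul, one_mul, Matrix.add_apply, Matrix.mul_apply]
            by_cases hxm : x = mm
            · -- the row `mm`
              have hsum : ∑ z, rowA mm (-ρ) x z * mt u z y =
                  if mm < y then - mt u mm y else 0 := by
                by_cases hy : mm < y
                · rw [if_pos hy, Finset.sum_eq_single y]
                  · rw [rowA_apply, if_pos ⟨hxm, hy⟩, ((mem_UU u).mp hu).2, mul_one]
                    rfl
                  · intro z _ hzy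
                    by_cases hz : x = mm ∧ mm < z
                    · have hz' : m + 1 ≤ (z : ℕ) := by
                        have := hz.2
                        rw [Fin.lt_def] at this
                        exact this
                      rw [hrows z y hz' hzy, mul_zero]
                    · rw [rowA_apply, if_neg hz, zero_mul]
                  · intro hy'
                    exact absurd (Finset.mem_univ y) hy'
                · rw [if_neg hy]
                  apply Finset.sum_eq_zero
                  intro z _
                  by_cases hz : x = mm ∧ mm < z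
                  · have hz' : m + 1 ≤ (z : ℕ) := by
                      have := hz.2
                      rw [Fin.lt_def] at this
                      exact this
                    have hzy : z ≠ y := by
                      intro e
                      rw [e] at hz
                      exact hy hz.2
                    rw [hrows z y hz' hzy, mul_zero]
                  · rw [rowA_apply, if_neg hz, zero_mul]
              rw [hsum, hxm]
              by_cases hy : mm < y
              · rw [if_pos hy, add_neg_cancel]
              · rw [if_neg hy, add_zero]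
                have hy2 : y < mm := by
                  rcases lt_trichotomy y mm with h | h | h
                  · exact h
                  · exact absurd (hxm.trans h.symm) hxy
                  · exact absurd h hy
                exact ((mem_UU u).mp hu).1 mm y hy2
            · have hx' : m + 1 ≤ (x : ℕ) := by
                have : (x : ℕ) ≠ m := fun e => hxm (Fin.ext e)
                omega
              rw [hrows x y hx' hxy, zero_add]
              apply Finset.sum_eq_zero
              intro z _
              have hz : ¬ (x = mm ∧ mm < z) := fun h => hxm h.1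
              rw [rowA_apply, if_neg hz, zero_mul]
        have e : u = rowEl mm ρ * ((rowEl mm ρ)⁻¹ * u) := by group
        rw [e]
        exact mul_mem hr hu'
      · apply ih u hu
        intro x y hx _
        exact absurd x.2 (by omega)
  intro u hu
  apply key n u hu
  intro x y hx _
  exact absurd x.2 (by omega)

end Cfsg.Agent.Lib.Helper20.PslF
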