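import Mathlib
import Cfsg.Agent.Lib.Helper20.PslGen
import Cfsg.Agent.Lib.Helper53.CenterMeet

set_option autoImplicit false
set_option linter.style.haveILetI false
set_option linter.unusedSimpArgs false
set_option linter.unusedSectionVars false

/-!
# The unitriangular subgroup of `SL_n(K)`, `n ≥ 3`, has no proper nontrivial strongly closed subgroup
-/

namespace Cfsg.Agent.Lib.Helper20.PslF

open Matrix Subgroup

variable {n : ℕ} {K : Type*} [Field K] [Fintype K]

/-- first index -/
def z0 (hn : 3 ≤ n) : Fin n := ⟨0, by omega⟩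
/-- second index -/
def z1 (hn : 3 ≤ n) : Fin n := ⟨1, by omega⟩
/-- last index -/
def zl (hn : 3 ≤ n) : Fin n := ⟨n - 1, by omega⟩

theorem z0_val (hn : 3 ≤ n) : ((z0 hn : Fin n) : ℕ) = 0 := rfl
theorem z1_val (hn : 3 ≤ n) : ((z1 hn : Fin n) : ℕ) = 1 := rfl
theorem zl_val (hn : 3 ≤ n) : ((zl hn : Fin n) : ℕ) = n - 1 := rfl

theorem z0_lt_zl (hn : 3 ≤ n) : z0 hn < zl hn := by
  rw [Fin.lt_def, z0_val, zl_val]; omega

theorem z0_ne_z1 (hn : 3 ≤ n) : z0 hn ≠ z1 hn := by
  intro h; have := congrArg Fin.val h; rw [z0_val, z1_val] at this; omega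

theorem z1_ne_zl (hn : 3 ≤ n) : z1 hn ≠ zl hn := by
  intro h; have := congrArg Fin.val h; rw [z1_val, zl_val] at this; omega

theorem central_entry (hn : 3 ≤ n) {b : SLn n K}
    (hc : ∀ u ∈ (UU : Subgroup (SLn n K)), u * b = b * u) {x y : Fin n} (hxy : x < y)
    (hne : ¬ ((x : ℕ) = 0 ∧ (y : ℕ) = n - 1)) : mt b x y = 0 := by
  by_cases hx : (x : ℕ) = 0
  · have hy : (y : ℕ) < n - 1 := by
      have := y.2
      omega
    have hyl : y < zl hn := by rw [Fin.lt_def, zl_val]; exact hy
    have hT := hc _ (tv_mem_UU hyl (1 : K))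
    have e := congrArg (fun g => mt g x (zl hn)) hT
    simp only [mt_mul, mt_transvection] at e
    rw [Matrix.transvection_mul_apply_of_ne _ _ _ _ (ne_of_lt hxy),
      Matrix.mul_transvection_apply_same, one_mul] at e
    have := congrArg (fun t => t - mt b x (zl hn)) e
    simpa using this.symm
  · have hx0 : z0 hn < x := by
      rw [Fin.lt_def, z0_val]; omega
    have hT := hc _ (tv_mem_UU hx0 (1 : K))
    have e := congrArg (fun g => mt g (z0 hn) y) hT
    simp only [mt_mul, mt_transvection] at e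
    rw [Matrix.transvection_mul_apply_same,
      Matrix.mul_transvection_apply_of_ne _ _ _ _ (ne_of_gt hxy), one_mul] at e
    have := congrArg (fun t => t - mt b (z0 hn) y) e
    simpa using this

/-- a central element of the unitriangular group is a corner transvection -/
theorem central_eq_tv (hn : 3 ≤ n) {b : SLn n K} (hb : b ∈ (UU : Subgroup (SLn n K)))
    (hc : ∀ u ∈ (UU : Subgroup (SLn n K)), u * b = b * u) :
    b = tv (ne_of_lt (z0_lt_zl hn)) (mt b (z0 hn) (zl hn)) := by
  apply mt_ext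
  ext x y
  rw [mt_tv_apply]
  rcases lt_trichotomy x y with h | h | h
  · by_cases hcor : (x : ℕ) = 0 ∧ (y : ℕ) = n - 1
    · have hx : x = z0 hn := Fin.ext hcor.1
      have hy : y = zl hn := Fin.ext hcor.2
      rw [if_neg (ne_of_lt h), if_pos ⟨hx.symm, hy.symm⟩, zero_add, hx, hy]
    · have h2 : ¬ (z0 hn = x ∧ zl hn = y) := by
        rintro ⟨rfl, rfl⟩
        exact hcor ⟨rfl, rfl⟩
      rw [central_entry hn hc h hcor, if_neg (ne_of_lt h), if_neg h2, add_zero]
  · subst h
    have h2 : ¬ (z0 hn = x ∧ zl hn = x) := by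
      rintro ⟨h3, h4⟩
      exact absurd (h3.trans h4.symm) (ne_of_lt (z0_lt_zl hn))
    rw [((mem_UU b).mp hb).2, if_pos rfl, if_neg h2, add_zero]
  · have h2 : ¬ (z0 hn = x ∧ zl hn = y) := by
      rintro ⟨rfl, rfl⟩
      exact absurd h (not_lt.mpr (z0_lt_zl hn).le)
    rw [((mem_UU b).mp hb).1 x y h, if_neg (ne_of_gt h), if_neg h2, add_zero]

/-- **No proper nontrivial strongly closed subgroups** in the unitriangular group. -/
theorem closed_eq [NeZero n] (p : ℕ) [Fact p.Prime] [CharP K p] (hn : 3 ≤ n)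
    (T : Subgroup (SLn n K)) (hT : T ≤ UU) (hT0 : T ≠ ⊥)
    (hTc : ∀ x ∈ T, ∀ g : SLn n K, g * x * g⁻¹ ∈ (UU : Subgroup (SLn n K)) → g * x * g⁻¹ ∈ T) :
    T = UU := by
  -- step 1: a central element
  haveI hN : (T.subgroupOf (UU : Subgroup (SLn n K))).Normal := by
    refine ⟨fun x hx g => ?_⟩
    rw [mem_subgroupOf] at hx ⊢
    have : ((g * x * g⁻¹ : (UU : Subgroup (SLn n K))) : SLn n K) =
        (g : SLn n K) * (x : SLn n K) * (g : SLn n K)⁻¹ := rfl
    rw [this]
    apply hTc _ hx
    rw [← this]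
    exact (g * x * g⁻¹).2
  have hN0 : T.subgroupOf (UU : Subgroup (SLn n K)) ≠ ⊥ := by
    intro h0
    apply hT0
    rw [eq_bot_iff]
    intro t ht
    have : (⟨t, hT ht⟩ : (UU : Subgroup (SLn n K))) ∈ T.subgroupOf UU := by
      rw [mem_subgroupOf]; exact ht
    rw [h0, mem_bot] at this
    exact mem_bot.mpr (congrArg Subtype.val this)
  obtain ⟨b', hb'N, hb'1, hb'c⟩ := Cfsg.Agent.Lib.Helper53.normal_meets_center
    (UU_isPGroup (n := n) (K := K) p) (T.subgroupOf UU) hN0
  have hbT : (b' : SLn n K) ∈ T := mem_subgroupOf.mp hb'N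
  have hb1 : (b' : SLn n K) ≠ 1 := by
    intro h
    apply hb'1
    exact Subtype.ext h
  have hbc : ∀ u ∈ (UU : Subgroup (SLn n K)), u * (b' : SLn n K) = (b' : SLn n K) * u := by
    intro u hu
    have := (mem_center_iff.mp hb'c) ⟨u, hu⟩
    exact congrArg Subtype.val this
  have hform := central_eq_tv hn b'.2 hbc
  set c0 : K := mt (b' : SLn n K) (z0 hn) (zl hn) with hc0
  have hc0ne : c0 ≠ 0 := by
    intro h
    apply hb1
    rw [hform, h]
    exact SpecialLinearGroup.transvection_coeff_zero _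
  -- step 2: the whole corner root group
  have hcorner : ∀ c : K, tv (ne_of_lt (z0_lt_zl hn)) c ∈ T := by
    intro c
    by_cases hc : c = 0
    · rw [hc]
      have : tv (ne_of_lt (z0_lt_zl hn)) (0 : K) = 1 :=
        SpecialLinearGroup.transvection_coeff_zero _
      rw [this]
      exact one_mem _
    · have ha : c / c0 ≠ 0 := div_ne_zero hc hc0ne
      set d : SLn n K := SpecialLinearGroup.diag2n (z0_ne_z1 hn) (c / c0) ha with hd
      set f : Fin n → K := fun k => if k = z0 hn then c / c0 else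
        if k = z1 hn then (c / c0)⁻¹ else 1 with hf
      have hdm : mt d = diagonal f := rfl
      have hfne : ∀ x, f x ≠ 0 := by
        intro x
        rw [hf]
        show (if x = z0 hn then c / c0 else if x = z1 hn then (c / c0)⁻¹ else 1) ≠ 0
        split_ifs
        · exact ha
        · exact inv_ne_zero ha
        · exact one_ne_zero
      have hconj := diag_conj_tv f hfne hdm (ne_of_lt (z0_lt_zl hn)) c0
      have hf0 : f (z0 hn) = c / c0 := by
        rw [hf]; show (if z0 hn = z0 hn then c / c0 else _) = _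
        rw [if_pos rfl]
      have hfl : f (zl hn) = 1 := by
        rw [hf]
        show (if zl hn = z0 hn then c / c0 else if zl hn = z1 hn then (c / c0)⁻¹ else 1) = 1
        rw [if_neg (ne_of_gt (z0_lt_zl hn)), if_neg (z1_ne_zl hn).symm]
      have hcoef : f (z0 hn) * c0 * (f (zl hn))⁻¹ = c := by
        rw [hf0, hfl, inv_one, mul_one, div_mul_cancel₀ c hc0ne]
      rw [hcoef] at hconj
      rw [← hconj]
      apply hTc
      · rw [← hform]; exact hbT
      · rw [hconj]
        exact tv_mem_UU (z0_lt_zl hn) c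
  -- step 3: every upper root group
  have hroot : ∀ (k l : Fin n) (h : k < l) (c : K), tv (ne_of_lt h) c ∈ T := by
    intro k l h c
    set τ : Equiv.Perm (Fin n) := Equiv.swap (zl hn) l * Equiv.swap (z0 hn) k with hτ
    have hkl0 : (k : ℕ) < n - 1 := by
      have := l.2
      rw [Fin.lt_def] at h
      omega
    have hkzl : k ≠ zl hn := by
      intro e
      rw [e, zl_val] at hkl0
      exact lt_irrefl _ hkl0
    have hτ0 : τ (z0 hn) = k := by
      rw [hτ, Equiv.Perm.mul_apply, Equiv.swap_apply_left,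
        Equiv.swap_apply_of_ne_of_ne hkzl (ne_of_lt h)]
    have hτl : τ (zl hn) = l := by
      rw [hτ, Equiv.Perm.mul_apply,
        Equiv.swap_apply_of_ne_of_ne (ne_of_gt (z0_lt_zl hn)) hkzl.symm, Equiv.swap_apply_left]
    have hconj := monoSL_conj (K := K) τ (z0 hn) (ne_of_lt (z0_lt_zl hn)) (eps τ * c)
    have hs0 : sgv τ (z0 hn) (z0 hn) = (eps τ : K) := by
      unfold sgv; rw [if_pos rfl]
    have hsl : sgv τ (z0 hn) (zl hn) = (1 : K) := by
      unfold sgv; rw [if_neg (ne_of_gt (z0_lt_zl hn))]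
    have hcoef : sgv τ (z0 hn) (z0 hn) * (eps τ * c) * (sgv τ (z0 hn) (zl hn))⁻¹ = c := by
      rw [hs0, hsl, inv_one, mul_one, ← mul_assoc, eps_mul_self, one_mul]
    have e : tv (fun h' => (ne_of_lt (z0_lt_zl hn)) (τ.injective h'))
        (sgv τ (z0 hn) (z0 hn) * (eps τ * c) * (sgv τ (z0 hn) (zl hn))⁻¹) =
        tv (ne_of_lt h) c := tv_congr _ _ _ _ hτ0 hτl hcoef
    rw [e] at hconj
    rw [← hconj]
    apply hTc _ (hcorner _)
    rw [hconj]
    exact tv_mem_UU h c
  exact le_antisymm hT (UU_le_of_tv T hroot)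

end Cfsg.Agent.Lib.Helper20.PslF
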