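import Mathlib
import Cfsg.Agent.Lib.Helper85.SimpleGroupCrit

set_option autoImplicit false
set_option linter.style.haveILetI false
set_option linter.unusedSimpArgs false
set_option linter.unusedSectionVars false

/-!
# Lifting the simplicity criterion along a central cover of order prime to `p`

`f : E →* G` surjective with central kernel of order prime to `p`.  The hypotheses of
`Helper85.SGC.isSimple_of_family` for `G` follow from (slightly weakened) versions for `E`.
-/

namespace Cfsg.Agent.Lib.Helper20.PslLift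

open Subgroup

variable {E G : Type*} [Group E] [Group G] [Finite E] (f : E →* G)
  {p : ℕ} [hp : Fact p.Prime]

/-- the basic cancellation: a kernel element which is a quotient of two `p`-elements is trivial -/
theorem ker_elt_eq_one (hZ : f.ker ≤ center E) (hZp : (Nat.card f.ker).Coprime p)
    {x z : E} (hz : z ∈ f.ker) (hx : ∃ k : ℕ, x ^ p ^ k = 1)
    (hxz : ∃ k : ℕ, (x * z) ^ p ^ k = 1) : z = 1 := by
  obtain ⟨a, ha⟩ := hx
  obtain ⟨b, hb⟩ := hxz
  have hc : Commute x z := ((mem_center_iff.mp (hZ hz)) x)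
  have h1 : (x * z) ^ p ^ (a + b) = x ^ p ^ (a + b) * z ^ p ^ (a + b) := hc.mul_pow _
  have h2 : x ^ p ^ (a + b) = 1 := by
    rw [pow_add, pow_mul, ha, one_pow]
  have h3 : (x * z) ^ p ^ (a + b) = 1 := by
    rw [add_comm, pow_add, pow_mul, hb, one_pow]
  rw [h2, h3, one_mul] at h1
  have h4 : orderOf z ∣ p ^ (a + b) := orderOf_dvd_of_pow_eq_one h1.symm
  have h5 : orderOf z ∣ Nat.card f.ker := by
    have := orderOf_dvd_natCard (⟨z, hz⟩ : f.ker)
    rwa [Subgroup.orderOf_mk] at this
  have h6 : (Nat.card f.ker).Coprime (p ^ (a + b)) := hZp.pow_right _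
  have h7 : orderOf z = 1 := Nat.eq_one_of_dvd_coprimes h6 h5 h4
  exact orderOf_eq_one_iff.mp h7

theorem pElt_of_mem {P : Subgroup E} (hP : IsPGroup p P) {x : E} (hx : x ∈ P) :
    ∃ k : ℕ, x ^ p ^ k = 1 := by
  obtain ⟨k, hk⟩ := hP ⟨x, hx⟩
  exact ⟨k, by simpa using congrArg Subtype.val hk⟩

theorem pElt_conj {x : E} (g : E) (hx : ∃ k : ℕ, x ^ p ^ k = 1) :
    ∃ k : ℕ, (g * x * g⁻¹) ^ p ^ k = 1 := by
  obtain ⟨k, hk⟩ := hx
  exact ⟨k, by rw [conj_pow, hk, mul_one, mul_inv_cancel]⟩

/-- a `p`-element whose image lies in the image of a `p`-subgroup lies in that subgroup -/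
theorem mem_of_map_mem (hZ : f.ker ≤ center E) (hZp : (Nat.card f.ker).Coprime p)
    {P : Subgroup E} (hP : IsPGroup p P) {g : E} (hg : ∃ k : ℕ, g ^ p ^ k = 1)
    (h : f g ∈ P.map f) : g ∈ P := by
  obtain ⟨x, hx, hxg⟩ := h
  have hz : x⁻¹ * g ∈ f.ker := by
    rw [MonoidHom.mem_ker, map_mul, map_inv, hxg, inv_mul_cancel]
  have hg' : ∃ k : ℕ, (x * (x⁻¹ * g)) ^ p ^ k = 1 := by
    rw [mul_inv_cancel_left]
    exact hg
  have := ker_elt_eq_one f hZ hZp hz (pElt_of_mem hP hx) hg'
  have h2 : g = x := by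
    have := congrArg (fun t => x * t) this
    simpa using this
  rw [h2]
  exact hx

theorem conj_mem_of_map_normalizer (hZ : f.ker ≤ center E) (hZp : (Nat.card f.ker).Coprime p)
    {P : Subgroup E} (hP : IsPGroup p P) {g : E}
    (h : f g ∈ normalizer ((P.map f : Subgroup G) : Set G)) {x : E} (hx : x ∈ P) :
    g * x * g⁻¹ ∈ P := by
  apply mem_of_map_mem f hZ hZp hP (pElt_conj g (pElt_of_mem hP hx))
  rw [map_mul, map_mul, map_inv]
  exact (mem_normalizer_iff.mp h (f x)).mp (mem_map_of_mem f hx)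

theorem mem_normalizer_of_map (hZ : f.ker ≤ center E) (hZp : (Nat.card f.ker).Coprime p)
    {P : Subgroup E} (hP : IsPGroup p P) {g : E}
    (h : f g ∈ normalizer ((P.map f : Subgroup G) : Set G)) :
    g ∈ normalizer (P : Set E) := by
  rw [mem_normalizer_iff]
  intro x
  constructor
  · exact conj_mem_of_map_normalizer f hZ hZp hP h
  · intro hx
    have hinv : f g⁻¹ ∈ normalizer ((P.map f : Subgroup G) : Set G) := by
      rw [map_inv]
      exact inv_mem h
    have := conj_mem_of_map_normalizer f hZ hZp hP hinv hx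
    have e : g⁻¹ * (g * x * g⁻¹) * g⁻¹⁻¹ = x := by group
    rwa [e] at this

theorem mem_centralizer_of_map (hZ : f.ker ≤ center E) (hZp : (Nat.card f.ker).Coprime p)
    {P : Subgroup E} (hP : IsPGroup p P) {g : E}
    (h : f g ∈ centralizer ((P.map f : Subgroup G) : Set G)) :
    g ∈ centralizer (P : Set E) := by
  rw [mem_centralizer_iff]
  intro x hx
  have h1 : f x * f g = f g * f x := (mem_centralizer_iff.mp h) (f x) (mem_map_of_mem f hx)
  have hz : x⁻¹ * (g * x * g⁻¹) ∈ f.ker := by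
    rw [MonoidHom.mem_ker]
    simp only [map_mul, map_inv]
    rw [← h1]
    group
  have hg' : ∃ k : ℕ, (x * (x⁻¹ * (g * x * g⁻¹))) ^ p ^ k = 1 := by
    rw [mul_inv_cancel_left]
    exact pElt_conj g (pElt_of_mem hP hx)
  have := ker_elt_eq_one f hZ hZp hz (pElt_of_mem hP hx) hg'
  have h2 : g * x * g⁻¹ = x := by
    have := congrArg (fun t => x * t) this
    simpa using this
  calc x * g = (g * x * g⁻¹) * g := by rw [h2]
    _ = g * x := by group

end Cfsg.Agent.Lib.Helper20.PslLift
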