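import Mathlib
import Cfsg.Agent.Lib.Helper20.PslLift

set_option autoImplicit false
set_option linter.style.haveILetI false
set_option linter.unusedSimpArgs false
set_option linter.unusedSectionVars false

namespace Cfsg.Agent.Lib.Helper20.PslLift

open Subgroup

variable {E G : Type*} [Group E] [Group G] [Finite E] (f : E →* G)
  {p : ℕ} [hp : Fact p.Prime]

/-- the radical condition descends along the cover -/
theorem radical_of_cover (hf : Function.Surjective f) (hZ : f.ker ≤ center E)
    (hZp : (Nat.card f.ker).Coprime p) {R : Subgroup E} (hR : IsPGroup p R)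
    (hO : ∀ K : Subgroup E, K ≤ normalizer (R : Set E) →
      normalizer (R : Set E) ≤ normalizer (K : Set E) → IsPGroup p K → K ≤ R)
    (K : Subgroup G) (hK1 : K ≤ normalizer ((R.map f : Subgroup G) : Set G))
    (hK2 : normalizer ((R.map f : Subgroup G) : Set G) ≤ normalizer (K : Set G))
    (hK3 : IsPGroup p K) : K ≤ R.map f := by
  haveI : Finite G := Finite.of_surjective f hf
  set H : Subgroup E := K.comap f with hH
  let φ : ↥H →* ↥K := f.subgroupComap K
  have hφs : Function.Surjective φ := by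
    rintro ⟨k, hk⟩
    obtain ⟨e, rfl⟩ := hf k
    exact ⟨⟨e, hk⟩, rfl⟩
  have hφk : φ.ker ≤ center ↥H := by
    intro x hx
    rw [MonoidHom.mem_ker] at hx
    have hx' : f (x : E) = 1 := congrArg Subtype.val hx
    have hxc : (x : E) ∈ center E := hZ (MonoidHom.mem_ker.mpr hx')
    rw [mem_center_iff]
    intro y
    apply Subtype.ext
    exact (mem_center_iff.mp hxc) (y : E)
  haveI : Group.IsNilpotent ↥K := hK3.isNilpotent
  have hnil : Group.IsNilpotent ↥H := Subgroup.isNilpotent_of_ker_le_center φ hφk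
  obtain ⟨P⟩ : Nonempty (Sylow p ↥H) := inferInstance
  have h03 : Group.IsNilpotent ↥H ↔ ∀ (p : ℕ) (_hp : Fact p.Prime) (P : Sylow p ↥H),
      (P : Subgroup ↥H).Normal := (Group.isNilpotent_of_finite_tfae (G := ↥H)).out 0 3
  have hPn : (P : Subgroup ↥H).Normal := h03.mp hnil p hp P
  have hPc : (P : Subgroup ↥H).Characteristic := Sylow.characteristic_of_normal P hPn
  set Kt : Subgroup E := (P : Subgroup ↥H).map H.subtype with hKt
  have hi : ∀ k ∈ K, ∃ x ∈ Kt, f x = k := by
    intro k hk
    have htop : ((Sylow.mapSurjective hφs P : Sylow p ↥K) : Subgroup ↥K) = ⊤ :=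
      ((Sylow.mapSurjective hφs P).is_maximal' (Q := ⊤) (hK3.to_subgroup ⊤) le_top).symm
    have hk' : (⟨k, hk⟩ : ↥K) ∈ ((Sylow.mapSurjective hφs P : Sylow p ↥K) : Subgroup ↥K) := by
      rw [htop]; exact mem_top _
    rw [Sylow.coe_mapSurjective] at hk'
    obtain ⟨x, hx, hxk⟩ := hk'
    refine ⟨(x : E), ⟨x, hx, rfl⟩, ?_⟩
    exact congrArg Subtype.val hxk
  have hKtH : Kt ≤ H := by
    rintro _ ⟨x, -, rfl⟩
    exact x.2
  have hHN : H ≤ normalizer (R : Set E) := by
    intro h hh
    exact mem_normalizer_of_map f hZ hZp hR (hK1 hh)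
  have hKtp : IsPGroup p Kt := P.isPGroup'.map _
  have hconj : ∀ g ∈ normalizer (R : Set E), ∀ x ∈ Kt, g * x * g⁻¹ ∈ Kt := by
    intro g hg x hx
    have hfg : f g ∈ normalizer (K : Set G) := hK2 (le_normalizer_map f (mem_map_of_mem f hg))
    have hgH : g ∈ normalizer (H : Set E) := by
      rw [mem_normalizer_iff]
      intro h
      rw [hH, mem_comap, mem_comap, map_mul, map_mul, map_inv]
      exact mem_normalizer_iff.mp hfg (f h)
    obtain ⟨y, hy, rfl⟩ := hx
    set α : MulAut ↥H := H.normalizerMonoidHom ⟨g, hgH⟩ with hα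
    have hmap : (P : Subgroup ↥H).map α.toMonoidHom = (P : Subgroup ↥H) :=
      characteristic_iff_map_eq.mp hPc α
    have hαy : α y ∈ (P : Subgroup ↥H) := by
      rw [← hmap]
      exact mem_map_of_mem _ hy
    exact ⟨α y, hαy, rfl⟩
  have hKtN : normalizer (R : Set E) ≤ normalizer (Kt : Set E) := by
    intro g hg
    rw [mem_normalizer_iff]
    intro x
    constructor
    · exact hconj g hg x
    · intro hx
      have := hconj g⁻¹ (inv_mem hg) _ hx
      have e : g⁻¹ * (g * x * g⁻¹) * g⁻¹⁻¹ = x := by group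
      rwa [e] at this
  have hKtR : Kt ≤ R := hO Kt (hKtH.trans hHN) hKtN hKtp
  intro k hk
  obtain ⟨x, hx, rfl⟩ := hi k hk
  exact mem_map_of_mem f (hKtR hx)

/-- **Lifting theorem**: simplicity of the fusion system of `G = E / Z` from data in `E`. -/
theorem isSimple_of_cover (hf : Function.Surjective f) (hZ : f.ker ≤ center E)
    (hZp : (Nat.card f.ker).Coprime p) (St : Sylow p E) (S : Sylow p G)
    (hS : (S : Subgroup G) = (St : Subgroup E).map f) (hS1 : (St : Subgroup E) ≠ ⊥)
    (hA : ∀ T : Subgroup E, T ≤ (St : Subgroup E) → T ≠ ⊥ →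
      (∀ x ∈ T, ∀ g : E, g * x * g⁻¹ ∈ (St : Subgroup E) → g * x * g⁻¹ ∈ T) →
        T = (St : Subgroup E))
    (ℛ : Set (Subgroup E))
    (hℛ : ∀ R ∈ ℛ, R ≤ (St : Subgroup E) ∧ (St : Subgroup E) ≤ normalizer (R : Set E) ∧
      (∀ c ∈ centralizer (R : Set E), f c ∈ R.map f) ∧
      ∀ K : Subgroup E, K ≤ normalizer (R : Set E) →
        normalizer (R : Set E) ≤ normalizer (K : Set E) → IsPGroup p K → K ≤ R)
    (hB : ∀ n ∈ normalizer ((St : Subgroup E) : Set E),
      n ∈ Subgroup.closure {g : E | g ∈ normalizer ((St : Subgroup E) : Set E) ∧ ∃ R ∈ ℛ,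
          g ∈ Subgroup.closure {h : E | h ∈ normalizer (R : Set E) ∧
            ∃ k : ℕ, orderOf h = p ^ k}}) :
    (Cfsg.groupFusionSystem (S : Subgroup G)).IsSimple p := by
  haveI : Finite G := Finite.of_surjective f hf
  have hStp : IsPGroup p (St : Subgroup E) := St.isPGroup'
  apply Cfsg.Agent.Lib.Helper85.SGC.isSimple_of_family S ?_ ?_ ((fun R => R.map f) '' ℛ) ?_ ?_
  · -- S ≠ ⊥
    intro h0
    apply hS1
    rw [hS] at h0
    rw [eq_bot_iff]
    intro x hx
    have hxk : x ∈ f.ker := by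
      rw [MonoidHom.mem_ker]
      have : f x ∈ (St : Subgroup E).map f := mem_map_of_mem f hx
      rw [h0] at this
      exact mem_bot.mp this
    have h1 : ∃ k : ℕ, (1 : E) ^ p ^ k = 1 := ⟨0, one_pow _⟩
    have h2 : ∃ k : ℕ, ((1 : E) * x) ^ p ^ k = 1 := by
      rw [one_mul]; exact pElt_of_mem hStp hx
    exact mem_bot.mpr (ker_elt_eq_one f hZ hZp hxk h1 h2)
  · -- no strongly closed subgroups
    intro T hT hT0 hTc
    set Tt : Subgroup E := (St : Subgroup E) ⊓ T.comap f with hTt
    have h1 : Tt ≤ (St : Subgroup E) := inf_le_left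
    have h2 : Tt ≠ ⊥ := by
      intro h0
      apply hT0
      rw [eq_bot_iff]
      intro t ht
      have : t ∈ (St : Subgroup E).map f := by rw [← hS]; exact hT ht
      obtain ⟨s, hs, rfl⟩ := this
      have hsT : s ∈ Tt := ⟨hs, ht⟩
      rw [h0] at hsT
      rw [mem_bot.mp hsT, map_one]
      exact one_mem _
    have h3 : ∀ x ∈ Tt, ∀ g : E, g * x * g⁻¹ ∈ (St : Subgroup E) → g * x * g⁻¹ ∈ Tt := by
      intro x hx g hg
      refine ⟨hg, ?_⟩
      show f (g * x * g⁻¹) ∈ T
      rw [map_mul, map_mul, map_inv]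
      apply hTc (f x) hx.2 (f g)
      rw [hS, ← map_inv, ← map_mul, ← map_mul]
      exact mem_map_of_mem f hg
    have h4 := hA Tt h1 h2 h3
    apply le_antisymm hT
    rw [hS]
    rintro _ ⟨s, hs, rfl⟩
    have : s ∈ Tt := by rw [h4]; exact hs
    exact this.2
  · -- the family
    rintro _ ⟨R, hR, rfl⟩
    obtain ⟨h1, h2, h3, h4⟩ := hℛ R hR
    have hRp : IsPGroup p R := hStp.to_le h1
    refine ⟨?_, ?_, ?_, ?_⟩
    · rw [hS]; exact map_mono h1
    · rw [hS]
      rintro _ ⟨s, hs, rfl⟩
      exact le_normalizer_map f (mem_map_of_mem f (h2 hs))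
    · intro c hc
      obtain ⟨g, rfl⟩ := hf c
      exact h3 g (mem_centralizer_of_map f hZ hZp hRp hc)
    · intro K hK1 hK2 hK3
      exact radical_of_cover f hf hZ hZp hRp h4 K hK1 hK2 hK3
  · -- the generation condition
    intro n hn
    obtain ⟨nt, rfl⟩ := hf n
    refine ⟨f nt, ?_, fun x _ => rfl⟩
    have hnt : nt ∈ normalizer ((St : Subgroup E) : Set E) := by
      apply mem_normalizer_of_map f hZ hZp hStp
      rw [← hS]; exact hn
    have hcl := hB nt hnt
    -- push the closure through `f`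
    have inner : ∀ R ∈ ℛ, ∀ g ∈ Subgroup.closure {h : E | h ∈ normalizer (R : Set E) ∧
        ∃ k : ℕ, orderOf h = p ^ k},
        f g ∈ Subgroup.closure {h : G | h ∈ normalizer ((R.map f : Subgroup G) : Set G) ∧
          ∃ k : ℕ, orderOf h = p ^ k} := by
      intro R _ g hg
      induction hg using Subgroup.closure_induction with
      | mem h hh =>
        obtain ⟨hh1, k, hk⟩ := hh
        apply Subgroup.subset_closure
        refine ⟨le_normalizer_map f (mem_map_of_mem f hh1), ?_⟩
        have hd : orderOf (f h) ∣ p ^ k := by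
          rw [← hk]; exact orderOf_map_dvd f h
        obtain ⟨j, -, hj⟩ := (Nat.dvd_prime_pow hp.out).mp hd
        exact ⟨j, hj⟩
      | one => rw [map_one]; exact one_mem _
      | mul a b _ _ ha hb => rw [map_mul]; exact mul_mem ha hb
      | inv a _ ha => rw [map_inv]; exact inv_mem ha
    have outer : ∀ m ∈ Subgroup.closure {g : E | g ∈ normalizer ((St : Subgroup E) : Set E) ∧
        ∃ R ∈ ℛ, g ∈ Subgroup.closure {h : E | h ∈ normalizer (R : Set E) ∧
            ∃ k : ℕ, orderOf h = p ^ k}},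
        f m ∈ Subgroup.closure {g : G | g ∈ normalizer ((S : Subgroup G) : Set G) ∧
          ∃ R ∈ ((fun R => R.map f) '' ℛ : Set (Subgroup G)),
            g ∈ Subgroup.closure {h : G | h ∈ normalizer ((R : Subgroup G) : Set G) ∧
              ∃ k : ℕ, orderOf h = p ^ k}} := by
      intro m hm
      induction hm using Subgroup.closure_induction with
      | mem g hg =>
        obtain ⟨hg1, R, hR, hg2⟩ := hg
        apply Subgroup.subset_closure
        refine ⟨?_, R.map f, ⟨R, hR, rfl⟩, inner R hR g hg2⟩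
        rw [hS]
        exact le_normalizer_map f (mem_map_of_mem f hg1)
      | one => rw [map_one]; exact one_mem _
      | mul a b _ _ ha hb => rw [map_mul]; exact mul_mem ha hb
      | inv a _ ha => rw [map_inv]; exact inv_mem ha
    exact outer nt hcl

end Cfsg.Agent.Lib.Helper20.PslLift
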