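import Mathlib
import Cfsg.Agent.Lib.Helper20.PslRad

set_option autoImplicit false
set_option linter.style.haveILetI false
set_option linter.unusedSimpArgs false
set_option linter.unusedSectionVars false

/-!
# Torus elements are products of transvections; the generation condition for `N(U)`
-/

namespace Cfsg.Agent.Lib.Helper20.PslF

open Matrix Subgroup

variable {n : ℕ} {K : Type*} [Field K] [Fintype K]

/-- the product of six transvections -/
def six (i j : Fin n) (a : K) : Matrix (Fin n) (Fin n) K :=
  1 * Matrix.transvection i j a * Matrix.transvection j i (-a⁻¹) *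
      Matrix.transvection i j a * Matrix.transvection i j (-1) * Matrix.transvection j i 1 *
      Matrix.transvection i j (-1)

theorem six_apply {i j : Fin n} (hij : i ≠ j) (a : K) (ha : a ≠ 0) (x y : Fin n) :
    six i j a x y =
      if x = y then (if y = i then a else if y = j then a⁻¹ else 1) else 0 := by
  unfold six
  by_cases hyi : y = i
  · subst hyi
    simp only [Matrix.mul_transvection_apply_same, Matrix.mul_transvection_apply_of_ne _ _ _ _ hij,
      Matrix.mul_transvection_apply_of_ne _ _ _ _ hij.symm, Matrix.one_apply, hij,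
      if_true, if_false]
    by_cases h1 : x = y
    · have h2 : x ≠ j := by rw [h1]; exact hij
      simp only [if_pos h1, if_neg h2]; field_simp; ring
    · by_cases h2 : x = j
      · simp only [if_neg h1, if_pos h2]; field_simp; ring
      · simp only [if_neg h1, if_neg h2]; ring
  · by_cases hyj : y = j
    · subst hyj
      simp only [Matrix.mul_transvection_apply_same,
        Matrix.mul_transvection_apply_of_ne _ _ _ _ hij,
        Matrix.mul_transvection_apply_of_ne _ _ _ _ hij.symm, Matrix.one_apply, hij,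
        hij.symm, if_true, if_false]
      by_cases h1 : x = y
      · have h2 : x ≠ i := by rw [h1]; exact hij.symm
        simp only [if_pos h1, if_neg h2]; field_simp; ring
      · by_cases h2 : x = i
        · simp only [if_neg h1, if_pos h2]; field_simp; ring
        · simp only [if_neg h1, if_neg h2]; ring
    · simp only [Matrix.mul_transvection_apply_of_ne _ _ _ _ hyi,
        Matrix.mul_transvection_apply_of_ne _ _ _ _ hyj, Matrix.one_apply, if_neg hyi, if_neg hyj]

/-- a diagonal `SL_2`-torus element is a product of six transvections -/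
theorem diag2n_eq_six {i j : Fin n} (hij : i ≠ j) (a : K) (ha : a ≠ 0) :
    (SpecialLinearGroup.diag2n hij a ha : SLn n K) =
      tv hij a * tv hij.symm (-a⁻¹) * tv hij a * tv hij (-1) * tv hij.symm 1 * tv hij (-1) := by
  apply mt_ext
  have e : mt (SpecialLinearGroup.diag2n hij a ha : SLn n K) =
      diagonal (fun k => if k = i then a else if k = j then a⁻¹ else 1) := rfl
  rw [e]
  simp only [mt_mul, mt_transvection]
  ext x y
  have := six_apply hij a ha x y
  unfold six at this
  rw [one_mul] at this
  rw [this, Matrix.diagonal_apply]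
  by_cases hxy : x = y
  · rw [if_pos hxy, if_pos hxy, hxy]
  · rw [if_neg hxy, if_neg hxy]

theorem tv_pow {i j : Fin n} (hij : i ≠ j) (c : K) (m : ℕ) :
    (tv hij c) ^ m = tv hij (m * c) := by
  induction m with
  | zero =>
    rw [pow_zero, Nat.cast_zero, zero_mul]
    exact (SpecialLinearGroup.transvection_coeff_zero hij).symm
  | succ m ih =>
    rw [pow_succ, ih, ← SpecialLinearGroup.transvection_add, Nat.cast_succ, add_mul, one_mul]

theorem tv_orderOf (p : ℕ) [hp : Fact p.Prime] [CharP K p] {i j : Fin n} (hij : i ≠ j) (c : K) :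
    ∃ k : ℕ, orderOf (tv hij c) = p ^ k := by
  have h1 : (tv hij c) ^ p = 1 := by
    rw [tv_pow, CharP.cast_eq_zero, zero_mul]
    exact SpecialLinearGroup.transvection_coeff_zero hij
  have h2 : orderOf (tv hij c) ∣ p ^ 1 := by
    rw [pow_one]; exact orderOf_dvd_of_pow_eq_one h1
  obtain ⟨k, -, hk⟩ := (Nat.dvd_prime_pow hp.out).mp h2
  exact ⟨k, hk⟩

/-- torus elements lie in the subgroup generated by the `p`-elements of `N(RK k)` -/
theorem diag2n_mem_closure (p : ℕ) [hp : Fact p.Prime] [CharP K p] (k : ℕ) {i j : Fin n}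
    (hij : i ≠ j) (h1 : ¬ ((j : ℕ) < k ∧ k ≤ (i : ℕ))) (h2 : ¬ ((i : ℕ) < k ∧ k ≤ (j : ℕ)))
    (a : K) (ha : a ≠ 0) :
    (SpecialLinearGroup.diag2n hij a ha : SLn n K) ∈
      Subgroup.closure {h : SLn n K |
        h ∈ normalizer ((RK k : Subgroup (SLn n K)) : Set (SLn n K)) ∧
          ∃ m : ℕ, orderOf h = p ^ m} := by
  have t1 : ∀ c : K, tv hij c ∈ Subgroup.closure {h : SLn n K |
        h ∈ normalizer ((RK k : Subgroup (SLn n K)) : Set (SLn n K)) ∧
          ∃ m : ℕ, orderOf h = p ^ m} := fun c =>
    Subgroup.subset_closure ⟨PK_le_normalizer_RK k (tv_mem_PK k hij h1 c), tv_orderOf p hij c⟩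
  have t2 : ∀ c : K, tv hij.symm c ∈ Subgroup.closure {h : SLn n K |
        h ∈ normalizer ((RK k : Subgroup (SLn n K)) : Set (SLn n K)) ∧
          ∃ m : ℕ, orderOf h = p ^ m} := fun c =>
    Subgroup.subset_closure
      ⟨PK_le_normalizer_RK k (tv_mem_PK k hij.symm h2 c), tv_orderOf p hij.symm c⟩
  rw [diag2n_eq_six]
  exact mul_mem (mul_mem (mul_mem (mul_mem (mul_mem (t1 _) (t2 _)) (t1 _)) (t1 _)) (t2 _)) (t1 _)

/-- the Borel subgroup normalizes the unitriangular subgroup -/
theorem UT_le_normalizer_UU :
    (UT : Subgroup (SLn n K)) ≤ normalizer ((UU : Subgroup (SLn n K)) : Set (SLn n K)) := by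
  have key : ∀ b ∈ (UT : Subgroup (SLn n K)), ∀ u ∈ (UU : Subgroup (SLn n K)),
      b * u * b⁻¹ ∈ (UU : Subgroup (SLn n K)) := by
    intro b hb u hu
    have hbi : b⁻¹ ∈ (UT : Subgroup (SLn n K)) := inv_mem hb
    have huT : u ∈ (UT : Subgroup (SLn n K)) := UU_le_UT hu
    rw [mem_UU]
    refine ⟨(mem_UT _).mp (mul_mem (mul_mem hb huT) hbi), fun x => ?_⟩
    rw [UT_diag_mul (mul_mem hb huT) hbi, UT_diag_mul hb huT, ((mem_UU u).mp hu).2, mul_one,
      ← UT_diag_mul hb hbi, mul_inv_cancel, mt_one, Matrix.one_apply_eq]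
  intro b hb
  rw [mem_normalizer_iff]
  intro u
  constructor
  · exact key b hb u
  · intro h
    have := key b⁻¹ (inv_mem hb) _ h
    have e : b⁻¹ * (b * u * b⁻¹) * b⁻¹⁻¹ = u := by group
    rwa [e] at this

end Cfsg.Agent.Lib.Helper20.PslF
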