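import Mathlib
import Cfsg.Agent.Lib.Helper20.PslTorus
import Cfsg.Agent.Lib.Helper20.PslClosed
import Cfsg.Agent.Lib.Helper20.PslLift2

set_option autoImplicit false
set_option linter.style.haveILetI false
set_option linter.unusedSimpArgs false
set_option linter.unusedSectionVars false

/-!
# The `p`-fusion system of a central quotient of `SL_n(K)`, `char K = p`, `n ≥ 3`, is simple
-/

namespace Cfsg.Agent.Lib.Helper20.PslF

open Matrix Subgroup

variable {n : ℕ} {K : Type*} [Field K] [Fintype K]

theorem card_sub_one_not_dvd (p : ℕ) [hp : Fact p.Prime] [CharP K p] :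
    ¬ p ∣ Fintype.card K - 1 := by
  intro hd
  obtain ⟨f, -, hq⟩ := FiniteField.card K p
  have hd2 : p ∣ Fintype.card K := by
    rw [hq]
    exact dvd_pow_self p f.ne_zero
  have hpos : 0 < Fintype.card K := Fintype.card_pos
  have hd3 : p ∣ Fintype.card K - (Fintype.card K - 1) := Nat.dvd_sub hd2 hd
  have e : Fintype.card K - (Fintype.card K - 1) = 1 := by omega
  rw [e] at hd3
  exact hp.out.one_lt.ne' (Nat.dvd_one.mp hd3)

theorem center_pow_card [NeZero n] {z : SLn n K} (hz : z ∈ Subgroup.center (SLn n K)) :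
    z ^ (Fintype.card K - 1) = 1 := by
  obtain ⟨r, hr, hrz⟩ := Matrix.SpecialLinearGroup.mem_center_iff.mp hz
  have hr0 : r ≠ 0 := by
    intro h
    rw [h, Fintype.card_fin, zero_pow (NeZero.ne n)] at hr
    exact zero_ne_one hr
  apply mt_ext
  have e : mt z = Matrix.scalar (Fin n) r := hrz.symm
  rw [mt_pow, e, ← map_pow, FiniteField.pow_card_sub_one_eq_one r hr0, map_one, mt_one]

theorem coprime_card_center [NeZero n] (p : ℕ) [hp : Fact p.Prime] [CharP K p] :
    (Nat.card (Subgroup.center (SLn n K))).Coprime p := by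
  rw [Nat.coprime_comm, Nat.Prime.coprime_iff_not_dvd hp.out]
  intro hd
  obtain ⟨z, hz⟩ := exists_prime_orderOf_dvd_card' p hd
  have h1 : z ^ (Fintype.card K - 1) = 1 := by
    apply Subtype.ext
    rw [Subgroup.coe_pow, Subgroup.coe_one]
    exact center_pow_card z.2
  have h2 : p ∣ Fintype.card K - 1 := by
    rw [← hz]; exact orderOf_dvd_of_pow_eq_one h1
  exact card_sub_one_not_dvd p h2

section gen

variable [NeZero n] (p : ℕ) [hp : Fact p.Prime] [CharP K p]

theorem UU_le_normalizer_RK (k : ℕ) :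
    (UU : Subgroup (SLn n K)) ≤ normalizer ((RK k : Subgroup (SLn n K)) : Set (SLn n K)) :=
  (UU_le_UT.trans (UT_le_PK k)).trans (PK_le_normalizer_RK k)

theorem UU_orderOf {u : SLn n K} (hu : u ∈ (UU : Subgroup (SLn n K))) :
    ∃ k : ℕ, orderOf u = p ^ k := by
  have h1 := UU_pow_eq_one p hu
  obtain ⟨k, -, hk⟩ := (Nat.dvd_prime_pow hp.out).mp (orderOf_dvd_of_pow_eq_one h1)
  exact ⟨k, hk⟩

/-- the generation condition for the normalizer of the unitriangular group -/
theorem gen_cond (hn : 3 ≤ n) :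
    ∀ g ∈ normalizer ((UU : Subgroup (SLn n K)) : Set (SLn n K)),
      g ∈ Subgroup.closure {g : SLn n K |
        g ∈ normalizer ((UU : Subgroup (SLn n K)) : Set (SLn n K)) ∧
        ∃ R ∈ ({RK 1, RK (n - 1)} : Set (Subgroup (SLn n K))),
          g ∈ Subgroup.closure {h : SLn n K | h ∈ normalizer ((R : Subgroup (SLn n K)) :
            Set (SLn n K)) ∧ ∃ k : ℕ, orderOf h = p ^ k}} := by
  intro g hg
  have hgT : g ∈ (UT : Subgroup (SLn n K)) := normalizer_UU_le hg
  set D : Fin n → K := fun x => mt g x x with hDdef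
  have hD0 : ∀ x, D x ≠ 0 := fun x => UT_diag_ne_zero hgT x
  have hup : (mt g).IsUpperTriangular := by
    intro i j hij
    exact (mem_UT g).mp hgT i j hij
  have hprod : ∏ x, D x = 1 := by
    have := Matrix.det_of_isUpperTriangular hup
    rw [mt_det] at this
    exact this.symm
  have hD : (diagonal D).det = 1 := by rw [Matrix.det_diagonal, hprod]
  have hDi : (diagonal (fun x => (D x)⁻¹)).det = 1 := by
    rw [Matrix.det_diagonal, Finset.prod_inv_distrib, hprod, inv_one]
  set d : SLn n K := mkSL (diagonal D) hD with hd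
  set di : SLn n K := mkSL (diagonal (fun x => (D x)⁻¹)) hDi with hdi
  set u : SLn n K := di * g with hu
  have huU : u ∈ (UU : Subgroup (SLn n K)) := by
    rw [mem_UU]
    refine ⟨fun x y hxy => ?_, fun x => ?_⟩
    · rw [hu, mt_mul, hdi, mt_mkSL, Matrix.diagonal_mul, (mem_UT g).mp hgT x y hxy, mul_zero]
    · rw [hu, mt_mul, hdi, mt_mkSL, Matrix.diagonal_mul]
      exact inv_mul_cancel₀ (hD0 x)
  have e : g = d * u := by
    apply mt_ext
    rw [hu, mt_mul, mt_mul, hd, hdi, mt_mkSL, mt_mkSL, ← Matrix.mul_assoc,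
      Matrix.diagonal_mul_diagonal]
    have : (fun i => D i * (D i)⁻¹) = fun _ => (1 : K) := by
      funext i
      exact mul_inv_cancel₀ (hD0 i)
    rw [this, Matrix.diagonal_one, one_mul]
  rw [e]
  apply mul_mem
  · -- the diagonal part
    have hdd : d = (⟨diagonal D, hD⟩ : SLn n K) := rfl
    rw [hdd, SpecialLinearGroup.diag_eq_diag2n_prod (z1 hn) D hD]
    apply Subgroup.noncommProd_mem
    intro i hi
    have hi1 : i ≠ z1 hn := (Finset.mem_filter.mp hi).2
    rw [dif_pos hi1]
    apply Subgroup.subset_closure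
    refine ⟨?_, ?_⟩
    · apply UT_le_normalizer_UU
      rw [mem_UT]
      intro x y hxy
      have e2 : mt (SpecialLinearGroup.diag2n hi1 (D i) (SpecialLinearGroup.diagonal_neZero D hD i) :
          SLn n K) = diagonal (fun k => if k = i then D i else
            if k = z1 hn then (D i)⁻¹ else 1) := rfl
      rw [e2, Matrix.diagonal_apply_ne _ (ne_of_gt hxy)]
    · by_cases hi0 : i = z0 hn
      · refine ⟨RK (n - 1), by simp, ?_⟩
        apply diag2n_mem_closure p (n - 1) hi1
        · rw [hi0, z0_val, z1_val]; omega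
        · rw [hi0, z0_val, z1_val]; omega
      · refine ⟨RK 1, by simp, ?_⟩
        apply diag2n_mem_closure p 1 hi1
        · rw [z1_val]; omega
        · rintro ⟨h1, -⟩
          apply hi0
          apply Fin.ext
          rw [z0_val]; omega
  · apply Subgroup.subset_closure
    refine ⟨le_normalizer huU, RK 1, by simp, ?_⟩
    apply Subgroup.subset_closure
    exact ⟨UU_le_normalizer_RK 1 huU, UU_orderOf p huU⟩

theorem UU_ne_bot (hn : 3 ≤ n) : (UU : Subgroup (SLn n K)) ≠ ⊥ := by
  intro h0
  have h1 : tv (ne_of_lt (z0_lt_zl hn)) (1 : K) ∈ (UU : Subgroup (SLn n K)) :=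
    tv_mem_UU (z0_lt_zl hn) 1
  rw [h0, mem_bot] at h1
  have h2 : mt (tv (ne_of_lt (z0_lt_zl hn)) (1 : K)) (z0 hn) (zl hn) =
      mt (1 : SLn n K) (z0 hn) (zl hn) := by rw [h1]
  rw [mt_tv_apply, mt_one, Matrix.one_apply_ne (ne_of_lt (z0_lt_zl hn)),
    if_neg (ne_of_lt (z0_lt_zl hn)), if_pos ⟨rfl, rfl⟩, zero_add] at h2
  exact one_ne_zero h2

/-- **Main theorem**: simplicity of the fusion system of a central quotient of `SL_n(K)`. -/
theorem isSimple_of_quotient (hn : 3 ≤ n) {G : Type*} [Group G] (f : SLn n K →* G)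
    (hf : Function.Surjective f) (hker : f.ker = Subgroup.center (SLn n K)) (S : Sylow p G)
    (hS : (S : Subgroup G) = (UU : Subgroup (SLn n K)).map f) :
    (Cfsg.groupFusionSystem (S : Subgroup G)).IsSimple p := by
  have hZ : f.ker ≤ Subgroup.center (SLn n K) := hker.le
  have hZp : (Nat.card f.ker).Coprime p := by
    rw [hker]; exact coprime_card_center p
  apply Cfsg.Agent.Lib.Helper20.PslLift.isSimple_of_cover f hf hZ hZp (UUs p) S
    (by rw [coe_UUs]; exact hS) (by rw [coe_UUs]; exact UU_ne_bot hn)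
    (by
      rw [coe_UUs]
      intro T hT hT0 hTc
      exact closed_eq p hn T hT hT0 hTc)
    ({RK 1, RK (n - 1)} : Set (Subgroup (SLn n K)))
  · -- the family
    intro R hR
    rw [coe_UUs]
    have main : ∀ k : ℕ, 0 < k → k < n →
        (RK k : Subgroup (SLn n K)) ≤ UU ∧
        (UU : Subgroup (SLn n K)) ≤ normalizer ((RK k : Subgroup (SLn n K)) : Set (SLn n K)) ∧
        (∀ c ∈ centralizer ((RK k : Subgroup (SLn n K)) : Set (SLn n K)),
          f c ∈ (RK k : Subgroup (SLn n K)).map f) ∧
        ∀ Kt : Subgroup (SLn n K),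
          Kt ≤ normalizer ((RK k : Subgroup (SLn n K)) : Set (SLn n K)) →
          normalizer ((RK k : Subgroup (SLn n K)) : Set (SLn n K)) ≤
            normalizer (Kt : Set (SLn n K)) → IsPGroup p Kt → Kt ≤ RK k := by
      intro k hk0 hkn
      refine ⟨RK_le_UU k, UU_le_normalizer_RK k, ?_, ?_⟩
      · intro c hc
        obtain ⟨z, hz, r, hr, rfl⟩ := centralizer_RK hk0 hkn hc
        have hz1 : f z = 1 := by
          rw [← MonoidHom.mem_ker, hker]; exact hz
        rw [map_mul, hz1, one_mul]
        exact mem_map_of_mem f hr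
      · intro Kt _ h2 h3
        exact radical_RK p hkn.le Kt h2 h3
    rcases hR with rfl | rfl
    · exact main 1 (by omega) (by omega)
    · exact main (n - 1) (by omega) (by omega)
  · rw [coe_UUs]
    exact gen_cond p hn

end gen

end Cfsg.Agent.Lib.Helper20.PslF
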