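import Mathlib
import Cfsg.Agent.Lib.Helper20.GL23Rec
import Cfsg.Agent.Lib.Helper20.DSRel
import Cfsg.Agent.Lib.Helper20.QuatSec
import Cfsg.Agent.Lib.Helper20.QuatSec4
import Cfsg.Agent.S0016

set_option autoImplicit false
set_option linter.style.haveILetI false
set_option linter.unusedSimpArgs false
set_option linter.unusedSectionVars false

namespace Cfsg.Agent.Lib.Helper20

namespace Q8Core

open QuaternionGroup QuatSec

variable {G : Type*} [Group G]

/-- a generalized quaternion structure with outer elements, none of them central, is a `DS` -/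
theorem ds_of_gq {T A : Subgroup G} {z : G} (h : GQ T A z) (hout : ∃ t ∈ T, t ∉ A)
    (hcen : ∀ c ∈ T, c ∉ A → ¬ ∀ t ∈ T, t * c = c * t) : DS T A z := by
  obtain ⟨t, ht, htA⟩ := hout
  have hzT : z ∈ T := by
    rw [← h.sq t ht htA]
    exact T.mul_mem ht ht
  have hzA : z ∈ A := by
    by_contra hz
    have := h.sq z hzT hz
    rw [h.z_sq] at this
    exact h.z_ne this.symm
  exact ⟨h.le, h.cyc, hzA, h.z_ne, h.z_sq, fun t ht htA => Or.inr (h.sq t ht htA),
    fun t ht htA u hu _ => h.inv t ht htA u hu, h.idx, fun u hu huu => h.invol u (h.le hu) huu, hcen⟩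

theorem quat2_central_sq : ∀ c : QuaternionGroup 2, (∀ q, q * c = c * q) → c * c = 1 := by decide

theorem quat2_not_comm : (a 1 : QuaternionGroup 2) * xa 0 ≠ xa 0 * a 1 := by decide

/-- a normal quaternion subgroup of order 8 carries the `DS` structure -/
theorem exists_ds_of_equiv (R : Subgroup G) (e₀ : R ≃* QuaternionGroup 2) :
    ∃ (A : Subgroup G) (z : G), DS R A z := by
  obtain ⟨A, z, h⟩ := gq_of_equiv R 2 e₀
  refine ⟨A, z, ds_of_gq h ?_ ?_⟩
  · by_contra hall
    push Not at hall
    -- then `R = A` is cyclic, hence commutative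
    have hRA : R = A := le_antisymm hall h.le
    haveI := h.cyc
    obtain ⟨b, hb⟩ := h.cyc.exists_generator
    have hcomm : ∀ x y : R, x * y = y * x := by
      intro x y
      have hx : (x : G) ∈ A := hall x x.2
      have hy : (y : G) ∈ A := hall y y.2
      obtain ⟨k, hk⟩ := Subgroup.mem_zpowers_iff.mp (hb ⟨x, hx⟩)
      obtain ⟨l, hl⟩ := Subgroup.mem_zpowers_iff.mp (hb ⟨y, hy⟩)
      have hk' := congrArg Subtype.val hk
      have hl' := congrArg Subtype.val hl
      simp only [Subgroup.coe_zpow] at hk' hl'
      apply Subtype.ext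
      simp only [Subgroup.coe_mul]
      rw [← hk', ← hl', ← zpow_add, ← zpow_add, add_comm]
    apply quat2_not_comm
    have := hcomm (e₀.symm (a 1)) (e₀.symm (xa 0))
    have h2 := congrArg e₀ this
    simpa using h2
  · intro c hc hcA hall
    have hcc : c * c = 1 := by
      have h1 : ∀ q : QuaternionGroup 2, q * e₀ ⟨c, hc⟩ = e₀ ⟨c, hc⟩ * q := by
        intro q
        have h2 := hall (e₀.symm q : G) (e₀.symm q).2
        have h3 : e₀.symm q * (⟨c, hc⟩ : R) = ⟨c, hc⟩ * e₀.symm q := Subtype.ext h2
        have h4 := congrArg e₀ h3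
        simpa using h4
      have h5 := quat2_central_sq _ h1
      have h6 : (⟨c, hc⟩ : R) * ⟨c, hc⟩ = 1 := by
        apply e₀.injective
        rw [map_mul, h5, map_one]
      have := congrArg Subtype.val h6
      simpa using this
    have hd := ds_of_gq h (by
      by_contra hall'
      push Not at hall'
      exact hcA (hall' c hc)) (fun _ _ _ _ => by
        -- dummy, replaced below
        exact hcA (by
          rcases h.invol c hc hcc with h1 | h1
          · rw [h1]; exact A.one_mem
          · exfalso
            -- `z ∈ A`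
            have hzT : z ∈ R := by rw [← h1]; exact hc
            have hzA : z ∈ A := by
              by_contra hz
              have := h.sq z hzT hz
              rw [h.z_sq] at this
              exact h.z_ne this.symm
            exact hcA (by rw [h1]; exact hzA)))
    exact hcA (by
      rcases h.invol c hc hcc with h1 | h1
      · rw [h1]; exact A.one_mem
      · rw [h1]; exact hd.z_mem)

/-- an element of odd prime order satisfying the `SL(2,3)` relations has order three -/
theorem pow_three_eq_one {i g : G} (r : Rel i g) {p : ℕ} (hp : p.Prime) (hgo : orderOf g = p) :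
    g ^ 3 = 1 := by
  by_contra hg3
  have hcop : Nat.Coprime (orderOf g) 3 := by
    rw [hgo, Nat.coprime_primes hp Nat.prime_three]
    rintro rfl
    apply hg3
    rw [← hgo]
    exact pow_orderOf_eq_one g
  have hpos : 0 < orderOf g := by rw [hgo]; exact hp.pos
  haveI : Finite (Subgroup.zpowers g) :=
    Nat.finite_of_card_ne_zero (by rw [Nat.card_zpowers]; omega)
  have hmem : g ∈ Subgroup.zpowers (g ^ 3) := by
    have hle : Subgroup.zpowers (g ^ 3) ≤ Subgroup.zpowers g :=
      Subgroup.zpowers_le.mpr (Subgroup.pow_mem _ (Subgroup.mem_zpowers g) 3)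
    have hcard : Nat.card (Subgroup.zpowers g) ≤ Nat.card (Subgroup.zpowers (g ^ 3)) := by
      rw [Nat.card_zpowers, Nat.card_zpowers, hcop.orderOf_pow]
    have := Subgroup.eq_of_le_of_card_ge hle hcard
    rw [this]
    exact Subgroup.mem_zpowers g
  obtain ⟨k, hk⟩ := Subgroup.mem_zpowers_iff.mp hmem
  have hc : Commute g i := by
    rw [← hk]
    exact r.commute_cube.zpow_left k
  have h2 := r.h2
  rw [conj_eq_self_of_commute hc, conj_eq_self_of_commute (Commute.refl i)] at h2
  apply r.hi2
  rw [pow_two]
  calc i * i = i * i⁻¹ := by rw [← h2]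
    _ = 1 := mul_inv_cancel i

/-- the structure of a finite group with a normal self-centralizing quaternion subgroup of order 8
which is not a 2-group -/
theorem core [Finite G] (R : Subgroup G) [hRn : R.Normal]
    (hcent : Subgroup.centralizer (R : Set G) ≤ R) (e₀ : R ≃* QuaternionGroup 2)
    (hnot2 : ¬ IsPGroup 2 G) :
    (∃ P : Sylow 2 G, (P : Subgroup G).Normal) ∨ Nonempty (G ≃* GL (Fin 2) (ZMod 3)) ∨
      (Nat.card G = 48 ∧ Nat.card (Subgroup.center G) = 2 ∧
        Nonempty (G ⧸ Subgroup.center G ≃* Equiv.Perm (Fin 4)) ∧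
        ∀ P : Sylow 2 G, Nonempty (↥(P : Subgroup G) ≃* QuaternionGroup 4)) := by
  classical
  -- `R` is a 2-group
  have hRcard : Nat.card R = 8 := by
    rw [Nat.card_congr e₀.toEquiv, Nat.card_eq_fintype_card, QuaternionGroup.card]
  have hR2 : IsPGroup 2 R := IsPGroup.of_card (n := 3) (by rw [hRcard]; norm_num)
  -- an element of odd prime order
  obtain ⟨p, hp, hpdvd, hpodd⟩ : ∃ p, p.Prime ∧ p ∣ Nat.card G ∧ Odd p := by
    rcases Nat.eq_two_pow_or_exists_odd_prime_and_dvd (Nat.card G) with ⟨k, hk⟩ | h
    · exact (hnot2 (IsPGroup.of_card hk)).elim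
    · exact h
  have hp2 : p ≠ 2 := by
    rintro rfl
    exact (Nat.not_odd_iff_even.mpr even_two) hpodd
  haveI : Fact p.Prime := ⟨hp⟩
  obtain ⟨g, hgo⟩ := exists_prime_orderOf_dvd_card' p hpdvd
  have hodd : Odd (orderOf g) := by rw [hgo]; exact hpodd
  have hg1 : g ≠ 1 := by
    rintro rfl
    rw [orderOf_one] at hgo
    exact hp.one_lt.ne hgo
  obtain ⟨A, z, h⟩ := exists_ds_of_equiv R e₀
  have hzR : z ∈ R := h.le h.z_mem
  have hgz : g * z * g⁻¹ = z := by
    have hcR : g * z * g⁻¹ ∈ R := hRn.conj_mem z hzR g
    have hsq : (g * z * g⁻¹) * (g * z * g⁻¹) = 1 := by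
      calc (g * z * g⁻¹) * (g * z * g⁻¹) = g * (z * z) * g⁻¹ := by group
        _ = 1 := by rw [h.z_sq]; group
    have hcA : g * z * g⁻¹ ∈ A := by
      by_contra hcA
      rcases h.sq _ hcR hcA with h1 | h1
      · -- an outer involution: impossible, its square is `z`
        -- use the quaternion structure: all involutions of `R` equal `z`
        have h2 : ∀ c : QuaternionGroup 2, c * c = 1 → c = 1 ∨ c = a 1 ^ 2 := SL23.quat2_invol
        have h3 : e₀ ⟨_, hcR⟩ * e₀ ⟨_, hcR⟩ = 1 := by
          rw [← map_mul]
          have : (⟨_, hcR⟩ : R) * ⟨_, hcR⟩ = 1 := Subtype.ext h1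
          rw [this, map_one]
        have h4 : e₀ ⟨z, hzR⟩ * e₀ ⟨z, hzR⟩ = 1 := by
          rw [← map_mul]
          have : (⟨z, hzR⟩ : R) * ⟨z, hzR⟩ = 1 := Subtype.ext h.z_sq
          rw [this, map_one]
        have h5 : e₀ ⟨z, hzR⟩ ≠ 1 := by
          intro h'
          apply h.z_ne
          have := e₀.injective (h'.trans (map_one e₀).symm)
          exact congrArg Subtype.val this
        have h6 : e₀ ⟨_, hcR⟩ ≠ 1 := by
          intro h'
          have := e₀.injective (h'.trans (map_one e₀).symm)
          have h7 : g * z * g⁻¹ = 1 := congrArg Subtype.val this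
          apply h.z_ne
          have : z = g⁻¹ * (g * z * g⁻¹) * g := by group
          rw [this, h7]; group
        have h8 : e₀ ⟨_, hcR⟩ = e₀ ⟨z, hzR⟩ := by
          rcases h2 _ h3 with h' | h'
          · exact (h6 h').elim
          · rcases h2 _ h4 with h'' | h''
            · exact (h5 h'').elim
            · rw [h', h'']
        have h9 := congrArg Subtype.val (e₀.injective h8)
        apply hcA
        have : g * z * g⁻¹ = z := h9
        rw [this]
        exact h.z_mem
      · rw [hsq] at h1
        exact h.z_ne h1.symm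
    rcases h.invol _ hcA hsq with h1 | h1
    · exfalso
      apply h.z_ne
      have : z = g⁻¹ * (g * z * g⁻¹) * g := by group
      rw [this, h1]
      group
    · exact h1
  have hgN : g ∈ Subgroup.normalizer (R : Set G) := by
    rw [Subgroup.normalizer_eq_top_iff.mpr hRn]
    exact Subgroup.mem_top g
  have hnc : ¬ ∀ q ∈ R, g * q * g⁻¹ = q := by
    intro hall
    have hgc : g ∈ Subgroup.centralizer (R : Set G) := by
      rw [Subgroup.mem_centralizer_iff]
      intro q hq
      have := hall q hq
      calc q * g = (g * q * g⁻¹) * g := by rw [this]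
        _ = g * q := by group
    have hgR : g ∈ R := hcent hgc
    obtain ⟨k, hk⟩ := (IsPGroup.iff_orderOf.mp hR2) ⟨g, hgR⟩
    rw [Subgroup.orderOf_mk, hgo] at hk
    have : p ∣ 2 ^ k := by rw [← hk]
    have := (Nat.prime_dvd_prime_iff_eq hp Nat.prime_two).mp (hp.dvd_of_dvd_pow this)
    exact hp2 this
  obtain ⟨i, hiR, r, hgen⟩ := exists_rel_ds h hR2 R le_rfl g hgN hodd hgz hnc
  have hg3 : g ^ 3 = 1 := pow_three_eq_one r hp hgo
  have d : SL23.Data i g := ⟨r.hi4, r.hi2, hg3, hg1, r.h1, r.h2, r.h3⟩
  have hle := d.card_le R hiR hgen hcent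
  have hrange : Nat.card d.Psi.range = 24 := by
    rw [← SL23.card_model]
    exact (Nat.card_congr (MonoidHom.ofInjective d.Psi_injective).toEquiv).symm
  have hcardG : Nat.card G = 24 ∨ Nat.card G = 48 := by
    have h1 := d.Psi.range.card_mul_index
    have h2 : d.Psi.range.index ≠ 0 := Subgroup.index_ne_zero_of_finite
    rw [hrange] at h1
    have : d.Psi.range.index ≤ 2 := by
      by_contra hlt
      push Not at hlt
      nlinarith
    have : d.Psi.range.index = 1 ∨ d.Psi.range.index = 2 := by omega
    rcases this with h3 | h3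
    · left; rw [← h1, h3]
    · right; rw [← h1, h3]
  rcases hcardG with hc24 | hc48
  · -- `R` is a normal Sylow subgroup
    left
    obtain ⟨P, hP⟩ := hR2.exists_le_sylow
    obtain ⟨k, hk⟩ := IsPGroup.iff_card.mp P.2
    have h1 : Nat.card P ∣ Nat.card G := Subgroup.card_subgroup_dvd_card _
    have h2 : Nat.card R ∣ Nat.card P := Subgroup.card_dvd_of_le hP
    rw [hk, hc24] at h1
    rw [hk, hRcard] at h2
    have hk4 : k ≤ 4 := by
      by_contra hlt
      push Not at hlt
      have : 2 ^ 5 ≤ 2 ^ k := Nat.pow_le_pow_right (by norm_num) hlt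
      have := Nat.le_of_dvd (by norm_num) h1
      omega
    have hk3 : k = 3 := by
      interval_cases k <;> omega
    have hPR : (P : Subgroup G) = R := by
      symm
      apply Subgroup.eq_of_le_of_card_ge hP
      rw [hk, hk3, hRcard]
      norm_num
    exact ⟨P, by rw [hPR]; exact hRn⟩
  · right
    set zz : G := i ^ 2 with hzz
    have hzz_ne : zz ≠ 1 := d.hi2
    have hzz_sq : zz * zz = 1 := by
      rw [hzz, ← pow_add]; exact d.hi4
    have hzz_o : orderOf zz = 2 := by
      apply orderOf_eq_prime
      · rw [pow_two]; exact hzz_sq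
      · exact hzz_ne
    -- the centre
    have hcenter : ∀ c : G, c ∈ Subgroup.center G ↔ c = 1 ∨ c = zz := by
      intro c
      constructor
      · intro hc
        apply d.eq_of_mem_centralizer R hiR hgen hcent
        rw [Subgroup.mem_centralizer_iff]
        intro r' _
        exact (Subgroup.mem_center_iff.mp hc r')
      · rintro (rfl | rfl)
        · exact Subgroup.one_mem _
        · rw [Subgroup.mem_center_iff]
          intro y
          have := d.sq_central R hiR hgen y
          calc y * i ^ 2 = (y * i ^ 2 * y⁻¹) * y := by group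
            _ = i ^ 2 * y := by rw [this]
    have hcenter_eq : Subgroup.center G = Subgroup.zpowers zz := by
      apply le_antisymm
      · intro c hc
        rcases (hcenter c).mp hc with rfl | rfl
        · exact Subgroup.one_mem _
        · exact Subgroup.mem_zpowers _
      · rw [Subgroup.zpowers_le]
        exact (hcenter zz).mpr (Or.inr rfl)
    have hcenter_card : Nat.card (Subgroup.center G) = 2 := by
      rw [hcenter_eq, Nat.card_zpowers, hzz_o]
    -- the quotient by the centre
    set α := d.act R hiR hgen with hα
    have hker : α.ker = Subgroup.center G := by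
      ext y
      rw [MonoidHom.mem_ker, hcenter]
      constructor
      · intro hy
        exact d.eq_of_mem_centralizer R hiR hgen hcent y (d.mem_centralizer_of_act R hiR hgen y hy)
      · rintro (rfl | rfl)
        · exact map_one _
        · ext q
          have : zz = d.fn (a 1 ^ 2) := by rw [map_pow, d.fn_a1]
          rw [this, hα, d.act_fn, MulAut.one_apply]
          revert q
          decide
    obtain ⟨eS4⟩ := Cfsg.Agent.S3742.result
    have hautcard : Nat.card (MulAut (QuaternionGroup 2)) = 24 := by
      rw [Nat.card_congr eS4.toEquiv, Nat.card_eq_fintype_card, Fintype.card_perm, Fintype.card_fin]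
      rfl
    have hsurj : Function.Surjective α := by
      rw [← MonoidHom.range_eq_top]
      apply Subgroup.eq_top_of_card_eq
      have e1 : G ⧸ α.ker ≃* α.range := QuotientGroup.quotientKerEquivRange α
      rw [← Nat.card_congr e1.toEquiv, hautcard]
      have h1 := Subgroup.card_eq_card_quotient_mul_card_subgroup α.ker
      rw [hker, hcenter_card, hc48] at h1
      rw [hker]
      omega
    have eQ : G ⧸ Subgroup.center G ≃* Equiv.Perm (Fin 4) :=
      ((QuotientGroup.quotientMulEquivOfEq hker.symm).trans
        (QuotientGroup.quotientKerEquivOfSurjective α hsurj)).trans eS4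
    by_cases hinv : ∃ t : G, t * t = 1 ∧ t ≠ 1 ∧ t ≠ zz
    · left
      obtain ⟨t, ht2, ht1, htz⟩ := hinv
      obtain ⟨t', h1, h2, h3, h4, h5⟩ := d.exists_involution R hiR hgen hcent t ht2 ht1 htz
      exact d.nonempty_equiv_gl23 hc48 t' h1 h2 h3 h4 h5
    · right
      push Not at hinv
      refine ⟨hc48, hcenter_card, ⟨eQ⟩, ?_⟩
      intro P
      obtain ⟨k, hk⟩ := IsPGroup.iff_card.mp P.2
      have hidx := (P : Subgroup G).card_mul_index
      have hnd := P.not_dvd_index
      rw [hk, hc48] at hidx
      have hk5 : k ≤ 5 := by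
        by_contra hlt
        push Not at hlt
        have h6 : 2 ^ 6 ≤ 2 ^ k := Nat.pow_le_pow_right (by norm_num) hlt
        have hpos : 0 < (P : Subgroup G).index := Nat.pos_of_ne_zero Subgroup.index_ne_zero_of_finite
        nlinarith
      have hk4 : k = 4 := by
        interval_cases k <;> omega
      have hPcard : Nat.card P = 16 := by rw [hk, hk4]; norm_num
      have hRP : R ≤ (P : Subgroup G) := hR2.le_sylow_of_normal P
      -- elements of order 2
      have hstruct : ∀ H : Subgroup P, Nat.card H = 2 → ∀ x : P, x ∈ H ↔ (x = 1 ∨ (x : G) = zz) := by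
        intro H hH
        have hfwd : ∀ x : P, x ∈ H → (x = 1 ∨ (x : G) = zz) := by
          intro x hx
          have h1 : (⟨x, hx⟩ : H) ^ Nat.card H = 1 := pow_card_eq_one'
          rw [hH] at h1
          have h2 : (x : G) * (x : G) = 1 := by
            have := congrArg (fun y : H => ((y : P) : G)) h1
            simpa [pow_two] using this
          by_cases hx1 : (x : G) = 1
          · left; exact Subtype.ext hx1
          · right
            by_contra hxz
            exact hxz (by
              by_contra h3
              exact absurd (hinv (x : G) h2 hx1) (by simpa using h3))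
        intro x
        constructor
        · exact hfwd x
        · rintro (rfl | hx)
          · exact H.one_mem
          · have hne : H ≠ ⊥ := by
              intro hb
              rw [hb, Subgroup.card_bot] at hH
              omega
            obtain ⟨y, hy1⟩ := (Subgroup.ne_bot_iff_exists_ne_one.mp hne)
            rcases hfwd y.1 y.2 with h1 | h1
            · exact (hy1 (Subtype.ext h1)).elim
            · have : x = y.1 := Subtype.ext (hx.trans h1.symm)
              rw [this]
              exact y.2
      have huniq : ∀ H K : Subgroup P, Nat.card H = 2 → Nat.card K = 2 → H = K := by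
        intro H K hH hK
        ext x
        rw [hstruct H hH, hstruct K hK]
      rcases Cfsg.Agent.S0016.result 2 P.2 huniq with hcyc | ⟨-, n, ⟨e⟩⟩
      · exfalso
        obtain ⟨b, hb⟩ := hcyc.exists_generator
        have hcomm : ∀ x y : P, x * y = y * x := by
          intro x y
          obtain ⟨k, hk⟩ := Subgroup.mem_zpowers_iff.mp (hb x)
          obtain ⟨l, hl⟩ := Subgroup.mem_zpowers_iff.mp (hb y)
          rw [← hk, ← hl, ← zpow_add, ← zpow_add, add_comm]
        have hjR : g * i * g⁻¹ ∈ R := hRn.conj_mem i hiR g
        have := hcomm ⟨i, hRP hiR⟩ ⟨g * i * g⁻¹, hRP hjR⟩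
        have h1 : i * (g * i * g⁻¹) = (g * i * g⁻¹) * i := congrArg Subtype.val this
        have h2 := d.h2
        rw [← h1, mul_assoc, mul_inv_cancel, mul_one] at h2
        apply d.hi2
        rw [pow_two]
        calc i * i = i * i⁻¹ := by rw [← h2]
          _ = 1 := mul_inv_cancel i
      · have hn : n = 2 := by
          haveI : NeZero (2 ^ n) := ⟨by positivity⟩
          have h1 : Nat.card P = 4 * 2 ^ n := by
            rw [Nat.card_congr e.toEquiv, Nat.card_eq_fintype_card, QuaternionGroup.card]
          rw [hPcard] at h1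
          have hn4 : n ≤ 4 := by
            by_contra hlt
            push Not at hlt
            have : 2 ^ 5 ≤ 2 ^ n := Nat.pow_le_pow_right (by norm_num) hlt
            omega
          interval_cases n <;> omega
        subst hn
        exact ⟨e⟩

end Q8Core

end Cfsg.Agent.Lib.Helper20
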