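import Mathlib
import Cfsg.Agent.Lib.Helper20.QD
import Cfsg.Agent.Lib.Helper20.QuatLift
import Cfsg.Agent.Lib.Helper61.DihedralLift
import Cfsg.Agent.S1193
import Cfsg.Agent.S1192

set_option autoImplicit false
set_option linter.style.haveILetI false
set_option linter.unusedSimpArgs false

namespace Cfsg.Agent.Lib.Helper20

namespace QD

variable {S : Type*} [Group S] {q : ℕ} {x y : S}

theorem index_maxSub (h : QD S q x y) (ε : ℤ) : (h.maxSub ε).index = 2 := by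
  rw [Subgroup.index_eq_two_iff]
  refine ⟨x ^ (1 : ℤ), ?_⟩
  intro b
  rcases h.cases b with ⟨i, rfl⟩ | ⟨i, rfl⟩
  · rw [← zpow_add, h.zpow_mem_maxSub_iff, h.zpow_mem_maxSub_iff]
    rcases Int.even_or_odd' i with ⟨c, hc | hc⟩
    · right
      exact ⟨⟨c, hc⟩, by omega⟩
    · left
      exact ⟨by omega, by omega⟩
  · rw [h.mul_xy_x, h.xy_mem_maxSub_iff, h.xy_mem_maxSub_iff]
    rcases Int.even_or_odd' (i - ε) with ⟨c, hc | hc⟩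
    · right
      refine ⟨⟨c, hc⟩, ?_⟩
      rintro ⟨d, hd⟩
      omega
    · left
      refine ⟨⟨c + 2 * q, by linear_combination hc⟩, ?_⟩
      rintro ⟨d, hd⟩
      omega

theorem maxSub_one_equiv (h : QD S q x y) : Nonempty (h.maxSub 1 ≃* QuaternionGroup (2 * q)) := by
  haveI : NeZero (2 * q) := ⟨by have := h.hq; omega⟩
  have hx2 : x ^ (2 : ℤ) ∈ h.maxSub 1 := (h.zpow_mem_maxSub_iff 1 2).mpr (dvd_refl 2)
  have hb : x ^ (1 : ℤ) * y ∈ h.maxSub 1 := (h.xy_mem_maxSub_iff 1 1).mpr (by simp)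
  have hgen := Cfsg.Agent.S1192.closure_eq_top h 1 hx2 hb
  have ho : orderOf (⟨x ^ (2 : ℤ), hx2⟩ : ↥(h.maxSub 1)) = 2 * (2 * q) := by
    rw [Subgroup.orderOf_mk, Cfsg.Agent.S1193.orderOf_x_sq h]; ring
  have hβ : (⟨x ^ (1 : ℤ) * y, hb⟩ : ↥(h.maxSub 1)) * ⟨x ^ (1 : ℤ) * y, hb⟩
      = (⟨x ^ (2 : ℤ), hx2⟩ : ↥(h.maxSub 1)) ^ (2 * q) := by
    apply Subtype.ext
    rw [Subgroup.coe_mul, Subgroup.coe_pow]
    show (x ^ (1 : ℤ) * y) * (x ^ (1 : ℤ) * y) = (x ^ (2 : ℤ)) ^ (2 * q)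
    rw [h.xy_mul_self_odd (by norm_num), ← zpow_natCast, ← zpow_mul]
    congr 1
    push_cast
    ring
  have hβα : (⟨x ^ (1 : ℤ) * y, hb⟩ : ↥(h.maxSub 1)) * ⟨x ^ (2 : ℤ), hx2⟩ *
      (⟨x ^ (1 : ℤ) * y, hb⟩ : ↥(h.maxSub 1))⁻¹ = (⟨x ^ (2 : ℤ), hx2⟩ : ↥(h.maxSub 1))⁻¹ := by
    apply Subtype.ext
    show (x ^ (1 : ℤ) * y) * x ^ (2 : ℤ) * (x ^ (1 : ℤ) * y)⁻¹ = (x ^ (2 : ℤ))⁻¹
    rw [h.conj_xy_x, ← zpow_neg, h.zpow_eq_iff]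
    exact ⟨1, by ring⟩
  have hns : (⟨x ^ (1 : ℤ) * y, hb⟩ : ↥(h.maxSub 1)) ∉
      Subgroup.zpowers (⟨x ^ (2 : ℤ), hx2⟩ : ↥(h.maxSub 1)) := by
    intro hm
    obtain ⟨j, hj⟩ := Subgroup.mem_zpowers_iff.mp hm
    have : (x ^ (2 : ℤ)) ^ j = x ^ (1 : ℤ) * y := by
      have := congrArg Subtype.val hj
      rwa [Subgroup.coe_zpow] at this
    rw [← zpow_mul] at this
    exact h.xy_ne_x _ _ this.symm
  have e := quatEquiv _ _ (2 * q) ho hβ hβα hns hgen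
  exact ⟨e.symm⟩

theorem maxSub_zero_equiv (h : QD S q x y) : Nonempty (h.maxSub 0 ≃* DihedralGroup (4 * q)) := by
  have hx2 : x ^ (2 : ℤ) ∈ h.maxSub 0 := (h.zpow_mem_maxSub_iff 0 2).mpr (dvd_refl 2)
  have hy0 : x ^ (0 : ℤ) * y ∈ h.maxSub 0 := (h.xy_mem_maxSub_iff 0 0).mpr (by simp)
  have hgen := Cfsg.Agent.S1192.closure_eq_top h 0 hx2 hy0
  have hs : (⟨x ^ (0 : ℤ) * y, hy0⟩ : ↥(h.maxSub 0)) * ⟨x ^ (0 : ℤ) * y, hy0⟩ = 1 := by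
    apply Subtype.ext
    show (x ^ (0 : ℤ) * y) * (x ^ (0 : ℤ) * y) = 1
    rw [h.xy_mul_self, h.zpow_eq_one_iff]
    exact ⟨0, by ring⟩
  have hsx : (⟨x ^ (0 : ℤ) * y, hy0⟩ : ↥(h.maxSub 0)) * ⟨x ^ (2 : ℤ), hx2⟩ * ⟨x ^ (0 : ℤ) * y, hy0⟩
      = (⟨x ^ (2 : ℤ), hx2⟩ : ↥(h.maxSub 0))⁻¹ := by
    apply Subtype.ext
    show (x ^ (0 : ℤ) * y) * x ^ (2 : ℤ) * (x ^ (0 : ℤ) * y) = (x ^ (2 : ℤ))⁻¹
    have h1 : (x ^ (0 : ℤ) * y)⁻¹ = x ^ (0 : ℤ) * y := by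
      rw [h.inv_xy]; congr 2; ring
    have h2 := h.conj_xy_x 0 2
    rw [h1] at h2
    rw [h2, ← zpow_neg, h.zpow_eq_iff]
    exact ⟨1, by ring⟩
  have hns : (⟨x ^ (0 : ℤ) * y, hy0⟩ : ↥(h.maxSub 0)) ∉
      Subgroup.zpowers (⟨x ^ (2 : ℤ), hx2⟩ : ↥(h.maxSub 0)) := by
    intro hm
    obtain ⟨j, hj⟩ := Subgroup.mem_zpowers_iff.mp hm
    have : (x ^ (2 : ℤ)) ^ j = x ^ (0 : ℤ) * y := by
      have := congrArg Subtype.val hj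
      rwa [Subgroup.coe_zpow] at this
    rw [← zpow_mul] at this
    exact h.xy_ne_x _ _ this.symm
  have e := Cfsg.Agent.Lib.Helper61.dihedralEquiv _ _ hs hsx hns hgen
  have ho : orderOf (⟨x ^ (2 : ℤ), hx2⟩ : ↥(h.maxSub 0)) = 4 * q := by
    rw [Subgroup.orderOf_mk, Cfsg.Agent.S1193.orderOf_x_sq h]
  rw [← ho]
  exact ⟨e.symm⟩

end QD

end Cfsg.Agent.Lib.Helper20
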