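import Mathlib
import Cfsg.Agent.Lib.Helper20.SylowFusion
import Cfsg.Agent.Lib.Helper20.QDMax
import Cfsg.Agent.S1190
import Cfsg.Agent.S1191

set_option autoImplicit false
set_option linter.style.haveILetI false
set_option linter.unusedSimpArgs false

namespace Cfsg.Agent.Lib.Helper20

open QuaternionGroup in
theorem quat2_conj : ∀ t v : QuaternionGroup 2, t * v * t⁻¹ = v ∨ t * v * t⁻¹ = v⁻¹ := by decide

theorem quat2_conj' {P : Type*} [Group P] (e : P ≃* QuaternionGroup 2) (t v : P) :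
    t * v * t⁻¹ = v ∨ t * v * t⁻¹ = v⁻¹ := by
  rcases quat2_conj (e t) (e v) with h | h
  · left; apply e.injective; simpa using h
  · right; apply e.injective; simpa using h

section

variable {G : Type*} [Group G]

theorem mem_normalizer_zpowers_of_conj_mem [Finite G] {a n : G}
    (h : n * a * n⁻¹ ∈ Subgroup.zpowers a) :
    n ∈ Subgroup.normalizer (Subgroup.zpowers a : Set G) := by
  apply mem_normalizer_of_forall
  intro t ht
  obtain ⟨m, rfl⟩ := Subgroup.mem_zpowers_iff.mp ht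
  have : n * a ^ m * n⁻¹ = (n * a * n⁻¹) ^ m := by rw [conj_zpow]
  rw [this]
  exact Subgroup.zpow_mem _ h m

end

section

variable {G : Type*} [Group G] {S : Subgroup G} {q : ℕ} {x y : S}

theorem QD.coe_cases (h : QD S q x y) {t : G} (ht : t ∈ S) :
    (∃ j : ℤ, t = ((x ^ j : S) : G)) ∨ ∃ j : ℤ, t = ((x ^ j * y : S) : G) := by
  rcases h.cases ⟨t, ht⟩ with ⟨j, hj⟩ | ⟨j, hj⟩
  · left; exact ⟨j, congrArg Subtype.val hj⟩
  · right; exact ⟨j, congrArg Subtype.val hj⟩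

theorem QD.coe_invol (h : QD S q x y) {t : G} (ht : t ∈ S) (ho : orderOf t = 2) :
    t = ((x ^ (4 * q : ℤ) : S) : G) ∨ ∃ j : ℤ, 2 ∣ j ∧ t = ((x ^ j * y : S) : G) := by
  have ho' : orderOf (⟨t, ht⟩ : S) = 2 := by rw [Subgroup.orderOf_mk]; exact ho
  rcases h.cases ⟨t, ht⟩ with ⟨j, hj⟩ | ⟨j, hj⟩
  · left
    rw [hj] at ho'
    have := h.orderOf_zpow_eq_two_iff.mp ho'
    rw [← this]; exact congrArg Subtype.val hj
  · right
    refine ⟨j, ?_, congrArg Subtype.val hj⟩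
    by_contra hodd
    rw [hj, h.orderOf_xy_odd hodd] at ho'
    omega

theorem QD.coe_order4 (h : QD S q x y) {t : G} (ht : t ∈ S) (ho : orderOf t = 4) :
    t = ((x ^ (2 * q : ℤ) : S) : G) ∨ t = ((x ^ (-(2 * q) : ℤ) : S) : G) ∨
      ∃ j : ℤ, ¬ 2 ∣ j ∧ t = ((x ^ j * y : S) : G) := by
  have ho' : orderOf (⟨t, ht⟩ : S) = 4 := by rw [Subgroup.orderOf_mk]; exact ho
  rcases h.cases ⟨t, ht⟩ with ⟨j, hj⟩ | ⟨j, hj⟩
  · rw [hj] at ho'
    rcases h.orderOf_zpow_eq_four ho' with h1 | h1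
    · left; rw [← h1]; exact congrArg Subtype.val hj
    · right; left; rw [← h1]; exact congrArg Subtype.val hj
  · right; right
    refine ⟨j, ?_, congrArg Subtype.val hj⟩
    intro heven
    rw [hj, h.orderOf_xy_even heven] at ho'
    omega

theorem QD.isConj_coe_xy (h : QD S q x y) {i j : ℤ} (hij : 2 ∣ i - j) :
    IsConj ((x ^ i * y : S) : G) ((x ^ j * y : S) : G) :=
  S.subtype.map_isConj (h.isConj_xy hij)

theorem QD.isConj_coe_x2q_inv (h : QD S q x y) :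
    IsConj ((x ^ (-(2 * q) : ℤ) : S) : G) ((x ^ (2 * q : ℤ) : S) : G) := by
  have h1 : IsConj (x ^ (-(2 * q) : ℤ)) (x ^ (2 * q : ℤ)) := by
    rw [isConj_iff]
    refine ⟨x ^ (0 : ℤ) * y, ?_⟩
    rw [h.conj_xy_x, h.zpow_eq_iff]
    exact ⟨-q, by ring⟩
  exact S.subtype.map_isConj h1

theorem QD.coe_xy_ne_coe_x (h : QD S q x y) (i j : ℤ) :
    ((x ^ i * y : S) : G) ≠ ((x ^ j : S) : G) := by
  intro he
  exact h.xy_ne_x i j (Subtype.ext he)

theorem QD.quat_not_center_xy (h : QD S q x y) (Q : Subgroup G) (hQS : Q ≤ S)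
    (e : Q ≃* QuaternionGroup 2) (a : ℤ) (hr : ((x ^ a * y : S) : G) ∈ Q) :
    (⟨_, hr⟩ : Q) ∉ Subgroup.center Q := by
  intro hc
  obtain ⟨i, hi, hxQ, hxyQ⟩ := h.quat_struct (Q.subgroupOf S)
    ((Subgroup.subgroupOfEquivOfLe hQS).trans e)
  have hu : ((x ^ (2 * q : ℤ) : S) : G) ∈ Q :=
    Subgroup.mem_subgroupOf.mp ((hxQ _).mpr (dvd_refl _))
  rw [Subgroup.mem_center_iff] at hc
  have h1 := hc ⟨_, hu⟩
  have h2 := congrArg Subtype.val h1
  have h3 : (x ^ (2 * q : ℤ) * (x ^ a * y) : S) = (x ^ a * y) * x ^ (2 * q : ℤ) := Subtype.ext h2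
  obtain ⟨c, hc'⟩ := h.zpow_comm_xy h3
  have hq := h.qpos
  have : (1 : ℤ) = 2 * c := by
    have : (2 * q : ℤ) * 1 = 2 * q * (2 * c) := by linear_combination hc'
    exact mul_left_cancel₀ (by omega) this
  omega

theorem QD.quat_center_x (h : QD S q x y) (Q : Subgroup G) (hQS : Q ≤ S)
    (e : Q ≃* QuaternionGroup 2) (a : ℤ) (hr : ((x ^ a : S) : G) ∈ Q)
    (hc : (⟨_, hr⟩ : Q) ∈ Subgroup.center Q) : (4 * q : ℤ) ∣ a := by
  obtain ⟨i, hi, hxQ, hxyQ⟩ := h.quat_struct (Q.subgroupOf S)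
    ((Subgroup.subgroupOfEquivOfLe hQS).trans e)
  have hv : ((x ^ i * y : S) : G) ∈ Q :=
    Subgroup.mem_subgroupOf.mp ((hxyQ i).mpr (by simp))
  rw [Subgroup.mem_center_iff] at hc
  have h1 := hc ⟨_, hv⟩
  have h2 := congrArg Subtype.val h1
  have h3 : ((x ^ i * y) * x ^ a : S) = x ^ a * (x ^ i * y) := Subtype.ext h2
  exact h.zpow_comm_xy h3.symm

/-- fusion of involutions when `3 ∣ |N_G(T) : C_G(T)|` -/
theorem QD.fuse_invol [Finite G] (h : QD S q x y) (T : Subgroup G) [IsKleinFour T] (hTS : T ≤ S)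
    (h3 : 3 ∣ T.normalizerMonoidHom.ker.index) (j : ℤ) (hj : 2 ∣ j) :
    IsConj ((x ^ j * y : S) : G) ((x ^ (4 * q : ℤ) : S) : G) := by
  haveI : IsKleinFour (T.subgroupOf S) :=
    isKleinFour_of_mulEquiv (Subgroup.subgroupOfEquivOfLe hTS).symm
  obtain ⟨i, hi, hxT, hxyT⟩ := h.klein_struct (T.subgroupOf S)
  have ht₁ : ((x ^ i * y : S) : G) ∈ T := Subgroup.mem_subgroupOf.mp ((hxyT i).mpr (by simp))
  have hz : ((x ^ (4 * q : ℤ) : S) : G) ∈ T :=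
    Subgroup.mem_subgroupOf.mp ((hxT _).mpr (dvd_refl _))
  have hc : (⟨_, ht₁⟩ : T) ≠ 1 := by
    intro he
    have h0 := congrArg Subtype.val he
    have h1 : (x ^ i * y : S) = x ^ (0 : ℤ) := by
      apply Subtype.ext
      rw [h0]; simp
    exact h.xy_ne_x _ _ h1
  have hd : (⟨_, hz⟩ : T) ≠ 1 := by
    intro he
    have h0 := congrArg Subtype.val he
    have h1 : (x ^ (4 * q : ℤ) : S) = 1 := Subtype.ext h0
    exact h.x4q_ne_one h1
  obtain ⟨w, hw⟩ := kleinAct_transitive T.normalizerMonoidHom h3 _ _ hc hd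
  have hw' := congrArg Subtype.val hw
  have h1 : IsConj ((x ^ i * y : S) : G) ((x ^ (4 * q : ℤ) : S) : G) := isConj_iff.mpr ⟨w, hw'⟩
  exact (h.isConj_coe_xy (by omega)).trans h1

/-- fusion of elements of order four when `3 ∣ |N_G(Q) : Q C_G(Q)|` -/
theorem QD.fuse_order4 [Finite G] (h : QD S q x y) (Q : Subgroup G) (hQS : Q ≤ S)
    (e : Q ≃* QuaternionGroup 2) (h3 : 3 ∣ (quatAct Q).ker.index) (j : ℤ) (hj : ¬ 2 ∣ j) :
    IsConj ((x ^ j * y : S) : G) ((x ^ (2 * q : ℤ) : S) : G) := by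
  haveI := quat2_isKleinFour e
  obtain ⟨i, hi, hxQ, hxyQ⟩ := h.quat_struct (Q.subgroupOf S)
    ((Subgroup.subgroupOfEquivOfLe hQS).trans e)
  have hv : ((x ^ i * y : S) : G) ∈ Q := Subgroup.mem_subgroupOf.mp ((hxyQ i).mpr (by simp))
  have hu : ((x ^ (2 * q : ℤ) : S) : G) ∈ Q :=
    Subgroup.mem_subgroupOf.mp ((hxQ _).mpr (dvd_refl _))
  have hq := h.qpos
  have hc : (QuotientGroup.mk ⟨_, hv⟩ : Q ⧸ Subgroup.center Q) ≠ 1 := by
    rw [Ne, QuotientGroup.eq_one_iff]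
    exact h.quat_not_center_xy Q hQS e i hv
  have hd : (QuotientGroup.mk ⟨_, hu⟩ : Q ⧸ Subgroup.center Q) ≠ 1 := by
    rw [Ne, QuotientGroup.eq_one_iff]
    intro hcen
    obtain ⟨c, hc'⟩ := h.quat_center_x Q hQS e _ hu hcen
    have : (1 : ℤ) = 2 * c := by
      have : (2 * q : ℤ) * 1 = 2 * q * (2 * c) := by linear_combination hc'
      exact mul_left_cancel₀ (by omega) this
    omega
  obtain ⟨w, hw⟩ := kleinAct_transitive (quatAct Q) h3 _ _ hc hd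
  rw [quatAct_mk, QuotientGroup.eq] at hw
  set r : Q := Q.normalizerMonoidHom w ⟨_, hv⟩ with hr
  have hrG : (r : G) = (w : G) * ((x ^ i * y : S) : G) * (w : G)⁻¹ := rfl
  rcases h.coe_cases (hQS r.2) with ⟨m, hm⟩ | ⟨m, hm⟩
  · have hprod : ((r⁻¹ * ⟨_, hu⟩ : Q) : G) = ((x ^ (2 * q - m : ℤ) : S) : G) := by
      rw [Subgroup.coe_mul, Subgroup.coe_inv, hm, ← Subgroup.coe_inv, ← Subgroup.coe_mul,
        ← zpow_neg, ← zpow_add]
      congr 2
      ring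
    have hmem : ((x ^ (2 * q - m : ℤ) : S) : G) ∈ Q := by
      rw [← hprod]; exact (r⁻¹ * ⟨_, hu⟩).2
    have hcen : (⟨_, hmem⟩ : Q) ∈ Subgroup.center Q := by
      have : (⟨_, hmem⟩ : Q) = r⁻¹ * ⟨_, hu⟩ := Subtype.ext hprod.symm
      rw [this]; exact hw
    obtain ⟨c, hc'⟩ := h.quat_center_x Q hQS e _ hmem hcen
    have h1 : IsConj ((x ^ i * y : S) : G) ((x ^ m : S) : G) :=
      isConj_iff.mpr ⟨w, by rw [← hm]; exact hrG.symm⟩
    have h2 : IsConj ((x ^ m : S) : G) ((x ^ (2 * q : ℤ) : S) : G) := by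
      rcases Int.even_or_odd' c with ⟨d, hd' | hd'⟩
      · have : (x ^ m : S) = x ^ (2 * q : ℤ) := by
          rw [h.zpow_eq_iff]
          exact ⟨-d, by rw [hd'] at hc'; linear_combination (-1 : ℤ) * hc'⟩
        rw [this]
      · have : (x ^ m : S) = x ^ (-(2 * q) : ℤ) := by
          rw [h.zpow_eq_iff]
          exact ⟨-d, by rw [hd'] at hc'; linear_combination (-1 : ℤ) * hc'⟩
        rw [this]
        exact h.isConj_coe_x2q_inv
    exact ((h.isConj_coe_xy (by omega)).trans h1).trans h2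
  · exfalso
    have hprod : ((r⁻¹ * ⟨_, hu⟩ : Q) : G)
        = ((x ^ (-(4 * q - 1) * m + (4 * q - 1) * (2 * q) : ℤ) * y : S) : G) := by
      rw [Subgroup.coe_mul, Subgroup.coe_inv, hm, ← Subgroup.coe_inv, ← Subgroup.coe_mul,
        h.inv_xy, h.mul_xy_x]
    have hmem : ((x ^ (-(4 * q - 1) * m + (4 * q - 1) * (2 * q) : ℤ) * y : S) : G) ∈ Q := by
      rw [← hprod]; exact (r⁻¹ * ⟨_, hu⟩).2
    have : (⟨_, hmem⟩ : Q) = r⁻¹ * ⟨_, hu⟩ := Subtype.ext hprod.symm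
    exact h.quat_not_center_xy Q hQS e _ hmem (this ▸ hw)

end

section

variable {G : Type*} [Group G] [Finite G] (S : Sylow 2 G)

theorem klein_hconj (hS : Cfsg.IsQuasiDihedral (S : Subgroup G)) (T : Subgroup G) [IsKleinFour T]
    (hTS : T ≤ S) : ∀ g : G, (∀ t ∈ T, g * t * g⁻¹ ∈ (S : Subgroup G)) →
      ∃ s ∈ (S : Subgroup G), ∀ t ∈ T, s * (g * t * g⁻¹) * s⁻¹ ∈ T := by
  intro g hg
  set T₂ := T.map (MulAut.conj g).toMonoidHom with hT₂
  have hT₂S : T₂ ≤ S := by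
    rintro _ ⟨t, ht, rfl⟩
    exact hg t ht
  haveI : IsKleinFour T₂ :=
    isKleinFour_of_mulEquiv (T.equivMapOfInjective _ (MulAut.conj g).injective)
  haveI : IsKleinFour (T₂.subgroupOf S) :=
    isKleinFour_of_mulEquiv (Subgroup.subgroupOfEquivOfLe hT₂S).symm
  haveI : IsKleinFour (T.subgroupOf S) :=
    isKleinFour_of_mulEquiv (Subgroup.subgroupOfEquivOfLe hTS).symm
  obtain ⟨s, hs⟩ := (Cfsg.Agent.S1190.result hS).1 (T₂.subgroupOf S) (T.subgroupOf S)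
    inferInstance inferInstance
  refine ⟨s, s.2, ?_⟩
  intro t ht
  have h1 : g * t * g⁻¹ ∈ T₂ := conj_mem_map_conj ht
  have h2 : (⟨g * t * g⁻¹, hT₂S h1⟩ : (S : Subgroup G)) ∈ T₂.subgroupOf S :=
    Subgroup.mem_subgroupOf.mpr h1
  have h3 := conj_mem_map_conj (g := s) h2
  rw [hs, Subgroup.mem_subgroupOf] at h3
  exact h3

theorem quat_hconj (hS : Cfsg.IsQuasiDihedral (S : Subgroup G)) (Q : Subgroup G) (hQS : Q ≤ S)
    (e : Q ≃* QuaternionGroup 2) : ∀ g : G, (∀ t ∈ Q, g * t * g⁻¹ ∈ (S : Subgroup G)) →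
      ∃ s ∈ (S : Subgroup G), ∀ t ∈ Q, s * (g * t * g⁻¹) * s⁻¹ ∈ Q := by
  intro g hg
  set Q₂ := Q.map (MulAut.conj g).toMonoidHom with hQ₂
  have hQ₂S : Q₂ ≤ S := by
    rintro _ ⟨t, ht, rfl⟩
    exact hg t ht
  have e₂ : Q₂ ≃* QuaternionGroup 2 :=
    (Q.equivMapOfInjective _ (MulAut.conj g).injective).symm.trans e
  obtain ⟨s, hs⟩ := (Cfsg.Agent.S1191.result hS).1 (Q₂.subgroupOf S) (Q.subgroupOf S)
    ⟨(Subgroup.subgroupOfEquivOfLe hQ₂S).trans e₂⟩ ⟨(Subgroup.subgroupOfEquivOfLe hQS).trans e⟩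
  refine ⟨s, s.2, ?_⟩
  intro t ht
  have h1 : g * t * g⁻¹ ∈ Q₂ := conj_mem_map_conj ht
  have h2 : (⟨g * t * g⁻¹, hQ₂S h1⟩ : (S : Subgroup G)) ∈ Q₂.subgroupOf S :=
    Subgroup.mem_subgroupOf.mpr h1
  have h3 := conj_mem_map_conj (g := s) h2
  rw [hs, Subgroup.mem_subgroupOf] at h3
  exact h3

variable {S} {q : ℕ} {x y : (S : Subgroup G)}

/-- no fusion of involutions when `|N_G(T) : C_G(T)| = 2` -/
theorem QD.not_fuse_invol (hS : Cfsg.IsQuasiDihedral (S : Subgroup G))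
    (h : QD (S : Subgroup G) q x y) (T : Subgroup G) [IsKleinFour T] (hTS : T ≤ S)
    (h2 : T.normalizerMonoidHom.ker.index = 2) (j : ℤ) (hj : 2 ∣ j) :
    ¬ IsConj ((x ^ j * y : (S : Subgroup G)) : G) ((x ^ (4 * q : ℤ) : (S : Subgroup G)) : G) := by
  intro hcj
  haveI : Fact (Nat.Prime 2) := ⟨Nat.prime_two⟩
  haveI : IsKleinFour (T.subgroupOf S) :=
    isKleinFour_of_mulEquiv (Subgroup.subgroupOfEquivOfLe hTS).symm
  obtain ⟨i, hi, hxT, hxyT⟩ := h.klein_struct (T.subgroupOf S)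
  have ht₁ : ((x ^ i * y : (S : Subgroup G)) : G) ∈ T :=
    Subgroup.mem_subgroupOf.mp ((hxyT i).mpr (by simp))
  have hcj' : IsConj ((x ^ i * y : (S : Subgroup G)) : G) ((x ^ (4 * q : ℤ) : (S : Subgroup G)) : G) :=
    (h.isConj_coe_xy (by omega)).trans hcj
  obtain ⟨g₀, hg₀⟩ := isConj_iff.mp hcj'
  set zz : G := ((x ^ (4 * q : ℤ) : (S : Subgroup G)) : G) with hzz
  set t₁ : G := ((x ^ i * y : (S : Subgroup G)) : G) with ht₁def
  have hTp : IsPGroup 2 T := IsPGroup.of_card (n := 2) (by rw [IsKleinFour.card_four]; norm_num)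
  have hcomm : ∀ a ∈ T, ∀ b ∈ T, a * b = b * a := by
    intro a ha b hb
    have := (IsKleinFour.isMulCommutative (G := T)).is_comm.comm ⟨a, ha⟩ ⟨b, hb⟩
    exact congrArg Subtype.val this
  obtain ⟨w, hwN, hw⟩ := control_fusion S T hTp (klein_hconj S hS T hTS)
    (Subgroup.centralizer ({zz} : Set G))
    (by
      intro s hs
      rw [Subgroup.mem_centralizer_iff]
      intro m hm
      rw [Set.mem_singleton_iff] at hm
      rw [hm]
      have := h.central ⟨s, hs⟩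
      exact (congrArg Subtype.val this).symm)
    ({zz} : Set G)
    (by
      intro c hc b hb
      rw [Set.mem_singleton_iff] at hb ⊢
      rw [hb]
      rw [Subgroup.mem_centralizer_iff] at hc
      have := hc zz rfl
      rw [← this, mul_assoc, mul_inv_cancel, mul_one])
    t₁ g₀ (by rw [Set.mem_singleton_iff]; exact hg₀)
    (by
      intro t ht
      rw [Subgroup.mem_centralizer_iff]
      intro m hm
      rw [Set.mem_singleton_iff] at hm
      rw [hm, ← hg₀]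
      have := hcomm t₁ ht₁ t ht
      calc g₀ * t₁ * g₀⁻¹ * (g₀ * t * g₀⁻¹) = g₀ * (t₁ * t) * g₀⁻¹ := by group
        _ = g₀ * (t * t₁) * g₀⁻¹ := by rw [this]
        _ = g₀ * t * g₀⁻¹ * (g₀ * t₁ * g₀⁻¹) := by group)
  rw [Set.mem_singleton_iff] at hw
  obtain ⟨hn₀, -⟩ := h.klein_x2q_spec T hTS
  have hcases := index_ker_two_cases T.normalizerMonoidHom h2 _ hn₀ ⟨w, hwN⟩
  rcases hcases with h1 | h1
  · have h3 := DFunLike.congr_fun h1 ⟨t₁, ht₁⟩
    have h4 := congrArg Subtype.val h3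
    have h5 : w * t₁ * w⁻¹ = t₁ := h4
    rw [hw] at h5
    exact h.coe_xy_ne_coe_x _ _ h5.symm
  · have h3 := DFunLike.congr_fun h1 ⟨t₁, ht₁⟩
    have h4 := congrArg Subtype.val h3
    have h5 : w * t₁ * w⁻¹ = ((x ^ (2 * q : ℤ) : (S : Subgroup G)) : G) * t₁ *
        ((x ^ (2 * q : ℤ) : (S : Subgroup G)) : G)⁻¹ := h4
    rw [hw] at h5
    have h6 : ((x ^ (2 * q : ℤ) : (S : Subgroup G)) : G) * t₁ *
        ((x ^ (2 * q : ℤ) : (S : Subgroup G)) : G)⁻¹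
        = ((x ^ (i + (2 - 4 * q) * (2 * q) : ℤ) * y : (S : Subgroup G)) : G) := by
      rw [← h.conj_x_xy]
      rfl
    rw [h6] at h5
    exact h.coe_xy_ne_coe_x _ _ h5.symm

/-- no fusion of elements of order four when `|N_G(Q) : Q C_G(Q)| = 2` -/
theorem QD.not_fuse_order4 (hS : Cfsg.IsQuasiDihedral (S : Subgroup G))
    (h : QD (S : Subgroup G) q x y) (Q : Subgroup G) (hQS : Q ≤ S) (e : Q ≃* QuaternionGroup 2)
    (h2 : (quatAct Q).ker.index = 2) (j : ℤ) (hj : ¬ 2 ∣ j) :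
    ¬ IsConj ((x ^ j * y : (S : Subgroup G)) : G) ((x ^ (2 * q : ℤ) : (S : Subgroup G)) : G) := by
  intro hcj
  haveI : Fact (Nat.Prime 2) := ⟨Nat.prime_two⟩
  obtain ⟨i, hi, hxQ, hxyQ⟩ := h.quat_struct (Q.subgroupOf S)
    ((Subgroup.subgroupOfEquivOfLe hQS).trans e)
  have hv : ((x ^ i * y : (S : Subgroup G)) : G) ∈ Q :=
    Subgroup.mem_subgroupOf.mp ((hxyQ i).mpr (by simp))
  have hcj' : IsConj ((x ^ i * y : (S : Subgroup G)) : G) ((x ^ (2 * q : ℤ) : (S : Subgroup G)) : G) :=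
    (h.isConj_coe_xy (by omega)).trans hcj
  obtain ⟨g₀, hg₀⟩ := isConj_iff.mp hcj'
  set uu : G := ((x ^ (2 * q : ℤ) : (S : Subgroup G)) : G) with huu
  set v : G := ((x ^ i * y : (S : Subgroup G)) : G) with hvdef
  have hQp : IsPGroup 2 Q := IsPGroup.of_card (n := 3) (by rw [quat2_card e]; norm_num)
  obtain ⟨w, hwN, hw⟩ := control_fusion S Q hQp (quat_hconj S hS Q hQS e)
    (Subgroup.normalizer (Subgroup.zpowers uu : Set G))
    (by
      intro s hs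
      apply mem_normalizer_zpowers_of_conj_mem
      rcases h.coe_cases hs with ⟨a, ha⟩ | ⟨a, ha⟩
      · have : s * uu * s⁻¹ = uu := by
          rw [ha, huu, ← Subgroup.coe_inv, ← Subgroup.coe_mul, ← Subgroup.coe_mul]
          congr 1
          rw [← zpow_neg, ← zpow_add, ← zpow_add]
          congr 1
          ring
        rw [this]; exact Subgroup.mem_zpowers _
      · have : s * uu * s⁻¹ = uu ^ (4 * q - 1 : ℤ) := by
          rw [ha, huu, ← Subgroup.coe_inv, ← Subgroup.coe_mul, ← Subgroup.coe_mul, h.conj_xy_x,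
            ← Subgroup.coe_zpow, ← zpow_mul]
          congr 2
          ring
        rw [this]; exact Subgroup.zpow_mem_zpowers _ _)
    (Subgroup.zpowers uu : Set G)
    (by
      intro c hc b hb
      exact (Subgroup.mem_normalizer_iff.mp hc b).mp hb)
    v g₀ (by rw [hg₀]; exact Subgroup.mem_zpowers _)
    (by
      intro t ht
      apply mem_normalizer_zpowers_of_conj_mem
      have h1 : g₀ * t * g₀⁻¹ * uu * (g₀ * t * g₀⁻¹)⁻¹ = g₀ * (t * v * t⁻¹) * g₀⁻¹ := by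
        rw [← hg₀]; group
      rw [h1]
      rcases quat2_conj' e ⟨t, ht⟩ ⟨v, hv⟩ with h3 | h3
      · have h4 : t * v * t⁻¹ = v := congrArg Subtype.val h3
        rw [h4, hg₀]; exact Subgroup.mem_zpowers _
      · have h4 : t * v * t⁻¹ = v⁻¹ := congrArg Subtype.val h3
        have h5 : g₀ * v⁻¹ * g₀⁻¹ = uu⁻¹ := by rw [← hg₀]; group
        rw [h4, h5]; exact Subgroup.inv_mem _ (Subgroup.mem_zpowers _))
  obtain ⟨n, hn⟩ := Subgroup.mem_zpowers_iff.mp hw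
  have hn' : w * v * w⁻¹ = ((x ^ (2 * q * n : ℤ) : (S : Subgroup G)) : G) := by
    rw [← hn, huu, ← Subgroup.coe_zpow, ← zpow_mul]
  obtain ⟨hn₀, -⟩ := h.quat_xq_spec Q hQS e
  have hcases := index_ker_two_cases (quatAct Q) h2 _ hn₀ ⟨w, hwN⟩
  have hmemr : w * v * w⁻¹ ∈ Q := by
    have := (Subgroup.mem_normalizer_iff.mp hwN v).mp hv
    exact this
  rcases hcases with h1 | h1
  · have h3 := DFunLike.congr_fun h1 (QuotientGroup.mk ⟨v, hv⟩)
    rw [quatAct_mk] at h3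
    have h4 : (QuotientGroup.mk (Q.normalizerMonoidHom ⟨w, hwN⟩ ⟨v, hv⟩) : Q ⧸ Subgroup.center Q)
        = QuotientGroup.mk ⟨v, hv⟩ := h3
    rw [QuotientGroup.eq] at h4
    have hprod : (((Q.normalizerMonoidHom ⟨w, hwN⟩ ⟨v, hv⟩)⁻¹ * ⟨v, hv⟩ : Q) : G)
        = ((x ^ (-(2 * q * n) + i : ℤ) * y : (S : Subgroup G)) : G) := by
      rw [Subgroup.coe_mul, Subgroup.coe_inv]
      show (w * v * w⁻¹)⁻¹ * v = _
      rw [hn', hvdef, ← Subgroup.coe_inv, ← Subgroup.coe_mul, ← zpow_neg, QD.mul_x_xy]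
    have hmem : ((x ^ (-(2 * q * n) + i : ℤ) * y : (S : Subgroup G)) : G) ∈ Q := by
      rw [← hprod]; exact ((Q.normalizerMonoidHom ⟨w, hwN⟩ ⟨v, hv⟩)⁻¹ * ⟨v, hv⟩ : Q).2
    have : (⟨_, hmem⟩ : Q) = (Q.normalizerMonoidHom ⟨w, hwN⟩ ⟨v, hv⟩)⁻¹ * ⟨v, hv⟩ :=
      Subtype.ext hprod.symm
    exact h.quat_not_center_xy Q hQS e _ hmem (this ▸ h4)
  · have h3 := DFunLike.congr_fun h1 (QuotientGroup.mk ⟨v, hv⟩)
    rw [quatAct_mk, quatAct_mk, QuotientGroup.eq] at h3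
    have hprod : (((Q.normalizerMonoidHom ⟨w, hwN⟩ ⟨v, hv⟩)⁻¹ *
        (Q.normalizerMonoidHom ⟨_, h.quat_xq_mem Q hQS e⟩ ⟨v, hv⟩) : Q) : G)
        = ((x ^ (-(2 * q * n) + (i + (2 - 4 * q) * q) : ℤ) * y : (S : Subgroup G)) : G) := by
      rw [Subgroup.coe_mul, Subgroup.coe_inv]
      show (w * v * w⁻¹)⁻¹ * (((x ^ (q : ℤ) : (S : Subgroup G)) : G) * v *
        ((x ^ (q : ℤ) : (S : Subgroup G)) : G)⁻¹) = _
      rw [hn', hvdef, ← Subgroup.coe_inv, ← Subgroup.coe_inv, ← Subgroup.coe_mul, ← Subgroup.coe_mul,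
        ← Subgroup.coe_mul, h.conj_x_xy, ← zpow_neg, QD.mul_x_xy]
    have hmem : ((x ^ (-(2 * q * n) + (i + (2 - 4 * q) * q) : ℤ) * y : (S : Subgroup G)) : G) ∈ Q := by
      rw [← hprod]
      exact ((Q.normalizerMonoidHom ⟨w, hwN⟩ ⟨v, hv⟩)⁻¹ *
        (Q.normalizerMonoidHom ⟨_, h.quat_xq_mem Q hQS e⟩ ⟨v, hv⟩) : Q).2
    have : (⟨_, hmem⟩ : Q) = (Q.normalizerMonoidHom ⟨w, hwN⟩ ⟨v, hv⟩)⁻¹ *
        (Q.normalizerMonoidHom ⟨_, h.quat_xq_mem Q hQS e⟩ ⟨v, hv⟩) := Subtype.ext hprod.symm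
    exact h.quat_not_center_xy Q hQS e _ hmem (this ▸ h3)

end

end Cfsg.Agent.Lib.Helper20
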