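import Mathlib
import Cfsg.Agent.Lib.Helper20.QDFusion
import Cfsg.Agent.Lib.Helper20.Isolated

set_option autoImplicit false
set_option linter.style.haveILetI false
set_option linter.unusedSimpArgs false
set_option linter.unusedSectionVars false

namespace Cfsg.Agent.Lib.Helper20

section

variable {G : Type*} [Group G] [Finite G] (S : Sylow 2 G) {q : ℕ} {x y : (S : Subgroup G)}

/-- every involution of `G` is conjugate to `z` or to `y` -/
theorem QD.invol_cases (h : QD (S : Subgroup G) q x y) (t : G) (ht : orderOf t = 2) :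
    IsConj t ((x ^ (4 * q : ℤ) : (S : Subgroup G)) : G) ∨
    IsConj t ((x ^ (0 : ℤ) * y : (S : Subgroup G)) : G) := by
  haveI : Fact (Nat.Prime 2) := ⟨Nat.prime_two⟩
  obtain ⟨g, hg⟩ := exists_conj_mem_sylow S t 1 (by rw [ht]; norm_num)
  have ho : orderOf (g * t * g⁻¹) = 2 := by rw [orderOf_conj', ht]
  have hc : IsConj t (g * t * g⁻¹) := isConj_iff.mpr ⟨g, rfl⟩
  rcases h.coe_invol hg ho with h1 | ⟨j, hj, h1⟩
  · left; rw [← h1]; exact hc
  · right
    rw [h1] at hc
    exact hc.trans (h.isConj_coe_xy (by omega))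

/-- every element of order four of `G` is conjugate to `x^(2q)` or to `x y` -/
theorem QD.order4_cases (h : QD (S : Subgroup G) q x y) (t : G) (ht : orderOf t = 4) :
    IsConj t ((x ^ (2 * q : ℤ) : (S : Subgroup G)) : G) ∨
    IsConj t ((x ^ (1 : ℤ) * y : (S : Subgroup G)) : G) := by
  haveI : Fact (Nat.Prime 2) := ⟨Nat.prime_two⟩
  obtain ⟨g, hg⟩ := exists_conj_mem_sylow S t 2 (by rw [ht]; norm_num)
  have ho : orderOf (g * t * g⁻¹) = 4 := by rw [orderOf_conj', ht]
  have hc : IsConj t (g * t * g⁻¹) := isConj_iff.mpr ⟨g, rfl⟩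
  rcases h.coe_order4 hg ho with h1 | h1 | ⟨j, hj, h1⟩
  · left; rw [← h1]; exact hc
  · left
    rw [h1] at hc
    exact hc.trans h.isConj_coe_x2q_inv
  · right
    rw [h1] at hc
    exact hc.trans (h.isConj_coe_xy (by omega))

theorem QD.orderOf_coe_z (h : QD (S : Subgroup G) q x y) :
    orderOf ((x ^ (4 * q : ℤ) : (S : Subgroup G)) : G) = 2 := by
  rw [Subgroup.orderOf_coe]; exact h.orderOf_zpow_eq_two_iff.mpr rfl

theorem QD.orderOf_coe_xy_even (h : QD (S : Subgroup G) q x y) {j : ℤ} (hj : 2 ∣ j) :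
    orderOf ((x ^ j * y : (S : Subgroup G)) : G) = 2 := by
  rw [Subgroup.orderOf_coe]; exact h.orderOf_xy_even hj

theorem QD.orderOf_coe_xy_odd (h : QD (S : Subgroup G) q x y) {j : ℤ} (hj : ¬ 2 ∣ j) :
    orderOf ((x ^ j * y : (S : Subgroup G)) : G) = 4 := by
  rw [Subgroup.orderOf_coe]; exact h.orderOf_xy_odd hj

theorem QD.orderOf_coe_u (h : QD (S : Subgroup G) q x y) :
    orderOf ((x ^ (2 * q : ℤ) : (S : Subgroup G)) : G) = 4 := by
  rw [Subgroup.orderOf_coe]; exact h.orderOf_x2q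

theorem QD.card_invol_classes_one (h : QD (S : Subgroup G) q x y)
    (hf : ∀ j : ℤ, 2 ∣ j → IsConj ((x ^ j * y : (S : Subgroup G)) : G)
      ((x ^ (4 * q : ℤ) : (S : Subgroup G)) : G)) :
    Nat.card {C : ConjClasses G // ∃ t : G, orderOf t = 2 ∧ ConjClasses.mk t = C} = 1 := by
  apply card_classes_eq_one (fun t => orderOf t = 2) ((x ^ (4 * q : ℤ) : (S : Subgroup G)) : G)
  · exact h.orderOf_coe_z S
  · intro t ht
    rcases h.invol_cases S t ht with h1 | h1
    · exact h1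
    · exact h1.trans (hf 0 (dvd_zero 2))

theorem QD.card_invol_classes_two (h : QD (S : Subgroup G) q x y)
    (hf : ∀ j : ℤ, 2 ∣ j → ¬ IsConj ((x ^ j * y : (S : Subgroup G)) : G)
      ((x ^ (4 * q : ℤ) : (S : Subgroup G)) : G)) :
    Nat.card {C : ConjClasses G // ∃ t : G, orderOf t = 2 ∧ ConjClasses.mk t = C} = 2 := by
  apply card_classes_eq_two (fun t => orderOf t = 2) ((x ^ (4 * q : ℤ) : (S : Subgroup G)) : G)
    ((x ^ (0 : ℤ) * y : (S : Subgroup G)) : G)
  · exact h.orderOf_coe_z S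
  · exact h.orderOf_coe_xy_even S (dvd_zero 2)
  · intro hc
    exact hf 0 (dvd_zero 2) hc.symm
  · intro t ht
    exact h.invol_cases S t ht

theorem QD.card_order4_classes_one (h : QD (S : Subgroup G) q x y)
    (hf : ∀ j : ℤ, ¬ 2 ∣ j → IsConj ((x ^ j * y : (S : Subgroup G)) : G)
      ((x ^ (2 * q : ℤ) : (S : Subgroup G)) : G)) :
    Nat.card {C : ConjClasses G // ∃ t : G, orderOf t = 4 ∧ ConjClasses.mk t = C} = 1 := by
  apply card_classes_eq_one (fun t => orderOf t = 4) ((x ^ (2 * q : ℤ) : (S : Subgroup G)) : G)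
  · exact h.orderOf_coe_u S
  · intro t ht
    rcases h.order4_cases S t ht with h1 | h1
    · exact h1
    · exact h1.trans (hf 1 (by norm_num))

theorem QD.card_order4_classes_two (h : QD (S : Subgroup G) q x y)
    (hf : ∀ j : ℤ, ¬ 2 ∣ j → ¬ IsConj ((x ^ j * y : (S : Subgroup G)) : G)
      ((x ^ (2 * q : ℤ) : (S : Subgroup G)) : G)) :
    Nat.card {C : ConjClasses G // ∃ t : G, orderOf t = 4 ∧ ConjClasses.mk t = C} = 2 := by
  apply card_classes_eq_two (fun t => orderOf t = 4) ((x ^ (2 * q : ℤ) : (S : Subgroup G)) : G)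
    ((x ^ (1 : ℤ) * y : (S : Subgroup G)) : G)
  · exact h.orderOf_coe_u S
  · exact h.orderOf_coe_xy_odd S (by norm_num)
  · intro hc
    exact hf 1 (by norm_num) hc.symm
  · intro t ht
    exact h.order4_cases S t ht

/-- membership of all of `S` from `x` and `y` -/
theorem QD.sylow_le_of_mem (h : QD (S : Subgroup G) q x y) (H : Subgroup G)
    (hx : ((x ^ (1 : ℤ) : (S : Subgroup G)) : G) ∈ H)
    (hy : ((x ^ (0 : ℤ) * y : (S : Subgroup G)) : G) ∈ H) : (S : Subgroup G) ≤ H := by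
  intro s hs
  have hxj : ∀ j : ℤ, ((x ^ j : (S : Subgroup G)) : G) ∈ H := by
    intro j
    have : ((x ^ j : (S : Subgroup G)) : G) = ((x ^ (1 : ℤ) : (S : Subgroup G)) : G) ^ j := by
      rw [← Subgroup.coe_zpow, ← zpow_mul, one_mul]
    rw [this]
    exact H.zpow_mem hx j
  rcases h.coe_cases hs with ⟨j, rfl⟩ | ⟨j, rfl⟩
  · exact hxj j
  · have : ((x ^ j * y : (S : Subgroup G)) : G)
        = ((x ^ j : (S : Subgroup G)) : G) * ((x ^ (0 : ℤ) * y : (S : Subgroup G)) : G) := by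
      rw [← Subgroup.coe_mul, QD.mul_x_xy, add_zero]
    rw [this]
    exact H.mul_mem (hxj j) hy

theorem QD.no_index_two (h : QD (S : Subgroup G) q x y)
    (hf2 : ∀ j : ℤ, 2 ∣ j → IsConj ((x ^ j * y : (S : Subgroup G)) : G)
      ((x ^ (4 * q : ℤ) : (S : Subgroup G)) : G))
    (hf4 : ∀ j : ℤ, ¬ 2 ∣ j → IsConj ((x ^ j * y : (S : Subgroup G)) : G)
      ((x ^ (2 * q : ℤ) : (S : Subgroup G)) : G)) :
    ∀ H : Subgroup G, H.index ≠ 2 := by
  intro H hH
  have hz : ((x ^ (4 * q : ℤ) : (S : Subgroup G)) : G) ∈ H := by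
    have := Subgroup.mul_self_mem_of_index_two hH ((x ^ (2 * q : ℤ) : (S : Subgroup G)) : G)
    rw [← Subgroup.coe_mul, h.x2q_mul_self] at this
    exact this
  have hu : ((x ^ (2 * q : ℤ) : (S : Subgroup G)) : G) ∈ H := by
    have := Subgroup.mul_self_mem_of_index_two hH ((x ^ (q : ℤ) : (S : Subgroup G)) : G)
    rw [← Subgroup.coe_mul, ← zpow_add] at this
    have e : (q : ℤ) + q = 2 * q := by ring
    rw [e] at this
    exact this
  have hy : ((x ^ (0 : ℤ) * y : (S : Subgroup G)) : G) ∈ H :=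
    mem_of_isConj_of_index_two hH hz (hf2 0 (dvd_zero 2)).symm
  have hxy : ((x ^ (1 : ℤ) * y : (S : Subgroup G)) : G) ∈ H :=
    mem_of_isConj_of_index_two hH hu (hf4 1 (by norm_num)).symm
  have hx : ((x ^ (1 : ℤ) : (S : Subgroup G)) : G) ∈ H := by
    have : ((x ^ (1 : ℤ) : (S : Subgroup G)) : G)
        = ((x ^ (1 : ℤ) * y : (S : Subgroup G)) : G) *
          ((x ^ (0 : ℤ) * y : (S : Subgroup G)) : G)⁻¹ := by
      rw [← Subgroup.coe_inv, ← Subgroup.coe_mul]
      congr 1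
      rw [zpow_zero, one_mul, mul_inv_cancel_right]
    rw [this]
    exact H.mul_mem hxy (H.inv_mem hy)
  exact sylow_not_le_of_index_two S H hH (h.sylow_le_of_mem S H hx hy)

end

end Cfsg.Agent.Lib.Helper20
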