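import Mathlib
import Cfsg.Agent.Lib.Helper20.QDClasses
import Cfsg.Agent.Lib.Helper53.Transfer

set_option autoImplicit false
set_option linter.style.haveILetI false
set_option linter.unusedSimpArgs false
set_option linter.unusedSectionVars false

namespace Cfsg.Agent.Lib.Helper20

section general

variable {G : Type*} [Group G]

/-- facts on a subgroup of index two in a subgroup, expressed in the ambient group -/
theorem index_two_sub_facts (K : Subgroup G) (H : Subgroup K) (hH : H.index = 2) :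
    (∀ g ∈ K, g * g ∈ H.map K.subtype) ∧
    (∀ g ∈ H.map K.subtype, ∀ k ∈ K, k * g * k⁻¹ ∈ H.map K.subtype) ∧
    (∀ g₁ ∈ K, ∀ g₂ ∈ K, g₁ ∉ H.map K.subtype → g₂ ∉ H.map K.subtype →
      g₁ * g₂ ∈ H.map K.subtype) := by
  refine ⟨?_, ?_, ?_⟩
  · intro g hg
    exact ⟨⟨g, hg⟩ * ⟨g, hg⟩, Subgroup.mul_self_mem_of_index_two hH _, rfl⟩
  · rintro _ ⟨a, ha, rfl⟩ k hk
    exact ⟨⟨k, hk⟩ * a * ⟨k, hk⟩⁻¹, conj_mem_of_index_two hH ha _, rfl⟩
  · intro g₁ hg₁ g₂ hg₂ h1 h2
    refine ⟨⟨g₁, hg₁⟩ * ⟨g₂, hg₂⟩, mul_mem_of_index_two hH ?_ ?_, rfl⟩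
    · intro h; exact h1 ⟨_, h, rfl⟩
    · intro h; exact h2 ⟨_, h, rfl⟩

/-- Sylow `2`-subgroups of a normal subgroup `K` of index two are `K`-conjugates of `S ⊓ K` -/
theorem sylow_of_normal_index_two [Finite G] (S : Sylow 2 G) (K : Subgroup G) [K.Normal]
    (hK : K.index = 2) (P : Sylow 2 K) :
    ∃ k ∈ K, (P : Subgroup K) =
      (((S : Subgroup G) ⊓ K).map (MulAut.conj k).toMonoidHom).subgroupOf K := by
  haveI : Fact (Nat.Prime 2) := ⟨Nat.prime_two⟩
  obtain ⟨S', hS'⟩ := P.exists_comap_subtype_eq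
  obtain ⟨g, hg⟩ := MulAction.exists_smul_eq G S S'
  have hnle := sylow_not_le_of_index_two S K hK
  obtain ⟨r, hrS, hrK⟩ := SetLike.not_le_iff_exists.mp hnle
  have key : ∃ k ∈ K, k • S = S' := by
    by_cases hgK : g ∈ K
    · exact ⟨g, hgK, hg⟩
    · refine ⟨g * r⁻¹, mul_mem_of_index_two hK hgK (fun h => hrK (K.inv_mem_iff.mp h)), ?_⟩
      rw [mul_smul]
      have : r⁻¹ • S = S := by
        rw [Sylow.smul_eq_iff_mem_normalizer]
        exact Subgroup.le_normalizer ((S : Subgroup G).inv_mem hrS)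
      rw [this, hg]
  obtain ⟨k, hkK, hk⟩ := key
  refine ⟨k, hkK, ?_⟩
  ext t
  rw [← hS', Subgroup.mem_comap, ← hk, sylow_smul_coe, Subgroup.mem_subgroupOf, mem_map_conj,
    mem_map_conj, Subgroup.mem_inf]
  constructor
  · intro h
    exact ⟨h, K.mul_mem (K.mul_mem (K.inv_mem hkK) t.2) hkK⟩
  · intro h
    exact h.1

end general

section

variable {G : Type*} [Group G] [Finite G] (S : Sylow 2 G) {q : ℕ} {x y : (S : Subgroup G)}

theorem QD.coe_x_mem_maxSub_map (h : QD (S : Subgroup G) q x y) (ε j : ℤ) :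
    ((x ^ j : (S : Subgroup G)) : G) ∈ (h.maxSub ε).map (S : Subgroup G).subtype ↔ 2 ∣ j := by
  have := Subgroup.mem_map_iff_mem (Subgroup.subtype_injective (S : Subgroup G))
    (K := h.maxSub ε) (x := x ^ j)
  rw [← h.zpow_mem_maxSub_iff ε j]
  exact this

theorem QD.coe_xy_mem_maxSub_map (h : QD (S : Subgroup G) q x y) (ε j : ℤ) :
    ((x ^ j * y : (S : Subgroup G)) : G) ∈ (h.maxSub ε).map (S : Subgroup G).subtype ↔
      2 ∣ j - ε := by
  have := Subgroup.mem_map_iff_mem (Subgroup.subtype_injective (S : Subgroup G))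
    (K := h.maxSub ε) (x := x ^ j * y)
  rw [← h.xy_mem_maxSub_iff ε j]
  exact this

theorem QD.maxSub_map_relIndex (h : QD (S : Subgroup G) q x y) (ε : ℤ) :
    ((h.maxSub ε).map (S : Subgroup G).subtype).relIndex (S : Subgroup G) = 2 := by
  unfold Subgroup.relIndex Subgroup.subgroupOf
  rw [Subgroup.comap_map_eq_self_of_injective (Subgroup.subtype_injective _)]
  exact h.index_maxSub ε

theorem QD.maxSub_map_le (h : QD (S : Subgroup G) q x y) (ε : ℤ) :
    (h.maxSub ε).map (S : Subgroup G).subtype ≤ (S : Subgroup G) :=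
  Subgroup.map_subtype_le _

/-- Thompson transfer: if `y` is not fused to the central involution, there is a normal subgroup
of index two avoiding `y` -/
theorem QD.exists_K_of_not_fuse_invol (h : QD (S : Subgroup G) q x y)
    (hnf : ∀ j : ℤ, 2 ∣ j → ¬ IsConj ((x ^ j * y : (S : Subgroup G)) : G)
      ((x ^ (4 * q : ℤ) : (S : Subgroup G)) : G)) :
    ∃ K : Subgroup G, K.Normal ∧ K.index = 2 ∧ ((x ^ (0 : ℤ) * y : (S : Subgroup G)) : G) ∉ K := by
  apply Cfsg.Agent.Lib.Helper53.thompson_transfer S ((h.maxSub 1).map (S : Subgroup G).subtype)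
    (h.maxSub_map_relIndex S 1) 1 (le_refl 1)
  · intro s hs hsM
    have hs1 : s ≠ 1 := by
      intro he; rw [he] at hsM; exact hsM (Subgroup.one_mem _)
    have hpos := orderOf_pos s
    have : orderOf s ≠ 1 := by
      intro h1; exact hs1 (orderOf_eq_one_iff.mp h1)
    simp only [Nat.sub_self, pow_zero]
    omega
  · rw [pow_one]; exact h.orderOf_coe_xy_even S (dvd_zero 2)
  · intro g hg
    have hgS : g * ((x ^ (0 : ℤ) * y : (S : Subgroup G)) : G) * g⁻¹ ∈ (S : Subgroup G) :=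
      h.maxSub_map_le S 1 hg
    have ho : orderOf (g * ((x ^ (0 : ℤ) * y : (S : Subgroup G)) : G) * g⁻¹) = 2 := by
      rw [orderOf_conj']; exact h.orderOf_coe_xy_even S (dvd_zero 2)
    rcases h.coe_invol hgS ho with h1 | ⟨j, hj, h1⟩
    · exact hnf 0 (dvd_zero 2) (isConj_iff.mpr ⟨g, h1⟩)
    · rw [h1, h.coe_xy_mem_maxSub_map] at hg
      omega

/-- Thompson transfer: if `x y` is not fused to `x^(2q)`, there is a normal subgroup
of index two avoiding `x y` -/
theorem QD.exists_K_of_not_fuse_order4 (h : QD (S : Subgroup G) q x y)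
    (hnf : ∀ j : ℤ, ¬ 2 ∣ j → ¬ IsConj ((x ^ j * y : (S : Subgroup G)) : G)
      ((x ^ (2 * q : ℤ) : (S : Subgroup G)) : G)) :
    ∃ K : Subgroup G, K.Normal ∧ K.index = 2 ∧ ((x ^ (1 : ℤ) * y : (S : Subgroup G)) : G) ∉ K := by
  apply Cfsg.Agent.Lib.Helper53.thompson_transfer S ((h.maxSub 0).map (S : Subgroup G).subtype)
    (h.maxSub_map_relIndex S 0) 2 (by norm_num)
  · intro s hs hsM
    -- s² ≠ 1
    have hsq : s * s ≠ 1 := by
      rcases h.coe_cases hs with ⟨j, rfl⟩ | ⟨j, rfl⟩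
      · rw [h.coe_x_mem_maxSub_map] at hsM
        rw [← Subgroup.coe_mul, ← zpow_add]
        intro he
        have h1 : (x ^ (j + j) : (S : Subgroup G)) = 1 := Subtype.ext he
        rw [h.zpow_eq_one_iff] at h1
        obtain ⟨c, hc⟩ := h1
        apply hsM
        refine ⟨2 * q * c, ?_⟩
        have : 2 * j = 2 * (2 * (2 * q * c)) := by linear_combination hc
        exact mul_left_cancel₀ two_ne_zero this
      · rw [h.coe_xy_mem_maxSub_map] at hsM
        rw [← Subgroup.coe_mul, h.xy_mul_self_odd (by omega)]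
        intro he
        exact h.x4q_ne_one (Subtype.ext he)
    have hpos := orderOf_pos s
    by_contra hle
    have hle' : orderOf s ≤ 2 := by
      have : (2 : ℕ) ^ (2 - 1) = 2 := by norm_num
      omega
    have hdvd : orderOf s ∣ 2 := by
      interval_cases (orderOf s) <;> norm_num
    apply hsq
    rw [← pow_two]
    exact orderOf_dvd_iff_pow_eq_one.mp hdvd
  · have : (2 : ℕ) ^ 2 = 4 := by norm_num
    rw [this]; exact h.orderOf_coe_xy_odd S (by norm_num)
  · intro g hg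
    have hgS : g * ((x ^ (1 : ℤ) * y : (S : Subgroup G)) : G) * g⁻¹ ∈ (S : Subgroup G) :=
      h.maxSub_map_le S 0 hg
    have ho : orderOf (g * ((x ^ (1 : ℤ) * y : (S : Subgroup G)) : G) * g⁻¹) = 4 := by
      rw [orderOf_conj']; exact h.orderOf_coe_xy_odd S (by norm_num)
    rcases h.coe_order4 hgS ho with h1 | h1 | ⟨j, hj, h1⟩
    · exact hnf 1 (by norm_num) (isConj_iff.mpr ⟨g, h1⟩)
    · exact hnf 1 (by norm_num) ((isConj_iff.mpr ⟨g, h1⟩).trans h.isConj_coe_x2q_inv)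
    · rw [h1, h.coe_xy_mem_maxSub_map] at hg
      omega

/-- data of a normal subgroup `K` of index two meeting `S` in `maxSub ε` -/
structure KData (h : QD (S : Subgroup G) q x y) (K : Subgroup G) (ε : ℤ) : Prop where
  normal : K.Normal
  index : K.index = 2
  mem_x : ∀ j : ℤ, ((x ^ j : (S : Subgroup G)) : G) ∈ K ↔ 2 ∣ j
  mem_xy : ∀ j : ℤ, ((x ^ j * y : (S : Subgroup G)) : G) ∈ K ↔ 2 ∣ j - ε

theorem QD.kdata_of (h : QD (S : Subgroup G) q x y) (K : Subgroup G) [hKn : K.Normal]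
    (hK : K.index = 2) (ε : ℤ)
    (hin : ∀ j : ℤ, 2 ∣ j - ε → ((x ^ j * y : (S : Subgroup G)) : G) ∈ K)
    (hout : ∃ j : ℤ, ¬ 2 ∣ j - ε ∧ ((x ^ j * y : (S : Subgroup G)) : G) ∉ K) :
    KData S h K ε := by
  obtain ⟨j₀, hj₀, hj₀K⟩ := hout
  have hout' : ∀ j : ℤ, ¬ 2 ∣ j - ε → ((x ^ j * y : (S : Subgroup G)) : G) ∉ K := by
    intro j hj hjK
    apply hj₀K
    exact mem_of_isConj_of_index_two hK hjK (h.isConj_coe_xy (by omega))
  refine ⟨hKn, hK, ?_, ?_⟩
  · intro j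
    constructor
    · intro hjK
      by_contra hodd
      have h1 : ((x ^ (j + ε) * y : (S : Subgroup G)) : G) ∈ K := by
        have : ((x ^ (j + ε) * y : (S : Subgroup G)) : G)
            = ((x ^ j : (S : Subgroup G)) : G) * ((x ^ ε * y : (S : Subgroup G)) : G) := by
          rw [← Subgroup.coe_mul, QD.mul_x_xy]
        rw [this]
        exact K.mul_mem hjK (hin ε (by simp))
      exact hout' (j + ε) (by omega) h1
    · rintro ⟨c, rfl⟩
      have := Subgroup.mul_self_mem_of_index_two hK ((x ^ c : (S : Subgroup G)) : G)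
      rw [← Subgroup.coe_mul, ← zpow_add] at this
      have e : c + c = 2 * c := by ring
      rw [e] at this
      exact this
  · intro j
    constructor
    · intro hjK
      by_contra hodd
      exact hout' j hodd hjK
    · exact hin j

theorem KData.inf_eq {h : QD (S : Subgroup G) q x y} {K : Subgroup G} {ε : ℤ}
    (hKd : KData S h K ε) :
    (S : Subgroup G) ⊓ K = (h.maxSub ε).map (S : Subgroup G).subtype := by
  ext g
  rw [Subgroup.mem_inf]
  constructor
  · rintro ⟨hgS, hgK⟩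
    rcases h.coe_cases hgS with ⟨j, rfl⟩ | ⟨j, rfl⟩
    · rw [h.coe_x_mem_maxSub_map]; exact (hKd.mem_x j).mp hgK
    · rw [h.coe_xy_mem_maxSub_map]; exact (hKd.mem_xy j).mp hgK
  · intro hg
    have hgS := h.maxSub_map_le S ε hg
    refine ⟨hgS, ?_⟩
    rcases h.coe_cases hgS with ⟨j, rfl⟩ | ⟨j, rfl⟩
    · rw [h.coe_x_mem_maxSub_map] at hg; exact (hKd.mem_x j).mpr hg
    · rw [h.coe_xy_mem_maxSub_map] at hg; exact (hKd.mem_xy j).mpr hg

/-- Sylow `2`-subgroups of `K` are isomorphic to `maxSub ε` -/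
theorem KData.sylow_equiv {h : QD (S : Subgroup G) q x y} {K : Subgroup G} {ε : ℤ}
    (hKd : KData S h K ε) (P : Sylow 2 K) : Nonempty ((P : Subgroup K) ≃* h.maxSub ε) := by
  haveI := hKd.normal
  obtain ⟨k, hkK, hP⟩ := sylow_of_normal_index_two S K hKd.index P
  have hle : ((S : Subgroup G) ⊓ K).map (MulAut.conj k).toMonoidHom ≤ K := by
    rintro _ ⟨t, ht, rfl⟩
    exact hKd.normal.conj_mem t ht.2 k
  have e1 := MulEquiv.subgroupCongr hP
  have e2 := Subgroup.subgroupOfEquivOfLe hle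
  have e3 := ((S : Subgroup G) ⊓ K).equivMapOfInjective (MulAut.conj k).toMonoidHom
    (MulAut.conj k).injective
  have e4 := MulEquiv.subgroupCongr hKd.inf_eq
  have e5 := (h.maxSub ε).equivMapOfInjective (S : Subgroup G).subtype
    (Subgroup.subtype_injective _)
  exact ⟨((e1.trans e2).trans e3.symm).trans (e4.trans e5.symm)⟩

/-- fusion inside `K` -/
theorem QD.K_fusion (h : QD (S : Subgroup G) q x y) (K : Subgroup G) [hKn : K.Normal]
    (hK : K.index = 2) (m₀ : ℤ) (hm₀ : 2 ∣ m₀) (r : G) (hrS : r ∈ (S : Subgroup G)) (hrK : r ∉ K)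
    (i₀ : ℤ) (hfuse : IsConj ((x ^ i₀ * y : (S : Subgroup G)) : G)
      ((x ^ m₀ : (S : Subgroup G)) : G)) :
    ∀ i : ℤ, 2 ∣ i - i₀ → ∃ k ∈ K, k * ((x ^ m₀ : (S : Subgroup G)) : G) * k⁻¹
      = ((x ^ i * y : (S : Subgroup G)) : G) := by
  obtain ⟨w, hw⟩ := isConj_iff.mp hfuse.symm
  set c₀ : G := ((x ^ m₀ : (S : Subgroup G)) : G) with hc₀
  have step1 : ∃ k ∈ K, ∃ i₁ : ℤ, 2 ∣ i₁ - i₀ ∧
      k * c₀ * k⁻¹ = ((x ^ i₁ * y : (S : Subgroup G)) : G) := by
    by_cases hwK : w ∈ K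
    · exact ⟨w, hwK, i₀, by simp, hw⟩
    · have hwr : w * r ∈ K := mul_mem_of_index_two hK hwK hrK
      rcases h.coe_cases hrS with ⟨a, ha⟩ | ⟨a, ha⟩
      · refine ⟨w * r, hwr, i₀, by simp, ?_⟩
        have hcomm : r * c₀ * r⁻¹ = c₀ := by
          rw [ha, hc₀, ← Subgroup.coe_inv, ← Subgroup.coe_mul, ← Subgroup.coe_mul]
          congr 1
          rw [← zpow_neg, ← zpow_add, ← zpow_add]
          congr 1
          ring
        calc (w * r) * c₀ * (w * r)⁻¹ = w * (r * c₀ * r⁻¹) * w⁻¹ := by group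
          _ = _ := by rw [hcomm, hw]
      · have hinv : r * c₀ * r⁻¹ = c₀⁻¹ := by
          rw [ha, hc₀, ← Subgroup.coe_inv, ← Subgroup.coe_mul, ← Subgroup.coe_mul, h.conj_xy_x,
            ← Subgroup.coe_inv, ← zpow_neg]
          congr 1
          rw [h.zpow_eq_iff]
          obtain ⟨c, hc⟩ := hm₀
          exact ⟨c, by rw [hc]; ring⟩
        refine ⟨w * r, hwr, -(4 * q - 1) * i₀, ⟨-2 * q * i₀, by ring⟩, ?_⟩
        calc (w * r) * c₀ * (w * r)⁻¹ = w * (r * c₀ * r⁻¹) * w⁻¹ := by group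
          _ = w * c₀⁻¹ * w⁻¹ := by rw [hinv]
          _ = (w * c₀ * w⁻¹)⁻¹ := by group
          _ = (((x ^ i₀ * y : (S : Subgroup G)) : G))⁻¹ := by rw [hw]
          _ = _ := by rw [← Subgroup.coe_inv, h.inv_xy]
  obtain ⟨k, hkK, i₁, hi₁, hk⟩ := step1
  intro i hi
  have hd : (2 : ℤ) ∣ i₁ - i := by omega
  obtain ⟨d, hd⟩ := hd
  set m : ℤ := -(1 + 2 * q) * d with hm
  refine ⟨((x ^ m : (S : Subgroup G)) : G) * k * ((x ^ m : (S : Subgroup G)) : G)⁻¹,
    hKn.conj_mem k hkK _, ?_⟩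
  have hcomm : ((x ^ m : (S : Subgroup G)) : G)⁻¹ * c₀ * ((x ^ m : (S : Subgroup G)) : G) = c₀ := by
    rw [hc₀, ← Subgroup.coe_inv, ← Subgroup.coe_mul, ← Subgroup.coe_mul]
    congr 1
    rw [← zpow_neg, ← zpow_add, ← zpow_add]
    congr 1
    ring
  calc ((x ^ m : (S : Subgroup G)) : G) * k * ((x ^ m : (S : Subgroup G)) : G)⁻¹ * c₀ *
        (((x ^ m : (S : Subgroup G)) : G) * k * ((x ^ m : (S : Subgroup G)) : G)⁻¹)⁻¹
      = ((x ^ m : (S : Subgroup G)) : G) * (k * (((x ^ m : (S : Subgroup G)) : G)⁻¹ * c₀ *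
        ((x ^ m : (S : Subgroup G)) : G)) * k⁻¹) * ((x ^ m : (S : Subgroup G)) : G)⁻¹ := by group
    _ = ((x ^ m : (S : Subgroup G)) : G) * ((x ^ i₁ * y : (S : Subgroup G)) : G) *
        ((x ^ m : (S : Subgroup G)) : G)⁻¹ := by rw [hcomm, hk]
    _ = _ := by
      rw [← Subgroup.coe_inv, ← Subgroup.coe_mul, ← Subgroup.coe_mul, h.conj_x_xy]
      congr 2
      rw [h.zpow_eq_iff]
      refine ⟨q * d, ?_⟩
      have : i₁ = i + 2 * d := by omega
      rw [this, hm]; ring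

/-- a normal subgroup `K` of index two in which the elements `x^i y ∈ K` are fused to an even
power of `x` has no subgroup of index two -/
theorem KData.no_index_two {h : QD (S : Subgroup G) q x y} {K : Subgroup G} {ε : ℤ}
    (hKd : KData S h K ε) (m₀ : ℤ) (hm₀ : 2 ∣ m₀)
    (hfuse : ∀ i : ℤ, 2 ∣ i - ε → ∃ k ∈ K, k * ((x ^ m₀ : (S : Subgroup G)) : G) * k⁻¹
      = ((x ^ i * y : (S : Subgroup G)) : G)) :
    ∀ H : Subgroup K, H.index ≠ 2 := by
  intro H hH
  haveI := hKd.normal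
  obtain ⟨hsq, hconj, hmul⟩ := index_two_sub_facts K H hH
  set HG := H.map K.subtype with hHG
  have hxK : ∀ j : ℤ, 2 ∣ j → ((x ^ j : (S : Subgroup G)) : G) ∈ K :=
    fun j hj => (hKd.mem_x j).mpr hj
  have hxyK : ∀ j : ℤ, 2 ∣ j - ε → ((x ^ j * y : (S : Subgroup G)) : G) ∈ K :=
    fun j hj => (hKd.mem_xy j).mpr hj
  set c₀ : G := ((x ^ m₀ : (S : Subgroup G)) : G) with hc₀
  have hiff : ∀ i : ℤ, 2 ∣ i - ε → (c₀ ∈ HG ↔ ((x ^ i * y : (S : Subgroup G)) : G) ∈ HG) := by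
    intro i hi
    obtain ⟨k, hkK, hk⟩ := hfuse i hi
    constructor
    · intro hc
      rw [← hk]; exact hconj c₀ hc k hkK
    · intro hc
      have : c₀ = k⁻¹ * ((x ^ i * y : (S : Subgroup G)) : G) * k⁻¹⁻¹ := by
        rw [← hk]; group
      rw [this]
      exact hconj _ hc k⁻¹ (K.inv_mem hkK)
  by_cases hc : c₀ ∈ HG
  · have hv : ∀ i : ℤ, 2 ∣ i - ε → ((x ^ i * y : (S : Subgroup G)) : G) ∈ HG :=
      fun i hi => (hiff i hi).mp hc
    have e1 : ((x ^ (ε + (4 * q - 1) * (ε + 2)) : (S : Subgroup G)) : G) ∈ HG := by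
      have := HG.mul_mem (hv ε (by simp)) (hv (ε + 2) (by simp))
      rw [← Subgroup.coe_mul, h.mul_xy_xy] at this
      exact this
    have e4 : ∀ a : ℤ, ((x ^ (4 * a) : (S : Subgroup G)) : G) ∈ HG := by
      intro a
      have := hsq _ (hxK (2 * a) ⟨a, rfl⟩)
      rw [← Subgroup.coe_mul, ← zpow_add] at this
      have e : 2 * a + 2 * a = 4 * a := by ring
      rw [e] at this
      exact this
    have e2 : ((x ^ (-2 : ℤ) : (S : Subgroup G)) : G) ∈ HG := by
      have := HG.mul_mem e1 (e4 (-(q * ε + 2 * q)))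
      rw [← Subgroup.coe_mul, ← zpow_add] at this
      have e : ε + (4 * q - 1) * (ε + 2) + 4 * -(q * ε + 2 * q) = -2 := by ring
      rw [e] at this
      exact this
    have hxH : ∀ j : ℤ, 2 ∣ j → ((x ^ j : (S : Subgroup G)) : G) ∈ HG := by
      rintro j ⟨c, rfl⟩
      have : ((x ^ (2 * c) : (S : Subgroup G)) : G)
          = ((x ^ (-2 : ℤ) : (S : Subgroup G)) : G) ^ (-c) := by
        rw [← Subgroup.coe_zpow, ← zpow_mul]
        congr 2
        ring
      rw [this]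
      exact HG.zpow_mem e2 _
    have hxyH : ∀ j : ℤ, 2 ∣ j - ε → ((x ^ j * y : (S : Subgroup G)) : G) ∈ HG := hv
    have hSK : ∀ g : G, g ∈ (S : Subgroup G) → g ∈ K → g ∈ HG := by
      intro g hgS hgK
      rcases h.coe_cases hgS with ⟨j, rfl⟩ | ⟨j, rfl⟩
      · exact hxH j ((hKd.mem_x j).mp hgK)
      · exact hxyH j ((hKd.mem_xy j).mp hgK)
    obtain ⟨P⟩ := (inferInstance : Nonempty (Sylow 2 K))
    obtain ⟨k, hkK, hP⟩ := sylow_of_normal_index_two S K hKd.index P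
    have hPH : (P : Subgroup K) ≤ H := by
      intro t ht
      rw [hP, Subgroup.mem_subgroupOf] at ht
      obtain ⟨t', ht', htt'⟩ := ht
      have h1 : t' ∈ HG := hSK t' ht'.1 ht'.2
      have h2 : k * t' * k⁻¹ ∈ HG := hconj t' h1 k hkK
      have h3 : (t : G) ∈ HG := by
        rw [← htt']
        exact h2
      obtain ⟨t'', ht'', htt''⟩ := h3
      have : t'' = t := Subtype.ext htt''
      rw [← this]; exact ht''
    exact sylow_not_le_of_index_two P H hH hPH
  · have hc₀K : c₀ ∈ K := hxK m₀ hm₀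
    have hvn : ((x ^ ε * y : (S : Subgroup G)) : G) ∉ HG := fun hv =>
      hc ((hiff ε (by simp)).mpr hv)
    have hprod := hmul c₀ hc₀K _ (hxyK ε (by simp)) hc hvn
    rw [hc₀, ← Subgroup.coe_mul, QD.mul_x_xy] at hprod
    exact hc ((hiff (m₀ + ε) (by omega)).mpr hprod)

end

end Cfsg.Agent.Lib.Helper20
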