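import Mathlib
import Cfsg.Prelude.Def_LieRecognition

set_option autoImplicit false

namespace Cfsg.Agent.Lib.Helper20

variable {G Ω : Type*} [Group G] [MulAction G Ω] {a : Ω} {t : G} {Q : Subgroup G}

theorem rankOne_t_inv (hS : Cfsg.IsRankOneSetup G Ω a t Q) : t⁻¹ = t :=
  inv_eq_of_mul_eq_one_right hS.mul_self

/-- `t` normalizes the two-point stabiliser -/
theorem rankOne_conj_mem_D (hS : Cfsg.IsRankOneSetup G Ω a t Q) {h : G}
    (hh : h ∈ MulAction.stabilizer G a ⊓ MulAction.stabilizer G (t • a)) :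
    t * h * t ∈ MulAction.stabilizer G a ⊓ MulAction.stabilizer G (t • a) := by
  obtain ⟨h1, h2⟩ := Subgroup.mem_inf.mp hh
  rw [MulAction.mem_stabilizer_iff] at h1 h2
  have htt : t • t • a = a := by rw [← mul_smul, hS.mul_self, one_smul]
  refine Subgroup.mem_inf.mpr ⟨?_, ?_⟩
  · rw [MulAction.mem_stabilizer_iff, mul_smul, mul_smul, h2, htt]
  · rw [MulAction.mem_stabilizer_iff, mul_smul, mul_smul, htt, h1]

/-- uniqueness of the canonical form `g h t f` -/
theorem rankOne_unique (hS : Cfsg.IsRankOneSetup G Ω a t Q)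
    {g h f g' h' f' : G} (hg : g ∈ Q)
    (hh : h ∈ MulAction.stabilizer G a ⊓ MulAction.stabilizer G (t • a)) (hf : f ∈ Q)
    (hg' : g' ∈ Q)
    (hh' : h' ∈ MulAction.stabilizer G a ⊓ MulAction.stabilizer G (t • a)) (hf' : f' ∈ Q)
    (e : g * h * t * f = g' * h' * t * f') : g = g' ∧ h = h' ∧ f = f' := by
  have hti := rankOne_t_inv hS
  have hD_le : MulAction.stabilizer G a ⊓ MulAction.stabilizer G (t • a) ≤ MulAction.stabilizer G a :=
    inf_le_left
  have hQa := hS.le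
  -- (g' h')⁻¹ (g h) = t f' f⁻¹ t
  have e1 : (g' * h')⁻¹ * (g * h) = t * (f' * f⁻¹) * t := by
    have : g * h = g' * h' * t * f' * f⁻¹ * t⁻¹ := by
      rw [← e]; group
    rw [this, hti]; group
  have h1 : (g' * h')⁻¹ * (g * h) ∈ MulAction.stabilizer G a :=
    Subgroup.mul_mem _ (Subgroup.inv_mem _ (Subgroup.mul_mem _ (hQa hg') (hD_le hh')))
      (Subgroup.mul_mem _ (hQa hg) (hD_le hh))
  rw [e1, MulAction.mem_stabilizer_iff, mul_smul, mul_smul] at h1
  have h2 : f' * f⁻¹ ∈ MulAction.stabilizer G (t • a) := by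
    rw [MulAction.mem_stabilizer_iff]
    have := congrArg (fun w => t • w) h1
    simp only [← mul_smul] at this ⊢
    have e2 : t * (t * (f' * f⁻¹ * t)) = f' * f⁻¹ * t := by
      rw [← mul_assoc, hS.mul_self, one_mul]
    rw [e2] at this
    exact this
  have h3 : f' * f⁻¹ ∈ Q ⊓ MulAction.stabilizer G (t • a) :=
    Subgroup.mem_inf.mpr ⟨Q.mul_mem hf' (Q.inv_mem hf), h2⟩
  rw [hS.inf_eq_bot, Subgroup.mem_bot] at h3
  have hff : f = f' := by
    have := mul_inv_eq_one.mp h3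
    exact this.symm
  subst hff
  have e3 : g * h = g' * h' := by
    have := congrArg (fun w => w * f⁻¹ * t⁻¹) e
    simpa [mul_assoc] using this
  have h4 : g'⁻¹ * g = h' * h⁻¹ := by
    have : g = g' * h' * h⁻¹ := by rw [← e3]; group
    rw [this]; group
  have h5 : g'⁻¹ * g ∈ Q ⊓ MulAction.stabilizer G (t • a) := by
    refine Subgroup.mem_inf.mpr ⟨Q.mul_mem (Q.inv_mem hg') hg, ?_⟩
    rw [h4]
    exact Subgroup.mul_mem _ (Subgroup.mem_inf.mp hh').2 (Subgroup.inv_mem _ (Subgroup.mem_inf.mp hh).2)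
  rw [hS.inf_eq_bot, Subgroup.mem_bot] at h5
  have hgg : g = g' := (inv_mul_eq_one.mp h5).symm
  subst hgg
  exact ⟨rfl, mul_left_cancel e3, rfl⟩

end Cfsg.Agent.Lib.Helper20
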