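import Mathlib
import Cfsg.Agent.S1193
import Cfsg.Prelude.Def_Transfer
import Cfsg.Agent.Lib.Helper20.QDIndexTwo

set_option autoImplicit false
set_option linter.style.haveILetI false
set_option linter.unusedSimpArgs false
set_option linter.unusedSectionVars false

namespace Cfsg.Agent.Lib.Helper20

namespace S1213QD

/-- transport of quasidihedral data along an isomorphism -/
theorem QD.of_equiv {S S' : Type*} [Group S] [Group S'] {q : ℕ} {x y : S} (h : QD S q x y)
    (e : S ≃* S') : QD S' q (e x) (e y) := by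
  refine ⟨h.hq, ?_, ?_, ?_, ?_⟩
  · rw [← Nat.card_congr e.toEquiv]; exact h.card
  · rw [MulEquiv.orderOf_eq]; exact h.ox
  · rw [MulEquiv.orderOf_eq]; exact h.oy
  · rw [← map_inv, ← map_mul, ← map_mul, h.rel, map_zpow]

section

variable {G : Type*} [Group G] [Finite G]

/-- the normal subgroup of index two with generalized quaternion Sylow subgroups -/
theorem exists_K_quat (S : Sylow 2 G) {k : ℕ} {x y : (S : Subgroup G)}
    (h : QD (S : Subgroup G) (2 ^ k) x y)
    (hnf2 : ∀ j : ℤ, 2 ∣ j → ¬ IsConj ((x ^ j * y : (S : Subgroup G)) : G)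
      ((x ^ (4 * (2 ^ k : ℕ) : ℤ) : (S : Subgroup G)) : G))
    (hf4 : ∀ j : ℤ, ¬ 2 ∣ j → IsConj ((x ^ j * y : (S : Subgroup G)) : G)
      ((x ^ (2 * (2 ^ k : ℕ) : ℤ) : (S : Subgroup G)) : G)) :
    ∃ K : Subgroup G, K.Normal ∧ K.index = 2 ∧
      (∀ P : Sylow 2 ↥K, ∃ m : ℕ, 1 ≤ m ∧ Nonempty ((P : Subgroup ↥K) ≃* QuaternionGroup (2 ^ m))) ∧
      (∀ H : Subgroup ↥K, H.index ≠ 2) := by
  set q := 2 ^ k with hqdef
  obtain ⟨K, hKn, hK, hyK⟩ := h.exists_K_of_not_fuse_invol S hnf2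
  haveI := hKn
  have hu : ((x ^ (2 * q : ℤ) : (S : Subgroup G)) : G) ∈ K := by
    have := Subgroup.mul_self_mem_of_index_two hK ((x ^ (q : ℤ) : (S : Subgroup G)) : G)
    rw [← Subgroup.coe_mul, ← zpow_add] at this
    have e : (q : ℤ) + q = 2 * q := by ring
    rw [e] at this
    exact this
  have hKd : KData S h K 1 := h.kdata_of S K hK 1
    (fun j hj => mem_of_isConj_of_index_two hK hu (hf4 j (by omega)).symm)
    ⟨0, by norm_num, hyK⟩
  refine ⟨K, hKn, hK, ?_, ?_⟩
  · intro P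
    obtain ⟨e1⟩ := hKd.sylow_equiv S P
    obtain ⟨e2⟩ := h.maxSub_one_equiv
    refine ⟨k + 1, by omega, ⟨?_⟩⟩
    have : 2 ^ (k + 1) = 2 * q := by rw [hqdef]; ring
    rw [this]
    exact e1.trans e2
  · apply hKd.no_index_two S (2 * q : ℤ) ⟨q, rfl⟩
    exact h.K_fusion S K hK (2 * q : ℤ) ⟨q, rfl⟩ _ (SetLike.coe_mem _) hyK 1 (hf4 1 (by norm_num))

/-- without subgroups of index two, involutions and elements of order 4 fuse -/
theorem fuse_of_no_index_two (S : Sylow 2 G) {q : ℕ} {x y : (S : Subgroup G)}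
    (h : QD (S : Subgroup G) q x y) (hG : ∀ H : Subgroup G, H.index ≠ 2) :
    (∀ j : ℤ, 2 ∣ j → IsConj ((x ^ j * y : (S : Subgroup G)) : G)
      ((x ^ (4 * q : ℤ) : (S : Subgroup G)) : G)) ∧
    (∀ j : ℤ, ¬ 2 ∣ j → IsConj ((x ^ j * y : (S : Subgroup G)) : G)
      ((x ^ (2 * q : ℤ) : (S : Subgroup G)) : G)) := by
  constructor
  · by_contra hcon
    push Not at hcon
    obtain ⟨j₀, hj₀, hnc⟩ := hcon
    have hnf : ∀ j : ℤ, 2 ∣ j → ¬ IsConj ((x ^ j * y : (S : Subgroup G)) : G)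
        ((x ^ (4 * q : ℤ) : (S : Subgroup G)) : G) := by
      intro j hj hc
      apply hnc
      exact (h.isConj_coe_xy (by omega)).trans hc
    obtain ⟨K, -, hK, -⟩ := h.exists_K_of_not_fuse_invol S hnf
    exact hG K hK
  · by_contra hcon
    push Not at hcon
    obtain ⟨j₀, hj₀, hnc⟩ := hcon
    have hnf : ∀ j : ℤ, ¬ 2 ∣ j → ¬ IsConj ((x ^ j * y : (S : Subgroup G)) : G)
        ((x ^ (2 * q : ℤ) : (S : Subgroup G)) : G) := by
      intro j hj hc
      apply hnc
      exact (h.isConj_coe_xy (by omega)).trans hc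
    obtain ⟨K, -, hK, -⟩ := h.exists_K_of_not_fuse_order4 S hnf
    exact hG K hK

/-- the quasidihedral half of the centralizer-of-involution theorem -/
theorem qd_half (S : Sylow 2 G) (hS : Cfsg.IsQuasiDihedral (S : Subgroup G))
    (hG : ∀ H : Subgroup G, H.index ≠ 2) (t : G) (ht : orderOf t = 2) :
    ∃ R : Sylow 2 ↥(Subgroup.centralizer ({t} : Set G)), Nat.card R = Nat.card S ∧
      (∃ K : Subgroup ↥(Subgroup.centralizer ({t} : Set G)), K.Normal ∧ (∃ a : ℕ, K.index = 2 ^ a) ∧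
        (∀ H : Subgroup ↥K, H.index ≠ 2) ∧
        (∀ P : Sylow 2 ↥K, ∃ m : ℕ, 1 ≤ m ∧
          Nonempty ((P : Subgroup ↥K) ≃* QuaternionGroup (2 ^ m)))) ∧
      (∀ Z₀ : Subgroup ↥(Subgroup.centralizer ({t} : Set G)),
        Z₀ ≤ ((Subgroup.center (R : Subgroup ↥(Subgroup.centralizer ({t} : Set G)))).map
          (R : Subgroup ↥(Subgroup.centralizer ({t} : Set G))).subtype) →
        Cfsg.IsWeaklyClosed Z₀ (R : Subgroup ↥(Subgroup.centralizer ({t} : Set G)))) := by
  obtain ⟨k, x, y, h, -⟩ := exists_QD_of_isQuasiDihedral hS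
  obtain ⟨hf2, -⟩ := fuse_of_no_index_two S h hG
  set z : G := ((x ^ (4 * (2 ^ k : ℕ) : ℤ) : (S : Subgroup G)) : G) with hz
  have hconj : ∃ g : G, g * z * g⁻¹ = t := by
    obtain ⟨c, hc⟩ := exists_conj_mem_sylow S t 1 (by simpa using ht)
    have ho : orderOf (c * t * c⁻¹) = 2 := by rw [orderOf_conj', ht]
    rcases h.coe_invol hc ho with h1 | ⟨j, hj, h1⟩
    · refine ⟨c⁻¹, ?_⟩
      rw [hz, ← h1]
      group
    · obtain ⟨w, hw⟩ := isConj_iff.mp (hf2 j hj)
      refine ⟨(w * c)⁻¹, ?_⟩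
      rw [← hw, ← h1]
      group
  obtain ⟨g, hg⟩ := hconj
  set S' : Sylow 2 G := g • S with hS'
  have hS'coe : (S' : Subgroup G) = (S : Subgroup G).map (MulAut.conj g).toMonoidHom :=
    sylow_smul_coe S g
  let e₁ : (S : Subgroup G) ≃* (S' : Subgroup G) :=
    ((S : Subgroup G).equivMapOfInjective (MulAut.conj g).toMonoidHom
      (MulAut.conj g).injective).trans (MulEquiv.subgroupCongr hS'coe.symm)
  have he₁ : ∀ s : (S : Subgroup G), ((e₁ s : (S' : Subgroup G)) : G) = g * (s : G) * g⁻¹ :=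
    fun s => rfl
  have h' : QD (S' : Subgroup G) (2 ^ k) (e₁ x) (e₁ y) := QD.of_equiv h e₁
  have hz' : (((e₁ x) ^ (4 * (2 ^ k : ℕ) : ℤ) : (S' : Subgroup G)) : G) = t := by
    rw [← map_zpow, he₁, ← hg]
  obtain ⟨-, hf4'⟩ := fuse_of_no_index_two S' h' hG
  have hle : (S' : Subgroup G) ≤ Subgroup.centralizer ({t} : Set G) := by
    intro s hs
    rw [Subgroup.mem_centralizer_iff]
    intro u hu
    rw [Set.mem_singleton_iff] at hu
    subst hu
    have h1 := h'.central ⟨s, hs⟩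
    have h2 := congrArg Subtype.val h1
    simp only [Subgroup.coe_mul] at h2
    rw [hz'] at h2
    exact h2.symm
  set R : Sylow 2 ↥(Subgroup.centralizer ({t} : Set G)) := S'.subtype hle with hR
  have hRcoe : (R : Subgroup ↥(Subgroup.centralizer ({t} : Set G))) =
      (S' : Subgroup G).subgroupOf (Subgroup.centralizer ({t} : Set G)) := Sylow.coe_subtype _ _
  let e₂ : (S' : Subgroup G) ≃* (R : Subgroup ↥(Subgroup.centralizer ({t} : Set G))) :=
    (Subgroup.subgroupOfEquivOfLe hle).symm.trans (MulEquiv.subgroupCongr hRcoe.symm)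
  have he₂ : ∀ s : (S' : Subgroup G),
      (((e₂ s : (R : Subgroup ↥(Subgroup.centralizer ({t} : Set G)))) :
        ↥(Subgroup.centralizer ({t} : Set G))) : G) = (s : G) := fun s => rfl
  have hR' : QD (R : Subgroup ↥(Subgroup.centralizer ({t} : Set G))) (2 ^ k) (e₂ (e₁ x))
      (e₂ (e₁ y)) := QD.of_equiv h' e₂
  refine ⟨R, ?_, ?_, ?_⟩
  · exact (Nat.card_congr (e₁.trans e₂).toEquiv).symm
  · -- the element `t` in the centralizer
    have htC : t ∈ Subgroup.centralizer ({t} : Set G) := by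
      rw [Subgroup.mem_centralizer_iff]
      intro u hu
      rw [Set.mem_singleton_iff] at hu
      rw [hu]
    have hzR : (((e₂ (e₁ x)) ^ (4 * (2 ^ k : ℕ) : ℤ) :
        (R : Subgroup ↥(Subgroup.centralizer ({t} : Set G)))) :
        ↥(Subgroup.centralizer ({t} : Set G))) = ⟨t, htC⟩ := by
      apply Subtype.ext
      rw [← map_zpow, he₂]
      exact hz'
    have hcent : ∀ c : ↥(Subgroup.centralizer ({t} : Set G)),
        c * ⟨t, htC⟩ = ⟨t, htC⟩ * c := by
      intro c
      apply Subtype.ext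
      have := Subgroup.mem_centralizer_iff.mp c.2 t (Set.mem_singleton t)
      exact this.symm
    have hnf2 : ∀ j : ℤ, 2 ∣ j → ¬ IsConj
        ((((e₂ (e₁ x)) ^ j * e₂ (e₁ y) : (R : Subgroup ↥(Subgroup.centralizer ({t} : Set G)))) :
          ↥(Subgroup.centralizer ({t} : Set G))))
        ((((e₂ (e₁ x)) ^ (4 * (2 ^ k : ℕ) : ℤ) :
          (R : Subgroup ↥(Subgroup.centralizer ({t} : Set G)))) :
          ↥(Subgroup.centralizer ({t} : Set G)))) := by
      intro j hj hc
      obtain ⟨c, hc⟩ := isConj_iff.mp hc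
      rw [hzR] at hc
      have h1 : ((((e₂ (e₁ x)) ^ j * e₂ (e₁ y) :
          (R : Subgroup ↥(Subgroup.centralizer ({t} : Set G)))) :
          ↥(Subgroup.centralizer ({t} : Set G)))) = ⟨t, htC⟩ := by
        have h2 : ∀ a : ↥(Subgroup.centralizer ({t} : Set G)), c * a * c⁻¹ = ⟨t, htC⟩ →
            a = ⟨t, htC⟩ := by
          intro a ha
          calc a = c⁻¹ * (c * a * c⁻¹) * c := by group
            _ = c⁻¹ * (⟨t, htC⟩ * c) := by rw [ha, mul_assoc]
            _ = c⁻¹ * (c * ⟨t, htC⟩) := by rw [hcent c]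
            _ = ⟨t, htC⟩ := by group
        exact h2 _ hc
      rw [← hzR] at h1
      exact hR'.coe_xy_ne_coe_x j _ h1
    have hf4 : ∀ j : ℤ, ¬ 2 ∣ j → IsConj
        ((((e₂ (e₁ x)) ^ j * e₂ (e₁ y) : (R : Subgroup ↥(Subgroup.centralizer ({t} : Set G)))) :
          ↥(Subgroup.centralizer ({t} : Set G))))
        ((((e₂ (e₁ x)) ^ (2 * (2 ^ k : ℕ) : ℤ) :
          (R : Subgroup ↥(Subgroup.centralizer ({t} : Set G)))) :
          ↥(Subgroup.centralizer ({t} : Set G)))) := by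
      intro j hj
      obtain ⟨w, hw⟩ := isConj_iff.mp (hf4' j hj)
      have ha2 : (((e₁ x) ^ j * e₁ y : (S' : Subgroup G)) : G) *
          (((e₁ x) ^ j * e₁ y : (S' : Subgroup G)) : G) = t := by
        rw [← Subgroup.coe_mul, h'.xy_mul_self_odd hj]
        exact hz'
      have hb2 : (((e₁ x) ^ (2 * (2 ^ k : ℕ) : ℤ) : (S' : Subgroup G)) : G) *
          (((e₁ x) ^ (2 * (2 ^ k : ℕ) : ℤ) : (S' : Subgroup G)) : G) = t := by
        rw [← Subgroup.coe_mul, h'.x2q_mul_self]
        exact hz'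
      have hwt : w * t * w⁻¹ = t := by
        rw [← ha2]
        calc w * ((((e₁ x) ^ j * e₁ y : (S' : Subgroup G)) : G) *
              (((e₁ x) ^ j * e₁ y : (S' : Subgroup G)) : G)) * w⁻¹
            = (w * (((e₁ x) ^ j * e₁ y : (S' : Subgroup G)) : G) * w⁻¹) *
              (w * (((e₁ x) ^ j * e₁ y : (S' : Subgroup G)) : G) * w⁻¹) := by
              simp only [mul_assoc, inv_mul_cancel_left]
          _ = (((e₁ x) ^ j * e₁ y : (S' : Subgroup G)) : G) *
              (((e₁ x) ^ j * e₁ y : (S' : Subgroup G)) : G) := by rw [hw, hb2, ha2]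
      have hwC : w ∈ Subgroup.centralizer ({t} : Set G) := by
        rw [Subgroup.mem_centralizer_iff]
        intro u hu
        rw [Set.mem_singleton_iff] at hu
        subst hu
        calc u * w = (w * u * w⁻¹) * w := by rw [hwt]
          _ = w * u := by simp only [mul_assoc, inv_mul_cancel, mul_one]
      rw [isConj_iff]
      refine ⟨⟨w, hwC⟩, ?_⟩
      have hcoeA : (((((e₂ (e₁ x)) ^ j * e₂ (e₁ y) :
          (R : Subgroup ↥(Subgroup.centralizer ({t} : Set G)))) :
          ↥(Subgroup.centralizer ({t} : Set G)))) : G) =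
          (((e₁ x) ^ j * e₁ y : (S' : Subgroup G)) : G) := by
        rw [← map_zpow, ← map_mul, he₂]
      have hcoeB : (((((e₂ (e₁ x)) ^ (2 * (2 ^ k : ℕ) : ℤ) :
          (R : Subgroup ↥(Subgroup.centralizer ({t} : Set G)))) :
          ↥(Subgroup.centralizer ({t} : Set G)))) : G) =
          (((e₁ x) ^ (2 * (2 ^ k : ℕ) : ℤ) : (S' : Subgroup G)) : G) := by
        rw [← map_zpow, he₂]
      apply Subtype.ext
      show w * (((((e₂ (e₁ x)) ^ j * e₂ (e₁ y) :
          (R : Subgroup ↥(Subgroup.centralizer ({t} : Set G)))) :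
          ↥(Subgroup.centralizer ({t} : Set G)))) : G) * w⁻¹ = _
      rw [hcoeA, hcoeB]
      exact hw
    obtain ⟨K, hKn, hK, hquat, hno⟩ := exists_K_quat R hR' hnf2 hf4
    exact ⟨K, hKn, ⟨1, by rw [hK, pow_one]⟩, hno, hquat⟩
  · intro Z₀ hZ₀
    have htC : t ∈ Subgroup.centralizer ({t} : Set G) := by
      rw [Subgroup.mem_centralizer_iff]
      intro u hu
      rw [Set.mem_singleton_iff] at hu
      rw [hu]
    have hzR : (((e₂ (e₁ x)) ^ (4 * (2 ^ k : ℕ) : ℤ) :
        (R : Subgroup ↥(Subgroup.centralizer ({t} : Set G)))) :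
        ↥(Subgroup.centralizer ({t} : Set G))) = ⟨t, htC⟩ := by
      apply Subtype.ext
      rw [← map_zpow, he₂]
      exact hz'
    have hcent : ∀ c : ↥(Subgroup.centralizer ({t} : Set G)),
        c * ⟨t, htC⟩ = ⟨t, htC⟩ * c := by
      intro c
      apply Subtype.ext
      have := Subgroup.mem_centralizer_iff.mp c.2 t (Set.mem_singleton t)
      exact this.symm
    -- elements of `Z₀` are central
    have hZc : ∀ w ∈ Z₀, ∀ c : ↥(Subgroup.centralizer ({t} : Set G)), c * w * c⁻¹ = w := by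
      intro w hw c
      obtain ⟨u, hu, rfl⟩ := hZ₀ hw
      rw [Cfsg.Agent.S1193.center_eq hR'] at hu
      obtain ⟨n, rfl⟩ := Subgroup.mem_zpowers_iff.mp hu
      have h1 : ((R : Subgroup ↥(Subgroup.centralizer ({t} : Set G))).subtype
          (((e₂ (e₁ x)) ^ (4 * (2 ^ k : ℕ) : ℤ)) ^ n)) = (⟨t, htC⟩ : ↥(Subgroup.centralizer ({t} : Set G))) ^ n := by
        rw [map_zpow]
        congr 1
      rw [h1]
      have hcc : Commute c (⟨t, htC⟩ : ↥(Subgroup.centralizer ({t} : Set G))) := hcent c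
      have h2 : Commute c ((⟨t, htC⟩ : ↥(Subgroup.centralizer ({t} : Set G))) ^ n) :=
        hcc.zpow_right n
      rw [h2.eq, mul_assoc, mul_inv_cancel, mul_one]
    refine ⟨hZ₀.trans (Subgroup.map_subtype_le _), ?_⟩
    intro c _
    ext u
    rw [mem_map_conj]
    constructor
    · intro hu
      have h1 := hZc _ hu c
      have h2 : c * (c⁻¹ * u * c) * c⁻¹ = u := by group
      rw [h2] at h1
      rw [h1]
      exact hu
    · intro hu
      have h1 := hZc u hu c⁻¹
      rw [inv_inv] at h1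
      rw [h1]
      exact hu

end

end S1213QD

end Cfsg.Agent.Lib.Helper20
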