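import Mathlib

set_option autoImplicit false
set_option linter.style.haveILetI false
set_option linter.unusedSimpArgs false
set_option linter.unusedSectionVars false

/-!
The centraliser of the transvection `1 + E₀₁` in `SL(5,2)`: the centre of any of its Sylow
2-subgroups has at most two elements.
-/

namespace Cfsg.Agent.Lib.Helper20.SL5Trans

open Matrix

abbrev SL5 := Matrix.SpecialLinearGroup (Fin 5) (ZMod 2)

/-- The transvection `1 + E_{ab}` as an element of `SL(5,2)`. -/
def tv (a b : Fin 5) (h : a ≠ b) : SL5 :=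
  ⟨Matrix.transvection a b 1, Matrix.det_transvection_of_ne a b h 1⟩

theorem comm_tv {M : Matrix (Fin 5) (Fin 5) (ZMod 2)} {a b : Fin 5} (_h : a ≠ b)
    (hc : M * Matrix.transvection a b 1 = Matrix.transvection a b 1 * M) :
    (∀ i, i ≠ a → M i a = 0) ∧ (∀ j, j ≠ b → M b j = 0) ∧ M a a = M b b := by
  refine ⟨?_, ?_, ?_⟩
  · intro i hi
    have h1 := congrFun (congrFun hc i) b
    rw [Matrix.mul_transvection_apply_same, Matrix.transvection_mul_apply_of_ne _ _ _ _ hi] at h1
    simpa using h1
  · intro j hj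
    have h1 := congrFun (congrFun hc a) j
    rw [Matrix.mul_transvection_apply_of_ne _ _ _ _ hj, Matrix.transvection_mul_apply_same] at h1
    simpa using h1.symm
  · have h1 := congrFun (congrFun hc a) b
    rw [Matrix.mul_transvection_apply_same, Matrix.transvection_mul_apply_same] at h1
    simpa using h1

theorem zmod2_cases (x : ZMod 2) : x = 0 ∨ x = 1 := by
  revert x; decide

/-- The transvection `s₀ = 1 + E₀₁`. -/
def s0 : SL5 := tv 0 1 (by decide)

/-- The centraliser of `s₀`. -/
abbrev C0 : Subgroup SL5 := Subgroup.centralizer ({s0} : Set SL5)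

theorem mem_C0_iff (g : SL5) : g ∈ C0 ↔ g.1 * Matrix.transvection 0 1 1 = Matrix.transvection 0 1 1 * g.1 := by
  rw [Subgroup.mem_centralizer_iff]
  constructor
  · intro h
    have h1 := h s0 rfl
    have h2 := congrArg Subtype.val h1
    simp only [Matrix.SpecialLinearGroup.coe_mul] at h2
    exact h2.symm
  · intro h x hx
    rw [Set.mem_singleton_iff] at hx
    subst hx
    apply Subtype.ext
    simp only [Matrix.SpecialLinearGroup.coe_mul]
    exact h.symm

theorem C0_entries {g : SL5} (hg : g ∈ C0) :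
    (∀ i, i ≠ 0 → g.1 i 0 = 0) ∧ (∀ j, j ≠ 1 → g.1 1 j = 0) ∧ g.1 0 0 = 1 ∧ g.1 1 1 = 1 := by
  have h := comm_tv (by decide : (0 : Fin 5) ≠ 1) ((mem_C0_iff g).mp hg)
  obtain ⟨h1, h2, h3⟩ := h
  have h00 : g.1 0 0 = 1 := by
    rcases zmod2_cases (g.1 0 0) with h0 | h0
    · exfalso
      have hdet : g.1.det = 0 := by
        apply Matrix.det_eq_zero_of_column_eq_zero 0
        intro i
        by_cases hi : i = 0
        · rw [hi]; exact h0
        · exact h1 i hi
      rw [g.2] at hdet
      exact one_ne_zero hdet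
    · exact h0
  exact ⟨h1, h2, h00, by rw [← h3]; exact h00⟩

/-- The embedding of the middle indices. -/
def emb : Fin 3 → Fin 5 := ![2, 3, 4]

/-- The middle `3 × 3` block. -/
def blk (g : SL5) : Matrix (Fin 3) (Fin 3) (ZMod 2) := fun i j => g.1 (emb i) (emb j)

theorem blk_one : blk 1 = 1 := by
  ext i j
  fin_cases i <;> fin_cases j <;> simp [blk, emb]

theorem blk_mul {g h : SL5} (hg : g ∈ C0) (hh : h ∈ C0) : blk (g * h) = blk g * blk h := by
  obtain ⟨g1, -, -, -⟩ := C0_entries hg
  obtain ⟨-, h2, -, -⟩ := C0_entries hh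
  ext i j
  simp only [blk, Matrix.SpecialLinearGroup.coe_mul, Matrix.mul_apply, Fin.sum_univ_five,
    Fin.sum_univ_three]
  have e1 : g.1 (emb i) 0 = 0 := g1 _ (by fin_cases i <;> simp [emb])
  have e2 : h.1 1 (emb j) = 0 := h2 _ (by fin_cases j <;> simp [emb])
  rw [e1, e2]
  simp [emb]

/-- The block homomorphism on the centraliser. -/
def phi : ↥C0 →* Matrix (Fin 3) (Fin 3) (ZMod 2) where
  toFun g := blk g.1
  map_one' := blk_one
  map_mul' g h := blk_mul g.2 h.2

theorem pow_four_of_params :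
    ∀ a r2 r3 r4 c2 c3 c4 : ZMod 2,
      (!![1, a, r2, r3, r4; 0, 1, 0, 0, 0; 0, c2, 1, 0, 0; 0, c3, 0, 1, 0; 0, c4, 0, 0, 1] :
        Matrix (Fin 5) (Fin 5) (ZMod 2)) ^ 4 = 1 := by
  decide +kernel

theorem ker_pow_four (g : ↥C0) (hg : g ∈ phi.ker) : g ^ 4 = 1 := by
  obtain ⟨g1, g2, g00, g11⟩ := C0_entries g.2
  have hb : blk g.1 = 1 := hg
  have hb' : ∀ i j : Fin 3, g.1.1 (emb i) (emb j) = (1 : Matrix (Fin 3) (Fin 3) (ZMod 2)) i j := by
    intro i j
    have := congrFun (congrFun hb i) j
    exact this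
  have hM : g.1.1 = !![1, g.1.1 0 1, g.1.1 0 2, g.1.1 0 3, g.1.1 0 4; 0, 1, 0, 0, 0;
      0, g.1.1 2 1, 1, 0, 0; 0, g.1.1 3 1, 0, 1, 0; 0, g.1.1 4 1, 0, 0, 1] := by
    ext i j
    fin_cases i <;> fin_cases j
    all_goals first
      | rfl
      | exact g00
      | exact g11
      | exact g1 _ (by decide)
      | exact g2 _ (by decide)
      | exact hb' 0 0
      | exact hb' 0 1
      | exact hb' 0 2
      | exact hb' 1 0
      | exact hb' 1 1
      | exact hb' 1 2
      | exact hb' 2 0
      | exact hb' 2 1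
      | exact hb' 2 2
  apply Subtype.ext
  apply Subtype.ext
  have : ((g ^ 4 : ↥C0) : SL5).1 = g.1.1 ^ 4 := by
    simp [Matrix.SpecialLinearGroup.coe_pow]
  rw [this, hM]
  exact pow_four_of_params _ _ _ _ _ _ _

theorem ker_isPGroup : IsPGroup 2 ↥(phi.ker) := by
  intro g
  refine ⟨2, ?_⟩
  apply Subtype.ext
  have := ker_pow_four g.1 g.2
  simpa using this


theorem tv_mem_C0 (a b : Fin 5) (h : a ≠ b) (ha : a ≠ 1) (hb : b ≠ 0) : tv a b h ∈ C0 := by
  rw [mem_C0_iff]
  revert a b
  decide +kernel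

/-- The transvections of the normal 2-subgroup, as elements of the centraliser. -/
def tvC (a b : Fin 5) (h : a ≠ b) (ha : a ≠ 1) (hb : b ≠ 0) : ↥C0 := ⟨tv a b h, tv_mem_C0 a b h ha hb⟩

theorem tvC_mem_ker (a b : Fin 5) (h : a ≠ b) (ha : a ≠ 1) (hb : b ≠ 0) (hab : a = 0 ∨ b = 1) :
    tvC a b h ha hb ∈ phi.ker := by
  rw [MonoidHom.mem_ker]
  show blk (tv a b h) = 1
  revert a b
  decide +kernel

/-- An element of `SL(5,2)` commuting with the seven transvections of the normal 2-subgroup is
`1` or `s₀`. -/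
theorem eq_one_or_s0 (g : SL5)
    (h : ∀ (a b : Fin 5) (hab : a ≠ b), a ≠ 1 → b ≠ 0 → (a = 0 ∨ b = 1) → g * tv a b hab = tv a b hab * g) :
    g = 1 ∨ g = s0 := by
  have key : ∀ (a b : Fin 5) (hab : a ≠ b), a ≠ 1 → b ≠ 0 → (a = 0 ∨ b = 1) →
      (∀ i, i ≠ a → g.1 i a = 0) ∧ (∀ j, j ≠ b → g.1 b j = 0) ∧ g.1 a a = g.1 b b := by
    intro a b hab ha hb hab'
    apply comm_tv hab
    have := congrArg Subtype.val (h a b hab ha hb hab')
    rw [Matrix.SpecialLinearGroup.coe_mul, Matrix.SpecialLinearGroup.coe_mul] at this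
    exact this
  obtain ⟨k01a, k01b, k01c⟩ := key 0 1 (by decide) (by decide) (by decide) (Or.inl rfl)
  obtain ⟨-, k02b, k02c⟩ := key 0 2 (by decide) (by decide) (by decide) (Or.inl rfl)
  obtain ⟨-, k03b, k03c⟩ := key 0 3 (by decide) (by decide) (by decide) (Or.inl rfl)
  obtain ⟨-, k04b, k04c⟩ := key 0 4 (by decide) (by decide) (by decide) (Or.inl rfl)
  obtain ⟨k21a, -, -⟩ := key 2 1 (by decide) (by decide) (by decide) (Or.inr rfl)
  obtain ⟨k31a, -, -⟩ := key 3 1 (by decide) (by decide) (by decide) (Or.inr rfl)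
  obtain ⟨k41a, -, -⟩ := key 4 1 (by decide) (by decide) (by decide) (Or.inr rfl)
  have h00 : g.1 0 0 = 1 := by
    rcases zmod2_cases (g.1 0 0) with h0 | h0
    · exfalso
      have hdet : g.1.det = 0 := by
        apply Matrix.det_eq_zero_of_column_eq_zero 0
        intro i
        by_cases hi : i = 0
        · rw [hi]; exact h0
        · exact k01a i hi
      rw [g.2] at hdet
      exact one_ne_zero hdet
    · exact h0
  have h11 : g.1 1 1 = 1 := by rw [← k01c]; exact h00
  have h22 : g.1 2 2 = 1 := by rw [← k02c]; exact h00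
  have h33 : g.1 3 3 = 1 := by rw [← k03c]; exact h00
  have h44 : g.1 4 4 = 1 := by rw [← k04c]; exact h00
  rcases zmod2_cases (g.1 0 1) with h01 | h01
  · left
    apply Subtype.ext
    ext i j
    fin_cases i <;> fin_cases j
    all_goals first
      | exact h00
      | exact h11
      | exact h22
      | exact h33
      | exact h44
      | exact h01
      | exact k01a _ (by decide)
      | exact k01b _ (by decide)
      | exact k02b _ (by decide)
      | exact k03b _ (by decide)
      | exact k04b _ (by decide)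
      | exact k21a _ (by decide)
      | exact k31a _ (by decide)
      | exact k41a _ (by decide)
  · right
    apply Subtype.ext
    ext i j
    fin_cases i <;> fin_cases j
    all_goals first
      | exact h00
      | exact h11
      | exact h22
      | exact h33
      | exact h44
      | exact h01
      | exact k01a _ (by decide)
      | exact k01b _ (by decide)
      | exact k02b _ (by decide)
      | exact k03b _ (by decide)
      | exact k04b _ (by decide)
      | exact k21a _ (by decide)
      | exact k31a _ (by decide)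
      | exact k41a _ (by decide)

/-- The centre of a Sylow 2-subgroup of the centraliser of `s₀` is contained in `{1, s₀}`. -/
theorem center_sylow (T : Sylow 2 ↥C0) (x : ↥C0) (hx : ∀ y ∈ T, x * y = y * x) :
    (x : SL5) = 1 ∨ (x : SL5) = s0 := by
  have hle : phi.ker ≤ (T : Subgroup ↥C0) := IsPGroup.le_sylow_of_normal ker_isPGroup T
  apply eq_one_or_s0
  intro a b hab ha hb hab'
  have h1 := hx (tvC a b hab ha hb) (hle (tvC_mem_ker a b hab ha hb hab'))
  exact congrArg Subtype.val h1

end Cfsg.Agent.Lib.Helper20.SL5Trans
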