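import Mathlib
import Cfsg.Agent.Lib.Helper55.Cores

set_option autoImplicit false
set_option linter.style.haveILetI false
set_option linter.unusedSimpArgs false
set_option linter.unusedSectionVars false

namespace Cfsg.Agent.Lib.Helper20

namespace SimpleNormal

variable {X : Type*} [Group X]

/-- conjugation of the normal subgroup `E` by `g`, as an automorphism -/
noncomputable abbrev cj (E : Subgroup X) [E.Normal] (g : X) : MulAut E := MulAut.conjNormal g

theorem cj_mul (E : Subgroup X) [E.Normal] (g h : X) (K : Subgroup E) :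
    (K.map (cj E h).toMonoidHom).map (cj E g).toMonoidHom = K.map (cj E (g * h)).toMonoidHom := by
  rw [Subgroup.map_map]
  congr 1
  ext e
  simp [cj, MulAut.conjNormal_apply, mul_assoc]

theorem cj_one (E : Subgroup X) [E.Normal] (K : Subgroup E) :
    K.map (cj E 1).toMonoidHom = K := by
  have : (cj E 1).toMonoidHom = MonoidHom.id E := by
    ext e
    simp [cj, MulAut.conjNormal_apply]
  rw [this, Subgroup.map_id]

/-- a finite group with trivial odd core, one class of involutions, whose Sylow 2-subgroup is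
non-abelian and contained in every normal subgroup of even order, has a simple normal subgroup
of odd index -/
theorem exists_simple_normal [Finite X] (hO : Cfsg.pPrimeCore 2 X = ⊥) (S : Sylow 2 X)
    (F1 : ∀ s t : X, orderOf s = 2 → orderOf t = 2 → IsConj s t)
    (F2 : ∀ N : Subgroup X, N.Normal → (∃ t ∈ N, orderOf t = 2) → (S : Subgroup X) ≤ N)
    (F3 : ∃ a ∈ (S : Subgroup X), ∃ b ∈ (S : Subgroup X), a * b ≠ b * a) :
    ∃ L : Subgroup X, L.Normal ∧ Odd L.index ∧ IsSimpleGroup L ∧ ¬ IsMulCommutative L := by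
  classical
  haveI : Fact (Nat.Prime 2) := ⟨Nat.prime_two⟩
  obtain ⟨a, ha, b, hb, hab⟩ := F3
  -- an involution
  have hS1 : (S : Subgroup X) ≠ ⊥ := by
    intro h
    rw [h, Subgroup.mem_bot] at ha hb
    rw [ha, hb] at hab
    exact hab rfl
  have h2X : 2 ∣ Nat.card X := by
    obtain ⟨k, hk⟩ := IsPGroup.iff_card.mp S.2
    have hk0 : k ≠ 0 := by
      rintro rfl
      rw [pow_zero] at hk
      exact hS1 ((Subgroup.card_eq_one).mp hk)
    have h1 : 2 ∣ Nat.card S := by rw [hk]; exact dvd_pow_self 2 hk0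
    exact h1.trans (Subgroup.card_subgroup_dvd_card _)
  obtain ⟨z, hz⟩ := exists_prime_orderOf_dvd_card' 2 h2X
  set E : Subgroup X := Subgroup.normalClosure {z} with hE
  haveI hEn : E.Normal := Subgroup.normalClosure_normal
  have hzE : z ∈ E := Subgroup.subset_normalClosure (Set.mem_singleton z)
  have hSE : (S : Subgroup X) ≤ E := F2 E hEn ⟨z, hzE, hz⟩
  have hodd : Odd E.index := by
    have h1 : E.index ∣ (S : Subgroup X).index := Subgroup.index_dvd_of_le hSE
    have h2 : Odd (S : Subgroup X).index := by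
      rw [Nat.odd_iff]
      have := S.not_dvd_index
      omega
    exact Odd.of_dvd_nat h2 h1
  -- every nontrivial normal subgroup contains `E`
  have hmin : ∀ N : Subgroup X, N.Normal → N ≠ ⊥ → E ≤ N := by
    intro N hN hN1
    have h2N : 2 ∣ Nat.card N := by
      by_contra hnd
      have hcop : (Nat.card N).Coprime 2 :=
        (Nat.coprime_comm.mp ((Nat.Prime.coprime_iff_not_dvd Nat.prime_two).mpr hnd))
      have : N ≤ Cfsg.pPrimeCore 2 X := le_sSup ⟨hN, hcop⟩
      rw [hO] at this
      exact hN1 (le_bot_iff.mp this)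
    obtain ⟨t, ht⟩ := exists_prime_orderOf_dvd_card' 2 h2N
    have ht' : orderOf (t : X) = 2 := by rw [Subgroup.orderOf_coe]; exact ht
    obtain ⟨c, hc⟩ := isConj_iff.mp (F1 (t : X) z ht' hz)
    apply Subgroup.normalClosure_le_normal
    rw [Set.singleton_subset_iff, SetLike.mem_coe, ← hc]
    exact hN.conj_mem _ t.2 c
  have hnc : ¬ IsMulCommutative E := by
    intro hc
    apply hab
    have := hc.is_comm.comm (⟨a, hSE ha⟩ : E) ⟨b, hSE hb⟩
    exact congrArg Subtype.val this
  refine ⟨E, hEn, hodd, ?_, hnc⟩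
  -- simplicity
  set 𝒦 : Set (Subgroup E) := {K | K.Normal ∧ K ≠ ⊥} with h𝒦
  have hEnt : Nontrivial E := ⟨⟨⟨z, hzE⟩, 1, by
    intro h
    have h1 : z = 1 := congrArg Subtype.val h
    rw [h1, orderOf_one] at hz
    omega⟩⟩
  have htop : (⊤ : Subgroup E) ∈ 𝒦 := ⟨inferInstance, top_ne_bot⟩
  obtain ⟨K, hKmin⟩ := (Set.toFinite 𝒦).exists_minimal ⟨⊤, htop⟩
  have hK : K ∈ 𝒦 := hKmin.prop
  have hKle : ∀ H ∈ 𝒦, H ≤ K → K ≤ H := fun H hH hle => hKmin.le_of_le hH hle
  haveI hKn : K.Normal := hK.1
  by_cases hKtop : K = ⊤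
  · exact
      { exists_pair_ne := hEnt.exists_pair_ne
        eq_bot_or_eq_top_of_normal := by
          intro H hH
          by_cases hH1 : H = ⊥
          · exact Or.inl hH1
          · right
            have := hKle H ⟨hH, hH1⟩ (by rw [hKtop]; exact le_top)
            rw [hKtop] at this
            exact top_le_iff.mp this }
  · exfalso
    set Kg : X → Subgroup E := fun g => K.map (cj E g).toMonoidHom with hKg
    have hKg_apply : ∀ g, Kg g = K.map (cj E g).toMonoidHom := fun g => rfl
    have hKgn : ∀ g, (Kg g).Normal := fun g =>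
      Subgroup.Normal.map hKn _ (cj E g).surjective
    have hKg1 : Kg 1 = K := cj_one E K
    have hKgmul : ∀ g h, (Kg h).map (cj E g).toMonoidHom = Kg (g * h) := fun g h => cj_mul E g h K
    have hKgcard : ∀ g, Nat.card (Kg g) = Nat.card K := fun g =>
      Subgroup.card_map_of_injective (cj E g).injective
    -- distinct conjugates meet trivially
    have hA0 : ∀ k, Kg k = K ∨ K ⊓ Kg k = ⊥ := by
      intro k
      by_cases hbot : K ⊓ Kg k = ⊥
      · exact Or.inr hbot
      · left
        haveI := hKgn k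
        have hmem : K ⊓ Kg k ∈ 𝒦 := ⟨inferInstance, hbot⟩
        have h1 : K ≤ K ⊓ Kg k := hKle _ hmem inf_le_left
        have h2 : K ≤ Kg k := h1.trans inf_le_right
        exact (Subgroup.eq_of_le_of_card_ge h2 (hKgcard k).le).symm
    have hA : ∀ g h, Kg g = Kg h ∨ Kg g ⊓ Kg h = ⊥ := by
      intro g h
      rcases hA0 (g⁻¹ * h) with h1 | h1
      · left
        have := congrArg (Subgroup.map (cj E g).toMonoidHom) h1
        rw [hKgmul, mul_inv_cancel_left] at this
        exact this.symm
      · right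
        have e1 : (K ⊓ Kg (g⁻¹ * h)).map (cj E g).toMonoidHom =
            K.map (cj E g).toMonoidHom ⊓ (Kg (g⁻¹ * h)).map (cj E g).toMonoidHom :=
          Subgroup.map_inf _ _ _ (cj E g).injective
        calc Kg g ⊓ Kg h
            = K.map (cj E g).toMonoidHom ⊓ (Kg (g⁻¹ * h)).map (cj E g).toMonoidHom := by
              rw [hKgmul, mul_inv_cancel_left]
          _ = (K ⊓ Kg (g⁻¹ * h)).map (cj E g).toMonoidHom := e1.symm
          _ = ⊥ := by rw [h1, Subgroup.map_bot]
    have hcomm_of_inf : ∀ g h, Kg g ⊓ Kg h = ⊥ → ∀ u ∈ Kg g, ∀ v ∈ Kg h, u * v = v * u := by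
      intro g h hinf u hu v hv
      have h1 : u * v * u⁻¹ * v⁻¹ ∈ Kg g ⊓ Kg h := by
        constructor
        · have : u * v * u⁻¹ * v⁻¹ = u * (v * u⁻¹ * v⁻¹) := by group
          rw [this]
          exact (Kg g).mul_mem hu ((hKgn g).conj_mem _ ((Kg g).inv_mem hu) v)
        · exact (Kg h).mul_mem ((hKgn h).conj_mem _ hv u) ((Kg h).inv_mem hv)
      rw [hinf, Subgroup.mem_bot] at h1
      calc u * v = (u * v * u⁻¹ * v⁻¹) * (v * u) := by group
        _ = v * u := by rw [h1, one_mul]
    -- the join of the conjugates is everything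
    set J : Subgroup E := ⨆ g, Kg g with hJ
    have hJmap : ∀ c, J.map (cj E c).toMonoidHom ≤ J := by
      intro c
      rw [hJ, Subgroup.map_iSup]
      apply iSup_le
      intro g
      rw [hKgmul]
      exact le_iSup Kg (c * g)
    have hJtop : J = ⊤ := by
      set J' : Subgroup X := J.map E.subtype with hJ'
      have hJ'n : J'.Normal := by
        refine ⟨fun n hn c => ?_⟩
        obtain ⟨m, hm, rfl⟩ := hn
        refine ⟨cj E c m, hJmap c ⟨m, hm, rfl⟩, ?_⟩
        simp [cj, MulAut.conjNormal_apply]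
      have hJ'1 : J' ≠ ⊥ := by
        intro h
        have h1 : J = ⊥ := by
          rw [hJ'] at h
          exact (Subgroup.map_eq_bot_iff_of_injective _ E.subtype_injective).mp h
        apply hK.2
        rw [← le_bot_iff, ← h1, ← hKg1]
        exact le_iSup Kg 1
      have hEJ := hmin J' hJ'n hJ'1
      rw [eq_top_iff]
      intro e _
      obtain ⟨m, hm, hme⟩ := hEJ e.2
      have : m = e := Subtype.ext hme
      rw [← this]
      exact hm
    -- `K` has even order
    have h2K : 2 ∣ Nat.card K := by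
      by_contra hnd
      have hcop : (Nat.card K).Coprime 2 :=
        (Nat.coprime_comm.mp ((Nat.Prime.coprime_iff_not_dvd Nat.prime_two).mpr hnd))
      have hle : J ≤ Cfsg.pPrimeCore 2 E := by
        rw [hJ]
        apply iSup_le
        intro g
        exact le_sSup ⟨hKgn g, by rw [hKgcard]; exact hcop⟩
      rw [hJtop, top_le_iff] at hle
      have hc := Cfsg.Agent.Lib.Helper55.pPrimeCore_card_coprime (G := E) 2
      rw [hle, Subgroup.card_top] at hc
      have h2E : 2 ∣ Nat.card E := by
        have h1 : orderOf (⟨z, hzE⟩ : E) = 2 := by rw [Subgroup.orderOf_mk]; exact hz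
        rw [← h1]
        exact orderOf_dvd_natCard _
      have := Nat.Coprime.eq_one_of_dvd hc.symm h2E
      omega
    obtain ⟨z₁', hz₁'⟩ := exists_prime_orderOf_dvd_card' 2 h2K
    set z₁ : E := (z₁' : E) with hz₁def
    have hz₁K : z₁ ∈ K := z₁'.2
    have hz₁o : orderOf z₁ = 2 := by rw [hz₁def, Subgroup.orderOf_coe]; exact hz₁'
    have hz₁1 : z₁ ≠ 1 := by
      intro h
      rw [h, orderOf_one] at hz₁o
      omega
    have hz₁sq : z₁ * z₁ = 1 := by
      have := pow_orderOf_eq_one z₁
      rw [hz₁o, pow_two] at this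
      exact this
    obtain ⟨g₀, hg₀⟩ : ∃ g₀, Kg g₀ ≠ K := by
      by_contra hall
      push Not at hall
      apply hKtop
      rw [← hJtop, hJ]
      apply le_antisymm
      · rw [← hKg1]; exact le_iSup Kg 1
      · apply iSup_le
        intro g
        rw [hall g]
    have hinf₀ : K ⊓ Kg g₀ = ⊥ := (hA0 g₀).resolve_left hg₀
    set z₂ : E := cj E g₀ z₁ with hz₂def
    have hz₂K : z₂ ∈ Kg g₀ := ⟨z₁, hz₁K, rfl⟩
    have hz₂o : orderOf z₂ = 2 := by
      rw [hz₂def, MulEquiv.orderOf_eq]; exact hz₁o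
    have hz₂1 : z₂ ≠ 1 := by
      intro h
      rw [h, orderOf_one] at hz₂o
      omega
    have hz₂sq : z₂ * z₂ = 1 := by
      have := pow_orderOf_eq_one z₂
      rw [hz₂o, pow_two] at this
      exact this
    have hinf₀' : Kg 1 ⊓ Kg g₀ = ⊥ := by rw [hKg1]; exact hinf₀
    have hz₁₂ : z₁ * z₂ = z₂ * z₁ :=
      hcomm_of_inf 1 g₀ hinf₀' z₁ (by rw [hKg1]; exact hz₁K) z₂ hz₂K
    have hne₁₂ : z₁ ≠ z₂ := by
      intro h
      have : z₁ ∈ K ⊓ Kg g₀ := ⟨hz₁K, by rw [h]; exact hz₂K⟩
      rw [hinf₀, Subgroup.mem_bot] at this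
      exact hz₁1 this
    obtain ⟨w, hw⟩ : ∃ w : E, w = z₁ * z₂ := ⟨_, rfl⟩
    have hwsq : w * w = 1 := by
      calc w * w = z₁ * (z₂ * z₁) * z₂ := by rw [hw]; group
        _ = z₁ * (z₁ * z₂) * z₂ := by rw [hz₁₂]
        _ = (z₁ * z₁) * (z₂ * z₂) := by group
        _ = 1 := by rw [hz₁sq, hz₂sq, one_mul]
    have hw1 : w ≠ 1 := by
      intro h
      apply hne₁₂
      rw [hw] at h
      have h1 : z₁ = z₂⁻¹ := eq_inv_of_mul_eq_one_left h
      have h2 : z₂⁻¹ = z₂ := inv_eq_of_mul_eq_one_right hz₂sq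
      rw [h1, h2]
    have hwo : orderOf w = 2 := orderOf_eq_prime (by rw [pow_two]; exact hwsq) hw1
    have hwoX : orderOf (w : X) = 2 := by rw [Subgroup.orderOf_coe]; exact hwo
    have hz₁oX : orderOf (z₁ : X) = 2 := by rw [Subgroup.orderOf_coe]; exact hz₁o
    obtain ⟨h, hh⟩ := isConj_iff.mp (F1 (z₁ : X) (w : X) hz₁oX hwoX)
    have hwK : w ∈ Kg h := by
      refine ⟨z₁, hz₁K, ?_⟩
      apply Subtype.ext
      simp only [MulEquiv.coe_toMonoidHom, cj, MulAut.conjNormal_apply]
      exact hh
    have hz₁inv : z₁⁻¹ = z₁ := inv_eq_of_mul_eq_one_right hz₁sq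
    have hz₂inv : z₂⁻¹ = z₂ := inv_eq_of_mul_eq_one_right hz₂sq
    rcases hA0 h with h1 | h1
    · -- `w ∈ K`, so `z₂ ∈ K`
      rw [h1] at hwK
      have : z₂ ∈ K := by
        have h2 : z₂ = z₁⁻¹ * w := by rw [hw]; group
        rw [h2]
        exact K.mul_mem (K.inv_mem hz₁K) hwK
      have : z₂ ∈ K ⊓ Kg g₀ := ⟨this, hz₂K⟩
      rw [hinf₀, Subgroup.mem_bot] at this
      exact hz₂1 this
    · rcases hA h g₀ with h2 | h2
      · rw [h2] at hwK
        have : z₁ ∈ Kg g₀ := by
          have h3 : z₁ = w * z₂⁻¹ := by rw [hw]; group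
          rw [h3]
          exact (Kg g₀).mul_mem hwK ((Kg g₀).inv_mem hz₂K)
        have : z₁ ∈ K ⊓ Kg g₀ := ⟨hz₁K, this⟩
        rw [hinf₀, Subgroup.mem_bot] at this
        exact hz₁1 this
      · -- `z₁` is central in `K`
        have h1' : Kg 1 ⊓ Kg h = ⊥ := by rw [hKg1]; exact h1
        have hwc : ∀ u ∈ K, u * w = w * u := fun u hu =>
          hcomm_of_inf 1 h h1' u (by rw [hKg1]; exact hu) w hwK
        have hz₂c : ∀ u ∈ K, u * z₂ = z₂ * u := fun u hu =>
          hcomm_of_inf 1 g₀ hinf₀' u (by rw [hKg1]; exact hu) z₂ hz₂K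
        have hz₁c : ∀ u ∈ K, u * z₁ = z₁ * u := by
          intro u hu
          have h3 : z₁ = w * z₂ := by
            rw [hw, mul_assoc, hz₂sq, mul_one]
          rw [h3, ← mul_assoc, hwc u hu, mul_assoc, hz₂c u hu, ← mul_assoc]
        set C : Subgroup E := K ⊓ Subgroup.centralizer (K : Set E) with hC
        have hCn : C.Normal := inferInstance
        have hz₁C : z₁ ∈ C := by
          refine Subgroup.mem_inf.mpr ⟨hz₁K, ?_⟩
          rw [Subgroup.mem_centralizer_iff]
          intro u hu
          exact hz₁c u hu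
        have hC1 : C ≠ ⊥ := by
          intro hb
          rw [hb, Subgroup.mem_bot] at hz₁C
          exact hz₁1 hz₁C
        have hKC : K ≤ C := hKle C ⟨hCn, hC1⟩ inf_le_left
        have hKcomm : ∀ u ∈ K, ∀ v ∈ K, u * v = v * u := by
          intro u hu v hv
          have := (Subgroup.mem_inf.mp (hKC hv)).2
          rw [Subgroup.mem_centralizer_iff] at this
          exact this u hu
        have hKgcomm : ∀ g, ∀ u ∈ Kg g, ∀ v ∈ Kg g, u * v = v * u := by
          intro g u hu v hv
          obtain ⟨u', hu', rfl⟩ := hu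
          obtain ⟨v', hv', rfl⟩ := hv
          rw [← map_mul, ← map_mul, hKcomm u' hu' v' hv']
        have hall : ∀ g h, ∀ u ∈ Kg g, ∀ v ∈ Kg h, u * v = v * u := by
          intro g h u hu v hv
          rcases hA g h with h3 | h3
          · rw [← h3] at hv
            exact hKgcomm g u hu v hv
          · exact hcomm_of_inf g h h3 u hu v hv
        set T : Set E := ⋃ g, (Kg g : Set E) with hT
        have hJcl : J = Subgroup.closure T := by
          rw [hJ, Subgroup.iSup_eq_closure]
        have hTc : T ⊆ Subgroup.centralizer T := by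
          intro u hu
          rw [SetLike.mem_coe, Subgroup.mem_centralizer_iff]
          intro v hv
          obtain ⟨g, hg⟩ := Set.mem_iUnion.mp hu
          obtain ⟨h', hh'⟩ := Set.mem_iUnion.mp hv
          exact hall h' g v hh' u hg
        have hcl : Subgroup.closure T ≤ Subgroup.centralizer (Subgroup.closure T : Set E) := by
          rw [Subgroup.centralizer_closure]
          exact (Subgroup.closure_le _).mpr hTc
        apply hnc
        refine ⟨⟨fun u v => ?_⟩⟩
        have hu : u ∈ Subgroup.closure T := by rw [← hJcl, hJtop]; exact Subgroup.mem_top u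
        have hv : v ∈ Subgroup.closure T := by rw [← hJcl, hJtop]; exact Subgroup.mem_top v
        have := hcl hu
        rw [Subgroup.mem_centralizer_iff] at this
        exact (this v hv).symm

end SimpleNormal

end Cfsg.Agent.Lib.Helper20
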