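import Cfsg.Agent.Lib.Helper20.SqCore
import Cfsg.Agent.Lib.Helper36.F4OrderMain

set_option autoImplicit false
set_option linter.unusedSectionVars false
set_option linter.unusedSimpArgs false
set_option linter.unusedVariables false

/-! # Sq hive (S4625), leaf SQ-2F4: a Sylow `2`-subgroup `U¹` of `²F₄(q)`, `q = 2^(2m+1) ≥ 8`, has
all squares in its derived subgroup. `U¹` is the product of conjugates of the fixed points on the
two fundamental blocks (helper36's `f4_fix_step`): the block of type `A₁ × A₁` is elementary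
abelian, the block of type `B₂` is a Suzuki-type group of order `q²`. -/

namespace Cfsg.Agent.Lib.Helper20.Sq

open Cfsg Cfsg.Lie Cfsg.Agent.Lib.Helper18 Cfsg.Agent.Lib.Helper36

section rearr

variable {K : Type*} [Field K]

/-- the product of two normal forms on a block of type `B₂` in characteristic `2` -/
theorem sq2f4_rearr {G : Type*} [Group G] (xa xb xab xaab : K → G)
    (ha : ∀ s t, xa s * xa t = xa (s + t)) (hb : ∀ s t, xb s * xb t = xb (s + t))
    (hab : ∀ s t, xab s * xab t = xab (s + t)) (haab : ∀ s t, xaab s * xaab t = xaab (s + t))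
    (c1 : ∀ s t, xab s * xa t = xa t * xab s) (c2 : ∀ s t, xab s * xb t = xb t * xab s)
    (c3 : ∀ s t, xab s * xaab t = xaab t * xab s)
    (c4 : ∀ s t, xaab s * xa t = xa t * xaab s) (c5 : ∀ s t, xaab s * xb t = xb t * xaab s)
    (hrel : ∀ t u, xb u * xa t = xa t * xb u * (xab (t * u) * xaab (t ^ 2 * u)))
    (a b c d a' b' c' d' : K) :
    xa a * xb b * xab c * xaab d * (xa a' * xb b' * xab c' * xaab d') =
      xa (a + a') * xb (b + b') * xab (c + c' + a' * b) * xaab (d + d' + a' ^ 2 * b) := by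
  rw [← ha, ← hb, ← hab, ← hab, ← haab, ← haab]
  calc xa a * xb b * xab c * xaab d * (xa a' * xb b' * xab c' * xaab d')
      = xa a * xb b * xab c * (xaab d * xa a') * xb b' * xab c' * xaab d' := by group
    _ = xa a * xb b * (xab c * xa a') * (xaab d * xb b') * xab c' * xaab d' := by
        rw [c4]; group
    _ = xa a * xb b * xa a' * (xab c * xb b') * xaab d * xab c' * xaab d' := by
        rw [c1, c5]; group
    _ = xa a * (xb b * xa a') * xb b' * xab c * (xaab d * xab c') * xaab d' := by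
        rw [c2]; group
    _ = xa a * xa a' * xb b * (xab (a' * b) * (xaab (a' ^ 2 * b) * xb b')) * xab c * xab c' *
          xaab d * xaab d' := by
        rw [hrel, ← c3]; group
    _ = xa a * xa a' * xb b * (xab (a' * b) * xb b') * xaab (a' ^ 2 * b) * xab c * xab c' *
          xaab d * xaab d' := by
        rw [c5]; group
    _ = xa a * xa a' * xb b * xb b' * xab (a' * b) * (xaab (a' ^ 2 * b) * xab c) * xab c' *
          xaab d * xaab d' := by
        rw [c2]; group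
    _ = xa a * xa a' * xb b * xb b' * xab (a' * b) * xab c * (xaab (a' ^ 2 * b) * xab c') *
          xaab d * xaab d' := by
        rw [← c3]; group
    _ = xa a * xa a' * xb b * xb b' * (xab (a' * b) * xab c) * xab c' * xaab (a' ^ 2 * b) *
          xaab d * xaab d' := by
        rw [← c3]; group
    _ = xa a * xa a' * (xb b * xb b') * (xab (a' * b) * xab c * xab c') *
          (xaab (a' ^ 2 * b) * xaab d * xaab d') := by
        group
    _ = xa a * xa a' * (xb b * xb b') * (xab c * xab c' * xab (a' * b)) *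
          (xaab d * xaab d' * xaab (a' ^ 2 * b)) := by
        have e1 : xab (a' * b) * xab c * xab c' = xab c * xab c' * xab (a' * b) := by
          rw [hab, hab, hab, hab]
          congr 1
          ring
        have e2 : xaab (a' ^ 2 * b) * xaab d * xaab d' = xaab d * xaab d' * xaab (a' ^ 2 * b) := by
          rw [haab, haab, haab, haab]
          congr 1
          ring
        rw [e1, e2]

end rearr

section block

variable {K : Type*} [Field K] [CharP K 2]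

/-- normal form on the block of type `B₂` -/
noncomputable def sq2f4_W (a b c d : K) : GL chevF4.Idx K :=
  wordGL chevF4 hF4 K [(27, a), (25, b), (28, c), (30, d)]

theorem sq2f4_W_eq (a b c d : K) : sq2f4_W a b c d =
    xGL chevF4 hF4 K 27 a * xGL chevF4 hF4 K 25 b * xGL chevF4 hF4 K 28 c *
      xGL chevF4 hF4 K 30 d := by
  unfold sq2f4_W
  simp only [f4_wordGL_cons, f4_wordGL_nil, mul_one, ← mul_assoc]

theorem sq2f4_W_mul (a b c d a' b' c' d' : K) :
    sq2f4_W a b c d * sq2f4_W a' b' c' d' =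
      sq2f4_W (a + a') (b + b') (c + c' + a' * b) (d + d' + a' ^ 2 * b) := by
  rw [sq2f4_W_eq, sq2f4_W_eq, sq2f4_W_eq]
  exact sq2f4_rearr (xGL chevF4 hF4 K 27) (xGL chevF4 hF4 K 25) (xGL chevF4 hF4 K 28)
    (xGL chevF4 hF4 K 30)
    (fun s t => (xGL_add chevF4 hF4 K 27 s t).symm) (fun s t => (xGL_add chevF4 hF4 K 25 s t).symm)
    (fun s t => (xGL_add chevF4 hF4 K 28 s t).symm) (fun s t => (xGL_add chevF4 hF4 K 30 s t).symm)
    (fun s t => f4_comm 28 27 (by decide) s t) (fun s t => f4_comm 28 25 (by decide) s t)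
    (fun s t => f4_comm 28 30 (by decide) s t) (fun s t => f4_comm 30 27 (by decide) s t)
    (fun s t => f4_comm 30 25 (by decide) s t) f4_comm_ab _ _ _ _ _ _ _ _

theorem sq2f4_W_zero : sq2f4_W (0 : K) 0 0 0 = 1 := by
  rw [sq2f4_W_eq, Cfsg.Agent.Lib.Helper36.xGL_zero, Cfsg.Agent.Lib.Helper36.xGL_zero,
    Cfsg.Agent.Lib.Helper36.xGL_zero, Cfsg.Agent.Lib.Helper36.xGL_zero, mul_one, mul_one, mul_one]

theorem sq2f4_W_sq (a b c d : K) : sq2f4_W a b c d ^ 2 = sq2f4_W 0 0 (a * b) (a ^ 2 * b) := by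
  rw [sq, sq2f4_W_mul, CharTwo.add_self_eq_zero, CharTwo.add_self_eq_zero,
    CharTwo.add_self_eq_zero, CharTwo.add_self_eq_zero, zero_add, zero_add]

theorem sq2f4_W_inv (a b c d : K) :
    (sq2f4_W a b c d)⁻¹ = sq2f4_W a b (c + a * b) (d + a ^ 2 * b) := by
  apply inv_eq_of_mul_eq_one_right
  rw [sq2f4_W_mul, ← sq2f4_W_zero]
  have h2 : (2 : K) = 0 := CharTwo.two_eq_zero
  congr 1
  · linear_combination a * h2
  · linear_combination b * h2
  · linear_combination (c + a * b) * h2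
  · linear_combination (d + a ^ 2 * b) * h2

theorem sq2f4_W_comm (a b c d a' b' c' d' : K) :
    sq2f4_W a b c d * sq2f4_W a' b' c' d' * (sq2f4_W a b c d)⁻¹ * (sq2f4_W a' b' c' d')⁻¹ =
      sq2f4_W 0 0 (a' * b + a * b') (a' ^ 2 * b + a ^ 2 * b') := by
  rw [sq2f4_W_inv, sq2f4_W_inv, sq2f4_W_mul, sq2f4_W_mul, sq2f4_W_mul]
  have h2 : (2 : K) = 0 := CharTwo.two_eq_zero
  congr 1
  · linear_combination (a + a') * h2
  · linear_combination (b + b') * h2
  · linear_combination (c + c' + a' * b + a * b + a' * b') * h2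
  · linear_combination (d + d' + a' ^ 2 * b + a ^ 2 * b + a' ^ 2 * b') * h2

end block

section field

variable {K : Type*} [Field K] [Fintype K] {m : ℕ}

/-- `x ↦ x ^ (θ + 1)` is onto -/
theorem sq2f4_root (hK : Fintype.card K = 2 ^ (2 * m + 1)) (c : K) :
    ∃ l : K, l ^ (2 ^ m + 1) = c := by
  obtain ⟨n, hn⟩ : ∃ n, 2 ^ m = n + 1 := ⟨2 ^ m - 1, by have := Nat.one_le_two_pow (n := m); omega⟩
  have hq : 2 ^ (2 * m + 1) = (2 * n ^ 2 + 4 * n + 1) + 1 := by
    have : 2 ^ (2 * m + 1) = 2 * (2 ^ m) ^ 2 := by ring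
    rw [this, hn]
    ring
  have hc := f4_pow_card hK c
  rw [hq] at hc
  refine ⟨c ^ (2 * n ^ 2 + 2 * n + 1), ?_⟩
  rw [hn, ← pow_mul]
  have he : (2 * n ^ 2 + 2 * n + 1) * (n + 1 + 1) = (2 * n ^ 2 + 4 * n + 1) * (n + 1) + 1 := by
    ring
  rw [he]
  by_cases hc0 : c = 0
  · rw [hc0, zero_pow (Nat.succ_ne_zero _)]
  · have h1 : c ^ (2 * n ^ 2 + 4 * n + 1) = 1 := by
      rw [pow_succ] at hc
      exact mul_right_cancel₀ hc0 (by rw [hc, one_mul])
    rw [pow_succ, pow_mul, h1, one_pow, one_mul]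

/-- the twist is not the identity on `K` -/
theorem sq2f4_exists_ne (hK : Fintype.card K = 2 ^ (2 * m + 1)) (hm : 1 ≤ m) :
    ∃ a : K, a ^ 2 ^ m + a ≠ 0 := by
  classical
  have hch := f4_charP hK
  by_contra hcon
  push Not at hcon
  have hid : ∀ a : K, a ^ 2 ^ m = a := by
    intro a
    have h := hcon a
    have h2 : (2 : K) = 0 := CharTwo.two_eq_zero
    linear_combination h - a * h2
  have hsq : ∀ a : K, a ^ 2 = a := by
    intro a
    have h1 := f4_theta hK a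
    rw [hid, pow_mul, hid] at h1
    exact h1
  have h01 : ∀ a : K, a ∈ ({0, 1} : Finset K) := by
    intro a
    have h1 : a * (a - 1) = 0 := by
      have := hsq a
      linear_combination this
    rcases mul_eq_zero.mp h1 with h | h
    · simp [h]
    · have : a = 1 := by linear_combination h
      simp [this]
  have hle : Fintype.card K ≤ 2 := by
    calc Fintype.card K = (Finset.univ : Finset K).card := rfl
      _ ≤ ({0, 1} : Finset K).card := Finset.card_le_card (fun a _ => h01 a)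
      _ ≤ 2 := Finset.card_le_two
  rw [hK] at hle
  have : 2 ^ 3 ≤ 2 ^ (2 * m + 1) := Nat.pow_le_pow_right (by norm_num) (by omega)
  omega

end field

section base

variable {K : Type*} [Field K] [Fintype K] {m : ℕ} {σ : ↥(chevF4.group K) →* ↥(chevF4.group K)}

/-- the block of type `A₁ × A₁`: the fixed points are involutions -/
theorem sq2f4_baseA (hK : Fintype.card K = 2 ^ (2 * m + 1)) (hσ : IsF4Sig K (2 ^ m) σ) :
    SqG ↥(Subgroup.closure (sGens chevF4 K [0, 3]) ⊓ f4Fix σ) := by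
  have hch := f4_charP hK
  rw [sqG_subgroup_iff]
  intro x hx
  obtain ⟨hx1, hx2⟩ := Subgroup.mem_inf.1 hx
  obtain ⟨t, rfl⟩ := f4_XJ1_fixed hK hσ x hx1 hx2.2
  have h1 : wordGL chevF4 hF4 K (f4PairWord (2 ^ m) f4p1 f4p4 t) ^ 2 = 1 := by
    rw [f4_pairWord_eq]
    show wordGL chevF4 hF4 K [(33, _), (24, _)] ^ 2 = 1
    simp only [f4_wordGL_cons, f4_wordGL_nil, mul_one]
    rw [sq]
    calc xGL chevF4 hF4 K 33 (t ^ 2 ^ m) * xGL chevF4 hF4 K 24 t *
          (xGL chevF4 hF4 K 33 (t ^ 2 ^ m) * xGL chevF4 hF4 K 24 t)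
        = xGL chevF4 hF4 K 33 (t ^ 2 ^ m) *
            (xGL chevF4 hF4 K 24 t * xGL chevF4 hF4 K 33 (t ^ 2 ^ m)) *
              xGL chevF4 hF4 K 24 t := by group
      _ = xGL chevF4 hF4 K 33 (t ^ 2 ^ m) *
            (xGL chevF4 hF4 K 33 (t ^ 2 ^ m) * xGL chevF4 hF4 K 24 t) *
              xGL chevF4 hF4 K 24 t := by rw [f4_comm 24 33 (by decide)]
      _ = (xGL chevF4 hF4 K 33 (t ^ 2 ^ m) * xGL chevF4 hF4 K 33 (t ^ 2 ^ m)) *
            (xGL chevF4 hF4 K 24 t * xGL chevF4 hF4 K 24 t) := by group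
      _ = 1 := by
        rw [← Cfsg.Agent.Lib.Helper36.xGL_add, ← Cfsg.Agent.Lib.Helper36.xGL_add,
          CharTwo.add_self_eq_zero, CharTwo.add_self_eq_zero,
          Cfsg.Agent.Lib.Helper36.xGL_zero, Cfsg.Agent.Lib.Helper36.xGL_zero, mul_one]
  rw [h1]
  exact Subgroup.one_mem _

theorem sq2f4_class_W [CharP K 2] (t u : K) :
    wordGL chevF4 hF4 K (b2ClassWord (2 ^ m) f4a f4b f4ab f4aab t u) =
      sq2f4_W (t ^ 2 ^ m) t (t ^ (2 ^ m + 1) + u) (u ^ (2 * 2 ^ m)) := rfl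

/-- the block of type `B₂`: a Suzuki-type group, squares are commutators -/
theorem sq2f4_baseB (hK : Fintype.card K = 2 ^ (2 * m + 1)) (hm : 1 ≤ m)
    (hσ : IsF4Sig K (2 ^ m) σ) :
    SqG ↥(Subgroup.closure (sGens chevF4 K [1, 2, 1, 2]) ⊓ f4Fix σ) := by
  have hch := f4_charP hK
  rw [sqG_subgroup_iff]
  intro x hx
  obtain ⟨hx1, hx2⟩ := Subgroup.mem_inf.1 hx
  obtain ⟨t, u, rfl⟩ := f4_XJ2_fixed hK hσ x hx1 hx2.2
  have hmemV : ∀ s : K, wordGL chevF4 hF4 K (b2ClassWord (2 ^ m) f4a f4b f4ab f4aab s 0) ∈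
      Subgroup.closure (sGens chevF4 K [1, 2, 1, 2]) ⊓ f4Fix σ := by
    intro s
    refine Subgroup.mem_inf.2 ⟨f4_word_mem_XJ _ _ ?_, f4_word_mem_group _,
      f4_class_fixed hK hσ s 0⟩
    intro q hq
    rw [f4_classWord_eq] at hq
    simp only [List.mem_cons, List.not_mem_nil, or_false] at hq
    rcases hq with rfl | rfl | rfl | rfl
    · exact f4_blkB_mem 27 (by decide)
    · exact f4_blkB_mem 25 (by decide)
    · exact f4_blkB_mem 28 (by decide)
    · exact f4_blkB_mem 30 (by decide)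
  obtain ⟨a, ha⟩ := sq2f4_exists_ne hK hm
  obtain ⟨l, hl⟩ := sq2f4_root hK (t ^ (2 ^ m + 1) / (a ^ 2 ^ m + a))
  have hcomm := Subgroup.commutator_mem_commutator (hmemV (l * a)) (hmemV l)
  rw [commutatorElement_def, sq2f4_class_W, sq2f4_class_W, sq2f4_W_comm] at hcomm
  rw [sq2f4_class_W, sq2f4_W_sq]
  have hadd : ∀ x y : K, (x + y) ^ (2 ^ m * 2) = x ^ (2 ^ m * 2) + y ^ (2 ^ m * 2) := by
    intro x y
    have := f4_add_pow hK (m + 1) x y
    rwa [pow_succ] at this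
  have E1 : t ^ 2 ^ m * t = l ^ 2 ^ m * (l * a) + (l * a) ^ 2 ^ m * l := by
    have h3 : l ^ (2 ^ m + 1) * (a ^ 2 ^ m + a) = t ^ (2 ^ m + 1) := by
      rw [hl, div_mul_cancel₀ _ ha]
    rw [pow_succ, pow_succ] at h3
    rw [mul_pow]
    linear_combination -h3
  have E2 : (t ^ 2 ^ m) ^ 2 * t = (l ^ 2 ^ m) ^ 2 * (l * a) + ((l * a) ^ 2 ^ m) ^ 2 * l := by
    calc (t ^ 2 ^ m) ^ 2 * t = (t ^ 2 ^ m) ^ (2 ^ m * 2) * t ^ (2 ^ m * 2) := by
          rw [f4_theta hK t, pow_mul t (2 ^ m) 2, mul_comm]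
      _ = (t ^ 2 ^ m * t) ^ (2 ^ m * 2) := (mul_pow _ _ _).symm
      _ = (l ^ 2 ^ m * (l * a) + (l * a) ^ 2 ^ m * l) ^ (2 ^ m * 2) := by rw [E1]
      _ = (l ^ 2 ^ m * (l * a)) ^ (2 ^ m * 2) + ((l * a) ^ 2 ^ m * l) ^ (2 ^ m * 2) := hadd _ _
      _ = (l ^ 2 ^ m) ^ (2 ^ m * 2) * (l * a) ^ (2 ^ m * 2) +
            ((l * a) ^ 2 ^ m) ^ (2 ^ m * 2) * l ^ (2 ^ m * 2) := by
          rw [mul_pow (l ^ 2 ^ m) (l * a), mul_pow ((l * a) ^ 2 ^ m) l]
      _ = l * ((l * a) ^ 2 ^ m) ^ 2 + (l * a) * (l ^ 2 ^ m) ^ 2 := by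
          rw [f4_theta hK l, f4_theta hK (l * a), pow_mul (l * a) (2 ^ m) 2, pow_mul l (2 ^ m) 2]
      _ = (l ^ 2 ^ m) ^ 2 * (l * a) + ((l * a) ^ 2 ^ m) ^ 2 * l := by ring
  rw [E1, E2]
  exact hcomm

end base

section red

variable {K : Type*} [Field K] [Fintype K] {m : ℕ} {σ : ↥(chevF4.group K) →* ↥(chevF4.group K)}

/-- the fixed points on `U_w⁻`, `w` a reduced word in the folded reflections -/
theorem sq2f4_red (hK : Fintype.card K = 2 ^ (2 * m + 1)) (hm : 1 ≤ m)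
    (hσ : IsF4Sig K (2 ^ m) σ) (JsR : List (List ℕ)) (h : f4RedR JsR = true) :
    SqG ↥(Subgroup.closure (sGens chevF4 K (f4WordR JsR)) ⊓ f4Fix σ) := by
  have hch := f4_charP hK
  have hθ : (2 : ℕ) ^ m ≠ 0 := pow_ne_zero _ (by norm_num)
  have hle := f4_twisted_le_fix hK hσ
  induction JsR with
  | nil =>
    have e : f4WordR [] = [] := rfl
    rw [e, f4_sGens_nil, bot_inf_eq, sqG_subgroup_iff]
    intro x hx
    rw [Subgroup.mem_bot.1 hx, one_pow]
    exact Subgroup.one_mem _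
  | cons J rest ih =>
    obtain ⟨h1, h2, h3⟩ := f4RedR_cons J rest h
    have ih1 := ih h3
    have hl₁ := f4WordR_lt rest h3
    have hrc := f4WordR_rhoComm rest h3
    have hnJ : nWordGL chevF4 hF4 K J ∈ f4Fix σ := hle (f4_fund_mem hθ J h1)
    rw [f4WordR_cons]
    have hbase : SqG ↥(Subgroup.closure (sGens chevF4 K J) ⊓ f4Fix σ) := by
      have h1' := h1
      simp only [f4Fund, List.mem_cons, List.not_mem_nil, or_false] at h1'
      rcases h1' with rfl | rfl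
      · exact sq2f4_baseA hK hσ
      · exact sq2f4_baseB hK hm hσ
    have hVJ : Subgroup.closure (sGens chevF4 K J) ⊓ f4Fix σ ≤
        Subgroup.closure (sGens chevF4 K (f4WordR rest ++ J)) ⊓ f4Fix σ :=
      inf_le_inf_right _ (f4_XJ_le (f4WordR rest) hl₁ J h1 h2)
    have hQ : (Subgroup.closure (sGens chevF4 K (f4WordR rest)) ⊓ f4Fix σ).map
        (MulAut.conj (nWordGL chevF4 hF4 K J)).toMonoidHom ≤
        Subgroup.closure (sGens chevF4 K (f4WordR rest ++ J)) ⊓ f4Fix σ := by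
      rintro _ ⟨u, hu, rfl⟩
      obtain ⟨hu1, hu2⟩ := Subgroup.mem_inf.1 hu
      exact Subgroup.mem_inf.2 ⟨f4_conj_sGens (f4WordR rest) hl₁ J h1 h2 u hu1,
        mul_mem (mul_mem hnJ hu2) (inv_mem hnJ)⟩
    apply sq_of_sup _ (Subgroup.closure (sGens chevF4 K J) ⊓ f4Fix σ)
      ((Subgroup.closure (sGens chevF4 K (f4WordR rest)) ⊓ f4Fix σ).map
        (MulAut.conj (nWordGL chevF4 hF4 K J)).toMonoidHom)
    · apply le_antisymm (sup_le hVJ hQ)
      intro g hg
      obtain ⟨x, hx, u, hu, e⟩ := f4_fix_step hσ (f4WordR rest) hl₁ hrc J h1 hnJ h2 g hg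
      rw [e]
      exact Subgroup.mul_mem_sup hx ⟨u, hu, rfl⟩
    · intro x hx
      exact commutator_le_of_le hVJ ((sqG_subgroup_iff _).1 hbase x hx)
    · rintro _ ⟨u, hu, rfl⟩
      have h5 := (sqG_subgroup_iff _).1 ih1 u hu
      have h6 := Subgroup.mem_map_of_mem (MulAut.conj (nWordGL chevF4 hF4 K J)).toMonoidHom h5
      rw [Subgroup.map_commutator, map_pow] at h6
      exact commutator_le_of_le hQ h6

end red

/-- SQ-2F4 -/
theorem sq_2f4 (K : Type) [Field K] [Fintype K] (m : ℕ) (hm : 1 ≤ m)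
    (hK : Fintype.card K = 2 ^ (2 * m + 1)) : SqD ↥(Cfsg.Lie.twistedF4 K (2 ^ m)) := by
  obtain ⟨σ, hσ⟩ := exists_f4Sig hK
  have hV : SqG ↥(chevF4.posUnipotent K ⊓ twistedF4 K (2 ^ m)) := by
    rw [f4_pos_inf_eq hK hσ, ← f4_sGens_w0]
    exact sq2f4_red hK hm hσ f4W0R f4W0R_red
  have e : ↥((chevF4.posUnipotent K ⊓ twistedF4 K (2 ^ m)).subgroupOf (twistedF4 K (2 ^ m))) ≃*
      ↥(chevF4.posUnipotent K ⊓ twistedF4 K (2 ^ m)) :=
    Subgroup.subgroupOfEquivOfLe inf_le_right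
  have hU : SqG ↥((chevF4.posUnipotent K ⊓ twistedF4 K (2 ^ m)).subgroupOf
      (twistedF4 K (2 ^ m))) := sqG_of_mulEquiv e.symm hV
  obtain ⟨r, hr, hr1⟩ : ∃ r, 2 ^ (2 * m + 1) = 2 * r ∧ 1 ≤ r :=
    ⟨2 ^ (2 * m), by rw [pow_succ]; ring, Nat.one_le_two_pow⟩
  have hq : Even (2 ^ (2 * m + 1)) := ⟨r, by rw [hr]; ring⟩
  have hq1 : 1 ≤ 2 ^ (2 * m + 1) := Nat.one_le_two_pow
  have ho1 : Odd (2 ^ (2 * m + 1) - 1) := Nat.Even.sub_odd hq1 hq odd_one
  have ho2 : Odd ((2 ^ (2 * m + 1)) ^ 3 + 1) := (Even.add_odd (Nat.even_pow.mpr ⟨hq, by norm_num⟩) odd_one)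
  have ho3 : Odd ((2 ^ (2 * m + 1)) ^ 4 - 1) :=
    Nat.Even.sub_odd (Nat.one_le_pow _ _ hq1) (Nat.even_pow.mpr ⟨hq, by norm_num⟩) odd_one
  have ho4 : Odd ((2 ^ (2 * m + 1)) ^ 6 + 1) := (Even.add_odd (Nat.even_pow.mpr ⟨hq, by norm_num⟩) odd_one)
  have hodd : ¬ 2 ∣ (2 ^ (2 * m + 1) - 1) * ((2 ^ (2 * m + 1)) ^ 3 + 1) *
      ((2 ^ (2 * m + 1)) ^ 4 - 1) * ((2 ^ (2 * m + 1)) ^ 6 + 1) := by
    have := ((ho1.mul ho2).mul ho3).mul ho4
    rw [Nat.odd_iff] at this
    omega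
  apply sqD_of_card_mul _ hodd (k := (2 * m + 1) * 12) _ _ hU
  · rw [f4_order hK, ← pow_mul]
    ring
  · rw [Nat.card_congr e.toEquiv, f4_card_pos_inf hK, ← pow_mul]


end Cfsg.Agent.Lib.Helper20.Sq
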