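import Mathlib

set_option autoImplicit false

/-! # S4625 hive (`Sq`): generic core

`SqD C`: some Sylow `2`-subgroup `P` of `C` satisfies `x ^ 2 ∈ P'` for all `x ∈ P`
(i.e. `P / P'` is elementary abelian).  As all Sylow `2`-subgroups are conjugate this then holds
for every Sylow `2`-subgroup (`sqD_all`).  Transport along isomorphisms (`sqD_of_mulEquiv`) and to
quotients (`sqD_of_surjective`, `sqD_quot`), and the basic criterion (`sq_of_closure`): a group
generated by a set `S` with `s ^ 2 ∈ U'` for `s ∈ S` has `x ^ 2 ∈ U'` for all `x`. -/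

namespace Cfsg.Agent.Lib.Helper20.Sq

/-- `A / A'` has exponent at most `2` -/
def SqG (A : Type*) [Group A] : Prop := ∀ x : A, x ^ 2 ∈ commutator A

/-- some Sylow `2`-subgroup `P` has `P / P'` of exponent at most `2` -/
def SqD (C : Type*) [Group C] : Prop := ∃ P : Sylow 2 C, SqG ↥(P : Subgroup C)

theorem sqG_of_surjective {A B : Type*} [Group A] [Group B] (f : A →* B)
    (hf : Function.Surjective f) (h : SqG A) : SqG B := by
  intro y
  obtain ⟨x, rfl⟩ := hf y
  have h1 : f (x ^ 2) ∈ (commutator A).map f := Subgroup.mem_map_of_mem f (h x)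
  rw [map_pow] at h1
  have h2 : (commutator A).map f ≤ commutator B := by
    rw [commutator_def, commutator_def, Subgroup.map_commutator]
    exact Subgroup.commutator_mono le_top le_top
  exact h2 h1

theorem sqG_of_mulEquiv {A B : Type*} [Group A] [Group B] (e : A ≃* B) (h : SqG A) : SqG B :=
  sqG_of_surjective e.toMonoidHom e.surjective h

/-- membership in the commutator subgroup of a subgroup, seen in the ambient group -/
theorem mem_commutator_subtype_iff {C : Type*} [Group C] (U : Subgroup C) (x : ↥U) :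
    x ∈ commutator ↥U ↔ (x : C) ∈ ⁅U, U⁆ := by
  have h1 : (commutator ↥U).map U.subtype = ⁅U, U⁆ := by
    rw [commutator_def, Subgroup.map_commutator, ← MonoidHom.range_eq_map, Subgroup.range_subtype]
  constructor
  · intro hx
    rw [← h1]
    exact ⟨x, hx, rfl⟩
  · intro hx
    rw [← h1] at hx
    obtain ⟨y, hy, hxy⟩ := hx
    have : y = x := Subtype.ext hxy
    rwa [← this]

/-- `SqG` for a subgroup, seen in the ambient group -/
theorem sqG_subgroup_iff {C : Type*} [Group C] (U : Subgroup C) :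
    SqG ↥U ↔ ∀ x ∈ U, x ^ 2 ∈ ⁅U, U⁆ := by
  constructor
  · intro h x hx
    have := (mem_commutator_subtype_iff U (⟨x, hx⟩ ^ 2)).mp (h ⟨x, hx⟩)
    simpa using this
  · intro h x
    rw [mem_commutator_subtype_iff]
    simpa using h x x.2

/-- **The criterion.** If `U` is generated by a set `S` and `s ^ 2 ∈ U'` for all `s ∈ S`, then
`x ^ 2 ∈ U'` for all `x ∈ U`. -/
theorem sq_of_closure {C : Type*} [Group C] (U : Subgroup C) (S : Set C)
    (hS : Subgroup.closure S = U) (hsq : ∀ s ∈ S, s ^ 2 ∈ ⁅U, U⁆) : SqG ↥U := by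
  rw [sqG_subgroup_iff]
  have hSU : S ⊆ U := by
    rw [← hS]
    exact Subgroup.subset_closure
  have key : ∀ x ∈ Subgroup.closure S, x ∈ U ∧ x ^ 2 ∈ ⁅U, U⁆ := by
    intro x hx
    induction hx using Subgroup.closure_induction with
    | mem s hs => exact ⟨hSU hs, hsq s hs⟩
    | one => exact ⟨U.one_mem, by rw [one_pow]; exact Subgroup.one_mem _⟩
    | mul x y _ _ hx hy =>
      refine ⟨U.mul_mem hx.1 hy.1, ?_⟩
      have h1 : (x * y) ^ 2 = x ^ 2 * (x⁻¹ * y * x⁻¹⁻¹ * y⁻¹) * y ^ 2 := by
        rw [pow_two, pow_two, pow_two]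
        group
      have h2 := Subgroup.commutator_mem_commutator (U.inv_mem hx.1) hy.1
      rw [commutatorElement_def] at h2
      rw [h1]
      exact Subgroup.mul_mem _ (Subgroup.mul_mem _ hx.2 h2) hy.2
    | inv x _ hx =>
      refine ⟨U.inv_mem hx.1, ?_⟩
      have h1 : (x⁻¹) ^ 2 = (x ^ 2)⁻¹ := by
        rw [pow_two, pow_two]
        group
      rw [h1]
      exact Subgroup.inv_mem _ hx.2
  intro x hx
  rw [← hS] at hx
  exact (key x hx).2

/-- the criterion for a group generated by involutions -/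
theorem sq_of_closure_involutions {C : Type*} [Group C] (U : Subgroup C) (S : Set C)
    (hS : Subgroup.closure S = U) (hsq : ∀ s ∈ S, s ^ 2 = 1) : SqG ↥U :=
  sq_of_closure U S hS (fun s hs => by rw [hsq s hs]; exact Subgroup.one_mem _)

/-- the criterion for a join of subgroups: `U = ⨆ i, R i` and the squares of the elements of each
`R i` lie in `U'` (for instance because they lie in `(R i)'`, or are trivial). -/
theorem sq_of_iSup {C : Type*} [Group C] {ι : Sort*} (U : Subgroup C) (R : ι → Subgroup C)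
    (hU : ⨆ i, R i = U) (hsq : ∀ i, ∀ x ∈ R i, x ^ 2 ∈ ⁅U, U⁆) : SqG ↥U := by
  apply sq_of_closure U (⋃ i, (R i : Set C))
  · rw [← hU, Subgroup.closure_iUnion]
    congr 1
    funext i
    exact Subgroup.closure_eq (R i)
  · intro s hs
    obtain ⟨i, hi⟩ := Set.mem_iUnion.mp hs
    exact hsq i s hi

/-- squares in `R'` for `R ≤ U` are squares in `U'` -/
theorem commutator_le_of_le {C : Type*} [Group C] {R U : Subgroup C} (h : R ≤ U) :
    ⁅R, R⁆ ≤ ⁅U, U⁆ := Subgroup.commutator_mono h h

/-- two generators: `U = L ⊔ Q` -/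
theorem sq_of_sup {C : Type*} [Group C] (U L Q : Subgroup C) (hU : L ⊔ Q = U)
    (hL : ∀ x ∈ L, x ^ 2 ∈ ⁅U, U⁆) (hQ : ∀ x ∈ Q, x ^ 2 ∈ ⁅U, U⁆) : SqG ↥U := by
  apply sq_of_iSup U (fun b : Bool => if b then L else Q)
  · rw [iSup_bool_eq]
    simpa using hU
  · intro b x hx
    cases b
    · exact hQ x (by simpa using hx)
    · exact hL x (by simpa using hx)

/-- `SqG` of a subgroup passes to its image under any homomorphism -/
theorem sqG_map {C D : Type*} [Group C] [Group D] (f : C →* D) (U : Subgroup C) (h : SqG ↥U) :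
    SqG ↥(U.map f) :=
  sqG_of_surjective (f.subgroupMap U) (f.subgroupMap_surjective U) h

section sylow

variable {C : Type*} [Group C]

/-- all Sylow `2`-subgroups inherit the property -/
theorem sqD_all [Finite C] (h : SqD C) (P : Sylow 2 C) : SqG ↥(P : Subgroup C) := by
  have : Fact (Nat.Prime 2) := ⟨Nat.prime_two⟩
  obtain ⟨P0, hP0⟩ := h
  obtain ⟨g, rfl⟩ := MulAction.exists_smul_eq C P0 P
  exact sqG_of_mulEquiv (Sylow.equivSMul P0 g) hP0

/-- transport along an isomorphism -/
theorem sqD_of_mulEquiv {G : Type*} [Group G] (e : G ≃* C) (h : SqD C) : SqD G := by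
  obtain ⟨P, hP⟩ := h
  have hr : (P : Subgroup C) ≤ e.toMonoidHom.range := by
    rw [MonoidHom.range_eq_top.mpr e.surjective]
    exact le_top
  have hinj : Function.Injective e.toMonoidHom := e.injective
  refine ⟨P.comapOfInjective e.toMonoidHom hinj hr, ?_⟩
  rw [Sylow.coe_comapOfInjective]
  have hbij : Function.Bijective (e.toMonoidHom.subgroupComap (P : Subgroup C)) := by
    constructor
    · intro x y hxy
      apply Subtype.ext
      apply e.injective
      exact congrArg Subtype.val hxy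
    · rintro ⟨y, hy⟩
      obtain ⟨x, rfl⟩ := e.surjective y
      exact ⟨⟨x, hy⟩, rfl⟩
  exact sqG_of_mulEquiv (MulEquiv.ofBijective _ hbij).symm hP

/-- transport to a quotient (image of a Sylow subgroup under a surjective homomorphism) -/
theorem sqD_of_surjective [Finite C] {D : Type*} [Group D] (f : C →* D)
    (hf : Function.Surjective f) (h : SqD C) : SqD D := by
  have : Fact (Nat.Prime 2) := ⟨Nat.prime_two⟩
  obtain ⟨P, hP⟩ := h
  refine ⟨P.mapSurjective hf, ?_⟩
  rw [Sylow.coe_mapSurjective]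
  exact sqG_map f _ hP

/-- transport to a quotient group -/
theorem sqD_quot [Finite C] (N : Subgroup C) [N.Normal] (h : SqD C) : SqD (C ⧸ N) :=
  sqD_of_surjective (QuotientGroup.mk' N) (QuotientGroup.mk'_surjective N) h

/-- a `2`-subgroup of odd index with the property gives `SqD` -/
theorem sqD_of_isPGroup (U : Subgroup C) (hU : IsPGroup 2 ↥U) (hidx : ¬ 2 ∣ U.index)
    (h : SqG ↥U) : SqD C := by
  have : Fact (Nat.Prime 2) := ⟨Nat.prime_two⟩
  refine ⟨hU.toSylow hidx, ?_⟩
  rw [IsPGroup.toSylow_coe]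
  exact h

/-- a subgroup of order the full power of `2` dividing `|C|` with the property gives `SqD` -/
theorem sqD_of_card [Finite C] (U : Subgroup C)
    (hU : Nat.card ↥U = 2 ^ (Nat.card C).factorization 2) (h : SqG ↥U) : SqD C := by
  have : Fact (Nat.Prime 2) := ⟨Nat.prime_two⟩
  refine ⟨Sylow.ofCard U hU, ?_⟩
  rw [Sylow.coe_ofCard]
  exact h

/-- the same with the order given as `2 ^ k * m`, `m` odd -/
theorem sqD_of_card_mul [Finite C] (U : Subgroup C) {k m : ℕ} (hm : ¬ 2 ∣ m)
    (hC : Nat.card C = 2 ^ k * m) (hU : Nat.card ↥U = 2 ^ k) (h : SqG ↥U) : SqD C := by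
  apply sqD_of_card U _ h
  rw [hU, hC]
  congr 1
  have hm0 : m ≠ 0 := by
    rintro rfl
    exact hm (dvd_zero 2)
  rw [Nat.factorization_mul (pow_ne_zero k two_ne_zero) hm0, Nat.factorization_pow]
  simp [Nat.factorization_eq_zero_of_not_dvd hm, Nat.prime_two.factorization_self]

end sylow

end Cfsg.Agent.Lib.Helper20.Sq
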