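import Mathlib
import Cfsg.Agent.Lib.Helper20.SuHeis2
import Cfsg.Agent.Lib.Helper20.SuTwist
import Cfsg.Agent.Lib.Helper20.PslTorus

set_option autoImplicit false
set_option linter.style.haveILetI false
set_option linter.unusedSimpArgs false
set_option linter.unusedSectionVars false

/-!
# Generation of the torus of `SUJ` by `p`-elements of parabolics: definitions
-/

namespace Cfsg.Agent.Lib.Helper20.SuF

open Matrix Subgroup Cfsg.Agent.Lib.Helper20.PslF

variable {n : ℕ} {K : Type*} [Field K] [Fintype K] (F : Inv K)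

/-- the subgroup generated by the `p`-elements of `PJ k ⊓ SUJ` -/
def GenP (p : ℕ) (k : ℕ) : Subgroup (SLn n K) :=
  closure {h : SLn n K | h ∈ (PJ k : Subgroup (SLn n K)) ∧ h ∈ SUJ F ∧ ∃ m : ℕ, orderOf h = p ^ m}

theorem mem_GenP_of {p k : ℕ} {h : SLn n K} (h1 : h ∈ (PJ k : Subgroup (SLn n K)))
    (h2 : h ∈ SUJ F) (h3 : ∃ m : ℕ, orderOf h = p ^ m) : h ∈ GenP F p k :=
  subset_closure ⟨h1, h2, h3⟩

/-- the subgroup generated by the elements of the Borel subgroup lying in some `GenP k`,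
`k = 1, 2` -/
def GenB (p : ℕ) : Subgroup (SLn n K) :=
  closure {g : SLn n K | g ∈ (UT : Subgroup (SLn n K)) ∧ g ∈ SUJ F ∧
    (g ∈ GenP F p 1 ∨ g ∈ GenP F p 2)}

/-- the first half of the indices -/
def FH (x : Fin n) : Prop := 2 * (x : ℕ) + 1 < n

theorem FH_disj (x : Fin n) : ¬ (FH x ∧ FH (Fin.rev x)) := by
  unfold FH
  rw [Fin.val_rev]
  have := x.2
  omega

end Cfsg.Agent.Lib.Helper20.SuF
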