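import Mathlib
import Cfsg.Agent.Lib.Helper20.SuClosedDefs
import Cfsg.Agent.Lib.Helper20.SuTorusDefs
import Cfsg.Agent.Lib.Helper43.SuD
import Cfsg.Agent.Lib.Helper53.CenterMeet
import Cfsg.Agent.Lib.Helper91.SuI
import Cfsg.Agent.Lib.Helper41.SuF
import Cfsg.Agent.Lib.Helper14.SuE
import Cfsg.Agent.Lib.Helper94.SuA
import Cfsg.Agent.Lib.Helper85.SuG0
import Cfsg.Agent.Lib.Helper13.SuG1
import Cfsg.Agent.Lib.Helper13.SuG2
import Cfsg.Agent.Lib.Helper42.SuG3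
import Cfsg.Agent.Lib.Helper42.SuG4
import Cfsg.Agent.Lib.Helper43.SuG5
import Cfsg.Agent.Lib.Helper79.SuH2
import Cfsg.Agent.Lib.Helper79.SuH3
import Cfsg.Agent.Lib.Helper60.SuH1
import Cfsg.Agent.Lib.Helper60.SuH4

/-! Aggregator of the leaf lemmas of the `PSU_n(q)` fusion-simplicity project (S5172), proved by
helpers 94, 43, 14, 41, 91, 85, 13, 42, 79, 60. -/
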