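import Mathlib
import Cfsg.Agent.Lib.Helper20.SuLeaves
import Cfsg.Agent.Lib.Helper20.PslMain

set_option autoImplicit false
set_option linter.style.haveILetI false
set_option linter.unusedSimpArgs false
set_option linter.unusedSectionVars false

/-!
# The Borel subgroup of `SUJ` is generated by `p`-elements of the two parabolics
-/

namespace Cfsg.Agent.Lib.Helper20.SuF

open Matrix Subgroup Cfsg.Agent.Lib.Helper20.PslF

variable {n : ℕ} {K : Type*} [Field K] [Fintype K] (F : Inv K)
  (p : ℕ) [hp : Fact p.Prime] [CharP K p]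

theorem GenP_le_SUJ (k : ℕ) : (GenP F p k : Subgroup (SLn n K)) ≤ SUJ F := by
  unfold GenP
  rw [closure_le]
  intro h hh
  exact hh.2.1

theorem UU_mem_GenB (hn : 4 ≤ n) {u : SLn n K} (hu : u ∈ (UU : Subgroup (SLn n K)))
    (huS : u ∈ SUJ F) : u ∈ GenB F p := by
  haveI : NeZero n := ⟨by omega⟩
  apply Subgroup.subset_closure
  exact ⟨UU_le_UT hu, huS, Or.inl (mem_GenP_of F (UT_le_PJ 1 (by omega) (UU_le_UT hu)) huS
    (UU_orderOf p hu))⟩

theorem UT_diag_unitary {b : SLn n K} (hb : b ∈ (UT : Subgroup (SLn n K))) (hbS : b ∈ SUJ F)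
    (x : Fin n) : F.sg (mt b (Fin.rev x) (Fin.rev x)) * mt b x x = 1 := by
  have h := congrFun (congrFun ((mem_SUJ F b).mp hbS) x) x
  rw [Matrix.mul_apply, Matrix.one_apply_eq, Finset.sum_eq_single x] at h
  · rwa [adj_apply] at h
  · intro k _ hk
    rcases lt_or_gt_of_ne hk with h1 | h1
    · rw [adj_apply, (mem_UT b).mp hb (Fin.rev k) (Fin.rev x) (Fin.rev_lt_rev.mpr h1), map_zero,
        zero_mul]
    · rw [(mem_UT b).mp hb k x h1, mul_zero]
  · intro hx; exact absurd (Finset.mem_univ x) hx

theorem UT_diag_inv {h : SLn n K} (hh : h ∈ (UT : Subgroup (SLn n K))) (x : Fin n) :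
    mt h⁻¹ x x = (mt h x x)⁻¹ := by
  have e := UT_diag_mul hh (inv_mem hh) x
  rw [mul_inv_cancel, mt_one, Matrix.one_apply_eq] at e
  exact eq_inv_of_mul_eq_one_right e.symm

theorem diag_mem_UT {d : SLn n K} {D : Fin n → K} (hd : mt d = diagonal D) :
    d ∈ (UT : Subgroup (SLn n K)) := by
  rw [mem_UT]
  intro x y hxy
  rw [hd, Matrix.diagonal_apply_ne _ (ne_of_gt hxy)]

theorem diag_mem_SUJ {d : SLn n K} {D : Fin n → K} (hd : mt d = diagonal D)
    (hD : ∀ x, F.sg (D (Fin.rev x)) * D x = 1) : d ∈ SUJ F := by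
  rw [mem_SUJ, hd]
  ext x y
  rw [Matrix.mul_apply, Finset.sum_eq_single x]
  · rw [adj_apply]
    by_cases hxy : x = y
    · rw [hxy, Matrix.diagonal_apply_eq, Matrix.diagonal_apply_eq, Matrix.one_apply_eq]
      exact hD y
    · rw [Matrix.diagonal_apply_ne _ hxy, mul_zero, Matrix.one_apply_ne hxy]
  · intro k _ hk
    rw [adj_apply, Matrix.diagonal_apply_ne _ (fun h => hk (Fin.rev_injective h)), map_zero,
      zero_mul]
  · intro hx; exact absurd (Finset.mem_univ x) hx

/-- the induction step: peel off one `GL`-type simple root -/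
theorem borel_step (hn : 4 ≤ n) (j : ℕ) (hj : 2 * (j + 1) + 1 < n)
    (ih : ∀ b : SLn n K, b ∈ (UT : Subgroup (SLn n K)) → b ∈ SUJ F →
      (∀ x : Fin n, (x : ℕ) < j + 1 → mt b x x = 1) → b ∈ GenB F p)
    (b : SLn n K) (hb : b ∈ (UT : Subgroup (SLn n K))) (hbS : b ∈ SUJ F)
    (hd : ∀ x : Fin n, (x : ℕ) < j → mt b x x = 1) : b ∈ GenB F p := by
  set a : Fin n := ⟨j, by omega⟩ with ha
  set a1 : Fin n := ⟨j + 1, by omega⟩ with ha1
  have hav : (a : ℕ) = j := rfl
  have ha1v : (a1 : ℕ) = j + 1 := rfl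
  have hab : a ≠ a1 := by
    intro e
    have := congrArg Fin.val e
    rw [hav, ha1v] at this
    omega
  have hFa : FH a := by unfold FH; rw [hav]; omega
  have hFa1 : FH a1 := by unfold FH; rw [ha1v]; omega
  set t : K := mt b a a with ht
  have ht0 : t ≠ 0 := UT_diag_ne_zero hb a
  set d2 : SLn n K := SpecialLinearGroup.diag2n hab t ht0 with hd2def
  set f : Fin n → K := fun k => if k = a then t else if k = a1 then t⁻¹ else 1 with hf
  have hd2 : mt d2 = diagonal f := rfl
  have hfa : f a = t := by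
    show (if a = a then t else if a = a1 then t⁻¹ else 1) = t
    rw [if_pos rfl]
  have hfo : ∀ x, x ≠ a → x ≠ a1 → f x = 1 := by
    intro x h1 h2
    show (if x = a then t else if x = a1 then t⁻¹ else 1) = 1
    rw [if_neg h1, if_neg h2]
  have hfne : ∀ x, f x ≠ 0 := by
    intro x
    show (if x = a then t else if x = a1 then t⁻¹ else 1) ≠ 0
    split_ifs
    · exact ht0
    · exact inv_ne_zero ht0
    · exact one_ne_zero
  have hd2L : d2 ∈ (LS FH : Subgroup (SLn n K)) := by
    rw [mem_LS]
    intro x y hxy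
    rw [hd2]
    by_cases hxy' : x = y
    · subst hxy'
      have hx : ¬ FH x := fun h => hxy ⟨h, h⟩
      rw [Matrix.diagonal_apply_eq, Matrix.one_apply_eq,
        hfo x (fun e => hx (e ▸ hFa)) (fun e => hx (e ▸ hFa1))]
    · rw [Matrix.diagonal_apply_ne _ hxy', Matrix.one_apply_ne hxy']
  set h : SLn n K := theta F d2 with hh
  have hhS : h ∈ SUJ F := theta_mem F FH_disj hd2L
  have hhm : mt h = diagonal (fun x => f x * (F.sg (f (Fin.rev x)))⁻¹) := theta_diag F f hfne hd2
  have hhU : h ∈ (UT : Subgroup (SLn n K)) := diag_mem_UT hhm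
  have hGen : h ∈ GenP F p 1 ∨ h ∈ GenP F p 2 := by
    by_cases hj0 : j = 0
    · right
      apply theta_diag2n_mem F p (by omega) hab hFa hFa1 _ t ht0
      unfold b3
      rw [if_pos (by rw [hav]; omega), if_pos (by rw [ha1v]; omega)]
    · left
      apply theta_diag2n_mem F p (by omega) hab hFa hFa1 _ t ht0
      unfold b3
      rw [if_neg (by rw [hav]; omega), if_pos (by rw [hav]; omega),
        if_neg (by rw [ha1v]; omega), if_pos (by rw [ha1v]; omega)]
  have hhB : h ∈ GenB F p := Subgroup.subset_closure ⟨hhU, hhS, hGen⟩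
  have hrev : ∀ x : Fin n, (x : ℕ) < j + 1 → f (Fin.rev x) = 1 := by
    intro x hx
    apply hfo
    · intro e
      have := congrArg Fin.val e
      rw [Fin.val_rev, hav] at this
      omega
    · intro e
      have := congrArg Fin.val e
      rw [Fin.val_rev, ha1v] at this
      omega
  have hb1 : h⁻¹ * b ∈ GenB F p := by
    apply ih _ (mul_mem (inv_mem hhU) hb) (mul_mem (inv_mem hhS) hbS)
    intro x hx
    rw [UT_diag_mul (inv_mem hhU) hb, UT_diag_inv hhU, hhm, Matrix.diagonal_apply_eq, hrev x hx,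
      map_one, inv_one, mul_one]
    by_cases hxa : x = a
    · rw [hxa, hfa]
      exact inv_mul_cancel₀ ht0
    · have hxj : (x : ℕ) < j := by
        have : (x : ℕ) ≠ j := fun e => hxa (Fin.ext e)
        omega
      have hxa1 : x ≠ a1 := by
        intro e
        have := congrArg Fin.val e
        rw [ha1v] at this
        omega
      rw [hfo x hxa hxa1, hd x hxj, inv_one, one_mul]
  have e : b = h * (h⁻¹ * b) := by group
  rw [e]
  exact mul_mem hhB hb1

/-- the base case: only the last node is left -/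
theorem borel_base (hn : 4 ≤ n) (b : SLn n K) (hb : b ∈ (UT : Subgroup (SLn n K)))
    (hbS : b ∈ SUJ F) (hd : ∀ x : Fin n, (x : ℕ) + 1 < n / 2 → mt b x x = 1) :
    b ∈ GenB F p := by
  haveI : NeZero n := ⟨by omega⟩
  set m := n / 2 with hm
  have hm2 : 2 ≤ m := by omega
  set D : Fin n → K := fun x => mt b x x with hDdef
  have hD0 : ∀ x, D x ≠ 0 := fun x => UT_diag_ne_zero hb x
  have hup : (mt b).IsUpperTriangular := fun i j hij => (mem_UT b).mp hb i j hij
  have hprod : ∏ x, D x = 1 := by
    have := Matrix.det_of_isUpperTriangular hup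
    rw [mt_det] at this
    exact this.symm
  have hDdet : (diagonal D).det = 1 := by rw [Matrix.det_diagonal, hprod]
  set d : SLn n K := mkSL (diagonal D) hDdet with hd_def
  have hdm : mt d = diagonal D := rfl
  have hun : ∀ x, F.sg (D (Fin.rev x)) * D x = 1 := fun x => UT_diag_unitary F hb hbS x
  have hdU : d ∈ (UT : Subgroup (SLn n K)) := diag_mem_UT hdm
  have hdS : d ∈ SUJ F := diag_mem_SUJ F hdm hun
  have huU : d⁻¹ * b ∈ (UU : Subgroup (SLn n K)) := by
    rw [mem_UU]
    refine ⟨(mem_UT _).mp (mul_mem (inv_mem hdU) hb), fun x => ?_⟩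
    rw [UT_diag_mul (inv_mem hdU) hb, UT_diag_inv hdU, hdm, Matrix.diagonal_apply_eq]
    exact inv_mul_cancel₀ (hD0 x)
  have huS : d⁻¹ * b ∈ SUJ F := mul_mem (inv_mem hdS) hbS
  have e : b = d * (d⁻¹ * b) := by group
  rw [e]
  refine mul_mem ?_ (UU_mem_GenB F p hn huU huS)
  apply Subgroup.subset_closure
  refine ⟨hdU, hdS, Or.inl ?_⟩
  have hD1 : ∀ x : Fin n, (x : ℕ) + 1 < m → D x = 1 := hd
  have hD2 : ∀ x : Fin n, n - m < (x : ℕ) → D x = 1 := by
    intro x hx
    have h1 : ((Fin.rev x : Fin n) : ℕ) + 1 < m := by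
      rw [Fin.val_rev]; have := x.2; omega
    have h2 := hun (Fin.rev x)
    rw [Fin.rev_rev, hD1 _ h1, mul_one] at h2
    apply F.sg_injective
    rw [h2, map_one]
  set a : Fin n := ⟨m - 1, by omega⟩ with ha
  have hav : (a : ℕ) = m - 1 := rfl
  set t : K := D a with ht
  have ht0 : t ≠ 0 := hD0 a
  have ha1 : 0 < (a : ℕ) := by rw [hav]; omega
  have ha2 : (a : ℕ) + 1 < n := by rw [hav]; omega
  have hr1 : 0 < ((Fin.rev a : Fin n) : ℕ) := by rw [Fin.val_rev, hav]; omega
  have hr2 : ((Fin.rev a : Fin n) : ℕ) + 1 < n := by rw [Fin.val_rev, hav]; omega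
  have hab : a ≠ Fin.rev a := by
    intro e
    have := congrArg Fin.val e
    rw [Fin.val_rev, hav] at this
    omega
  have hunA := hun a
  rcases Nat.even_or_odd' n with ⟨m', hm' | hm'⟩
  · have hmm : m = m' := by omega
    have hother : ∀ x : Fin n, x ≠ a → x ≠ Fin.rev a → D x = 1 := by
      intro x h1 h2
      have h1' : (x : ℕ) ≠ m - 1 := fun e => h1 (Fin.ext e)
      have h2' : (x : ℕ) ≠ m := fun e => h2 (Fin.ext (by rw [Fin.val_rev, hav, e]; omega))
      rcases lt_or_ge (x : ℕ) (m - 1) with h | h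
      · exact hD1 x (by omega)
      · exact hD2 x (by omega)
    have hpr : D a * D (Fin.rev a) = 1 := by
      rw [← hprod]
      symm
      apply Finset.prod_eq_mul a (Fin.rev a) hab
      · intro c _ hc; exact hother c hc.1 hc.2
      · intro h; exact absurd (Finset.mem_univ _) h
      · intro h; exact absurd (Finset.mem_univ _) h
    have hDr : D (Fin.rev a) = t⁻¹ := eq_inv_of_mul_eq_one_right hpr
    have hts : F.sg t = t := by
      rw [hDr, map_inv₀] at hunA
      have h3 : F.sg t ≠ 0 := F.sg_ne_zero ht0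
      have h4 : t = F.sg t := by
        have := congrArg (fun z => F.sg t * z) hunA
        simp only [mul_one] at this
        rw [← mul_assoc, mul_inv_cancel₀ h3, one_mul] at this
        exact this
      exact h4.symm
    have hde : d = (SpecialLinearGroup.diag2n hab t ht0 : SLn n K) := by
      apply mt_ext
      have e2 : mt (SpecialLinearGroup.diag2n hab t ht0 : SLn n K) =
          diagonal (fun k => if k = a then t else if k = Fin.rev a then t⁻¹ else 1) := rfl
      rw [hdm, e2]
      congr 1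
      funext x
      by_cases h1 : x = a
      · rw [if_pos h1, h1]
      · by_cases h2 : x = Fin.rev a
        · rw [if_neg h1, if_pos h2, h2, hDr]
        · rw [if_neg h1, if_neg h2, hother x h1 h2]
    rw [hde]
    exact diag2n_long_mem F p ha1 ha2 hr1 hr2 hab t ht0 hts
  · have hmm : m = m' := by omega
    set mu : Fin n := ⟨m, by omega⟩ with hmu
    have hmuv : (mu : ℕ) = m := rfl
    have hmur : Fin.rev mu = mu := by
      apply Fin.ext
      rw [Fin.val_rev, hmuv]
      omega
    have hamu : a ≠ mu := by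
      intro e
      have := congrArg Fin.val e
      rw [hav, hmuv] at this
      omega
    have hrmu : Fin.rev a ≠ mu := by
      intro e
      have := congrArg Fin.val e
      rw [Fin.val_rev, hav, hmuv] at this
      omega
    have hother : ∀ x : Fin n, x ≠ a → x ≠ mu → x ≠ Fin.rev a → D x = 1 := by
      intro x h1 h2 h3
      have h1' : (x : ℕ) ≠ m - 1 := fun e => h1 (Fin.ext e)
      have h2' : (x : ℕ) ≠ m := fun e => h2 (Fin.ext e)
      have h3' : (x : ℕ) ≠ m + 1 := fun e => h3 (Fin.ext (by rw [Fin.val_rev, hav, e]; omega))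
      rcases lt_or_ge (x : ℕ) (m - 1) with h | h
      · exact hD1 x (by omega)
      · exact hD2 x (by omega)
    have hDr : D (Fin.rev a) = (F.sg t)⁻¹ := by
      have h3 : F.sg (D (Fin.rev a)) = t⁻¹ := eq_inv_of_mul_eq_one_left hunA
      have := congrArg F.sg h3
      rw [F.invol, map_inv₀] at this
      exact this
    have hpr : D a * (D mu * D (Fin.rev a)) = 1 := by
      rw [← hprod, ← Finset.mul_prod_erase Finset.univ D (Finset.mem_univ a)]
      congr 1
      symm
      apply Finset.prod_eq_mul mu (Fin.rev a) hrmu.symm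
      · intro c hc hc2
        exact hother c (Finset.ne_of_mem_erase hc) hc2.1 hc2.2
      · intro h; exact absurd (Finset.mem_erase.mpr ⟨hamu.symm, Finset.mem_univ _⟩) h
      · intro h; exact absurd (Finset.mem_erase.mpr ⟨hab.symm, Finset.mem_univ _⟩) h
    have hDmu : D mu = F.sg t / t := by
      rw [hDr] at hpr
      have h3 : F.sg t ≠ 0 := F.sg_ne_zero ht0
      have h4 : D mu = (t * (F.sg t)⁻¹)⁻¹ := by
        apply eq_inv_of_mul_eq_one_right
        rw [← hpr]
        show t * (F.sg t)⁻¹ * D mu = t * (D mu * (F.sg t)⁻¹)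
        ring
      rw [h4, mul_inv, inv_inv, div_eq_mul_inv, mul_comm]
    apply su3_mem F p hmur hamu ha1 ha2 hr1 hr2 t ht0 d
    rw [hdm]
    congr 1
    funext x
    by_cases h1 : x = a
    · rw [if_pos h1, h1]
    · by_cases h2 : x = mu
      · rw [if_neg h1, if_pos h2, h2, hDmu]
      · by_cases h3 : x = Fin.rev a
        · rw [if_neg h1, if_neg h2, if_pos h3, h3, hDr]
        · rw [if_neg h1, if_neg h2, if_neg h3, hother x h1 h2 h3]

/-- **the generation condition**: the Borel subgroup of `SUJ` is generated by its elements lying in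
the subgroups generated by the `p`-elements of the two parabolics -/
theorem borel_gen (hn : 4 ≤ n) :
    ∀ b ∈ (UT : Subgroup (SLn n K)), b ∈ SUJ F → b ∈ GenB F p := by
  have key : ∀ d j : ℕ, j + d + 1 = n / 2 → ∀ b : SLn n K, b ∈ (UT : Subgroup (SLn n K)) →
      b ∈ SUJ F → (∀ x : Fin n, (x : ℕ) < j → mt b x x = 1) → b ∈ GenB F p := by
    intro d
    induction d with
    | zero =>
      intro j hj b hb hbS hd
      apply borel_base F p hn b hb hbS
      intro x hx
      apply hd
      omega
    | succ d ih =>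
      intro j hj b hb hbS hd
      apply borel_step F p hn j (by omega) _ b hb hbS hd
      intro b' hb' hbS' hd'
      exact ih (j + 1) (by omega) b' hb' hbS' hd'
  intro b hb hbS
  exact key (n / 2 - 1) 0 (by omega) b hb hbS (fun x hx => absurd hx (Nat.not_lt_zero _))

end Cfsg.Agent.Lib.Helper20.SuF
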