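import Mathlib
import Cfsg.Agent.Lib.Helper20.SuLeaves

set_option autoImplicit false
set_option linter.style.haveILetI false
set_option linter.unusedSimpArgs false
set_option linter.unusedSectionVars false

/-!
# The unitriangular part of `SUJ` has no proper nontrivial strongly closed subgroup
-/

namespace Cfsg.Agent.Lib.Helper20.SuF

open Matrix Subgroup Cfsg.Agent.Lib.Helper20.PslF

variable {n : ℕ} {K : Type*} [Field K] [Fintype K] {F : Inv K} {T : Subgroup (SLn n K)}

/-- **no proper nontrivial strongly closed subgroups** -/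
theorem closed_SU (hn : 4 ≤ n) (p : ℕ) [Fact p.Prime] [CharP K p] (h : SC F T) (hT0 : T ≠ ⊥) :
    ∀ u ∈ (UU : Subgroup (SLn n K)), u ∈ SUJ F → u ∈ T := by
  obtain ⟨c0, hc0, hc0T⟩ := exists_long_root hn p h hT0
  have h1 := WT_y1 hn h hc0 hc0T
  have hW := WT_all hn h h1
  have hZ := long_root_mem hn h hW
  have h0 := Q0_mem hn h hW hZ
  have hall := Qa_mem hn h h0
  apply UU_le_of_Sg F T
  intro a w c h1' h2' ha hw hu
  rw [← SgT_eq F c h1' h2']
  exact hall a ha w c hw hu

end Cfsg.Agent.Lib.Helper20.SuF
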