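import Mathlib
import Cfsg.Agent.Lib.Helper20.SuTwist

set_option autoImplicit false
set_option linter.style.haveILetI false
set_option linter.unusedSimpArgs false
set_option linter.unusedSectionVars false

/-!
# The normalizer of the unitriangular part of `SUJ` is triangular
-/

namespace Cfsg.Agent.Lib.Helper20.SuF

open Matrix Subgroup Cfsg.Agent.Lib.Helper20.PslF

variable {n : ℕ} {K : Type*} [Field K] [Fintype K] (F : Inv K)

/-- the shift matrix -/
def Nsh : Matrix (Fin n) (Fin n) K := Matrix.of fun i j => if (j : ℕ) = (i : ℕ) + 1 then 1 else 0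

theorem Nsh_apply (i j : Fin n) :
    (Nsh : Matrix (Fin n) (Fin n) K) i j = if (j : ℕ) = (i : ℕ) + 1 then 1 else 0 := rfl

theorem adj_Nsh : adj F (Nsh : Matrix (Fin n) (Fin n) K) = Nsh := by
  ext i j
  rw [adj_apply, Nsh_apply, Nsh_apply, Fin.val_rev, Fin.val_rev]
  have hi := i.2
  have hj := j.2
  by_cases h : (j : ℕ) = (i : ℕ) + 1
  · rw [if_pos h, if_pos (by omega), map_one]
  · rw [if_neg h, if_neg (by omega), map_zero]

theorem ush_upper (a : K) :
    (1 + a • (Nsh : Matrix (Fin n) (Fin n) K)).BlockTriangular id := by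
  intro i j hij
  have hij' : j < i := hij
  rw [Matrix.add_apply, Matrix.smul_apply, Nsh_apply, Matrix.one_apply_ne (ne_of_gt hij'),
    if_neg (by rw [Fin.lt_def] at hij'; omega), smul_zero, add_zero]

theorem ush_diag (a : K) (i : Fin n) : (1 + a • (Nsh : Matrix (Fin n) (Fin n) K)) i i = 1 := by
  rw [Matrix.add_apply, Matrix.smul_apply, Nsh_apply, Matrix.one_apply_eq, if_neg (by omega),
    smul_zero, add_zero]

/-- `1 + a N` as an element of `SL_n` -/
def ush (a : K) : SLn n K :=
  mkSL (1 + a • Nsh) (by
    rw [Matrix.det_of_upperTriangular (ush_upper a)]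
    exact Finset.prod_eq_one (fun i _ => ush_diag a i))

theorem mt_ush (a : K) : mt (ush a : SLn n K) = 1 + a • Nsh := rfl

theorem ush_mem_UU (a : K) : (ush a : SLn n K) ∈ (UU : Subgroup (SLn n K)) := by
  rw [mem_UU]
  refine ⟨fun x y hxy => ?_, fun x => ?_⟩
  · rw [mt_ush]; exact ush_upper a hxy
  · rw [mt_ush]; exact ush_diag a x

theorem adjG_ush (a : K) : adjG F (ush a : SLn n K) = ush (F.sg a) := by
  apply mt_ext
  rw [mt_adjG, mt_ush, mt_ush, adj_add, adj_one, adj_smul, adj_Nsh]

theorem ush_comm (a b : K) : (ush a : SLn n K) * ush b = ush b * ush a := by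
  apply mt_ext
  rw [mt_mul, mt_mul, mt_ush, mt_ush]
  have hc : Commute (a • (Nsh : Matrix (Fin n) (Fin n) K)) (b • Nsh) :=
    ((Commute.refl Nsh).smul_left a).smul_right b
  exact ((Commute.one_left _).add_left ((Commute.one_right _).add_right hc)).eq

/-- superdiagonal entries add on unitriangular matrices -/
theorem UU_super_mul {g h : SLn n K} (hg : g ∈ (UU : Subgroup (SLn n K)))
    (hh : h ∈ (UU : Subgroup (SLn n K))) {i j : Fin n} (hij : (j : ℕ) = (i : ℕ) + 1) :
    mt (g * h) i j = mt g i j + mt h i j := by
  rw [mem_UU] at hg hh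
  have hne : i ≠ j := by
    intro e; rw [e] at hij; omega
  rw [mt_mul, Matrix.mul_apply, Finset.sum_eq_add i j hne]
  · rw [hg.2 i, hh.2 j, one_mul, mul_one, add_comm]
  · intro c _ hc
    rcases lt_trichotomy c i with h1 | h1 | h1
    · rw [hg.1 i c h1, zero_mul]
    · exact absurd h1 hc.1
    · have : j < c := by
        rw [Fin.lt_def] at h1 ⊢
        have : (c : ℕ) ≠ (j : ℕ) := fun e => hc.2 (Fin.ext e)
        omega
      rw [hh.1 c j this, mul_zero]
  · intro h; exact absurd (Finset.mem_univ i) h
  · intro h; exact absurd (Finset.mem_univ j) h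

theorem UU_super_inv {h : SLn n K} (hh : h ∈ (UU : Subgroup (SLn n K))) {i j : Fin n}
    (hij : (j : ℕ) = (i : ℕ) + 1) : mt h⁻¹ i j = - mt h i j := by
  have h1 := UU_super_mul hh (inv_mem hh) hij
  have hne : i ≠ j := by
    intro e; rw [e] at hij; omega
  rw [mul_inv_cancel, mt_one, Matrix.one_apply_ne hne] at h1
  exact (neg_eq_of_add_eq_zero_right h1.symm).symm

/-- a regular unipotent element of the unitriangular part of `SUJ` -/
theorem exists_regular :
    ∃ u0 : SLn n K, u0 ∈ (UU : Subgroup (SLn n K)) ∧ u0 ∈ SUJ F ∧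
      ∀ i j : Fin n, (j : ℕ) = (i : ℕ) + 1 → mt u0 i j ≠ 0 := by
  obtain ⟨a, ha⟩ := F.nontriv
  refine ⟨ush a * (ush (F.sg a))⁻¹, mul_mem (ush_mem_UU a) (inv_mem (ush_mem_UU _)), ?_, ?_⟩
  · rw [mem_SUJ_iff_adjG, adjG_mul, adjG_inv, adjG_ush, adjG_ush, F.invol]
    have := ush_comm (n := n) a (F.sg a)
    calc (ush a : SLn n K)⁻¹ * ush (F.sg a) * (ush a * (ush (F.sg a))⁻¹)
        = (ush a : SLn n K)⁻¹ * (ush (F.sg a) * ush a) * (ush (F.sg a))⁻¹ := by group
      _ = 1 := by rw [← this]; group
  · intro i j hij
    rw [UU_super_mul (ush_mem_UU a) (inv_mem (ush_mem_UU _)) hij,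
      UU_super_inv (ush_mem_UU _) hij, mt_ush, mt_ush, Matrix.add_apply, Matrix.add_apply,
      Matrix.smul_apply, Matrix.smul_apply, Nsh_apply, if_pos hij]
    have hne : i ≠ j := by
      intro e; rw [e] at hij; omega
    rw [Matrix.one_apply_ne hne, zero_add, zero_add, smul_eq_mul, smul_eq_mul, mul_one, mul_one,
      ← sub_eq_add_neg]
    exact sub_ne_zero.mpr (fun h => ha h.symm)

/-- **SU-B**: an element of `SUJ` normalizing the unitriangular part is upper triangular -/
theorem normalizer_le_UT {g : SLn n K} (hg : g ∈ SUJ F)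
    (h : ∀ u ∈ (UU : Subgroup (SLn n K)), u ∈ SUJ F → g⁻¹ * u * g ∈ (UU : Subgroup (SLn n K))) :
    g ∈ (UT : Subgroup (SLn n K)) := by
  obtain ⟨u0, hu0U, hu0S, hu0⟩ := exists_regular (n := n) F
  have hu' := h u0 hu0U hu0S
  set u' := g⁻¹ * u0 * g with hu'def
  have e : g * u' = u0 * g := by rw [hu'def]; group
  have em : mt g * mt u' = mt u0 * mt g := by rw [← mt_mul, ← mt_mul, e]
  rw [mem_UU] at hu' hu0U
  have outer : ∀ m : ℕ, ∀ j : Fin n, (j : ℕ) = m → ∀ i : Fin n, j < i → mt g i j = 0 := by
    intro m
    induction m using Nat.strong_induction_on with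
    | _ m ihm =>
      intro j hjm
      have IH : ∀ k : Fin n, k < j → ∀ i : Fin n, k < i → mt g i k = 0 := by
        intro k hk i hki
        exact ihm (k : ℕ) (by rw [← hjm]; exact hk) k rfl i hki
      have inner : ∀ d : ℕ, ∀ l : Fin n, n - (l : ℕ) = d → j < l → mt g l j = 0 := by
        intro d
        induction d using Nat.strong_induction_on with
        | _ d ihd =>
          intro l hld hjl
          have hl0 : 0 < (l : ℕ) := by
            rw [Fin.lt_def] at hjl; omega
          set r : Fin n := ⟨(l : ℕ) - 1, by have := l.2; omega⟩ with hr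
          have hrl : (l : ℕ) = (r : ℕ) + 1 := by
            rw [hr]; simp only; omega
          have hjr : j ≤ r := by
            rw [Fin.le_def, hr]; simp only
            rw [Fin.lt_def] at hjl; omega
          have hrlt : r < l := by
            rw [Fin.lt_def]; omega
          have e1 : (mt g * mt u') r j = (mt u0 * mt g) r j := by rw [em]
          have l1 : (mt g * mt u') r j = mt g r j := by
            rw [Matrix.mul_apply, Finset.sum_eq_single j]
            · rw [hu'.2 j, mul_one]
            · intro k _ hk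
              rcases lt_or_gt_of_ne hk with h1 | h1
              · rw [IH k h1 r (lt_of_lt_of_le h1 hjr), zero_mul]
              · rw [hu'.1 k j h1, mul_zero]
            · intro hx; exact absurd (Finset.mem_univ j) hx
          have l2 : (mt u0 * mt g) r j = mt g r j + mt u0 r l * mt g l j := by
            rw [Matrix.mul_apply, Finset.sum_eq_add r l (ne_of_lt hrlt)]
            · rw [hu0U.2 r, one_mul]
            · intro b _ hb
              rcases lt_trichotomy b r with h1 | h1 | h1
              · rw [hu0U.1 r b h1, zero_mul]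
              · exact absurd h1 hb.1
              · have hlb : l < b := by
                  rw [Fin.lt_def] at h1 ⊢
                  have : (b : ℕ) ≠ (l : ℕ) := fun e => hb.2 (Fin.ext e)
                  omega
                have hb2 := b.2
                rw [ihd (n - (b : ℕ)) (by rw [Fin.lt_def] at hlb; omega) b rfl
                  (lt_trans hjl hlb), mul_zero]
            · intro hx; exact absurd (Finset.mem_univ r) hx
            · intro hx; exact absurd (Finset.mem_univ l) hx
          rw [l1, l2] at e1
          have e2 : mt u0 r l * mt g l j = 0 := by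
            have := congrArg (fun t => t - mt g r j) e1
            simp only [sub_self, add_sub_cancel_left] at this
            exact this.symm
          rcases mul_eq_zero.mp e2 with h1 | h1
          · exact absurd h1 (hu0 r l hrl)
          · exact h1
      intro i hji
      exact inner _ i rfl hji
  rw [mem_UT]
  intro x y hxy
  exact outer _ y rfl x hxy

end Cfsg.Agent.Lib.Helper20.SuF
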