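import Mathlib
import Cfsg.Agent.Lib.Helper20.SuBorel
import Cfsg.Agent.Lib.Helper20.SuClosed
import Cfsg.Agent.Lib.Helper20.SuSyl
import Cfsg.Agent.Lib.Helper20.PslLift2

set_option autoImplicit false
set_option linter.style.haveILetI false
set_option linter.unusedSimpArgs false
set_option linter.unusedSectionVars false

/-!
# The `p`-fusion system of a central quotient of `SUJ`, `n ≥ 4`, is simple
-/

namespace Cfsg.Agent.Lib.Helper20.SuF

open Matrix Subgroup Cfsg.Agent.Lib.Helper20.PslF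

section generic

theorem not_dvd_index_of_pow {E : Type*} [Group E] [Finite E] (p : ℕ) [hp : Fact p.Prime]
    (P : Subgroup E) (hP : IsPGroup p P) (m : ℕ) (hm : ¬ p ∣ m)
    (h : ∀ x ∈ normalizer (P : Set E), x ^ m ∈ P) : ¬ p ∣ P.index := by
  intro hdvd
  obtain ⟨k, hk⟩ := IsPGroup.iff_card.mp hP
  have hcard : p ^ (k + 1) ∣ Nat.card E := by
    rw [← Subgroup.card_mul_index P, hk, pow_succ]
    exact Nat.mul_dvd_mul_left _ hdvd
  haveI : (P.comap (normalizer (P : Set E)).subtype).Normal := Subgroup.normal_in_normalizer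
  have h1 := Sylow.prime_dvd_card_quotient_normalizer hcard hk
  obtain ⟨xbar, hx⟩ := exists_prime_orderOf_dvd_card' p h1
  obtain ⟨x, rfl⟩ := QuotientGroup.mk_surjective xbar
  have hpow : ((x ^ m : normalizer (P : Set E)) :
      (normalizer (P : Set E)) ⧸ P.comap (normalizer (P : Set E)).subtype) = 1 := by
    rw [QuotientGroup.eq_one_iff, mem_comap]
    exact h x x.2
  have hd : p ∣ m := by
    rw [← hx]
    apply orderOf_dvd_of_pow_eq_one
    rw [← QuotientGroup.mk_pow]
    exact hpow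
  exact hm hd

theorem closure_subtype_transfer {G : Type*} [Group G] (H : Subgroup G) (s : Set G) (t : Set H)
    (hst : ∀ g ∈ s, ∃ hg : g ∈ H, (⟨g, hg⟩ : H) ∈ closure t) :
    ∀ y ∈ closure s, ∃ hy : y ∈ H, (⟨y, hy⟩ : H) ∈ closure t := by
  intro y hy
  induction hy using Subgroup.closure_induction with
  | mem g hg => exact hst g hg
  | one => exact ⟨one_mem _, one_mem _⟩
  | mul a b _ _ ha hb =>
    obtain ⟨ha1, ha2⟩ := ha
    obtain ⟨hb1, hb2⟩ := hb
    exact ⟨mul_mem ha1 hb1, mul_mem ha2 hb2⟩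
  | inv a _ ha =>
    obtain ⟨ha1, ha2⟩ := ha
    exact ⟨inv_mem ha1, inv_mem ha2⟩

open scoped Pointwise in
/-- adjust a cover so that a given Sylow subgroup of the target is the image of a given Sylow
subgroup of the source -/
theorem exists_adjusted {E G : Type*} [Group E] [Group G] [Finite E] {p : ℕ} [Fact p.Prime]
    (f : E →* G) (hfs : Function.Surjective f) (St : Sylow p E) (S : Sylow p G) :
    ∃ f' : E →* G, Function.Surjective f' ∧ f'.ker = f.ker ∧
      (S : Subgroup G) = (St : Subgroup E).map f' := by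
  haveI : Finite G := Finite.of_surjective f hfs
  set S0 : Sylow p G := Sylow.mapSurjective hfs St with hS0
  obtain ⟨c, hc⟩ := MulAction.exists_smul_eq G S0 S
  set f' : E →* G := (MulAut.conj c).toMonoidHom.comp f with hf'
  refine ⟨f', ?_, ?_, ?_⟩
  · intro y
    obtain ⟨x, hx⟩ := hfs (c⁻¹ * y * c)
    refine ⟨x, ?_⟩
    show MulAut.conj c (f x) = y
    rw [hx, MulAut.conj_apply]
    group
  · ext x
    rw [MonoidHom.mem_ker, MonoidHom.mem_ker]
    show MulAut.conj c (f x) = 1 ↔ f x = 1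
    rw [MulAut.conj_apply]
    constructor
    · intro h
      have := congrArg (fun t => c⁻¹ * t * c) h
      simpa [mul_assoc] using this
    · intro h
      rw [h]; simp
  · rw [← hc]
    have hcoe : ((c • S0 : Sylow p G) : Subgroup G) = MulAut.conj c • (S0 : Subgroup G) := rfl
    rw [hcoe, hS0, Sylow.coe_mapSurjective, hf', ← Subgroup.map_map]
    ext y
    rw [Subgroup.mem_pointwise_smul_iff_inv_smul_mem]
    constructor
    · intro h
      refine ⟨_, h, ?_⟩
      show MulAut.conj c ((MulAut.conj c)⁻¹ • y) = y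
      simp
      group
    · rintro ⟨x, hx, rfl⟩
      have : (MulAut.conj c)⁻¹ • ((MulAut.conj c).toMonoidHom x) = x := by
        show (MulAut.conj c)⁻¹ (MulAut.conj c x) = x
        simp
        group
      rw [this]
      exact hx

end generic

variable {n : ℕ} {K : Type*} [Field K] [Fintype K] (F : Inv K)
  (p : ℕ) [hp : Fact p.Prime] [CharP K p]

/-- the unitriangular part of `SUJ` -/
def UE : Subgroup ↥(SUJ (n := n) F) := (UU : Subgroup (SLn n K)).subgroupOf (SUJ F)

/-- the radicals, inside `SUJ` -/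
def QE (k : ℕ) : Subgroup ↥(SUJ (n := n) F) := (QJ k : Subgroup (SLn n K)).subgroupOf (SUJ F)

theorem mem_UE (x : ↥(SUJ (n := n) F)) : x ∈ UE F ↔ (x : SLn n K) ∈ (UU : Subgroup (SLn n K)) :=
  Subgroup.mem_subgroupOf

theorem mem_QE (k : ℕ) (x : ↥(SUJ (n := n) F)) :
    x ∈ QE F k ↔ (x : SLn n K) ∈ (QJ k : Subgroup (SLn n K)) :=
  Subgroup.mem_subgroupOf

theorem UE_isPGroup [NeZero n] : IsPGroup p (UE (n := n) F) :=
  (UU_isPGroup p).comap_subtype

theorem coe_mem_UT_of_normalizer {x : ↥(SUJ (n := n) F)}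
    (hx : x ∈ normalizer ((UE F : Subgroup ↥(SUJ (n := n) F)) : Set ↥(SUJ (n := n) F))) :
    (x : SLn n K) ∈ (UT : Subgroup (SLn n K)) := by
  apply normalizer_le_UT F x.2
  intro u hu huS
  have hx' := inv_mem hx
  have := (mem_normalizer_iff.mp hx' ⟨u, huS⟩).mp ((mem_UE F _).mpr hu)
  rw [inv_inv, mem_UE] at this
  exact this

theorem mem_normalizer_UE_of_UT {x : ↥(SUJ (n := n) F)}
    (h : (x : SLn n K) ∈ (UT : Subgroup (SLn n K))) :
    x ∈ normalizer ((UE F : Subgroup ↥(SUJ (n := n) F)) : Set ↥(SUJ (n := n) F)) := by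
  rw [mem_normalizer_iff]
  intro u
  rw [mem_UE, mem_UE]
  exact mem_normalizer_iff.mp (UT_le_normalizer_UU h) (u : SLn n K)

theorem not_dvd_index_UE [NeZero n] : ¬ p ∣ (UE (n := n) F).index := by
  apply not_dvd_index_of_pow p (UE F) (UE_isPGroup F p) (Fintype.card K - 1)
    (card_sub_one_not_dvd p)
  intro x hx
  rw [mem_UE]
  exact UT_pow_card_mem_UU (coe_mem_UT_of_normalizer F hx)

/-- the unitriangular part as a Sylow subgroup -/
noncomputable def UEs [NeZero n] : Sylow p ↥(SUJ (n := n) F) :=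
  IsPGroup.toSylow (UE_isPGroup F p) (not_dvd_index_UE F p)

theorem coe_UEs [NeZero n] :
    ((UEs F p : Sylow p ↥(SUJ (n := n) F)) : Subgroup ↥(SUJ (n := n) F)) = UE F := rfl

theorem PJ_le_normalizer_QE (k : ℕ) {x : ↥(SUJ (n := n) F)}
    (h : (x : SLn n K) ∈ (PJ k : Subgroup (SLn n K))) :
    x ∈ normalizer ((QE F k : Subgroup ↥(SUJ (n := n) F)) : Set ↥(SUJ (n := n) F)) := by
  rw [mem_normalizer_iff]
  intro r
  rw [mem_QE, mem_QE]
  exact mem_normalizer_iff.mp (BT_le_normalizer_RB _ h) (r : SLn n K)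

end Cfsg.Agent.Lib.Helper20.SuF
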