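import Cfsg.Agent.Lib.Helper20.SqPSUJ
import Cfsg.Agent.Lib.Helper99.SqPSUA

set_option autoImplicit false

/-! # Sq hive (S4625), leaf SQ-PSU: assembly of the core (`sqpsuj_core`) and the transport
(`psu_transport`, helper99). -/

namespace Cfsg.Agent.Lib.Helper20.Sq

/-- SQ-PSU -/
theorem sq_psu (F : Type) [Field F] [Fintype F] [CharP F 2] (n q : ℕ) (hF : Fintype.card F = q ^ 2)
    (hn : 3 ≤ n) : SqD ↥(Cfsg.SU n F q) :=
  psu_transport F n q hF hn (fun I => sqpsuj_core I)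

end Cfsg.Agent.Lib.Helper20.Sq
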