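import Cfsg.Agent.Lib.Helper20.SqCore
import Cfsg.Agent.Lib.Helper20.SuHeis
import Cfsg.Agent.Lib.Helper20.SuMain
import Cfsg.Agent.Lib.Helper94.SuA
import Cfsg.Agent.Lib.Helper48.SqPSUB

set_option autoImplicit false
set_option linter.unusedSectionVars false
set_option linter.unusedSimpArgs false

/-! # Sq hive (S4625), leaf SQ-PSU in the antidiagonal model: the unitriangular Sylow subgroup of
`SUJ` is generated by Eichler elements `SgT (eb a) w c`, whose squares are commutators. -/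

namespace Cfsg.Agent.Lib.Helper20.Sq

open Matrix Subgroup Cfsg.Agent.Lib.Helper20.PslF Cfsg.Agent.Lib.Helper20.SuF

section psuj

variable {n : ℕ} {K : Type*} [Field K] [Fintype K] (F : SuF.Inv K)

/-- rows below `k` are standard -/
def sqpsuj_Std (k : ℕ) (x : SLn n K) : Prop :=
  ∀ i j : Fin n, (i : ℕ) < k → mt x i j = (1 : Matrix (Fin n) (Fin n) K) i j

theorem sqpsuj_std_inv {k : ℕ} {x : SLn n K} (h : sqpsuj_Std k x) : sqpsuj_Std k x⁻¹ := by
  intro i j hi
  have h1 : (mt x * mt x⁻¹) i j = (1 : Matrix (Fin n) (Fin n) K) i j := by rw [mt_mul_inv]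
  rw [Matrix.mul_apply] at h1
  rw [← h1, Finset.sum_eq_single i]
  · rw [h i i hi, Matrix.one_apply_eq, one_mul]
  · intro l _ hl
    rw [h i l hi, Matrix.one_apply_ne hl.symm, zero_mul]
  · intro hni
    exact absurd (Finset.mem_univ i) hni

theorem sqpsuj_std_col {k : ℕ} {x : SLn n K} (hx : x ∈ SUJ F) (h : sqpsuj_Std k x) (i j : Fin n)
    (hj : ((Fin.rev j : Fin n) : ℕ) < k) : mt x i j = (1 : Matrix (Fin n) (Fin n) K) i j := by
  have h1 := sqpsuj_std_inv h (Fin.rev j) (Fin.rev i) hj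
  rw [mt_inv_of_mem F hx, adj_apply, Fin.rev_rev, Fin.rev_rev] at h1
  have h2 := congrArg F.sg h1
  rw [F.invol] at h2
  rw [h2]
  by_cases hij : i = j
  · subst hij
    rw [Matrix.one_apply_eq, Matrix.one_apply_eq, map_one]
  · have : Fin.rev j ≠ Fin.rev i := fun e => hij (Fin.rev_injective e).symm
    rw [Matrix.one_apply_ne this, Matrix.one_apply_ne hij, map_zero]

theorem sqpsuj_eq_one {x : SLn n K} (hU : x ∈ (UU : Subgroup (SLn n K))) (hx : x ∈ SUJ F)
    (h : sqpsuj_Std (n / 2) x) : x = 1 := by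
  apply mt_ext
  rw [mt_one]
  ext i j
  by_cases hi : (i : ℕ) < n / 2
  · exact h i j hi
  · obtain ⟨h1, h2⟩ := (mem_UU x).mp hU
    rcases lt_trichotomy j i with hji | hji | hji
    · rw [h1 i j hji, Matrix.one_apply_ne (ne_of_gt hji)]
    · subst hji
      rw [h2, Matrix.one_apply_eq]
    · apply sqpsuj_std_col F hx h
      rw [Fin.val_rev]
      have := j.2
      have hij : (i : ℕ) < j := hji
      omega

/-- the generating set: upper Eichler elements in `SUJ` -/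
def sqpsuj_S : Set (SLn n K) :=
  {g | ∃ (a : Fin n) (w : Fin n → K) (c : K), a < Fin.rev a ∧
    (∀ x, w x ≠ 0 → a < x ∧ x < Fin.rev a) ∧ c + F.sg c + hf F w w = 0 ∧ g = SgT F (eb a) w c}

theorem sqpsuj_side {a : Fin n} {w : Fin n → K} (ha : a < Fin.rev a)
    (hw : ∀ x, w x ≠ 0 → a < x ∧ x < Fin.rev a) :
    hf F (eb a : Fin n → K) (eb a) = 0 ∧ hf F w (eb a) = 0 ∧ w a = 0 ∧ w (Fin.rev a) = 0 := by
  have hwa : w a = 0 := by
    by_contra h
    exact lt_irrefl _ (hw a h).1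
  have hwr : w (Fin.rev a) = 0 := by
    by_contra h
    exact lt_irrefl _ (hw _ h).2
  refine ⟨hf_eb_self_eq_zero F (ne_of_lt ha), ?_, hwa, hwr⟩
  rw [hf_eb_right]
  exact hwr

theorem sqpsuj_S_le : sqpsuj_S F ⊆ ((UU ⊓ SUJ F : Subgroup (SLn n K)) : Set (SLn n K)) := by
  rintro _ ⟨a, w, c, ha, hw, hc, rfl⟩
  obtain ⟨h1, h2, -, -⟩ := sqpsuj_side F ha hw
  exact ⟨SgT_mem_UU F c ha hw, SgT_mem_SUJ F h1 h2 hc⟩

/-- the row-clearing vector -/
noncomputable def sqpsuj_w (x : SLn n K) (a : Fin n) : Fin n → K :=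
  fun l => if a < l ∧ l < Fin.rev a then - F.sg (mt x a (Fin.rev l)) else 0

theorem sqpsuj_w_supp (x : SLn n K) (a : Fin n) :
    ∀ l, sqpsuj_w F x a l ≠ 0 → a < l ∧ l < Fin.rev a := by
  intro l hl
  by_contra h
  apply hl
  unfold sqpsuj_w
  rw [if_neg h]

/-- the trace condition, abstractly: if `-w` is the middle part of the column `rev a` of `x⁻¹` -/
theorem sqpsuj_cond_abs {x : SLn n K} (hU : x ∈ (UU : Subgroup (SLn n K))) (hx : x ∈ SUJ F)
    (a : Fin n) (ha : a < Fin.rev a) (w : Fin n → K) (hwa : w a = 0) (hwr : w (Fin.rev a) = 0)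
    (hw : ∀ i, i ≠ a → i ≠ Fin.rev a → F.sg (mt x a (Fin.rev i)) = - w i) (c : K)
    (hc : c = mt x a (Fin.rev a)) : c + F.sg c + hf F w w = 0 := by
  obtain ⟨hU1, hU2⟩ := (mem_UU x).mp hU
  have hxi : x⁻¹ ∈ SUJ F := (SUJ F).inv_mem hx
  have hne : Fin.rev a ≠ a := (ne_of_lt ha).symm
  have hξ : mt x⁻¹ *ᵥ (eb (Fin.rev a) : Fin n → K) = eb (Fin.rev a) - w + F.sg c • eb a := by
    funext i
    have e1 : (mt x⁻¹ *ᵥ (eb (Fin.rev a) : Fin n → K)) i = F.sg (mt x a (Fin.rev i)) := by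
      rw [Matrix.mulVec, dotProduct, Finset.sum_eq_single (Fin.rev a)]
      · rw [eb_same, mul_one, mt_inv_of_mem F hx, adj_apply, Fin.rev_rev]
      · intro l _ hl
        rw [eb_ne hl, mul_zero]
      · intro hni
        exact absurd (Finset.mem_univ _) hni
    rw [e1]
    simp only [Pi.add_apply, Pi.sub_apply, Pi.smul_apply, smul_eq_mul]
    by_cases hia : i = a
    · rw [hia, eb_ne hne.symm, hwa, eb_same, ← hc]
      ring
    · by_cases hir : i = Fin.rev a
      · rw [hir, Fin.rev_rev, hU2, map_one, eb_same, hwr, eb_ne hne]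
        ring
      · rw [eb_ne hir, eb_ne hia, hw i hia hir]
        ring
  have h0 : hf F (mt x⁻¹ *ᵥ (eb (Fin.rev a) : Fin n → K)) (mt x⁻¹ *ᵥ eb (Fin.rev a)) = 0 := by
    rw [hf_mem F hxi, hf_eb_eb, if_neg]
    rw [Fin.rev_rev]
    exact hne
  rw [hξ] at h0
  simp only [hf_add_left, hf_add_right, hf_sub_left, hf_sub_right, hf_smul_left, hf_smul_right,
    hf_eb_eb, hf_eb_left, hf_eb_right, Fin.rev_rev, hwa, hwr, F.invol, map_zero] at h0
  simp only [Pi.add_apply, Pi.sub_apply, Pi.smul_apply, smul_eq_mul, eb_same, eb_ne hne,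
    eb_ne hne.symm, hwa, hwr] at h0
  linear_combination h0

theorem sqpsuj_zero_of_lt {k : ℕ} {x : SLn n K} (hU : x ∈ (UU : Subgroup (SLn n K)))
    (hx : x ∈ SUJ F) (h : sqpsuj_Std k x) (a : Fin n) (hak : (a : ℕ) = k) (ha : a < Fin.rev a)
    (j : Fin n) (hj : ¬ (a ≤ j ∧ j ≤ Fin.rev a)) : mt x a j = 0 := by
  obtain ⟨hU1, -⟩ := (mem_UU x).mp hU
  by_cases h1 : j < a
  · exact hU1 a j h1
  · have h2 : Fin.rev a < j := by
      by_contra h3
      exact hj ⟨not_lt.mp h1, not_lt.mp h3⟩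
    have h4 := sqpsuj_std_col F hx h a j (by
      have h5 := Fin.rev_lt_rev.mpr h2
      rw [Fin.rev_rev] at h5
      have : ((Fin.rev j : Fin n) : ℕ) < a := h5
      omega)
    rw [h4, Matrix.one_apply_ne]
    intro e
    rw [← e] at h2
    exact lt_irrefl _ (lt_trans ha h2)

theorem sqpsuj_w_spec {k : ℕ} {x : SLn n K} (hU : x ∈ (UU : Subgroup (SLn n K)))
    (hx : x ∈ SUJ F) (h : sqpsuj_Std k x) (a : Fin n) (hak : (a : ℕ) = k) (ha : a < Fin.rev a) :
    ∀ i, i ≠ a → i ≠ Fin.rev a → F.sg (mt x a (Fin.rev i)) = - sqpsuj_w F x a i := by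
  intro i hia hir
  unfold sqpsuj_w
  by_cases him : a < i ∧ i < Fin.rev a
  · rw [if_pos him, neg_neg]
  · rw [if_neg him, neg_zero]
    have hz : mt x a (Fin.rev i) = 0 := by
      apply sqpsuj_zero_of_lt F hU hx h a hak ha
      rintro ⟨h1, h2⟩
      apply him
      constructor
      · exact lt_of_le_of_ne (Fin.rev_le_rev.mp h2) (Ne.symm hia)
      · have h3 : Fin.rev (Fin.rev a) ≤ Fin.rev i := by rwa [Fin.rev_rev]
        exact lt_of_le_of_ne (Fin.rev_le_rev.mp h3) hir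
    rw [hz, map_zero]

/-- the row `a` of the row-clearing element is the row `a` of `x` -/
theorem sqpsuj_row {k : ℕ} {x : SLn n K} (hU : x ∈ (UU : Subgroup (SLn n K)))
    (hx : x ∈ SUJ F) (h : sqpsuj_Std k x) (a : Fin n) (hak : (a : ℕ) = k) (ha : a < Fin.rev a)
    (j : Fin n) :
    mt (SgT F (eb a) (sqpsuj_w F x a) (mt x a (Fin.rev a))) a j = mt x a j := by
  obtain ⟨hU1, hU2⟩ := (mem_UU x).mp hU
  obtain ⟨h1, h2, hwa, hwr⟩ := sqpsuj_side F ha (sqpsuj_w_supp F x a)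
  have hne : Fin.rev a ≠ a := (ne_of_lt ha).symm
  rw [mt_SgT F _ h1 h2, Sm_apply, hwa, eb_same, zero_mul, one_mul, add_zero]
  by_cases hja : j = a
  · rw [hja, Matrix.one_apply_eq, hwr, map_zero, eb_ne hne, map_zero, mul_zero, hU2]
    ring
  · by_cases hjr : j = Fin.rev a
    · rw [hjr, Fin.rev_rev, hwa, map_zero, eb_same, map_one, Matrix.one_apply_ne hne.symm]
      ring
    · have hne2 : Fin.rev j ≠ a := by
        intro e
        apply hjr
        rw [← e, Fin.rev_rev]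
      rw [Matrix.one_apply_ne (Ne.symm hja), eb_ne hne2, map_zero, mul_zero]
      have h3 := sqpsuj_w_spec F hU hx h a hak ha (Fin.rev j) hne2
        (by
          intro e
          exact hja (Fin.rev_injective e))
      rw [Fin.rev_rev] at h3
      have h4 : F.sg (sqpsuj_w F x a (Fin.rev j)) = - mt x a j := by
        have h5 := congrArg F.sg h3
        rw [F.invol, map_neg] at h5
        rw [h5, neg_neg]
      rw [h4]
      ring

theorem sqpsuj_std_SgT {a : Fin n} {w : Fin n → K} (c : K) (ha : a < Fin.rev a)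
    (hw : ∀ x, w x ≠ 0 → a < x ∧ x < Fin.rev a) :
    sqpsuj_Std (a : ℕ) (SgT F (eb a) w c) := by
  obtain ⟨h1, h2, -, -⟩ := sqpsuj_side F ha hw
  intro i j hi
  have hia : i ≠ a := by
    intro e
    rw [e] at hi
    exact lt_irrefl _ hi
  have hwi : w i = 0 := by
    by_contra h
    have h3 : a < i := (hw i h).1
    have h4 : (a : ℕ) < i := h3
    omega
  rw [mt_SgT F _ h1 h2, Sm_apply, hwi, eb_ne hia]
  ring

/-- clearing the row `k` -/
theorem sqpsuj_step {k : ℕ} {x : SLn n K} (hU : x ∈ (UU : Subgroup (SLn n K)))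
    (hx : x ∈ SUJ F) (h : sqpsuj_Std k x) (hk : k < n / 2) :
    ∃ r ∈ sqpsuj_S F, sqpsuj_Std (k + 1) (x * r⁻¹) := by
  have hkn : k < n := by omega
  set a : Fin n := ⟨k, hkn⟩ with hadef
  have hak : (a : ℕ) = k := rfl
  have ha : a < Fin.rev a := by
    rw [Fin.lt_def, Fin.val_rev, hak]
    omega
  have hcond := sqpsuj_cond_abs F hU hx a ha (sqpsuj_w F x a)
    (sqpsuj_side F ha (sqpsuj_w_supp F x a)).2.2.1 (sqpsuj_side F ha (sqpsuj_w_supp F x a)).2.2.2
    (sqpsuj_w_spec F hU hx h a hak ha) (mt x a (Fin.rev a)) rfl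
  refine ⟨SgT F (eb a) (sqpsuj_w F x a) (mt x a (Fin.rev a)),
    ⟨a, _, _, ha, sqpsuj_w_supp F x a, hcond, rfl⟩, ?_⟩
  set r := SgT F (eb a) (sqpsuj_w F x a) (mt x a (Fin.rev a)) with hrdef
  have hr1 : sqpsuj_Std k r⁻¹ := by
    apply sqpsuj_std_inv
    have := sqpsuj_std_SgT F (mt x a (Fin.rev a)) ha (sqpsuj_w_supp F x a)
    rwa [hak] at this
  intro i j hi
  rw [mt_mul, Matrix.mul_apply]
  by_cases hik : (i : ℕ) < k
  · rw [Finset.sum_eq_single i]
    · rw [h i i hik, Matrix.one_apply_eq, one_mul, hr1 i j hik]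
    · intro l _ hl
      rw [h i l hik, Matrix.one_apply_ne hl.symm, zero_mul]
    · intro hni
      exact absurd (Finset.mem_univ i) hni
  · have hia : i = a := by
      apply Fin.ext
      rw [hak]
      omega
    rw [hia]
    have h5 : ∑ l, mt x a l * mt r⁻¹ l j = ∑ l, mt r a l * mt r⁻¹ l j := by
      apply Finset.sum_congr rfl
      intro l _
      rw [hrdef, sqpsuj_row F hU hx h a hak ha l]
    rw [h5, ← Matrix.mul_apply, mt_mul_inv]

/-- downward induction on the number of standard rows -/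
theorem sqpsuj_mem_closure (j : ℕ) : ∀ (k : ℕ) (x : SLn n K), k + j = n / 2 →
    x ∈ (UU : Subgroup (SLn n K)) → x ∈ SUJ F → sqpsuj_Std k x →
    x ∈ Subgroup.closure (sqpsuj_S F) := by
  induction j with
  | zero =>
    intro k x hk hU hx h
    have hk2 : k = n / 2 := by omega
    rw [hk2] at h
    rw [sqpsuj_eq_one F hU hx h]
    exact Subgroup.one_mem _
  | succ j ih =>
    intro k x hk hU hx h
    obtain ⟨r, hr, h1⟩ := sqpsuj_step F hU hx h (by omega)
    have hrm := sqpsuj_S_le F hr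
    have h2 := ih (k + 1) (x * r⁻¹) (by omega)
      (Subgroup.mul_mem _ hU (Subgroup.inv_mem _ hrm.1))
      (Subgroup.mul_mem _ hx (Subgroup.inv_mem _ hrm.2)) h1
    have h3 : x = (x * r⁻¹) * r := by group
    rw [h3]
    exact Subgroup.mul_mem _ h2 (Subgroup.subset_closure hr)

theorem sqpsuj_closure :
    Subgroup.closure (sqpsuj_S F) = ((UU : Subgroup (SLn n K)) ⊓ SUJ F) := by
  apply le_antisymm
  · rw [Subgroup.closure_le]
    exact sqpsuj_S_le F
  · intro x hx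
    exact sqpsuj_mem_closure F (n / 2) 0 x (by omega) hx.1 hx.2
      (fun i j hi => absurd hi (Nat.not_lt_zero _))

/-- **SQ-PSU core**: in the unitriangular Sylow subgroup of `SUJ`, squares are commutators. -/
theorem sqpsuj_core [CharP K 2] : ∀ x ∈ ((UU : Subgroup (SLn n K)) ⊓ SUJ F),
    x ^ 2 ∈ ⁅((UU : Subgroup (SLn n K)) ⊓ SUJ F), ((UU : Subgroup (SLn n K)) ⊓ SUJ F)⁆ := by
  rw [← sqG_subgroup_iff]
  apply sq_of_closure _ (sqpsuj_S F) (sqpsuj_closure F)
  rintro _ ⟨a, w, c, ha, hw, hc, rfl⟩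
  exact psu_siegel_sq F ha hw hc

end psuj

end Cfsg.Agent.Lib.Helper20.Sq
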