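import Cfsg.Agent.Lib.Helper20.SqCore
import Cfsg.Agent.Lib.Helper60.SzLieBridge
import Cfsg.Agent.Lib.Helper6.SzCent
import Cfsg.Agent.Lib.Helper6.SzSylow

set_option autoImplicit false

/-! # Sq hive (S4625), leaf SQ-SZ: the Sylow `2`-subgroup `Qs = {T(a,b)}` of the Suzuki group
satisfies `x ^ 2 ∈ Qs'`. -/

namespace Cfsg.Agent.Lib.Helper20.Sq

open Cfsg Cfsg.Agent.Lib.Helper6.Sz

section sz

variable {F : Type*} [Field F] [CharP F 2] [Finite F] (s : F →+* F)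
  (hs : ∀ x, s (s x) = x ^ 2)

/-- the commutator of `T(a,0)` and `T(a',0)` -/
theorem sqsz_comm (a a' : F) :
    Tg s hs a 0 * Tg s hs a' 0 * (Tg s hs a 0)⁻¹ * (Tg s hs a' 0)⁻¹ =
      Tg s hs 0 (s a * a' + s a' * a) := by
  have h2 : (2 : F) = 0 := CharTwo.two_eq_zero
  rw [Tg_inv, Tg_inv, Tg_mul, Tg_mul, Tg_mul]
  congr 1
  · linear_combination (a + a') * h2
  · simp only [map_add]
    linear_combination (s a * a' + a * s a + a' * s a') * h2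

/-- the set of `c` with `T(0,c) ∈ Qs'` -/
def sqszZ : AddSubgroup F where
  carrier := {c | Tg s hs 0 c ∈ ⁅Qs s hs, Qs s hs⁆}
  zero_mem' := by
    show Tg s hs 0 0 ∈ ⁅Qs s hs, Qs s hs⁆
    rw [Tg_zero]
    exact Subgroup.one_mem _
  add_mem' := by
    intro c c' hc hc'
    show Tg s hs 0 (c + c') ∈ ⁅Qs s hs, Qs s hs⁆
    have hc1 : Tg s hs 0 c ∈ ⁅Qs s hs, Qs s hs⁆ := hc
    have hc2 : Tg s hs 0 c' ∈ ⁅Qs s hs, Qs s hs⁆ := hc'
    have h := Subgroup.mul_mem _ hc1 hc2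
    rw [Tg_mul] at h
    simpa using h
  neg_mem' := by
    intro c hc
    show Tg s hs 0 (-c) ∈ ⁅Qs s hs, Qs s hs⁆
    rw [CharTwo.neg_eq]
    exact hc

theorem mem_sqszZ {c : F} : c ∈ sqszZ s hs ↔ Tg s hs 0 c ∈ ⁅Qs s hs, Qs s hs⁆ := Iff.rfl

/-- `Qs'` is normalized by the torus -/
theorem sqsz_conj_mem (t : Fˣ) {x : G s} (hx : x ∈ ⁅Qs s hs, Qs s hs⁆) :
    Dg s hs t * x * (Dg s hs t)⁻¹ ∈ ⁅Qs s hs, Qs s hs⁆ := by
  have h1 : (Qs s hs).map (MulAut.conj (Dg s hs t)).toMonoidHom ≤ Qs s hs := by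
    rintro _ ⟨y, ⟨a, b, rfl⟩, rfl⟩
    show Dg s hs t * Tg s hs a b * (Dg s hs t)⁻¹ ∈ Qs s hs
    rw [Dg_conj_Tg]
    exact ⟨_, _, rfl⟩
  have h2 : (⁅Qs s hs, Qs s hs⁆).map (MulAut.conj (Dg s hs t)).toMonoidHom ≤
      ⁅Qs s hs, Qs s hs⁆ := by
    rw [Subgroup.map_commutator]
    exact Subgroup.commutator_mono h1 h1
  exact h2 ⟨x, hx, rfl⟩

theorem sqsz_smul_mem (t : Fˣ) {c : F} (hc : c ∈ sqszZ s hs) :
    (t : F) ^ 2 * s t * c ∈ sqszZ s hs := by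
  rw [mem_sqszZ] at hc ⊢
  have h := sqsz_conj_mem s hs t hc
  rwa [Dg_conj_Tg, mul_zero] at h

omit [Finite F] in
include hs in
theorem sqsz_exists_ne (hnt : ∃ y : F, s y ≠ y ^ 2) : ∃ a : F, s a + a ≠ 0 := by
  by_contra hcon
  push Not at hcon
  have hid : ∀ a : F, s a = a := by
    intro a
    have h := hcon a
    have h2 : (2 : F) = 0 := CharTwo.two_eq_zero
    linear_combination h - a * h2
  obtain ⟨y, hy⟩ := hnt
  apply hy
  rw [← hs y, hid, hid]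

theorem sqsz_top (hnt : ∃ y : F, s y ≠ y ^ 2) (c : F) : c ∈ sqszZ s hs := by
  obtain ⟨a, ha⟩ := sqsz_exists_ne s hs hnt
  have h0 : s a + a ∈ sqszZ s hs := by
    rw [mem_sqszZ]
    have h1 : Tg s hs a 0 ∈ Qs s hs := ⟨a, 0, rfl⟩
    have h2 : Tg s hs 1 0 ∈ Qs s hs := ⟨1, 0, rfl⟩
    have h3 := Subgroup.commutator_mem_commutator h1 h2
    rw [commutatorElement_def, sqsz_comm] at h3
    simpa using h3
  by_cases hc : c = 0
  · rw [hc]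
    exact (sqszZ s hs).zero_mem
  · obtain ⟨t, ht⟩ := exists_sq_mul_s_eq s hs (div_ne_zero hc ha)
    have h1 := sqsz_smul_mem s hs t h0
    rwa [ht, div_mul_cancel₀ _ ha] at h1

/-- the standard Sylow `2`-subgroup of the ovoid stabilizer has elementary abelian commutator
quotient -/
theorem sqsz_Qs (hnt : ∃ y : F, s y ≠ y ^ 2) : SqG ↥(Qs s hs) := by
  rw [sqG_subgroup_iff]
  rintro _ ⟨a, b, rfl⟩
  rw [sq, Tg_mul_self]
  exact sqsz_top s hs hnt _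

include hs in
theorem sqsz_ovoid (hnt : ∃ y : F, s y ≠ y ^ 2) {k : ℕ} (hk : Nat.card F = 2 ^ k) :
    SqD ↥(G s) := by
  refine ⟨Q0 s hs hnt hk, ?_⟩
  have h7 : ((Q0 s hs hnt hk : Sylow 2 (G s)) : Subgroup (G s)) = Qs s hs := rfl
  rw [h7]
  exact sqsz_Qs s hs hnt

end sz

/-- SQ-SZ -/
theorem sq_sz (F : Type) [Field F] [Fintype F] (m : ℕ) (hm : 1 ≤ m)
    (hF : Fintype.card F = 2 ^ (2 * m + 1)) : SqD ↥(Cfsg.Lie.Sz F (2 ^ (m + 1))) := by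
  have : CharP F 2 := charP_two hF
  have hk : Nat.card F = 2 ^ (2 * m + 1) := by rw [Nat.card_eq_fintype_card, hF]
  exact sqD_of_mulEquiv (Cfsg.Agent.Lib.Helper60.SzLie.szEquiv hm hF)
    (sqsz_ovoid (sig F m) (sig_sig hF) (sig_nt hm hF) hk)

end Cfsg.Agent.Lib.Helper20.Sq
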