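import Mathlib
import Cfsg.Agent.Lib.Helper20.SuBNDefs
import Cfsg.Agent.Lib.Helper13.SuBNR2
import Cfsg.Agent.Lib.Helper74.SuBNTAU

set_option autoImplicit false
set_option linter.unusedSectionVars false

/-!
# S2546 hive, assembly part 0 (helper20): `mt_sr`, `sr_isMon`, `mon_SUJ_perm_rev`
-/

namespace Cfsg.Agent.Lib.Helper20.SuBN

open Matrix Subgroup Cfsg.Agent.Lib.Helper20.PslF Cfsg.Agent.Lib.Helper20.SuF

variable {n : ℕ} {K : Type*} [Field K] [Fintype K] (F : SuF.Inv K)

theorem mt_sr (i : Fin (n / 2)) : mt (sr F i) = monM (rr i) (sd F i) := by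
  unfold sr
  rw [dif_pos (det_srM F i)]
  rfl

theorem sr_isMon (i : Fin (n / 2)) : IsMon (sr F i) (rr i) := by
  intro a b hab
  rw [mt_sr, monM_apply, if_neg hab]

/-- a unitary monomial matrix has a permutation commuting with `rev` -/
theorem mon_SUJ_perm_rev {m : SLn n K} {π : Equiv.Perm (Fin n)} (hm : IsMon m π) (hmS : m ∈ SUJ F)
    (x : Fin n) : π (Fin.rev x) = Fin.rev (π x) := by
  have h1 := tau_isMon F hm
  rw [(mem_SUJ_iff_tau F m).mp hmS] at h1
  have h2 := tau_isMon_unique hm h1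
  have h3 := congrArg (fun ρ : Equiv.Perm (Fin n) => ρ (Fin.rev x)) h2
  simp only [Equiv.Perm.coe_mul, Function.comp_apply, Fin.revPerm_apply, Fin.rev_rev] at h3
  exact h3

end Cfsg.Agent.Lib.Helper20.SuBN
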