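import Mathlib
import Cfsg.Agent.Lib.Helper20.SuBNAsm0
import Cfsg.Agent.Lib.Helper53.SuBNMON
import Cfsg.Agent.Lib.Helper65.SuBNA1
import Cfsg.Agent.Lib.Helper65.SuBNA3
import Cfsg.Agent.Lib.Helper74.SuBNA2
import Cfsg.Agent.Lib.Helper74.SuBNTAU
import Cfsg.Agent.Lib.Helper82.SuBNUL
import Cfsg.Agent.Lib.Helper82.SuBNCONJ

set_option autoImplicit false
set_option linter.unusedSectionVars false

/-!
# S2546 hive, assembly part 1 (helper20): the sharp Bruhat form and the descent to `SUJ`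
-/

namespace Cfsg.Agent.Lib.Helper20.SuBN

open Matrix Subgroup Cfsg.Agent.Lib.Helper20.PslF Cfsg.Agent.Lib.Helper20.SuF

variable {n : ℕ} {K : Type*} [Field K] [Fintype K] (F : SuF.Inv K)

/-- sharp form, existence -/
theorem sharp_exists (g : SLn n K) :
    ∃ u₁ ∈ (UU : Subgroup (SLn n K)), ∃ m ∈ (Mon : Subgroup (SLn n K)),
      ∃ u ∈ (UU : Subgroup (SLn n K)), m * u * m⁻¹ ∈ (LL : Subgroup (SLn n K)) ∧ g = u₁ * m * u := by
  obtain ⟨u₁, hu₁, m, hm, u, hu, rfl⟩ := sl_bruhat g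
  obtain ⟨u', hu', u'', hu'', rfl, h1, h2⟩ := uu_factor hm hu
  refine ⟨u₁ * (m * u' * m⁻¹), mul_mem hu₁ h1, m, hm, u'', hu'', h2, ?_⟩
  group

/-- **descent**: the sharp form of a unitary matrix has unitary factors -/
theorem descent {g : SLn n K} (hg : g ∈ SUJ F) :
    ∃ u₁ ∈ (UU : Subgroup (SLn n K)), u₁ ∈ SUJ F ∧ ∃ m ∈ (Mon : Subgroup (SLn n K)), m ∈ SUJ F ∧
      ∃ u ∈ (UU : Subgroup (SLn n K)), u ∈ SUJ F ∧ m * u * m⁻¹ ∈ (LL : Subgroup (SLn n K)) ∧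
        g = u₁ * m * u := by
  obtain ⟨u₁, hu₁, m, hm, u, hu, hl, e⟩ := sharp_exists g
  have hτ : tau F g = g := (mem_SUJ_iff_tau F g).mp hg
  have e2 : u₁ * m * u = tau F u₁ * tau F m * tau F u := by
    rw [← tau_mul, ← tau_mul, ← e, hτ]
  obtain ⟨π, hπ⟩ := (mem_Mon m).mp hm
  have hτm : tau F m ∈ (Mon : Subgroup (SLn n K)) := (mem_Mon _).mpr ⟨_, tau_isMon F hπ⟩
  have hτl : tau F m * tau F u * (tau F m)⁻¹ ∈ (LL : Subgroup (SLn n K)) := by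
    rw [← tau_inv, ← tau_mul, ← tau_mul]
    exact tau_mem_LL F hl
  obtain ⟨h1, h2, h3⟩ := sharp_unique hu₁ (tau_mem_UU F hu₁) hm hτm hu (tau_mem_UU F hu) hl hτl e2
  exact ⟨u₁, hu₁, (mem_SUJ_iff_tau F u₁).mpr h1.symm, m, hm, (mem_SUJ_iff_tau F m).mpr h2.symm,
    u, hu, (mem_SUJ_iff_tau F u).mpr h3.symm, hl, e⟩

end Cfsg.Agent.Lib.Helper20.SuBN
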