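import Mathlib
import Cfsg.Agent.Lib.Helper20.SuBNAsm1
import Cfsg.Agent.Lib.Helper13.SuBNR3
import Cfsg.Agent.Lib.Helper39.SuBNR1
import Cfsg.Agent.Lib.Helper39.SuBNP1
import Cfsg.Agent.Lib.Helper39.SuBNP3
import Cfsg.Agent.Lib.Helper59.SuBNX1
import Cfsg.Agent.Lib.Helper59.SuBNY2
import Cfsg.Agent.Lib.Helper64.SuBNX2
import Cfsg.Agent.Lib.Helper64.SuBNY1
import Cfsg.Agent.Lib.Helper74.SuBNX4

set_option autoImplicit false
set_option linter.unusedSectionVars false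

/-!
# S2546 hive, assembly part 2 (helper20): `hpos`, `hne`, `hrk1` of the criterion
-/

namespace Cfsg.Agent.Lib.Helper20.SuBN

open Matrix Subgroup Cfsg.Agent.Lib.Helper20.PslF Cfsg.Agent.Lib.Helper20.SuF

variable {n : ℕ} {K : Type*} [Field K] [Fintype K] (F : SuF.Inv K)

/-- (assembly, helper20) `hpos` of the criterion -/
theorem pos (i : Fin (n / 2)) {m : SLn n K} (hm : m ∈ (Mon : Subgroup (SLn n K))) (hmS : m ∈ SUJ F) :
    (∀ x ∈ Xr F i, m⁻¹ * x * m ∈ (UT : Subgroup (SLn n K))) ∨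
      (∀ x ∈ Xr F i, (sr F i * m)⁻¹ * x * (sr F i * m) ∈ (UT : Subgroup (SLn n K))) := by
  obtain ⟨π, hπ⟩ := (mem_Mon m).mp hm
  rcases rr_dichotomy i π (mon_SUJ_perm_rev F hπ hmS) with h | h
  · left
    intro x hx
    exact conj_mem_UT_of_support hπ ((mem_Xr F i x).mp hx).1
      (fun a b hab hne => h a b hab (Xr_support F i hx hab hne))
  · right
    intro x hx
    refine conj_mem_UT_of_support ((sr_isMon F i).mul hπ) ((mem_Xr F i x).mp hx).1 ?_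
    intro a b hab hne
    have h1 := h a b hab (Xr_support F i hx hab hne)
    have e : ∀ y, (rr i * π)⁻¹ y = π⁻¹ (rr i y) := by
      intro y
      have h2 : (rr i)⁻¹ = rr i := inv_eq_of_mul_eq_one_left (rr_mul_self i)
      rw [_root_.mul_inv_rev, h2]
      rfl
    rw [e, e]
    exact h1

/-- (assembly, helper20) `hne` of the criterion -/
theorem ne (i : Fin (n / 2)) : ∃ x ∈ Xr F i, sr F i * x * (sr F i)⁻¹ ∉ (UT : Subgroup (SLn n K)) := by
  obtain ⟨x, hx, hx1⟩ := Xr_ne_bot F i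
  refine ⟨x, hx, fun h => hx1 ?_⟩
  have h1 := UT_inf_LL h ((mem_Xr F i x).mp hx).2.2
  have : x = (sr F i)⁻¹ * (sr F i * x * (sr F i)⁻¹) * sr F i := by group
  rw [this, h1]
  group

/-- (assembly, helper20) `hrk1` of the criterion -/
theorem rk1 (i : Fin (n / 2)) {x : SLn n K} (hx : x ∈ Xr F i) :
    sr F i * x * (sr F i)⁻¹ ∈ (UT : Subgroup (SLn n K)) ∨
      ∃ b₁ ∈ (UT : Subgroup (SLn n K)), b₁ ∈ SUJ F ∧ ∃ b₂ ∈ (UT : Subgroup (SLn n K)), b₂ ∈ SUJ F ∧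
        sr F i * x * (sr F i)⁻¹ = b₁ * sr F i * b₂ := by
  have hxS := ((mem_Xr F i x).mp hx).2.1
  have hyS : sr F i * x * (sr F i)⁻¹ ∈ SUJ F :=
    mul_mem (mul_mem (sr_mem_SUJ F i) hxS) (inv_mem (sr_mem_SUJ F i))
  obtain ⟨u₁, hu₁, hu₁S, m, hm, hmS, u, hu, huS, -, e⟩ := descent F hyS
  obtain ⟨π, hπ⟩ := (mem_Mon m).mp hm
  have hblk := bruhat_perm_block (bk_monotone i) hu₁ hπ hu e (sr_conj_block F i hx)
  rcases perm_of_bk i π (mon_SUJ_perm_rev F hπ hmS) hblk with h1 | h1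
  · left
    rw [e]
    subst h1
    exact mul_mem (mul_mem (UU_le_UT hu₁) (isMon_one_mem_UT hπ)) (UU_le_UT hu)
  · right
    have ht : IsMon ((sr F i)⁻¹ * m) 1 := by
      have := (isMon_inv (sr_isMon F i)).mul hπ
      rw [h1, inv_mul_cancel] at this
      exact this
    refine ⟨u₁, UU_le_UT hu₁, hu₁S, (sr F i)⁻¹ * m * u,
      mul_mem (isMon_one_mem_UT ht) (UU_le_UT hu),
      mul_mem (mul_mem (inv_mem (sr_mem_SUJ F i)) hmS) huS, ?_⟩
    rw [e]
    group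

end Cfsg.Agent.Lib.Helper20.SuBN
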