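import Mathlib
import Cfsg.Agent.Lib.Helper20.SuBNAsm2
import Cfsg.Agent.Lib.Helper53.SuBNW1
import Cfsg.Agent.Lib.Helper83.SuBNX3
import Cfsg.Agent.Lib.Helper83.SuBNN4
import Cfsg.Agent.Lib.Helper20.SuMain

set_option autoImplicit false
set_option linter.style.haveILetI false
set_option linter.unusedSimpArgs false
set_option linter.unusedSectionVars false

/-!
# The `(B, N)`-pair of `SUJ F` (assembly of the S2546 hive)
-/

namespace Cfsg.Agent.Lib.Helper20.SuBN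

open Matrix Subgroup Cfsg.Agent.Lib.Helper20.PslF Cfsg.Agent.Lib.Helper20.SuF

variable {n : ℕ} {K : Type*} [Field K] [Fintype K] (F : SuF.Inv K)

/-- the Borel subgroup of `SUJ` -/
def BE : Subgroup ↥(SUJ (n := n) F) := (UT : Subgroup (SLn n K)).subgroupOf (SUJ F)

/-- the monomial subgroup of `SUJ` -/
def NE : Subgroup ↥(SUJ (n := n) F) := (Mon : Subgroup (SLn n K)).subgroupOf (SUJ F)

/-- the reflections in `SUJ` -/
noncomputable def sE (i : Fin (n / 2)) : ↥(SUJ (n := n) F) := ⟨sr F i, sr_mem_SUJ F i⟩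

/-- the root subgroups in `SUJ` -/
noncomputable def XE (i : Fin (n / 2)) : Subgroup ↥(SUJ (n := n) F) := (Xr F i).subgroupOf (SUJ F)

theorem mem_BE (x : ↥(SUJ (n := n) F)) : x ∈ BE F ↔ (x : SLn n K) ∈ (UT : Subgroup (SLn n K)) :=
  Subgroup.mem_subgroupOf

theorem mem_NE (x : ↥(SUJ (n := n) F)) : x ∈ NE F ↔ (x : SLn n K) ∈ (Mon : Subgroup (SLn n K)) :=
  Subgroup.mem_subgroupOf

theorem mem_XE (i : Fin (n / 2)) (x : ↥(SUJ (n := n) F)) : x ∈ XE F i ↔ (x : SLn n K) ∈ Xr F i :=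
  Subgroup.mem_subgroupOf

/-- **the `(B, N)`-pair of `SUJ F`** -/
theorem exists_bnPair_SUJ :
    ∃ P : Cfsg.BNPair ↥(SUJ (n := n) F), P.B = BE F ∧ P.N = NE F ∧ P.S = Set.range (sE F) := by
  apply Cfsg.Agent.Lib.Helper20.BNCrit.exists_bnPair_of_root (BE F) (NE F) (sE F) (XE F)
  · -- generation
    rw [eq_top_iff]
    intro g _
    obtain ⟨u₁, hu₁, hu₁S, m, hm, hmS, u, hu, huS, -, e⟩ := descent F g.2
    have eg : g = (⟨u₁, hu₁S⟩ : ↥(SUJ (n := n) F)) * ⟨m, hmS⟩ * ⟨u, huS⟩ := Subtype.ext e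
    rw [eg]
    refine mul_mem (mul_mem (Subgroup.mem_sup_left ?_) (Subgroup.mem_sup_right ?_))
      (Subgroup.mem_sup_left ?_)
    · rw [mem_BE]; exact UU_le_UT hu₁
    · rw [mem_NE]; exact hm
    · rw [mem_BE]; exact UU_le_UT hu
  · -- hT
    intro m hm t ht
    rw [mem_BE]
    exact conj_diag_mem_UT ((mem_NE F m).mp hm) ((mem_BE F t).mp ht.1) ((mem_NE F t).mp ht.2)
  · -- hsN
    intro i
    rw [mem_NE]
    exact (mem_Mon _).mpr ⟨_, sr_isMon F i⟩
  · -- hsq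
    intro i
    rw [mem_BE]
    have h := (sr_isMon F i).mul (sr_isMon F i)
    rw [rr_mul_self] at h
    exact isMon_one_mem_UT h
  · -- hinj
    intro i j h
    rw [mem_BE] at h
    have h1 := (isMon_inv (sr_isMon F i)).mul (sr_isMon F j)
    have h2 := isMon_UT h1 h
    apply rr_injective
    have h3 : rr i * ((rr i)⁻¹ * rr j) = rr i * (1 : Equiv.Perm (Fin n)) := by rw [h2]
    rw [mul_inv_cancel_left, mul_one] at h3
    exact h3.symm
  · -- hcl
    apply le_antisymm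
    · rw [sup_le_iff]
      refine ⟨?_, inf_le_right⟩
      rw [Subgroup.closure_le]
      rintro _ ⟨i, rfl⟩
      show sE F i ∈ NE F
      rw [mem_NE]
      exact (mem_Mon _).mpr ⟨_, sr_isMon F i⟩
    · intro m hm
      obtain ⟨w, hw, hwS, hwM, hwm⟩ := mem_closure_sr F ((mem_NE F m).mp hm) m.2
      have hst : ∀ g ∈ Set.range (sr F : Fin (n / 2) → SLn n K), ∃ hg : g ∈ SUJ F,
          (⟨g, hg⟩ : ↥(SUJ (n := n) F)) ∈ Subgroup.closure (Set.range (sE F)) := by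
        rintro _ ⟨i, rfl⟩
        exact ⟨sr_mem_SUJ F i, Subgroup.subset_closure ⟨i, rfl⟩⟩
      obtain ⟨hw', hwc⟩ := closure_subtype_transfer (SUJ (n := n) F) _ _ hst w hw
      have em : m = (⟨w, hw'⟩ : ↥(SUJ (n := n) F)) * (⟨w, hw'⟩⁻¹ * m) := by group
      rw [em]
      have h1 : (⟨w, hw'⟩ : ↥(SUJ (n := n) F))⁻¹ * m ∈ BE F := by
        rw [mem_BE]; exact hwm
      have h2 : (⟨w, hw'⟩ : ↥(SUJ (n := n) F))⁻¹ * m ∈ NE F := by
        rw [mem_NE]
        exact mul_mem (inv_mem hwM) ((mem_NE F m).mp hm)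
      exact mul_mem (Subgroup.mem_sup_left hwc) (Subgroup.mem_sup_right ⟨h1, h2⟩)
  · -- hXB
    intro i x hx
    rw [mem_BE]
    exact UU_le_UT ((mem_Xr F i _).mp ((mem_XE F i x).mp hx)).1
  · -- hfac
    intro i b hb
    obtain ⟨c, hc, hcS, x, hx, e, hcs⟩ := fac F i ((mem_BE F b).mp hb) b.2
    have hxS := ((mem_Xr F i x).mp hx).2.1
    refine ⟨⟨c, hcS⟩, (mem_BE F _).mpr hc, ⟨x, hxS⟩, (mem_XE F i _).mpr hx, Subtype.ext e, ?_⟩
    rw [mem_BE]
    exact hcs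
  · -- hpos
    intro i m hm
    rcases pos F i ((mem_NE F m).mp hm) m.2 with h | h
    · left
      intro x hx
      rw [mem_BE]
      exact h x ((mem_XE F i x).mp hx)
    · right
      intro x hx
      rw [mem_BE]
      exact h x ((mem_XE F i x).mp hx)
  · -- hrk1
    intro i x hx
    rcases rk1 F i ((mem_XE F i x).mp hx) with h | ⟨b₁, hb₁, hb₁S, b₂, hb₂, hb₂S, e⟩
    · left
      rw [mem_BE]
      exact h
    · right
      exact ⟨⟨b₁, hb₁S⟩, (mem_BE F _).mpr hb₁, ⟨b₂, hb₂S⟩, (mem_BE F _).mpr hb₂, Subtype.ext e⟩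
  · -- hne
    intro i
    obtain ⟨x, hx, hxs⟩ := ne F i
    have hxS := ((mem_Xr F i x).mp hx).2.1
    refine ⟨⟨x, hxS⟩, (mem_XE F i _).mpr hx, fun h => hxs ?_⟩
    exact (mem_BE F _).mp h

end Cfsg.Agent.Lib.Helper20.SuBN
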