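import Mathlib
import Cfsg.Agent.Lib.Helper20.SuBNMain
import Cfsg.Agent.Lib.Helper13.SuBNS0
import Cfsg.Agent.Lib.Helper64.SuBNS1
import Cfsg.Agent.Lib.Helper83.SuBNS2
import Cfsg.Agent.Lib.Helper82.SuBNUL
import Cfsg.Agent.Lib.Helper6.St.Main

set_option autoImplicit false
set_option linter.style.haveILetI false
set_option linter.unusedSimpArgs false
set_option linter.unusedSectionVars false

/-!
# The Steinberg character of `SUJ F` (S2546 hive)
-/

namespace Cfsg.Agent.Lib.Helper20.SuBN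

open Matrix Subgroup Cfsg.Agent.Lib.Helper20.PslF Cfsg.Agent.Lib.Helper20.SuF

variable {n : ℕ} {K : Type*} [Field K] [Fintype K] (F : SuF.Inv K)

/-- a central element lying in `H` fixes every coset of `H` -/
theorem fpc_central' {G : Type*} [Group G] (H : Subgroup G) {z : G} (hz : z ∈ Subgroup.center G)
    (hzH : z ∈ H) : Cfsg.fixedPointCharacter H z = Cfsg.fixedPointCharacter H 1 := by
  unfold Cfsg.fixedPointCharacter
  have hset : MulAction.fixedBy (G ⧸ H) z = MulAction.fixedBy (G ⧸ H) (1 : G) := by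
    ext x
    simp only [MulAction.mem_fixedBy, one_smul, iff_true]
    induction x using QuotientGroup.induction_on with
    | H a =>
      change ((z * a : G) : G ⧸ H) = (a : G ⧸ H)
      rw [QuotientGroup.eq]
      have h1 : z * a = a * z := (Subgroup.mem_center_iff.mp hz a).symm
      rw [h1]
      have : (a * z)⁻¹ * a = z⁻¹ := by group
      rw [this]
      exact H.inv_mem hzH
  rw [hset]

/-- the cell of `m` is covered by `B × U` -/
theorem card_cell_le (P : Cfsg.BNPair ↥(SUJ (n := n) F)) (hB : P.B = BE F) (m : ↥(SUJ (n := n) F))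
    (hm : m ∈ NE F) :
    Nat.card (Cfsg.Agent.Lib.Helper6.C P m) ≤ Nat.card (BE (n := n) F) * Nat.card (UE (n := n) F) := by
  have hmem : ∀ x : ↥(BE (n := n) F) × ↥(UE (n := n) F), (x.1 : ↥(SUJ (n := n) F)) * m * (x.2 : ↥(SUJ (n := n) F)) ∈
      Cfsg.Agent.Lib.Helper6.C P m := by
    intro x
    rw [Cfsg.Agent.Lib.Helper6.mem_C, hB]
    refine ⟨x.1, x.1.2, x.2, ?_, rfl⟩
    rw [mem_BE]
    exact UU_le_UT ((mem_UE F _).mp x.2.2)
  let φ : ↥(BE (n := n) F) × ↥(UE (n := n) F) → ↥(Cfsg.Agent.Lib.Helper6.C P m) := fun x => ⟨_, hmem x⟩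
  have hφ : Function.Surjective φ := by
    rintro ⟨g, hg⟩
    rw [Cfsg.Agent.Lib.Helper6.mem_C, hB] at hg
    obtain ⟨b₁, hb₁, b₂, hb₂, rfl⟩ := hg
    obtain ⟨b, hb, hbS, u, hu, huS, e⟩ := cell_form F ((mem_NE F m).mp hm) m.2
      ((mem_BE F b₁).mp hb₁) b₁.2 ((mem_BE F b₂).mp hb₂) b₂.2
    refine ⟨(⟨⟨b, hbS⟩, (mem_BE F _).mpr hb⟩, ⟨⟨u, huS⟩, (mem_UE F _).mpr hu⟩), ?_⟩
    apply Subtype.ext
    apply Subtype.ext
    exact e.symm
  have := Nat.card_le_card_of_surjective φ hφ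
  rwa [Nat.card_prod] at this

/-- the cell of the longest element is in bijection with `B × U` -/
theorem card_cell_w0 (P : Cfsg.BNPair ↥(SUJ (n := n) F)) (hB : P.B = BE F) (w : ↥(SUJ (n := n) F))
    (hw : IsMon (w : SLn n K) (Fin.revPerm : Equiv.Perm (Fin n))) :
    Nat.card (Cfsg.Agent.Lib.Helper6.C P w) = Nat.card (BE (n := n) F) * Nat.card (UE (n := n) F) := by
  have hwN : w ∈ NE F := (mem_NE F w).mpr ((mem_Mon _).mpr ⟨_, hw⟩)
  apply le_antisymm (card_cell_le F P hB w hwN)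
  have hmem : ∀ x : ↥(BE (n := n) F) × ↥(UE (n := n) F), (x.1 : ↥(SUJ (n := n) F)) * w * (x.2 : ↥(SUJ (n := n) F)) ∈
      Cfsg.Agent.Lib.Helper6.C P w := by
    intro x
    rw [Cfsg.Agent.Lib.Helper6.mem_C, hB]
    refine ⟨x.1, x.1.2, x.2, ?_, rfl⟩
    rw [mem_BE]
    exact UU_le_UT ((mem_UE F _).mp x.2.2)
  let φ : ↥(BE (n := n) F) × ↥(UE (n := n) F) → ↥(Cfsg.Agent.Lib.Helper6.C P w) := fun x => ⟨_, hmem x⟩
  have hφ : Function.Injective φ := by
    rintro ⟨b, u⟩ ⟨b', u'⟩ h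
    have h1 : (b : ↥(SUJ (n := n) F)) * w * (u : ↥(SUJ (n := n) F)) =
        (b' : ↥(SUJ (n := n) F)) * w * (u' : ↥(SUJ (n := n) F)) := congrArg Subtype.val h
    have h2 : ((b : ↥(SUJ (n := n) F)) : SLn n K) * (w : SLn n K) * ((u : ↥(SUJ (n := n) F)) : SLn n K) =
        ((b' : ↥(SUJ (n := n) F)) : SLn n K) * (w : SLn n K) * ((u' : ↥(SUJ (n := n) F)) : SLn n K) :=
      congrArg Subtype.val h1
    set bb : SLn n K := ((b : ↥(SUJ (n := n) F)) : SLn n K) with hbb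
    set bb' : SLn n K := ((b' : ↥(SUJ (n := n) F)) : SLn n K) with hbb'
    set uu : SLn n K := ((u : ↥(SUJ (n := n) F)) : SLn n K) with huu
    set uu' : SLn n K := ((u' : ↥(SUJ (n := n) F)) : SLn n K) with huu'
    set ww : SLn n K := (w : SLn n K) with hww
    have e : bb'⁻¹ * bb = ww * (uu' * uu⁻¹) * ww⁻¹ := by
      have : bb = bb' * ww * uu' * uu⁻¹ * ww⁻¹ := by
        calc bb = bb * ww * uu * uu⁻¹ * ww⁻¹ := by group
          _ = bb' * ww * uu' * uu⁻¹ * ww⁻¹ := by rw [h2]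
      rw [this]; group
    have hU : uu' * uu⁻¹ ∈ (UU : Subgroup (SLn n K)) :=
      mul_mem ((mem_UE F _).mp u'.2) (inv_mem ((mem_UE F _).mp u.2))
    have hL := conj_w0_mem_LL hw hU
    have hT : bb'⁻¹ * bb ∈ (UT : Subgroup (SLn n K)) :=
      mul_mem (inv_mem ((mem_BE F _).mp b'.2)) ((mem_BE F _).mp b.2)
    rw [← e] at hL
    have h3 := UT_inf_LL hT hL
    have hb : bb = bb' := by
      have : bb = bb' * (bb'⁻¹ * bb) := by group
      rw [this, h3, mul_one]
    have hu : uu = uu' := by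
      have h4 : ww * (uu' * uu⁻¹) * ww⁻¹ = 1 := by rw [← e, h3]
      have h5 : uu' * uu⁻¹ = 1 := by
        have : uu' * uu⁻¹ = ww⁻¹ * (ww * (uu' * uu⁻¹) * ww⁻¹) * ww := by group
        rw [this, h4]; group
      exact (mul_inv_eq_one.mp h5).symm
    have hb2 : b = b' := Subtype.ext (Subtype.ext hb)
    have hu2 : u = u' := Subtype.ext (Subtype.ext hu)
    rw [hb2, hu2]
  have := Nat.card_le_card_of_injective φ hφ
  rwa [Nat.card_prod] at this

variable (p : ℕ) [hp : Fact p.Prime] [CharP K p]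

/-- **The Steinberg character of `SUJ F`**: irreducible, of degree the order of the unitriangular
subgroup, trivial on the centre. -/
theorem exists_steinberg_SUJ (hn : 2 ≤ n) :
    ∃ χ : ↥(SUJ (n := n) F) → ℂ, Cfsg.IsIrrCharacter ↥(SUJ (n := n) F) χ ∧
      χ 1 = (Nat.card (UE (n := n) F) : ℂ) ∧ ∀ z ∈ Subgroup.center ↥(SUJ (n := n) F), χ z = χ 1 := by
  classical
  haveI : NeZero n := ⟨by omega⟩
  obtain ⟨P, hB, hN, hS⟩ := exists_bnPair_SUJ F
  haveI : Fintype ↥(SUJ (n := n) F) := Fintype.ofFinite _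
  set T : Finset ↥(SUJ (n := n) F) := Finset.univ.image (sE F) with hTdef
  have hT : (↑T : Set ↥(SUJ (n := n) F)) = P.S := by
    rw [hS, hTdef, Finset.coe_image, Finset.coe_univ, Set.image_univ]
  refine ⟨Cfsg.Agent.Lib.Helper6.St.stChar P T,
    Cfsg.Agent.Lib.Helper6.St.isIrrCharacter_stChar P T hT, ?_, ?_⟩
  · obtain ⟨w, hwS, hw⟩ := exists_w0 F hn
    have hwN : (⟨w, hwS⟩ : ↥(SUJ (n := n) F)) ∈ P.N := by
      rw [hN, mem_NE]
      exact (mem_Mon _).mpr ⟨_, hw⟩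
    have hmax : ∀ m ∈ P.N, Nat.card (Cfsg.Agent.Lib.Helper6.C P m) ≤
        Nat.card (Cfsg.Agent.Lib.Helper6.C P (⟨w, hwS⟩ : ↥(SUJ (n := n) F))) := by
      intro m hm
      rw [card_cell_w0 F P hB ⟨w, hwS⟩ hw]
      rw [hN] at hm
      exact card_cell_le F P hB m hm
    have h1 := Cfsg.Agent.Lib.Helper6.St.stChar_one_mul P T hT hwN hmax
    rw [card_cell_w0 F P hB ⟨w, hwS⟩ hw, hB, Nat.cast_mul, mul_comm] at h1
    have hne : (Nat.card (BE (n := n) F) : ℂ) ≠ 0 := by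
      exact_mod_cast (Nat.card_pos (α := ↥(BE (n := n) F))).ne'
    exact mul_left_cancel₀ hne h1
  · intro z hz
    have hzB : z ∈ P.B := by
      rw [hB, mem_BE]
      apply coe_mem_UT_of_normalizer F
      rw [Subgroup.mem_normalizer_iff]
      intro u
      have : z * u * z⁻¹ = u := by
        rw [← Subgroup.mem_center_iff.mp hz u, mul_inv_cancel_right]
      rw [this]
    unfold Cfsg.Agent.Lib.Helper6.St.stChar
    refine Finset.sum_congr rfl (fun J _ => ?_)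
    have hzJ : z ∈ P.parabolic (↑J : Set ↥(SUJ (n := n) F)) :=
      (le_sup_left : P.B ≤ P.parabolic (↑J : Set ↥(SUJ (n := n) F))) hzB
    rw [fpc_central' _ hz hzJ, fpc_central' _ (Subgroup.one_mem _) (Subgroup.one_mem _)]

end Cfsg.Agent.Lib.Helper20.SuBN
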