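import Mathlib
import Cfsg.Agent.Lib.Helper20.SuMain

set_option autoImplicit false
set_option linter.style.haveILetI false
set_option linter.unusedSimpArgs false
set_option linter.unusedSectionVars false

/-!
# The `p`-fusion system of a central quotient of `SUJ`, `n ≥ 4`, is simple: the main theorem
-/

namespace Cfsg.Agent.Lib.Helper20.SuF

open Matrix Subgroup Cfsg.Agent.Lib.Helper20.PslF

theorem central_subgroup_normalizer {E : Type*} [Group E] (H : Subgroup E) (hH : H ≤ center E)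
    (g : E) : g ∈ normalizer (H : Set E) := by
  rw [mem_normalizer_iff]
  intro u
  constructor
  · intro hu
    have h1 := (mem_center_iff.mp (hH hu)) g
    have : g * u * g⁻¹ = u := by rw [h1, mul_inv_cancel_right]
    rw [this]; exact hu
  · intro hy
    have hc := mem_center_iff.mp (hH hy) g
    have h2 : g * (g * u * g⁻¹) = g * u := by rw [hc]; group
    have : u = g * u * g⁻¹ := (mul_left_cancel h2).symm
    rw [this]; exact hy

variable {n : ℕ} {K : Type*} [Field K] [Fintype K] (F : Inv K)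

/-- no proper nontrivial strongly closed subgroup, inside `SUJ` -/
theorem hA_SU (p : ℕ) [Fact p.Prime] [CharP K p] (hn : 4 ≤ n) (T : Subgroup ↥(SUJ (n := n) F)) (hT : T ≤ UE F) (hT0 : T ≠ ⊥)
    (hTc : ∀ x ∈ T, ∀ g : ↥(SUJ (n := n) F), g * x * g⁻¹ ∈ UE F → g * x * g⁻¹ ∈ T) :
    T = UE F := by
  set T' : Subgroup (SLn n K) := T.map (SUJ F).subtype with hT'
  have hmem : ∀ x : SLn n K, x ∈ T' ↔ ∃ hx : x ∈ SUJ F, (⟨x, hx⟩ : ↥(SUJ (n := n) F)) ∈ T := by
    intro x
    constructor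
    · rintro ⟨t, ht, rfl⟩
      exact ⟨t.2, ht⟩
    · rintro ⟨hx, ht⟩
      exact ⟨⟨x, hx⟩, ht, rfl⟩
  have hSC : SC F T' := by
    refine ⟨?_, ?_, ?_⟩
    · intro x hx
      obtain ⟨hxS, hxT⟩ := (hmem x).mp hx
      exact (mem_UE F _).mp (hT hxT)
    · intro x hx
      exact ((hmem x).mp hx).1
    · intro x hx g hg hU
      obtain ⟨hxS, hxT⟩ := (hmem x).mp hx
      rw [hmem]
      refine ⟨mul_mem (mul_mem hg hxS) (inv_mem hg), ?_⟩
      exact hTc ⟨x, hxS⟩ hxT ⟨g, hg⟩ ((mem_UE F _).mpr hU)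
  have hT'0 : T' ≠ ⊥ := by
    intro h0
    apply hT0
    rw [eq_bot_iff]
    intro t ht
    have : (t : SLn n K) ∈ T' := (hmem _).mpr ⟨t.2, ht⟩
    rw [h0, mem_bot] at this
    exact mem_bot.mpr (Subtype.ext this)
  have hall := closed_SU hn p hSC hT'0
  apply le_antisymm hT
  intro u hu
  have h1 := hall (u : SLn n K) ((mem_UE F u).mp hu) u.2
  obtain ⟨_, h2⟩ := (hmem _).mp h1
  exact h2

variable (p : ℕ) [hp : Fact p.Prime] [CharP K p]

theorem UE_ne_bot (hn : 4 ≤ n) : UE (n := n) F ≠ ⊥ := by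
  intro h0
  obtain ⟨u0, hu0U, hu0S, hu0⟩ := exists_regular (n := n) F
  have h1 : (⟨u0, hu0S⟩ : ↥(SUJ (n := n) F)) ∈ UE F := (mem_UE F _).mpr hu0U
  rw [h0, mem_bot] at h1
  have h2 : u0 = 1 := congrArg Subtype.val h1
  have h3 := hu0 (y0 hn) (y1 hn) rfl
  rw [h2, mt_one, Matrix.one_apply_ne] at h3
  · exact h3 rfl
  · intro e
    have := congrArg Fin.val e
    rw [y0_val, y1_val] at this
    omega

/-- `SUJ` contains an element which is not upper triangular -/
theorem exists_not_UT (hn : 4 ≤ n) : ∃ g ∈ SUJ (n := n) F, g ∉ (UT : Subgroup (SLn n K)) := by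
  have hl : Fin.rev (y0 hn) ≠ Fin.rev (Fin.rev (y0 hn)) := by
    rw [Fin.rev_rev]; exact (y0_ne_rev hn).symm
  have h10 : y1 hn ≠ y0 hn := by
    intro e
    have := congrArg Fin.val e
    rw [y0_val, y1_val] at this
    omega
  have h1l : y1 hn ≠ Fin.rev (y0 hn) := by
    intro e
    have := congrArg Fin.val e
    rw [rev_y0_val, y1_val] at this
    omega
  have h1 : hf F (eb (Fin.rev (y0 hn)) : Fin n → K) (eb (Fin.rev (y0 hn))) = 0 :=
    hf_eb_self_eq_zero F hl
  have h2 : hf F (eb (y1 hn) : Fin n → K) (eb (Fin.rev (y0 hn))) = 0 := by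
    rw [hf_eb_eb, Fin.rev_rev, if_neg h10]
  have hg1 : SgT F (eb (Fin.rev (y0 hn))) (eb (y1 hn) : Fin n → K) 0 ∈ SUJ F :=
    SgT_mem_SUJ F h1 h2 (by
      rw [map_zero, add_zero, zero_add]
      exact hf_eb_self_eq_zero F (y1_ne_rev hn))
  refine ⟨_, hg1, ?_⟩
  intro hU
  have h3 := (mem_UT _).mp hU (y1 hn) (y0 hn) (by
    rw [Fin.lt_def, y0_val, y1_val]; omega)
  rw [mt_SgT F 0 h1 h2, Sm_apply, Matrix.one_apply_ne h10, eb_same, eb_same, eb_ne h1l, map_one]
    at h3
  simp at h3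

/-- the kernel of a central cover has order prime to `p` -/
theorem coprime_center (hn : 4 ≤ n) [NeZero n] :
    (Nat.card (Subgroup.center ↥(SUJ (n := n) F))).Coprime p := by
  rw [Nat.coprime_comm, Nat.Prime.coprime_iff_not_dvd hp.out]
  intro hd
  obtain ⟨z, hz⟩ := exists_prime_orderOf_dvd_card' p hd
  have hzc : (z : ↥(SUJ (n := n) F)) ∈ center ↥(SUJ (n := n) F) := z.2
  have ho : orderOf (z : ↥(SUJ (n := n) F)) = p := by rw [Subgroup.orderOf_coe]; exact hz
  have hz1 : (z : ↥(SUJ (n := n) F)) ≠ 1 := by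
    intro h1
    rw [h1, orderOf_one] at ho
    exact hp.out.one_lt.ne ho
  have hzle : zpowers (z : ↥(SUJ (n := n) F)) ≤ center ↥(SUJ (n := n) F) := by
    rw [zpowers_le]; exact hzc
  have hzp : IsPGroup p (zpowers (z : ↥(SUJ (n := n) F))) := by
    apply IsPGroup.of_card (n := 1)
    rw [Nat.card_zpowers, ho, pow_one]
  have hnorm : UE F ≤ normalizer ((zpowers (z : ↥(SUJ (n := n) F)) :
      Subgroup ↥(SUJ (n := n) F)) : Set ↥(SUJ (n := n) F)) :=
    fun u _ => central_subgroup_normalizer _ hzle u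
  have hsup : IsPGroup p ((UE F ⊔ zpowers (z : ↥(SUJ (n := n) F)) :
      Subgroup ↥(SUJ (n := n) F))) :=
    IsPGroup.to_sup_of_normal_right' (UE_isPGroup (n := n) F p) hzp hnorm
  have hmax := (UEs (n := n) F p).is_maximal' hsup (by rw [coe_UEs]; exact le_sup_left)
  rw [coe_UEs] at hmax
  have hzU : (z : ↥(SUJ (n := n) F)) ∈ UE F := by
    rw [← hmax]
    exact (le_sup_right : zpowers (z : ↥(SUJ (n := n) F)) ≤ UE F ⊔ zpowers (z : ↥(SUJ (n := n) F)))
      (mem_zpowers _)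
  have hT := hA_SU F p hn (zpowers (z : ↥(SUJ (n := n) F))) (by rw [zpowers_le]; exact hzU)
    (by
      intro h0
      apply hz1
      have := mem_zpowers (z : ↥(SUJ (n := n) F))
      rw [h0, mem_bot] at this
      exact this)
    (by
      intro x hx g _
      have h1 := (mem_center_iff.mp (hzle hx)) g
      have : g * x * g⁻¹ = x := by rw [h1, mul_inv_cancel_right]
      rw [this]; exact hx)
  obtain ⟨g, hgS, hgU⟩ := exists_not_UT F hn
  apply hgU
  have : (⟨g, hgS⟩ : ↥(SUJ (n := n) F)) ∈ normalizer ((UE F : Subgroup ↥(SUJ (n := n) F)) :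
      Set ↥(SUJ (n := n) F)) := by
    rw [← hT]
    exact central_subgroup_normalizer _ hzle _
  exact coe_mem_UT_of_normalizer F this

end Cfsg.Agent.Lib.Helper20.SuF
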