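import Mathlib
import Cfsg.Agent.Lib.Helper20.SuMain2

set_option autoImplicit false
set_option linter.style.haveILetI false
set_option linter.unusedSimpArgs false
set_option linter.unusedSectionVars false

/-!
# The `p`-fusion system of a central quotient of `SUJ`, `n ≥ 4`, is simple: assembly
-/

namespace Cfsg.Agent.Lib.Helper20.SuF

open Matrix Subgroup Cfsg.Agent.Lib.Helper20.PslF

variable {n : ℕ} {K : Type*} [Field K] [Fintype K] (F : Inv K)
  (p : ℕ) [hp : Fact p.Prime] [CharP K p]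

/-- the conditions on the family `QE 1`, `QE 2` -/
theorem family_SU (hn : 4 ≤ n) [NeZero n] {G : Type*} [Group G] (f : ↥(SUJ (n := n) F) →* G)
    (hker : f.ker = center ↥(SUJ (n := n) F)) (k : ℕ) (hk1 : 1 ≤ k) (hk2 : k ≤ 2) :
    QE (n := n) F k ≤ UE F ∧
    UE (n := n) F ≤ normalizer ((QE F k : Subgroup ↥(SUJ (n := n) F)) : Set ↥(SUJ (n := n) F)) ∧
    (∀ c ∈ centralizer ((QE F k : Subgroup ↥(SUJ (n := n) F)) : Set ↥(SUJ (n := n) F)),
      f c ∈ (QE F k).map f) ∧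
    ∀ Kt : Subgroup ↥(SUJ (n := n) F),
      Kt ≤ normalizer ((QE F k : Subgroup ↥(SUJ (n := n) F)) : Set ↥(SUJ (n := n) F)) →
      normalizer ((QE F k : Subgroup ↥(SUJ (n := n) F)) : Set ↥(SUJ (n := n) F)) ≤
        normalizer (Kt : Set ↥(SUJ (n := n) F)) → IsPGroup p Kt → Kt ≤ QE F k := by
  have hUN : UE F ≤
      normalizer ((QE F k : Subgroup ↥(SUJ (n := n) F)) : Set ↥(SUJ (n := n) F)) := by
    intro x hx
    apply PJ_le_normalizer_QE F k
    exact UT_le_PJ k (by omega) (UU_le_UT ((mem_UE F x).mp hx))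
  refine ⟨?_, hUN, ?_, ?_⟩
  · intro x hx
    rw [mem_UE]
    exact QJ_le_UU k (by omega) ((mem_QE F k x).mp hx)
  · intro c hc
    rw [mem_centralizer_iff] at hc
    have hcomm : ∀ r ∈ (QJ k : Subgroup (SLn n K)), r ∈ SUJ F →
        (c : SLn n K) * r = r * (c : SLn n K) := by
      intro r hr hrS
      exact (congrArg Subtype.val (hc ⟨r, hrS⟩ ((mem_QE F k _).mpr hr))).symm
    obtain ⟨lam, hl, hsS, r, hr, hcr⟩ := centralizer_QJ F hn hk1 hk2 c.2 hcomm
    have hrS : r ∈ SUJ F := by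
      have e : r = (scal lam hl)⁻¹ * (c : SLn n K) := by rw [hcr, inv_mul_cancel_left]
      rw [e]
      exact mul_mem (inv_mem hsS) c.2
    have hce : c = (⟨scal lam hl, hsS⟩ : ↥(SUJ (n := n) F)) * ⟨r, hrS⟩ := Subtype.ext hcr
    have hz : (⟨scal lam hl, hsS⟩ : ↥(SUJ (n := n) F)) ∈ center ↥(SUJ (n := n) F) := by
      rw [mem_center_iff]
      intro g
      apply Subtype.ext
      exact (mem_center_iff.mp (scal_mem_center lam hl)) (g : SLn n K)
    have hz1 : f ⟨scal lam hl, hsS⟩ = 1 := by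
      rw [← MonoidHom.mem_ker, hker]; exact hz
    rw [hce, map_mul, hz1, one_mul]
    exact mem_map_of_mem f ((mem_QE F k _).mpr hr)
  · intro Kt _ h2 h3
    have hsup : IsPGroup p ((UE F ⊔ Kt : Subgroup ↥(SUJ (n := n) F))) :=
      IsPGroup.to_sup_of_normal_right' (UE_isPGroup (n := n) F p) h3 (hUN.trans h2)
    have hmax := (UEs (n := n) F p).is_maximal' hsup (by rw [coe_UEs]; exact le_sup_left)
    rw [coe_UEs] at hmax
    have hKU : Kt ≤ UE F := by
      rw [← hmax]; exact le_sup_right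
    have hm : ∀ y : SLn n K, y ∈ Kt.map (SUJ (n := n) F).subtype ↔
        ∃ hy : y ∈ SUJ F, (⟨y, hy⟩ : ↥(SUJ (n := n) F)) ∈ Kt := by
      intro y
      rw [Subgroup.mem_map]
      constructor
      · rintro ⟨t, ht, rfl⟩
        exact ⟨t.2, ht⟩
      · rintro ⟨hy, ht⟩
        exact ⟨⟨y, hy⟩, ht, rfl⟩
    have h1' : Kt.map (SUJ (n := n) F).subtype ≤ UU := by
      intro y hy
      obtain ⟨hyS, hyK⟩ := (hm y).mp hy
      exact (mem_UE F _).mp (hKU hyK)
    have h2' : Kt.map (SUJ (n := n) F).subtype ≤ SUJ F := by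
      intro y hy
      exact ((hm y).mp hy).1
    have h3' : ∀ g ∈ (PJ k : Subgroup (SLn n K)), g ∈ SUJ F →
        ∀ y ∈ Kt.map (SUJ (n := n) F).subtype, g * y * g⁻¹ ∈ Kt.map (SUJ (n := n) F).subtype := by
      intro g hg hgS y hy
      obtain ⟨hyS, hyK⟩ := (hm y).mp hy
      have hgn := h2 (PJ_le_normalizer_QE F k (x := ⟨g, hgS⟩) hg)
      rw [hm]
      exact ⟨mul_mem (mul_mem hgS hyS) (inv_mem hgS), (mem_normalizer_iff.mp hgn ⟨y, hyS⟩).mp hyK⟩
    have hrad : Kt.map (SUJ (n := n) F).subtype ≤ QJ k :=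
      radical_QJ F hn hk1 hk2 _ h1' h2' h3'
    intro t ht
    rw [mem_QE]
    exact hrad ((hm _).mpr ⟨t.2, ht⟩)

/-- transfer of `GenP` into `SUJ` -/
theorem GenP_transfer (k : ℕ) {g : SLn n K} (hg : g ∈ GenP F p k) :
    ∃ hgS : g ∈ SUJ F, (⟨g, hgS⟩ : ↥(SUJ (n := n) F)) ∈
      closure {h : ↥(SUJ (n := n) F) |
        h ∈ normalizer ((QE F k : Subgroup ↥(SUJ (n := n) F)) : Set ↥(SUJ (n := n) F)) ∧
          ∃ m : ℕ, orderOf h = p ^ m} := by
  apply closure_subtype_transfer (SUJ (n := n) F) _ _ _ g hg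
  rintro h ⟨hP, hS, m, hm⟩
  refine ⟨hS, Subgroup.subset_closure ⟨PJ_le_normalizer_QE F k hP, m, ?_⟩⟩
  rw [← hm]
  exact Subgroup.orderOf_mk h hS

/-- the generation condition, inside `SUJ` -/
theorem gen_SU (hn : 4 ≤ n) :
    ∀ x ∈ normalizer ((UE F : Subgroup ↥(SUJ (n := n) F)) : Set ↥(SUJ (n := n) F)),
      x ∈ closure {g : ↥(SUJ (n := n) F) |
        g ∈ normalizer ((UE F : Subgroup ↥(SUJ (n := n) F)) : Set ↥(SUJ (n := n) F)) ∧
        ∃ R ∈ ({QE F 1, QE F 2} : Set (Subgroup ↥(SUJ (n := n) F))),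
          g ∈ closure {h : ↥(SUJ (n := n) F) |
            h ∈ normalizer ((R : Subgroup ↥(SUJ (n := n) F)) : Set ↥(SUJ (n := n) F)) ∧
              ∃ k : ℕ, orderOf h = p ^ k}} := by
  intro x hx
  have hxU := coe_mem_UT_of_normalizer F hx
  have hb := borel_gen F p hn _ hxU x.2
  have hst : ∀ g ∈ {g : SLn n K | g ∈ (UT : Subgroup (SLn n K)) ∧ g ∈ SUJ F ∧
      (g ∈ GenP F p 1 ∨ g ∈ GenP F p 2)}, ∃ hg : g ∈ SUJ F, (⟨g, hg⟩ : ↥(SUJ (n := n) F)) ∈
      closure {g : ↥(SUJ (n := n) F) |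
        g ∈ normalizer ((UE F : Subgroup ↥(SUJ (n := n) F)) : Set ↥(SUJ (n := n) F)) ∧
        ∃ R ∈ ({QE F 1, QE F 2} : Set (Subgroup ↥(SUJ (n := n) F))),
          g ∈ closure {h : ↥(SUJ (n := n) F) |
            h ∈ normalizer ((R : Subgroup ↥(SUJ (n := n) F)) : Set ↥(SUJ (n := n) F)) ∧
              ∃ k : ℕ, orderOf h = p ^ k}} := by
    rintro g ⟨hgU, hgS, hgP⟩
    refine ⟨hgS, Subgroup.subset_closure ⟨mem_normalizer_UE_of_UT F hgU, ?_⟩⟩
    rcases hgP with h1 | h2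
    · refine ⟨QE F 1, Set.mem_insert _ _, ?_⟩
      obtain ⟨_, h⟩ := GenP_transfer F p 1 h1
      exact h
    · refine ⟨QE F 2, Set.mem_insert_of_mem _ (Set.mem_singleton _), ?_⟩
      obtain ⟨_, h⟩ := GenP_transfer F p 2 h2
      exact h
  obtain ⟨_, h⟩ := closure_subtype_transfer (SUJ (n := n) F) _ _ hst (x : SLn n K) hb
  exact h

/-- **Main theorem**: simplicity of the fusion system of a central quotient of `SUJ`, `n ≥ 4`. -/
theorem isSimple_SU (hn : 4 ≤ n) [NeZero n] {G : Type*} [Group G] (f : ↥(SUJ (n := n) F) →* G)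
    (hf : Function.Surjective f) (hker : f.ker = center ↥(SUJ (n := n) F)) (S : Sylow p G)
    (hS : (S : Subgroup G) = (UE F).map f) :
    (Cfsg.groupFusionSystem (S : Subgroup G)).IsSimple p := by
  have hZ : f.ker ≤ center ↥(SUJ (n := n) F) := hker.le
  have hZp : (Nat.card f.ker).Coprime p := by
    rw [hker]; exact coprime_center F p hn
  apply Cfsg.Agent.Lib.Helper20.PslLift.isSimple_of_cover f hf hZ hZp (UEs (n := n) F p) S
    (by rw [coe_UEs]; exact hS) (by rw [coe_UEs]; exact UE_ne_bot F hn)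
    (by
      rw [coe_UEs]
      intro T hT hT0 hTc
      exact hA_SU F p hn T hT hT0 hTc)
    ({QE F 1, QE F 2} : Set (Subgroup ↥(SUJ (n := n) F)))
  · intro R hR
    rw [coe_UEs]
    rcases hR with rfl | rfl
    · exact family_SU F p hn f hker 1 le_rfl (by omega)
    · exact family_SU F p hn f hker 2 (by omega) le_rfl
  · rw [coe_UEs]
    exact gen_SU F p hn

end Cfsg.Agent.Lib.Helper20.SuF
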