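import Mathlib
import Cfsg.Agent.Lib.Helper20.SylKerA
import Cfsg.Agent.Lib.Helper20.SylModelLin

set_option autoImplicit false
set_option linter.style.haveILetI false
set_option linter.unusedSimpArgs false
set_option linter.unusedSectionVars false

/-!
Determinant characters of wreath and product representations.
-/

namespace Cfsg.Agent.Lib.Helper20.SylModel

open RegularWreathProduct Cfsg.Agent.Lib.Helper20.WreathLin Cfsg.Agent.Lib.Helper20.SympWreath
  Module

section det

variable {F : Type*} [Field F] {V : Type*} [AddCommGroup V] [Module F V]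
  {W : Type*} [AddCommGroup W] [Module F W] {G H : Type*} [Group G] [Group H]

/-- The determinant character of a representation. -/
noncomputable def detChar (ρ : G →* Module.End F V) : G →* Fˣ :=
  ((LinearMap.det : Module.End F V →* F).comp ρ).toHomUnits

theorem detChar_val (ρ : G →* Module.End F V) (g : G) :
    ((detChar ρ g : Fˣ) : F) = LinearMap.det (ρ g) := rfl

theorem wrHom_baseHom (ρ : G →* Module.End F V) (f : C2 → G) :
    wrHom ρ (baseHom G C2 f) = LinearMap.pi (fun x => (ρ (f x)).comp (LinearMap.proj x)) := by
  refine LinearMap.ext fun v => funext fun x => ?_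
  rw [wrHom_apply, baseHom_left, baseHom_right, inv_one, one_mul]
  rfl

theorem univ_C2 : (Finset.univ : Finset C2) = {1, tC} := by decide

theorem det_wrHom_baseHom [Module.Finite F V] (ρ : G →* Module.End F V) (f : C2 → G) :
    LinearMap.det (wrHom ρ (baseHom G C2 f)) =
      LinearMap.det (ρ (f 1)) * LinearMap.det (ρ (f tC)) := by
  rw [wrHom_baseHom, LinearMap.det_pi, univ_C2, Finset.prod_pair one_ne_tC]

/-- The sum-and-difference map. -/
def sdMap (F : Type*) [Field F] (V : Type*) [AddCommGroup V] [Module F V] :
    Module.End F (C2 → V) where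
  toFun v := fun x => if x = 1 then v 1 + v tC else v 1 - v tC
  map_add' := by
    intro v w
    funext x
    by_cases h : x = 1
    · simp only [h, if_true, Pi.add_apply]
      abel
    · simp only [h, if_false, Pi.add_apply]
      abel
  map_smul' := by
    intro c v
    funext x
    by_cases h : x = 1
    · simp only [h, if_true, Pi.smul_apply, smul_add, RingHom.id_apply]
    · simp only [h, if_false, Pi.smul_apply, smul_sub, RingHom.id_apply]

theorem sdMap_one (v : C2 → V) : sdMap F V v 1 = v 1 + v tC := by
  show (if (1 : C2) = 1 then v 1 + v tC else v 1 - v tC) = _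
  rw [if_pos rfl]

theorem sdMap_tC (v : C2 → V) : sdMap F V v tC = v 1 - v tC := by
  show (if tC = 1 then v 1 + v tC else v 1 - v tC) = _
  rw [if_neg tC_ne_one]

theorem det_wrHom_swap [Module.Finite F V] (h2 : (2 : F) ≠ 0) (ρ : G →* Module.End F V) :
    LinearMap.det (wrHom ρ (inl tC : G ≀ᵣ C2)) = (-1) ^ Module.finrank F V := by
  let ε : C2 → F := fun x => if x = 1 then 1 else -1
  let dg : Module.End F (C2 → V) :=
    LinearMap.pi (fun x => ((ε x) • (1 : Module.End F V)).comp (LinearMap.proj x))
  have hdg : LinearMap.det dg = (-1) ^ Module.finrank F V := by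
    show LinearMap.det (LinearMap.pi
      (fun x => ((ε x) • (1 : Module.End F V)).comp (LinearMap.proj x))) = _
    rw [LinearMap.det_pi, univ_C2, Finset.prod_pair one_ne_tC, LinearMap.det_smul,
      LinearMap.det_smul]
    simp [ε, tC_ne_one]
  have hsw : ∀ (v : C2 → V) (x : C2), wrHom ρ (inl tC : G ≀ᵣ C2) v x = v (tC * x) := by
    intro v x
    rw [wrHom_apply, left_inl, right_inl, tC_inv]
    simp
  have hsq : sdMap F V * sdMap F V = (2 : F) • (1 : Module.End F (C2 → V)) := by
    refine LinearMap.ext fun v => funext fun x => ?_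
    rw [Module.End.mul_apply, LinearMap.smul_apply, Module.End.one_apply, Pi.smul_apply, two_smul]
    rcases C2_cases x with rfl | rfl
    · rw [sdMap_one, sdMap_one, sdMap_tC]
      abel
    · rw [sdMap_tC, sdMap_one, sdMap_tC]
      abel
  have hcomm : sdMap F V * wrHom ρ (inl tC : G ≀ᵣ C2) = dg * sdMap F V := by
    refine LinearMap.ext fun v => funext fun x => ?_
    rw [Module.End.mul_apply, Module.End.mul_apply]
    show _ = (ε x • (1 : Module.End F V)) (sdMap F V v x)
    rw [LinearMap.smul_apply, Module.End.one_apply]
    rcases C2_cases x with rfl | rfl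
    · rw [sdMap_one, sdMap_one, hsw, hsw, mul_one, tC_mul_tC]
      simp only [ε, if_true, one_smul]
      abel
    · rw [sdMap_tC, sdMap_tC, hsw, hsw, mul_one, tC_mul_tC]
      simp only [ε, tC_ne_one, if_false, neg_smul, one_smul]
      abel
  have hne : LinearMap.det (sdMap F V) ≠ 0 := by
    intro h
    have h3 := congrArg LinearMap.det hsq
    rw [map_mul, h, mul_zero, LinearMap.det_smul, map_one, mul_one] at h3
    exact pow_ne_zero _ h2 h3.symm
  have h4 := congrArg LinearMap.det hcomm
  rw [map_mul, map_mul, hdg, mul_comm] at h4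
  exact mul_right_cancel₀ hne h4

theorem detChar_wreath_base [Module.Finite F V] (ρ : G →* Module.End F V) (f : C2 → G) :
    detChar (wrHom ρ) (baseHom G C2 f) = detChar ρ (f 1) * detChar ρ (f tC) := by
  apply Units.ext
  rw [Units.val_mul, detChar_val, detChar_val, detChar_val, det_wrHom_baseHom]

theorem detChar_wreath_swap [Module.Finite F V] (h2 : (2 : F) ≠ 0) (ρ : G →* Module.End F V) :
    detChar (wrHom ρ) (inl tC : G ≀ᵣ C2) = (-1) ^ Module.finrank F V := by
  apply Units.ext
  rw [detChar_val, det_wrHom_swap h2]
  simp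

theorem detChar_prod [Module.Finite F V] [Module.Finite F W] (ρ : G →* Module.End F V)
    (ρ' : H →* Module.End F W) :
    detChar (prodHom2 ρ ρ') = (detChar ρ).coprod (detChar ρ') := by
  refine MonoidHom.ext fun g => ?_
  apply Units.ext
  rw [MonoidHom.coprod_apply, Units.val_mul, detChar_val, detChar_val, detChar_val]
  exact LinearMap.det_prodMap (ρ g.1) (ρ' g.2)

end det

end Cfsg.Agent.Lib.Helper20.SylModel
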