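import Mathlib
import Cfsg.Agent.Lib.Helper20.SylKerDet

set_option autoImplicit false
set_option linter.style.haveILetI false
set_option linter.unusedSimpArgs false
set_option linter.unusedSectionVars false

/-!
Models for Sylow `2`-subgroups of special linear groups of even degree: the generic construction.
-/

namespace Cfsg.Agent.Lib.Helper20.SylModel

open RegularWreathProduct Cfsg.Agent.Lib.Helper20.WreathLin Cfsg.Agent.Lib.Helper20.SympWreath
  Module

universe u

/-- A `2`-group of order `2 ^ c` with a faithful representation of degree `n` whose determinant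
character has cyclic image generated by `a`, and such that elements with determinant of square
one have their square in the derived subgroup. -/
def IsDetModel (F : Type u) [Field F] (n c : ℕ) (a : Fˣ) (kr : Prop) (G : Type u) [Group G] :
    Prop :=
  Finite G ∧ 0 < n ∧ Nat.card G = 2 ^ c ∧
  ∃ (V : Type u) (_ : AddCommGroup V) (_ : Module F V) (_ : Module.Finite F V)
    (ρ : G →* Module.End F V), Function.Injective ρ ∧ Module.finrank F V = n ∧
      RSq (detChar ρ) ∧ Img (detChar ρ) a ∧ (kr → SqDer ↥(detChar ρ).ker)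

section steps

variable {F : Type u} [Field F]

theorem IsDetModel.mono {n c : ℕ} {a : Fˣ} {kr kr' : Prop} {G : Type u} [Group G]
    (h : IsDetModel F n c a kr G) (hk : kr' → kr) : IsDetModel F n c a kr' G := by
  obtain ⟨hfin, hn, hcard, V, hV1, hV2, hV3, ρ, hinj, hrank, hR, hI, hK⟩ := h
  exact ⟨hfin, hn, hcard, V, hV1, hV2, hV3, ρ, hinj, hrank, hR, hI, fun h => hK (hk h)⟩

theorem IsDetModel.of_eq {n c n' c' : ℕ} {a : Fˣ} {kr : Prop} {G : Type u} [Group G]
    (h : IsDetModel F n c a kr G) (hn : n = n') (hc : c = c') : IsDetModel F n' c' a kr G := by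
  subst hn
  subst hc
  exact h

theorem IsDetModel.wreath {n c : ℕ} {a : Fˣ} {kr : Prop} {G : Type u} [Group G]
    (h : IsDetModel F n c a kr G) (h2 : (2 : F) ≠ 0) (hneg : ∃ i : ℤ, (-1 : Fˣ) = a ^ i) :
    IsDetModel F (2 * n) (2 * c + 1) a (Even n) (G ≀ᵣ C2) := by
  obtain ⟨hfin, hn, hcard, V, hV1, hV2, hV3, ρ, hinj, hrank, hR, hI, -⟩ := h
  haveI := hfin
  have hVne : ∃ v : V, v ≠ 0 := by
    haveI : Nontrivial V := Module.nontrivial_of_finrank_pos (R := F) (by omega)
    exact exists_ne 0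
  have h1 : ∀ f : C2 → G, detChar (wrHom ρ) (baseHom G C2 f) =
      detChar ρ (f 1) * detChar ρ (f tC) := detChar_wreath_base ρ
  have hsw : detChar (wrHom ρ) (inl tC : G ≀ᵣ C2) = (-1) ^ Module.finrank F V :=
    detChar_wreath_swap h2 ρ
  refine ⟨inferInstance, by omega, ?_, C2 → V, inferInstance, inferInstance, inferInstance,
    wrHom ρ, wrHom_injective ρ hinj hVne, ?_, RSq.wreath hR h1 ?_, Img.wreath hI h1 ?_, ?_⟩
  · rw [RegularWreathProduct.card, hcard, card_C2, ← pow_mul, pow_succ]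
    ring
  · rw [Module.finrank_pi_fintype, Finset.sum_const, Finset.card_univ, hrank,
      Fintype.card_multiplicative, ZMod.card, smul_eq_mul]
  · rw [hsw, ← pow_mul, mul_comm, pow_mul]
    simp
  · obtain ⟨i, hi⟩ := hneg
    exact ⟨i * (Module.finrank F V : ℤ), by rw [hsw, hi, zpow_mul, zpow_natCast]⟩
  · intro hev
    apply sqDer_ker_wreath hR hI h1
    rw [hsw, hrank]
    exact Even.neg_one_pow hev

theorem IsDetModel.prod {n c m c' : ℕ} {a : Fˣ} {kr kr' : Prop} {G H : Type u} [Group G]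
    [Group H] (h : IsDetModel F n c a kr G) (h' : IsDetModel F m c' a kr' H) (hG : SqDer G)
    (hH : SqDer H) : IsDetModel F (n + m) (c + c') a True (G × H) := by
  obtain ⟨hfin, hn, hcard, V, hV1, hV2, hV3, ρ, hinj, hrank, hR, hI, -⟩ := h
  obtain ⟨hfin', hn', hcard', W, hW1, hW2, hW3, ρ', hinj', hrank', hR', hI', -⟩ := h'
  haveI := hfin
  haveI := hfin'
  refine ⟨inferInstance, by omega, ?_, V × W, inferInstance, inferInstance, inferInstance,
    prodHom2 ρ ρ', prodHom2_injective ρ ρ' hinj hinj', ?_, RSq.of_sqDer (hG.prod hH) _, ?_, ?_⟩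
  · rw [Nat.card_prod, hcard, hcard', pow_add]
  · rw [Module.finrank_prod, hrank, hrank']
  · rw [detChar_prod]
    exact hI.prod hI'
  · intro _
    rw [detChar_prod]
    exact sqDer_ker_prod hG hH hI hI'

end steps

section build

variable {F : Type u} [Field F]

theorem exists_detmodel_pow {e c₀ : ℕ} {a : Fˣ} {kr₀ : Prop} {D₀ : Type u} [Group D₀]
    (hD : IsDetModel F e c₀ a kr₀ D₀) (h2 : (2 : F) ≠ 0) (hneg : ∃ i : ℤ, (-1 : Fˣ) = a ^ i)
    (k : ℕ) :
    ∃ (G : Type u) (_ : Group G),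
      IsDetModel F (e * 2 ^ k) (2 ^ k * c₀ + T2 (2 ^ k)) a (1 ≤ k ∧ 4 ∣ e * 2 ^ k) G ∧
        (SqDer D₀ → SqDer G) := by
  induction k with
  | zero =>
    exact ⟨D₀, inferInstance, (hD.of_eq (by norm_num) (by simp [T2])).mono (by omega),
      fun h => h⟩
  | succ k ih =>
    obtain ⟨G, hG, hm, hsq⟩ := ih
    refine ⟨G ≀ᵣ C2, inferInstance, ((hm.wreath h2 hneg).of_eq (by rw [pow_succ]; ring) ?_).mono ?_,
      fun h => (hsq h).wreath⟩
    · rw [T2_pow_succ, pow_succ]
      ring
    · rintro ⟨-, h4⟩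
      rw [pow_succ, ← mul_assoc] at h4
      rw [Nat.even_iff]
      omega

theorem exists_detmodel {e c₀ : ℕ} {a : Fˣ} {kr₀ : Prop} {D₀ : Type u} [Group D₀]
    (hD : IsDetModel F e c₀ a kr₀ D₀) (hsq : SqDer D₀) (h2 : (2 : F) ≠ 0)
    (hneg : ∃ i : ℤ, (-1 : Fˣ) = a ^ i) :
    ∀ m : ℕ, 1 ≤ m → ∃ (G : Type u) (_ : Group G),
      IsDetModel F (e * m) (m * c₀ + T2 m) a (2 ≤ m ∧ Even e) G ∧ SqDer G := by
  intro n
  induction n using Nat.strong_induction_on with
  | _ n ih =>
    intro hn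
    have hk1 : 2 ^ Nat.log 2 n ≤ n := Nat.pow_log_le_self 2 (by omega)
    have hk2 : n < 2 ^ (Nat.log 2 n + 1) := Nat.lt_pow_succ_log_self (by norm_num) n
    set k := Nat.log 2 n with hk
    obtain ⟨m, hm⟩ : ∃ m, n = 2 ^ k + m := ⟨n - 2 ^ k, by omega⟩
    have hmk : m < 2 ^ k := by
      rw [pow_succ] at hk2
      omega
    obtain ⟨G, hG, hGm, hGsq⟩ := exists_detmodel_pow hD h2 hneg k
    by_cases hm0 : m = 0
    · rw [hm0, add_zero] at hm
      rw [hm]
      refine ⟨G, hG, hGm.mono ?_, hGsq hsq⟩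
      rintro ⟨h2k, he⟩
      have hk0 : 1 ≤ k := by
        by_contra hcon
        have : k = 0 := by omega
        rw [this, pow_zero] at h2k
        omega
      refine ⟨hk0, ?_⟩
      obtain ⟨k', hk'⟩ : ∃ k', k = k' + 1 := ⟨k - 1, by omega⟩
      obtain ⟨e', rfl⟩ := he
      exact ⟨e' * 2 ^ k', by rw [hk', pow_succ]; ring⟩
    · have hmn : m < n := by
        have := Nat.one_le_two_pow (n := k)
        omega
      obtain ⟨H, hH, hHm, hHsq⟩ := ih m hmn (by omega)
      refine ⟨G × H, inferInstance,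
        ((hGm.prod hHm (hGsq hsq) hHsq).of_eq (by rw [hm]; ring) ?_).mono (fun _ => trivial),
        (hGsq hsq).prod hHsq⟩
      rw [hm, T2_add k m hmk]
      ring

end build

end Cfsg.Agent.Lib.Helper20.SylModel
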