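import Mathlib
import Cfsg.Agent.S1217
import Cfsg.Agent.Lib.Helper20.QD
import Cfsg.Agent.Lib.Helper20.SylModelLin

set_option autoImplicit false
set_option linter.style.haveILetI false
set_option linter.unusedSimpArgs false
set_option linter.unusedSectionVars false

/-!
The Sylow `2`-subgroups of `GL_1(q)` and of `GL_2(q)`, `q ≡ 3 (mod 4)`, as base models.
-/

namespace Cfsg.Agent.Lib.Helper20.SylModel

open Matrix Module

universe u

section abstract

variable {G : Type*} [Group G]

theorem card_le_two_of_unique (E : Subgroup G)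
    (h : ∀ a ∈ E, ∀ b ∈ E, a ≠ 1 → b ≠ 1 → a = b) : Nat.card E ≤ 2 := by
  classical
  have hinj : Function.Injective (fun e : ↥E => decide ((e : G) = 1)) := by
    intro e e' hh
    have h' : decide ((e : G) = 1) = decide ((e' : G) = 1) := hh
    by_cases h1 : (e : G) = 1
    · have h3 : (e' : G) = 1 := by simpa [h1] using h'
      exact Subtype.ext (h1.trans h3.symm)
    · have h3 : (e' : G) ≠ 1 := by
        intro h4
        simp [h1, h4] at h'
      exact Subtype.ext (h _ e.2 _ e'.2 h1 h3)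
  have h1 := Nat.card_le_card_of_injective _ hinj
  rw [Nat.card_eq_fintype_card (α := Bool), Fintype.card_bool] at h1
  exact h1

theorem nrle_one_of_unique
    (h : ∀ a b : G, a ^ 2 = 1 → b ^ 2 = 1 → a ≠ 1 → b ≠ 1 → a = b) : NRle G 1 := by
  intro E _ hE
  rw [pow_one]
  exact card_le_two_of_unique E (fun a ha b hb ha1 hb1 => h a b (hE.2 a ha) (hE.2 b hb) ha1 hb1)

theorem exists_sq_ne_one_of_nrle [Finite G] (h : NRle G 1) (hc : 4 ≤ Nat.card G) :
    ∃ d : G, d ^ 2 ≠ 1 := by
  by_contra hcon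
  push Not at hcon
  have hcomm : ∀ a b : G, a * b = b * a := by
    intro a b
    have h1 := hcon (a * b)
    have h3 : a * b = (a * b)⁻¹ := by
      rw [eq_inv_iff_mul_eq_one, ← pow_two]
      exact h1
    have ha : a⁻¹ = a := by
      rw [inv_eq_iff_mul_eq_one, ← pow_two]
      exact hcon a
    have hb : b⁻¹ = b := by
      rw [inv_eq_iff_mul_eq_one, ← pow_two]
      exact hcon b
    rw [h3, _root_.mul_inv_rev, ha, hb]
  have h1 := h ⊤ inferInstance
    (isElementaryAbelian_of ⊤ (fun a _ b _ => hcomm a b) (fun a _ => hcon a))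
  rw [Subgroup.card_top] at h1
  omega

end abstract

section act

variable (F : Type u) [Field F]

/-- The general linear group acting on the standard space. -/
noncomputable def glAct (n : ℕ) :
    Matrix.GeneralLinearGroup (Fin n) F →* Module.End F (Fin n → F) :=
  (Matrix.toLinAlgEquiv' : Matrix (Fin n) (Fin n) F ≃ₐ[F]
    Module.End F (Fin n → F)).toRingEquiv.toMulEquiv.toMonoidHom.comp (Units.coeHom _)

theorem glAct_injective (n : ℕ) : Function.Injective (glAct F n) := by
  intro A A' h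
  apply Units.ext
  exact (Matrix.toLinAlgEquiv' : Matrix (Fin n) (Fin n) F ≃ₐ[F]
    Module.End F (Fin n → F)).injective h

end act

section base1

variable {F : Type u} [Field F] [Fintype F]

theorem gl1_ext (x y : Matrix.GeneralLinearGroup (Fin 1) F)
    (h : (x : Matrix (Fin 1) (Fin 1) F) 0 0 = (y : Matrix (Fin 1) (Fin 1) F) 0 0) : x = y := by
  apply Units.ext
  ext i j
  rw [Subsingleton.elim i 0, Subsingleton.elim j 0]
  exact h

theorem gl1_entry_sq (x : Matrix.GeneralLinearGroup (Fin 1) F) (hx : x ^ 2 = 1) :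
    (x : Matrix (Fin 1) (Fin 1) F) 0 0 = 1 ∨ (x : Matrix (Fin 1) (Fin 1) F) 0 0 = -1 := by
  have h1 := congrArg (fun y : Matrix.GeneralLinearGroup (Fin 1) F =>
    (y : Matrix (Fin 1) (Fin 1) F) 0 0) hx
  simp only [pow_two, Units.val_mul, Matrix.mul_apply, Fin.sum_univ_one, Units.val_one,
    Matrix.one_apply_eq] at h1
  have : ((x : Matrix (Fin 1) (Fin 1) F) 0 0 - 1) * ((x : Matrix (Fin 1) (Fin 1) F) 0 0 + 1) = 0 := by
    linear_combination h1
  rcases mul_eq_zero.mp this with h | h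
  · left; linear_combination h
  · right; linear_combination h

theorem gl1_unique (Q : Subgroup (Matrix.GeneralLinearGroup (Fin 1) F)) (a b : ↥Q)
    (ha : a ^ 2 = 1) (hb : b ^ 2 = 1) (ha1 : a ≠ 1) (hb1 : b ≠ 1) : a = b := by
  have ha' : (a : Matrix.GeneralLinearGroup (Fin 1) F) ^ 2 = 1 := by
    have := congrArg Subtype.val ha
    simpa using this
  have hb' : (b : Matrix.GeneralLinearGroup (Fin 1) F) ^ 2 = 1 := by
    have := congrArg Subtype.val hb
    simpa using this
  have h1 := (gl1_entry_sq _ ha').resolve_left (fun h => ha1 (Subtype.ext (gl1_ext _ _ (by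
    simpa using h))))
  have h2 := (gl1_entry_sq _ hb').resolve_left (fun h => hb1 (Subtype.ext (gl1_ext _ _ (by
    simpa using h))))
  exact Subtype.ext (gl1_ext _ _ (h1.trans h2.symm))

theorem one_le_v2_sub_one (q : ℕ) (hq : Odd q) (hq1 : 1 < q) : 1 ≤ padicValNat 2 (q - 1) := by
  have h1 : (2 : ℕ) ^ 1 ∣ q - 1 := by
    obtain ⟨r, rfl⟩ := hq
    exact ⟨r, by omega⟩
  exact (padicValNat_dvd_iff_le (by omega)).mp h1

theorem A2_one (q : ℕ) : A2 q 1 = padicValNat 2 (q - 1) := by
  simp [A2]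

theorem card_sylow_gl (hq : Odd (Fintype.card F)) (n : ℕ)
    (Q : Sylow 2 (Matrix.GeneralLinearGroup (Fin n) F)) :
    Nat.card ↥(Q : Subgroup (Matrix.GeneralLinearGroup (Fin n) F)) =
      2 ^ A2 (Fintype.card F) n := by
  rw [Sylow.card_eq_multiplicity, factorization_card_GL hq n]

theorem isLinModel_base1 (hq : Odd (Fintype.card F))
    (Q : Sylow 2 (Matrix.GeneralLinearGroup (Fin 1) F)) :
    IsLinModel F 1 (padicValNat 2 (Fintype.card F - 1)) 1
      ↥(Q : Subgroup (Matrix.GeneralLinearGroup (Fin 1) F)) := by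
  have hcard := card_sylow_gl hq 1 Q
  rw [A2_one] at hcard
  have hs := one_le_v2_sub_one (Fintype.card F) hq Fintype.one_lt_card
  haveI : Nontrivial ↥(Q : Subgroup (Matrix.GeneralLinearGroup (Fin 1) F)) := by
    apply (Finite.one_lt_card_iff_nontrivial).mp
    rw [hcard]
    calc 1 < 2 ^ 1 := by norm_num
      _ ≤ 2 ^ padicValNat 2 (Fintype.card F - 1) := Nat.pow_le_pow_right (by norm_num) hs
  refine ⟨inferInstance, Nat.one_pos, hcard, hasNEA_of_pgroup Q.isPGroup',
    nrle_one_of_unique (gl1_unique _), (Fin 1 → F), inferInstance, inferInstance, inferInstance,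
    (glAct F 1).comp (Q : Subgroup (Matrix.GeneralLinearGroup (Fin 1) F)).subtype,
    (glAct_injective F 1).comp Subtype.val_injective, by simp⟩

theorem exists_sq_ne_one_base1 (hq : Fintype.card F % 4 = 1)
    (Q : Sylow 2 (Matrix.GeneralLinearGroup (Fin 1) F)) :
    ∃ d : ↥(Q : Subgroup (Matrix.GeneralLinearGroup (Fin 1) F)), d ^ 2 ≠ 1 := by
  have hodd : Odd (Fintype.card F) := by
    rw [Nat.odd_iff]
    omega
  have hq1 : 1 < Fintype.card F := Fintype.one_lt_card
  have hcard := card_sylow_gl hodd 1 Q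
  rw [A2_one] at hcard
  apply exists_sq_ne_one_of_nrle (nrle_one_of_unique (gl1_unique _))
  rw [hcard]
  have h1 : (2 : ℕ) ^ 2 ∣ Fintype.card F - 1 := by
    refine ⟨Fintype.card F / 4, by omega⟩
  have h2 := (padicValNat_dvd_iff_le (by omega)).mp h1
  calc 4 = 2 ^ 2 := by norm_num
    _ ≤ 2 ^ padicValNat 2 (Fintype.card F - 1) := Nat.pow_le_pow_right (by norm_num) h2

end base1

section base2

variable {F : Type u} [Field F] [Fintype F]

theorem sqDer_of_QD {S : Type*} [Group S] {q : ℕ} {x y : S} (h : QD S q x y) : SqDer S := by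
  intro g
  rcases h.cases g with ⟨i, rfl⟩ | ⟨i, rfl⟩
  · rw [← zpow_natCast, ← _root_.zpow_mul]
    exact h.zpow_even_mem_commutator ⟨i, by push_cast; ring⟩
  · rw [pow_two, h.xy_mul_self]
    exact h.zpow_even_mem_commutator ⟨2 * q * i, by ring⟩

theorem nrle_of_QD {S : Type*} [Group S] {q : ℕ} {x y : S} (h : QD S q x y) : NRle S 1 := by
  intro E hn hE
  haveI := hn
  rw [pow_one]
  have key : ∀ a ∈ E, a ≠ 1 → a = x ^ (4 * q : ℤ) := by
    intro a ha ha1
    rcases h.cases a with ⟨i, rfl⟩ | ⟨i, rfl⟩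
    · rw [← h.orderOf_zpow_eq_two_iff]
      exact orderOf_eq_prime (hE.2 _ ha) ha1
    · exfalso
      have h1 := h.x_sq_mem_of_normal E ha
      have h2 := hE.2 _ h1
      rw [← zpow_natCast, ← _root_.zpow_mul, h.zpow_eq_one_iff] at h2
      obtain ⟨c, hc⟩ := h2
      have hq := h.qpos
      push_cast at hc
      have h3 : (8 * (q : ℤ)) ∣ 4 := ⟨c, by linarith⟩
      have h4 := Int.le_of_dvd (by norm_num) h3
      omega
  exact card_le_two_of_unique E (fun a ha b hb ha1 hb1 => (key a ha ha1).trans (key b hb hb1).symm)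

theorem exists_sq_ne_one_of_QD {S : Type*} [Group S] {q : ℕ} {x y : S} (h : QD S q x y) :
    ∃ d : S, d ^ 2 ≠ 1 := by
  refine ⟨x, ?_⟩
  intro h2
  rw [← zpow_natCast, h.zpow_eq_one_iff] at h2
  have hq := h.qpos
  have h4 := Int.le_of_dvd (by norm_num) h2
  push_cast at h4
  omega

theorem base2_facts (hq : Fintype.card F % 4 = 3)
    (Q : Sylow 2 (Matrix.GeneralLinearGroup (Fin 2) F)) :
    IsLinModel F 2 (A2 (Fintype.card F) 2) 1
      ↥(Q : Subgroup (Matrix.GeneralLinearGroup (Fin 2) F)) ∧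
    SqDer ↥(Q : Subgroup (Matrix.GeneralLinearGroup (Fin 2) F)) ∧
    ∃ d : ↥(Q : Subgroup (Matrix.GeneralLinearGroup (Fin 2) F)), d ^ 2 ≠ 1 := by
  have hodd : Odd (Fintype.card F) := by
    rw [Nat.odd_iff]
    omega
  have hQD := (Cfsg.Agent.S1217.result Q).1 hq
  obtain ⟨k, x, y, hqd, hc⟩ := exists_QD_of_isQuasiDihedral hQD
  haveI : Nontrivial ↥(Q : Subgroup (Matrix.GeneralLinearGroup (Fin 2) F)) := by
    apply (Finite.one_lt_card_iff_nontrivial).mp
    rw [hc]
    exact Nat.one_lt_two_pow (by omega)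
  refine ⟨⟨inferInstance, by norm_num, card_sylow_gl hodd 2 Q, hasNEA_of_pgroup Q.isPGroup',
    nrle_of_QD hqd, (Fin 2 → F), inferInstance, inferInstance, inferInstance,
    (glAct F 2).comp (Q : Subgroup (Matrix.GeneralLinearGroup (Fin 2) F)).subtype,
    (glAct_injective F 2).comp Subtype.val_injective, by simp⟩, sqDer_of_QD hqd,
    exists_sq_ne_one_of_QD hqd⟩

end base2

end Cfsg.Agent.Lib.Helper20.SylModel
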