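import Mathlib
import Cfsg.Agent.Lib.Helper20.SylModelGLBase
import Cfsg.Agent.Lib.Helper38.SLCard

set_option autoImplicit false
set_option linter.style.haveILetI false
set_option linter.unusedSimpArgs false
set_option linter.unusedSectionVars false

/-!
Sylow `2`-subgroups of `GL_n(q)` and of `SL_{2m+1}(q)`, `q` odd.
-/

namespace Cfsg.Agent.Lib.Helper20.SylModel

open Matrix Module Cfsg.Agent.Lib.Helper20.WreathLin

universe u

section transfer

variable {F : Type u} [Field F] [Fintype F]

theorem sylow_gl_equiv (hq : Odd (Fintype.card F)) {n c r : ℕ} {G : Type u} [Group G]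
    (hG : IsLinModel F n c r G) (hc : c = A2 (Fintype.card F) n)
    (P : Sylow 2 (Matrix.GeneralLinearGroup (Fin n) F)) :
    Nonempty (G ≃* ↥(P : Subgroup (Matrix.GeneralLinearGroup (Fin n) F))) := by
  classical
  obtain ⟨hfin, -, hcard, -, -, V, hV1, hV2, hV3, ρ, hinj, hrank⟩ := hG
  haveI := hfin
  obtain ⟨φ, hφ⟩ := exists_embedding ρ hinj n (le_of_eq hrank)
  have hcr : Nat.card φ.range =
      2 ^ (Nat.card (Matrix.GeneralLinearGroup (Fin n) F)).factorization 2 := by
    rw [factorization_card_GL hq n, ← hc, ← hcard]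
    exact (Nat.card_congr (MonoidHom.ofInjective hφ).toEquiv).symm
  let P' : Sylow 2 (Matrix.GeneralLinearGroup (Fin n) F) := Sylow.ofCard φ.range hcr
  exact ⟨(MonoidHom.ofInjective hφ).trans (Sylow.equiv P' P)⟩

theorem sylow_gl_props (hq : Odd (Fintype.card F)) {n c r : ℕ} {G : Type u} [Group G]
    (hG : IsLinModel F n c r G) (hc : c = A2 (Fintype.card F) n)
    (P : Sylow 2 (Matrix.GeneralLinearGroup (Fin n) F)) :
    HasNEA ↥(P : Subgroup (Matrix.GeneralLinearGroup (Fin n) F)) r ∧
    NRle ↥(P : Subgroup (Matrix.GeneralLinearGroup (Fin n) F)) r ∧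
    (SqDer G → SqDer ↥(P : Subgroup (Matrix.GeneralLinearGroup (Fin n) F))) := by
  obtain ⟨e⟩ := sylow_gl_equiv hq hG hc P
  exact ⟨hG.2.2.2.1.of_mulEquiv e, hG.2.2.2.2.1.of_mulEquiv e, fun h => h.of_mulEquiv e⟩

end transfer

section main

variable {F : Type u} [Field F] [Fintype F]

theorem T2_two_mul_add_one (m : ℕ) : T2 (2 * m + 1) = m + T2 m := by
  rw [T2_succ, T2_two_mul, padicValNat.eq_zero_of_not_dvd (by omega), add_zero]

theorem sylow_gl_one (h1 : Fintype.card F % 4 = 1) (n : ℕ) (hn : 1 ≤ n)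
    (P : Sylow 2 (Matrix.GeneralLinearGroup (Fin n) F)) :
    HasNEA ↥(P : Subgroup (Matrix.GeneralLinearGroup (Fin n) F)) n ∧
    NRle ↥(P : Subgroup (Matrix.GeneralLinearGroup (Fin n) F)) n := by
  have hodd : Odd (Fintype.card F) := by
    rw [Nat.odd_iff]
    omega
  have hq1 : 1 < Fintype.card F := Fintype.one_lt_card
  obtain ⟨Q⟩ : Nonempty (Sylow 2 (Matrix.GeneralLinearGroup (Fin 1) F)) := inferInstance
  obtain ⟨d, hd⟩ := exists_sq_ne_one_base1 h1 Q
  obtain ⟨G, hG, hm, -, -⟩ := exists_linmodel (isLinModel_base1 hodd Q) d hd n hn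
  have ha : padicValNat 2 (Fintype.card F ^ 2 - 1) = padicValNat 2 (Fintype.card F - 1) + 1 := by
    rw [v2_sq_sub_one _ hq1, v2_of_mod_four (Fintype.card F + 1) (by omega)]
  have hc : n * padicValNat 2 (Fintype.card F - 1) + T2 n = A2 (Fintype.card F) n := by
    obtain ⟨m, rfl | rfl⟩ := Nat.even_or_odd' n
    · rw [(A2_even_odd _ hodd hq1 m).1, ha, T2_two_mul]
      ring
    · rw [(A2_even_odd _ hodd hq1 m).2, ha, T2_two_mul_add_one]
      ring
  have h := sylow_gl_props hodd (hm.of_eq (one_mul n) rfl rfl) hc P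
  exact ⟨h.1, h.2.1⟩

theorem sqDer_of_card_two {G : Type*} [Group G] (h : Nat.card G = 2) : SqDer G := by
  intro x
  have : x ^ 2 = 1 := by
    rw [← h]
    exact pow_card_eq_one'
  rw [this]
  exact one_mem _

theorem sylow_gl_three (h3 : Fintype.card F % 4 = 3) (n : ℕ) (hn : 1 ≤ n)
    (P : Sylow 2 (Matrix.GeneralLinearGroup (Fin n) F)) :
    HasNEA ↥(P : Subgroup (Matrix.GeneralLinearGroup (Fin n) F)) ((n + 1) / 2) ∧
    NRle ↥(P : Subgroup (Matrix.GeneralLinearGroup (Fin n) F)) ((n + 1) / 2) ∧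
    SqDer ↥(P : Subgroup (Matrix.GeneralLinearGroup (Fin n) F)) := by
  have hodd : Odd (Fintype.card F) := by
    rw [Nat.odd_iff]
    omega
  have hq1 : 1 < Fintype.card F := Fintype.one_lt_card
  have hs : padicValNat 2 (Fintype.card F - 1) = 1 := v2_of_mod_four _ (by omega)
  obtain ⟨Q1⟩ : Nonempty (Sylow 2 (Matrix.GeneralLinearGroup (Fin 1) F)) := inferInstance
  obtain ⟨Q2⟩ : Nonempty (Sylow 2 (Matrix.GeneralLinearGroup (Fin 2) F)) := inferInstance
  have hQ1 := isLinModel_base1 hodd Q1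
  have hQ1sq : SqDer ↥(Q1 : Subgroup (Matrix.GeneralLinearGroup (Fin 1) F)) := by
    apply sqDer_of_card_two
    rw [hQ1.2.2.1, hs, pow_one]
  obtain ⟨hQ2, hQ2sq, d, hd⟩ := base2_facts h3 Q2
  have hA2 : A2 (Fintype.card F) 2 =
      padicValNat 2 (Fintype.card F - 1) + padicValNat 2 (Fintype.card F ^ 2 - 1) := by
    have := (A2_even_odd _ hodd hq1 1).1
    simp only [mul_one, one_mul, T2_one, add_zero] at this
    exact this
  obtain ⟨m, rfl | rfl⟩ := Nat.even_or_odd' n
  · have hm1 : 1 ≤ m := by omega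
    obtain ⟨G, hG, hm, -, hsq⟩ := exists_linmodel hQ2 d hd m hm1
    have hc : m * A2 (Fintype.card F) 2 + T2 m = A2 (Fintype.card F) (2 * m) := by
      rw [(A2_even_odd _ hodd hq1 m).1, hA2]
      ring
    have h := sylow_gl_props hodd hm hc P
    have e : (2 * m + 1) / 2 = m := by omega
    rw [e]
    exact ⟨h.1, h.2.1, h.2.2 (hsq hQ2sq)⟩
  · by_cases hm0 : m = 0
    · subst hm0
      have h := sylow_gl_props hodd hQ1 (A2_one _).symm P
      exact ⟨h.1, h.2.1, h.2.2 hQ1sq⟩
    · have hm1 : 1 ≤ m := by omega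
      obtain ⟨G, hG, hm, -, hsq⟩ := exists_linmodel hQ2 d hd m hm1
      have hc : m * A2 (Fintype.card F) 2 + T2 m + padicValNat 2 (Fintype.card F - 1) =
          A2 (Fintype.card F) (2 * m + 1) := by
        rw [(A2_even_odd _ hodd hq1 m).2, hA2]
        ring
      have h := sylow_gl_props hodd (hm.prod hQ1) hc P
      have e : (2 * m + 1 + 1) / 2 = m + 1 := by omega
      rw [e]
      exact ⟨h.1, h.2.1, h.2.2 ((hsq hQ2sq).prod hQ1sq)⟩

end main

section sl

variable {F : Type u} [Field F]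

/-- A faithful representation of degree `n - 1` gives an embedding in `SL_n`. -/
theorem exists_sl_embedding {V : Type*} [AddCommGroup V] [Module F V] [Module.Finite F V]
    {G : Type*} [Group G] (ρ : G →* Module.End F V) (hρ : Function.Injective ρ) (n : ℕ)
    (hn : Module.finrank F V + 1 = n) :
    ∃ φ : G →* Matrix.SpecialLinearGroup (Fin n) F, Function.Injective φ := by
  let δ : G →* F := LinearMap.det.comp ρ
  have hδ : ∀ g : G, δ g * δ g⁻¹ = 1 := by
    intro g
    rw [← map_mul, mul_inv_cancel, map_one]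
  let ρ' : G →* Module.End F (V × F) :=
    { toFun := fun g => (ρ g).prodMap (δ g⁻¹ • (LinearMap.id : F →ₗ[F] F))
      map_one' := by
        refine LinearMap.ext fun x => ?_
        rcases x with ⟨v, c⟩
        simp [LinearMap.prodMap_apply]
      map_mul' := by
        intro g h
        refine LinearMap.ext fun x => ?_
        rcases x with ⟨v, c⟩
        have e : δ (g * h)⁻¹ = δ g⁻¹ * δ h⁻¹ := by
          rw [_root_.mul_inv_rev, map_mul, mul_comm]
        simp only [LinearMap.prodMap_apply, Module.End.mul_apply, map_mul,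
          LinearMap.smul_apply, LinearMap.id_apply, smul_eq_mul, e, mul_assoc] }
  have hρ'apply : ∀ g, ρ' g = (ρ g).prodMap (δ g⁻¹ • (LinearMap.id : F →ₗ[F] F)) := fun g => rfl
  have hdet : ∀ g, LinearMap.det (ρ' g) = 1 := by
    intro g
    rw [hρ'apply, LinearMap.det_prodMap, LinearMap.det_smul, Module.finrank_self, pow_one,
      LinearMap.det_id, mul_one]
    exact hδ g
  have hρ'inj : Function.Injective ρ' := by
    intro g g' h
    apply hρ
    refine LinearMap.ext fun v => ?_
    have h1 := congrArg (fun T : Module.End F (V × F) => (T (v, 0)).1) h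
    exact h1
  have hrank : Module.finrank F (V × F) = n := by
    rw [Module.finrank_prod, Module.finrank_self, hn]
  let b := Module.finBasisOfFinrankEq F (V × F) hrank
  let ψ : G →* Matrix (Fin n) (Fin n) F :=
    (LinearMap.toMatrixAlgEquiv b).toRingEquiv.toMulEquiv.toMonoidHom.comp ρ'
  have hψdet : ∀ g, (ψ g).det = 1 := by
    intro g
    show (LinearMap.toMatrix b b (ρ' g)).det = 1
    rw [LinearMap.det_toMatrix, hdet]
  have hψ : Function.Injective ψ := by
    intro g g' h
    apply hρ'inj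
    exact (LinearMap.toMatrixAlgEquiv b).injective h
  let φ : G →* Matrix.SpecialLinearGroup (Fin n) F := MonoidHom.mk'
    (fun g => ⟨ψ g, hψdet g⟩) (by
      intro g h
      apply Subtype.ext
      show ψ (g * h) = ψ g * ψ h
      exact map_mul ψ g h)
  refine ⟨φ, ?_⟩
  intro g g' h
  apply hψ
  exact congrArg Subtype.val h

variable [Fintype F]

theorem factorization_card_SL (hq : Odd (Fintype.card F)) (n : ℕ) (hn : 1 ≤ n) :
    (Nat.card (Matrix.SpecialLinearGroup (Fin n) F)).factorization 2 +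
      padicValNat 2 (Fintype.card F - 1) = A2 (Fintype.card F) n := by
  have hq1 : 1 < Fintype.card F := Fintype.one_lt_card
  have h := Cfsg.Agent.Lib.Helper38.card_SL_mul (F := F) n hn
  rw [← factorization_card_GL hq n, ← h,
    Nat.factorization_mul Nat.card_pos.ne' (by omega), Finsupp.add_apply,
    Nat.factorization_def (Fintype.card F - 1) Nat.prime_two]

theorem sylow_sl_odd (h3 : Fintype.card F % 4 = 3) (m : ℕ) (hm1 : 1 ≤ m)
    (P : Sylow 2 (Matrix.SpecialLinearGroup (Fin (2 * m + 1)) F)) :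
    SqDer ↥(P : Subgroup (Matrix.SpecialLinearGroup (Fin (2 * m + 1)) F)) := by
  classical
  have hodd : Odd (Fintype.card F) := by
    rw [Nat.odd_iff]
    omega
  have hq1 : 1 < Fintype.card F := Fintype.one_lt_card
  obtain ⟨Q2⟩ : Nonempty (Sylow 2 (Matrix.GeneralLinearGroup (Fin 2) F)) := inferInstance
  obtain ⟨hQ2, hQ2sq, d, hd⟩ := base2_facts h3 Q2
  have hA2 : A2 (Fintype.card F) 2 =
      padicValNat 2 (Fintype.card F - 1) + padicValNat 2 (Fintype.card F ^ 2 - 1) := by
    have := (A2_even_odd _ hodd hq1 1).1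
    simp only [mul_one, one_mul, T2_one, add_zero] at this
    exact this
  obtain ⟨G, hG, hm, -, hsq⟩ := exists_linmodel hQ2 d hd m hm1
  obtain ⟨hfin, -, hcard, -, -, V, hV1, hV2, hV3, ρ, hinj, hrank⟩ := hm
  haveI := hfin
  obtain ⟨φ, hφ⟩ := exists_sl_embedding ρ hinj (2 * m + 1) (by rw [hrank])
  have hfac := factorization_card_SL hodd (2 * m + 1) (by omega)
  rw [(A2_even_odd _ hodd hq1 m).2] at hfac
  have hcr : Nat.card φ.range =
      2 ^ (Nat.card (Matrix.SpecialLinearGroup (Fin (2 * m + 1)) F)).factorization 2 := by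
    have e1 : (Nat.card (Matrix.SpecialLinearGroup (Fin (2 * m + 1)) F)).factorization 2 =
        m * A2 (Fintype.card F) 2 + T2 m := by
      rw [hA2]
      have : (m + 1) * padicValNat 2 (Fintype.card F - 1) =
          m * padicValNat 2 (Fintype.card F - 1) + padicValNat 2 (Fintype.card F - 1) := by ring
      rw [this] at hfac
      have h2 : m * (padicValNat 2 (Fintype.card F - 1) + padicValNat 2 (Fintype.card F ^ 2 - 1)) =
          m * padicValNat 2 (Fintype.card F - 1) + m * padicValNat 2 (Fintype.card F ^ 2 - 1) := by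
        ring
      rw [h2]
      omega
    rw [e1, ← hcard]
    exact (Nat.card_congr (MonoidHom.ofInjective hφ).toEquiv).symm
  let P' : Sylow 2 (Matrix.SpecialLinearGroup (Fin (2 * m + 1)) F) := Sylow.ofCard φ.range hcr
  exact (hsq hQ2sq).of_mulEquiv ((MonoidHom.ofInjective hφ).trans (Sylow.equiv P' P))

end sl

end Cfsg.Agent.Lib.Helper20.SylModel
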