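import Mathlib
import Cfsg.Agent.Lib.Helper20.SylKerModel
import Cfsg.Agent.Lib.Helper20.SylModelGLMain

set_option autoImplicit false
set_option linter.style.haveILetI false
set_option linter.unusedSimpArgs false
set_option linter.unusedSectionVars false

/-!
From a determinant model to the Sylow `2`-subgroups of the special linear group.
-/

namespace Cfsg.Agent.Lib.Helper20.SylModel

open Matrix Module Cfsg.Agent.Lib.Helper20.WreathLin

universe u

section embed

variable {F : Type*} [Field F]

/-- The kernel of the determinant character embeds in the special linear group. -/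
theorem exists_sl_embedding_ker {V : Type*} [AddCommGroup V] [Module F V] [Module.Finite F V]
    {G : Type*} [Group G] (ρ : G →* Module.End F V) (hρ : Function.Injective ρ) (n : ℕ)
    (hn : Module.finrank F V = n) :
    ∃ φ : ↥(detChar ρ).ker →* Matrix.SpecialLinearGroup (Fin n) F, Function.Injective φ := by
  let b := Module.finBasisOfFinrankEq F V hn
  let ψ : G →* Matrix (Fin n) (Fin n) F :=
    (LinearMap.toMatrixAlgEquiv b).toRingEquiv.toMulEquiv.toMonoidHom.comp ρ
  have hψdet : ∀ g : ↥(detChar ρ).ker, (ψ g.1).det = 1 := by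
    intro g
    show (LinearMap.toMatrix b b (ρ g.1)).det = 1
    rw [LinearMap.det_toMatrix, ← detChar_val]
    have h1 : detChar ρ g.1 = 1 := g.2
    rw [h1, Units.val_one]
  have hψ : Function.Injective ψ := by
    intro g g' h
    apply hρ
    exact (LinearMap.toMatrixAlgEquiv b).injective h
  let φ : ↥(detChar ρ).ker →* Matrix.SpecialLinearGroup (Fin n) F := MonoidHom.mk'
    (fun g => ⟨ψ g.1, hψdet g⟩) (by
      intro g h
      apply Subtype.ext
      show ψ (g.1 * h.1) = ψ g.1 * ψ h.1
      exact map_mul ψ g.1 h.1)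
  refine ⟨φ, ?_⟩
  intro g g' h
  apply Subtype.ext
  apply hψ
  exact congrArg Subtype.val h

end embed

section main

variable {F : Type u} [Field F] [Fintype F]

theorem sylow_sl_of_detmodel (hq : Odd (Fintype.card F)) {n c : ℕ} {a : Fˣ} {G : Type u}
    [Group G] (hG : IsDetModel F n c a True G) (hc : c = A2 (Fintype.card F) n)
    (P : Sylow 2 (Matrix.SpecialLinearGroup (Fin n) F)) :
    SqDer ↥(P : Subgroup (Matrix.SpecialLinearGroup (Fin n) F)) := by
  classical
  obtain ⟨hfin, hn, hcard, V, hV1, hV2, hV3, ρ, hinj, hrank, -, -, hK⟩ := hG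
  haveI := hfin
  have hq1 : 1 < Fintype.card F := Fintype.one_lt_card
  obtain ⟨φ, hφ⟩ := exists_sl_embedding_ker ρ hinj n hrank
  have hfac := factorization_card_SL hq n hn
  set t := (Nat.card (Matrix.SpecialLinearGroup (Fin n) F)).factorization 2 with ht
  set s := padicValNat 2 (Fintype.card F - 1) with hs
  -- the index of the kernel
  have hidx : (detChar ρ).ker.index ∣ Fintype.card F - 1 := by
    rw [Subgroup.index_ker]
    have h1 := Subgroup.card_subgroup_dvd_card (detChar ρ).range
    rw [Nat.card_units] at h1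
    rwa [Nat.card_eq_fintype_card (α := F)] at h1
  have hmul : Nat.card ↥(detChar ρ).ker * (detChar ρ).ker.index = 2 ^ c := by
    rw [Subgroup.card_mul_index, hcard]
  obtain ⟨j, hjc, hj⟩ := (Nat.dvd_prime_pow Nat.prime_two).mp (Dvd.intro_left _ hmul)
  obtain ⟨i, hic, hi⟩ := (Nat.dvd_prime_pow Nat.prime_two).mp (Dvd.intro _ hmul)
  have hij : i + j = c := by
    rw [hi, hj, ← pow_add] at hmul
    exact Nat.pow_right_injective (le_refl 2) hmul
  have hjs : j ≤ s := by
    rw [hj] at hidx
    exact (padicValNat_dvd_iff_le (by omega)).mp hidx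
  have hcr0 : Nat.card φ.range = 2 ^ i := by
    rw [← hi]
    exact (Nat.card_congr (MonoidHom.ofInjective hφ).toEquiv).symm
  have hit : i ≤ t := by
    have h1 := Subgroup.card_subgroup_dvd_card φ.range
    rw [hcr0] at h1
    exact (Nat.Prime.pow_dvd_iff_le_factorization Nat.prime_two Nat.card_pos.ne').mp h1
  have hieq : i = t := by omega
  have hcr : Nat.card φ.range =
      2 ^ (Nat.card (Matrix.SpecialLinearGroup (Fin n) F)).factorization 2 := by
    rw [hcr0, hieq]
  let P' : Sylow 2 (Matrix.SpecialLinearGroup (Fin n) F) := Sylow.ofCard φ.range hcr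
  exact (hK trivial).of_mulEquiv ((MonoidHom.ofInjective hφ).trans (Sylow.equiv P' P))

end main

end Cfsg.Agent.Lib.Helper20.SylModel
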