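import Mathlib
import Cfsg.Agent.Lib.Helper20.SylKerMain
import Cfsg.Agent.Lib.Helper20.SylowFusion
import Cfsg.Agent.Lib.Helper99.SpRoot2

set_option autoImplicit false
set_option linter.style.haveILetI false
set_option linter.unusedSimpArgs false
set_option linter.unusedSectionVars false

/-!
The base cases of the determinant models, and the Sylow `2`-subgroups of `SL_2(q)`.
-/

namespace Cfsg.Agent.Lib.Helper20.SylModel

open Matrix Module

universe u

section base

variable {F : Type u} [Field F] [Fintype F]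

theorem detChar_glAct (n : ℕ) (Q : Subgroup (Matrix.GeneralLinearGroup (Fin n) F)) (g : ↥Q) :
    ((detChar ((glAct F n).comp Q.subtype) g : Fˣ) : F) =
      ((g : Matrix.GeneralLinearGroup (Fin n) F) : Matrix (Fin n) (Fin n) F).det := by
  rw [detChar_val]
  show LinearMap.det (Matrix.toLin' ((g : Matrix.GeneralLinearGroup (Fin n) F) :
    Matrix (Fin n) (Fin n) F)) = _
  rw [LinearMap.det_toLin']

theorem unit_cases (h3 : Fintype.card F % 4 = 3) (u : Fˣ) (k : ℕ) (hu : u ^ (2 ^ k) = 1) :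
    u = 1 ∨ u = -1 := by
  classical
  have h1 : orderOf u ∣ 2 ^ k := orderOf_dvd_of_pow_eq_one hu
  obtain ⟨j, hjk, hj⟩ := (Nat.dvd_prime_pow Nat.prime_two).mp h1
  have h2 : orderOf u ∣ Fintype.card F - 1 := by
    rw [← Fintype.card_units]
    exact orderOf_dvd_card
  have hj1 : j ≤ 1 := by
    by_contra hcon
    have h4 : 2 ^ 2 ∣ 2 ^ j := pow_dvd_pow 2 (by omega)
    rw [hj] at h2
    have := dvd_trans h4 h2
    omega
  have hsq : u ^ 2 = 1 := by
    apply orderOf_dvd_iff_pow_eq_one.mp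
    rw [hj]
    exact pow_dvd_pow 2 hj1
  have hF : ((u : F)) ^ 2 = 1 := by rw [← Units.val_pow_eq_pow_val, hsq, Units.val_one]
  rcases sq_eq_one_iff.mp hF with h | h
  · left
    exact Units.ext h
  · right
    exact Units.ext (by rw [h, Units.val_neg, Units.val_one])

/-- the reflection -/
noncomputable def reflGL : Matrix.GeneralLinearGroup (Fin 2) F :=
  Matrix.GeneralLinearGroup.mkOfDetNeZero (Matrix.diagonal ![-1, 1]) (by
    rw [Matrix.det_diagonal, Fin.prod_univ_two]
    simp)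

theorem reflGL_det : ((reflGL : Matrix.GeneralLinearGroup (Fin 2) F) :
    Matrix (Fin 2) (Fin 2) F).det = -1 := by
  show (Matrix.diagonal ![(-1 : F), 1]).det = -1
  rw [Matrix.det_diagonal, Fin.prod_univ_two]
  simp

theorem reflGL_sq : (reflGL : Matrix.GeneralLinearGroup (Fin 2) F) ^ 2 = 1 := by
  apply Units.ext
  rw [pow_two, Units.val_mul, Units.val_one]
  show Matrix.diagonal ![(-1 : F), 1] * Matrix.diagonal ![(-1 : F), 1] = 1
  rw [Matrix.diagonal_mul_diagonal, ← Matrix.diagonal_one]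
  congr 1
  funext i
  fin_cases i <;> simp

theorem isDetModel_base2 (h3 : Fintype.card F % 4 = 3)
    (Q : Sylow 2 (Matrix.GeneralLinearGroup (Fin 2) F)) :
    IsDetModel F 2 (A2 (Fintype.card F) 2) (-1) False
      ↥(Q : Subgroup (Matrix.GeneralLinearGroup (Fin 2) F)) ∧
    SqDer ↥(Q : Subgroup (Matrix.GeneralLinearGroup (Fin 2) F)) := by
  classical
  have hodd : Odd (Fintype.card F) := by
    rw [Nat.odd_iff]
    omega
  obtain ⟨-, hsq, -⟩ := base2_facts h3 Q
  refine ⟨⟨inferInstance, by norm_num, card_sylow_gl hodd 2 Q, Fin 2 → F, inferInstance,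
    inferInstance, inferInstance,
    (glAct F 2).comp (Q : Subgroup (Matrix.GeneralLinearGroup (Fin 2) F)).subtype, ?_, ?_,
    RSq.of_sqDer hsq _, ⟨?_, ?_⟩, fun h => h.elim⟩, hsq⟩
  · intro x y h
    exact Subtype.ext (glAct_injective F 2 h)
  · rw [Module.finrank_fin_fun]
  · have h2F : (2 : F) ≠ 0 :=
      Cfsg.Agent.Lib.Helper20.SympWreath.two_ne_zero_of_odd_card _ rfl hodd
    have hne : (reflGL : Matrix.GeneralLinearGroup (Fin 2) F) ≠ 1 := by
      intro h
      have h1 := reflGL_det (F := F)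
      rw [h, Units.val_one, Matrix.det_one] at h1
      have : (2 : F) = 0 := by linear_combination h1
      exact h2F this
    have hord : orderOf (reflGL : Matrix.GeneralLinearGroup (Fin 2) F) = 2 ^ 1 := by
      rw [pow_one]
      exact orderOf_eq_prime reflGL_sq hne
    obtain ⟨g, hg⟩ := Cfsg.Agent.Lib.Helper20.exists_conj_mem_sylow Q reflGL 1 hord
    refine ⟨⟨g * reflGL * g⁻¹, hg⟩, ?_⟩
    apply Units.ext
    rw [detChar_glAct, Units.val_neg, Units.val_one]
    show ((g * reflGL * g⁻¹ : Matrix.GeneralLinearGroup (Fin 2) F) :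
      Matrix (Fin 2) (Fin 2) F).det = -1
    rw [Units.val_mul, Units.val_mul, Matrix.det_mul, Matrix.det_mul, reflGL_det,
      mul_right_comm, ← Matrix.det_mul, ← Units.val_mul, mul_inv_cancel, Units.val_one,
      Matrix.det_one, one_mul]
  · intro g
    obtain ⟨k, hk⟩ := (IsPGroup.iff_orderOf.mp Q.isPGroup') g
    have hu : detChar ((glAct F 2).comp
        (Q : Subgroup (Matrix.GeneralLinearGroup (Fin 2) F)).subtype) g ^ (2 ^ k) = 1 := by
      rw [← map_pow, ← hk, pow_orderOf_eq_one, map_one]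
    rcases unit_cases h3 _ k hu with h | h
    · exact ⟨0, by rw [h, zpow_zero]⟩
    · exact ⟨1, by rw [h, zpow_one]⟩

theorem isDetModel_base1 (hq : Odd (Fintype.card F))
    (Q : Sylow 2 (Matrix.GeneralLinearGroup (Fin 1) F)) :
    ∃ a : Fˣ, IsDetModel F 1 (padicValNat 2 (Fintype.card F - 1)) a False
      ↥(Q : Subgroup (Matrix.GeneralLinearGroup (Fin 1) F)) ∧ ∃ i : ℤ, (-1 : Fˣ) = a ^ i := by
  classical
  have h2F : (2 : F) ≠ 0 :=
    Cfsg.Agent.Lib.Helper20.SympWreath.two_ne_zero_of_odd_card _ rfl hq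
  have hcard := card_sylow_gl hq 1 Q
  rw [A2_one] at hcard
  set ρ := (glAct F 1).comp (Q : Subgroup (Matrix.GeneralLinearGroup (Fin 1) F)).subtype with hρ
  have hval : ∀ g : ↥(Q : Subgroup (Matrix.GeneralLinearGroup (Fin 1) F)),
      ((detChar ρ g : Fˣ) : F) =
        ((g : Matrix.GeneralLinearGroup (Fin 1) F) : Matrix (Fin 1) (Fin 1) F) 0 0 := by
    intro g
    rw [hρ, detChar_glAct, Matrix.det_fin_one]
  have hinj : Function.Injective (detChar ρ) := by
    intro x y h
    apply Subtype.ext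
    apply gl1_ext
    rw [← hval, ← hval, h]
  haveI : IsCyclic ↥(Q : Subgroup (Matrix.GeneralLinearGroup (Fin 1) F)) :=
    isCyclic_of_injective (detChar ρ) hinj
  obtain ⟨g₀, hg₀⟩ := IsCyclic.exists_generator
    (α := ↥(Q : Subgroup (Matrix.GeneralLinearGroup (Fin 1) F)))
  have hImg : Img (detChar ρ) (detChar ρ g₀) := by
    refine ⟨⟨g₀, rfl⟩, ?_⟩
    intro g
    obtain ⟨i, hi⟩ := Subgroup.mem_zpowers_iff.mp (hg₀ g)
    exact ⟨i, by rw [← hi, map_zpow]⟩
  have hR : RSq (detChar ρ) := by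
    intro g hg
    rw [← map_pow] at hg
    have : g ^ 2 = 1 := hinj (by rw [hg, map_one])
    rw [this]
    exact one_mem _
  refine ⟨detChar ρ g₀, ⟨inferInstance, by norm_num, hcard, Fin 1 → F, inferInstance,
    inferInstance, inferInstance, ρ, ?_, ?_, hR, hImg, fun h => h.elim⟩, ?_⟩
  · intro x y h
    exact Subtype.ext (glAct_injective F 1 h)
  · rw [Module.finrank_fin_fun]
  · -- the scalar `-1` lies in `Q`
    have hne : (-1 : Matrix.GeneralLinearGroup (Fin 1) F) ≠ 1 := by
      intro h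
      have h1 := congrArg (fun x : Matrix.GeneralLinearGroup (Fin 1) F =>
        (x : Matrix (Fin 1) (Fin 1) F) 0 0) h
      simp only [Units.val_neg, Units.val_one, Matrix.neg_apply, Matrix.one_apply_eq] at h1
      have : (2 : F) = 0 := by linear_combination -h1
      exact h2F this
    have hord : orderOf (-1 : Matrix.GeneralLinearGroup (Fin 1) F) = 2 ^ 1 := by
      rw [pow_one]
      exact orderOf_eq_prime (by simp) hne
    obtain ⟨g, hg⟩ := Cfsg.Agent.Lib.Helper20.exists_conj_mem_sylow Q (-1) 1 hord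
    have hg' : (-1 : Matrix.GeneralLinearGroup (Fin 1) F) ∈
        (Q : Subgroup (Matrix.GeneralLinearGroup (Fin 1) F)) := by
      have : g * (-1) * g⁻¹ = (-1 : Matrix.GeneralLinearGroup (Fin 1) F) := by
        rw [mul_neg, mul_one, neg_mul, mul_inv_cancel]
      rwa [this] at hg
    obtain ⟨i, hi⟩ := hImg.2 ⟨-1, hg'⟩
    refine ⟨i, ?_⟩
    rw [← hi]
    apply Units.ext
    rw [hval]
    simp

end base

section sl2

variable {F : Type u} [Field F] [Fintype F]

theorem sqDer_sylow_sl2 [DecidableEq F] (hq : Odd (Fintype.card F))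
    (P : Sylow 2 (Matrix.SpecialLinearGroup (Fin 2) F)) :
    SqDer ↥(P : Subgroup (Matrix.SpecialLinearGroup (Fin 2) F)) := by
  have h2F : (2 : F) ≠ 0 :=
    Cfsg.Agent.Lib.Helper20.SympWreath.two_ne_zero_of_odd_card _ rfl hq
  have hq1 : 1 < Fintype.card F := Fintype.one_lt_card
  have hpr : Cfsg.sympForm 1 F (Pi.single (Sum.inr 0) 1) (Pi.single (Sum.inl 0) 1) = 1 := by
    simp [Cfsg.sympForm, Matrix.J, Matrix.mulVec, dotProduct, Fintype.sum_sum_type]
  let f := Cfsg.Agent.Lib.Helper99.SpRoot.sl2Hom 1 (Pi.single (Sum.inr 0) (1 : F))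
    (Pi.single (Sum.inl 0) 1) hpr
  have hf : Function.Injective f := by
    rw [← MonoidHom.ker_eq_bot_iff]
    exact Cfsg.Agent.Lib.Helper99.SpRoot.sl2Hom_ker 1 _ _ hpr
  have hfacSL := factorization_card_SL hq 2 (by norm_num)
  have hA2 := (A2_even_odd _ hq hq1 1).1
  simp only [mul_one, one_mul, T2_one, add_zero] at hA2
  have hfacSp := factorization_card_symplectic (F := F) hq 1
  rw [T2_one, add_zero, one_mul] at hfacSp
  have hcr : Nat.card ((P : Subgroup (Matrix.SpecialLinearGroup (Fin 2) F)).map f) =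
      2 ^ (Nat.card ↥(Matrix.symplecticGroup (Fin 1) F)).factorization 2 := by
    rw [hfacSp, ← Nat.card_congr
      ((P : Subgroup (Matrix.SpecialLinearGroup (Fin 2) F)).equivMapOfInjective f hf).toEquiv,
      Sylow.card_eq_multiplicity]
    congr 1
    omega
  let Q : Sylow 2 ↥(Matrix.symplecticGroup (Fin 1) F) := Sylow.ofCard _ hcr
  have hQ : SqDer ↥(Q : Subgroup ↥(Matrix.symplecticGroup (Fin 1) F)) := sqDer_base hq h2F Q
  exact hQ.of_mulEquiv
    ((P : Subgroup (Matrix.SpecialLinearGroup (Fin 2) F)).equivMapOfInjective f hf).symm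

end sl2

end Cfsg.Agent.Lib.Helper20.SylModel
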