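import Mathlib
import Cfsg.Prelude.Def_Transfer

set_option autoImplicit false

namespace Cfsg.Agent.Lib.Helper20

open Subgroup MulAction

/-- If `ϕ : H →* A` (with `A` commutative) is invariant under `G`-fusion inside `H`,
then the transfer of `x ∈ H` is `ϕ x ^ [G : H]`. -/
theorem transfer_eq_pow_of_conj {G : Type*} [Group G] {H : Subgroup G} {A : Type*} [CommGroup A]
    (ϕ : H →* A) [H.FiniteIndex]
    (hϕ : ∀ (h : G) (hh : h ∈ H) (g : G) (hc : g⁻¹ * h * g ∈ H), ϕ ⟨g⁻¹ * h * g, hc⟩ = ϕ ⟨h, hh⟩)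
    (x : H) : MonoidHom.transfer ϕ (x : G) = ϕ x ^ H.index := by
  have : Fintype (Quotient (MulAction.orbitRel (zpowers (x : G)) (G ⧸ H))) :=
    Fintype.ofFinite _
  rw [index_eq_sum_minimalPeriod H (x : G), ← Finset.prod_pow_eq_pow_sum,
    MonoidHom.transfer_eq_prod_quotient_orbitRel_zpowers_quot]
  apply Finset.prod_congr rfl
  intro q _
  rw [← map_pow]
  exact hϕ ((x : G) ^ Function.minimalPeriod ((x : G) • ·) q.out) (H.pow_mem x.2 _) _ _

/-- the `p`-residual is a normal subgroup -/
theorem pResidual_normal (p : ℕ) (G : Type*) [Group G] : (Cfsg.pResidual p G).Normal := by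
  constructor
  intro n hn g
  unfold Cfsg.pResidual at hn ⊢
  induction hn using Subgroup.closure_induction with
  | mem x hx =>
    apply Subgroup.subset_closure
    show Nat.Coprime (orderOf (g * x * g⁻¹)) p
    have : orderOf (g * x * g⁻¹) = orderOf x := by
      have := orderOf_injective (MulAut.conj g).toMonoidHom (MulAut.conj g).injective x
      simpa using this
    rw [this]; exact hx
  | one => simp
  | mul _ _ _ _ IHa IHb => simpa using mul_mem IHa IHb
  | inv _ _ IH => simpa [mul_assoc] using inv_mem IH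

/-- the quotient by the `p`-residual is a `p`-group (finite case) -/
theorem pResidual_quotient_isPGroup (p : ℕ) [Fact p.Prime] (G : Type*) [Group G] [Finite G]
    (N : Subgroup G) [N.Normal] (hN : Cfsg.pResidual p G ≤ N) : IsPGroup p (G ⧸ N) := by
  intro x
  obtain ⟨g, rfl⟩ := QuotientGroup.mk_surjective x
  have hpos : orderOf g ≠ 0 := (orderOf_pos g).ne'
  obtain ⟨k, m, hm, hkm⟩ := Nat.exists_eq_pow_mul_and_not_dvd hpos p (Fact.out : p.Prime).ne_one
  refine ⟨k, ?_⟩
  rw [← QuotientGroup.mk_pow, QuotientGroup.eq_one_iff]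
  apply hN
  apply Subgroup.subset_closure
  show Nat.Coprime (orderOf (g ^ p ^ k)) p
  have h1 : orderOf (g ^ p ^ k) = m := by
    rw [orderOf_pow' g (pow_ne_zero k (Fact.out : p.Prime).ne_zero), hkm]
    have : Nat.gcd (p ^ k * m) (p ^ k) = p ^ k := Nat.gcd_eq_right (dvd_mul_right _ _)
    rw [this, Nat.mul_div_cancel_left _ (pow_pos (Fact.out : p.Prime).pos k)]
  rw [h1]
  exact ((Fact.out : p.Prime).coprime_iff_not_dvd.mpr hm).symm

end Cfsg.Agent.Lib.Helper20
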