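import Cfsg.Agent.Lib.Helper88.TrsDefs
import Cfsg.Agent.Lib.Helper87.FusionBasic
import Cfsg.Agent.S5290

/-! # TRS-F13 (helper88's Trs hive, S5156): the inner fusion system of a normal subgroup is a normal subsystem -/

set_option autoImplicit false

namespace Cfsg.Agent.Lib.Helper88.Trs

open Cfsg Cfsg.FusionSystem

universe u

variable {Ω : Type*} [Group Ω] {S : Subgroup Ω} {p : ℕ} [Fact p.Prime]

/-- **TRS-F13**. -/
theorem inner_isNormalIn [Finite S] (hS : IsPGroup p S) (E : FusionSystem S) (hE : E.IsSaturated p)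
    {Q : Subgroup Ω} (hQ : E.IsNormal Q) : (innerFusionSystem Q).IsNormalIn E p := by
  refine ⟨(Cfsg.Agent.S5290.result p hS E hE Q hQ.1).mp hQ, ?_⟩
  intro α hα
  rw [Cfsg.Agent.Lib.Helper87.mem_autGroup_iff (innerFusionSystem Q) le_rfl α] at hα
  obtain ⟨-, g, hgQ, hg⟩ := hα
  have hRS : Q ⊔ centralizerIn S Q ≤ S := sup_le hQ.1 inf_le_left
  have hgR : g ∈ Q ⊔ centralizerIn S Q := (le_sup_left : Q ≤ Q ⊔ centralizerIn S Q) hgQ
  refine ⟨MulAut.conj (⟨g, hgR⟩ : ↥(Q ⊔ centralizerIn S Q)), ?_, ?_, ?_⟩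
  · rw [Cfsg.Agent.Lib.Helper87.mem_autGroup_iff E hRS]
    have h := E.conj_mem (g := g) hRS (hQ.1 hgQ)
    have e : (Q ⊔ centralizerIn S Q).subtype.comp
        (MulAut.conj (⟨g, hgR⟩ : ↥(Q ⊔ centralizerIn S Q))).toMonoidHom =
        conjHom (Q ⊔ centralizerIn S Q) g := by
      ext x
      simp [conjHom]
    rw [e]
    exact h
  · intro x
    have h1 : ((α x : Q) : Ω) = g * (x : Ω) * g⁻¹ := hg x
    rw [h1]
    simp [MulAut.conj_apply]
  · intro c hc
    have hcomm : g * (c : Ω) = (c : Ω) * g := hc.2 g hgQ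
    have h2 : (((MulAut.conj (⟨g, hgR⟩ : ↥(Q ⊔ centralizerIn S Q))) c : ↥(Q ⊔ centralizerIn S Q)) : Ω)
        = (c : Ω) := by
      simp only [MulAut.conj_apply, Subgroup.coe_mul, Subgroup.coe_inv]
      rw [hcomm, mul_inv_cancel_right]
    rw [h2, inv_mul_cancel]
    exact Subgroup.one_mem _

end Cfsg.Agent.Lib.Helper88.Trs
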