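import Cfsg.Agent.Lib.Helper20.TrsF13
import Cfsg.Agent.Lib.Helper87.Inner
import Cfsg.Agent.S5243

/-! # TRS-H2 (helper88's Trs hive, S5156): `Aut_E(Q)` is generated by its `p`-elements when `E = O^{p'}(E)` -/

set_option autoImplicit false

namespace Cfsg.Agent.Lib.Helper88.Trs

open Cfsg Cfsg.FusionSystem

universe u

variable {Ω : Type*} [Group Ω] {S : Subgroup Ω} {p : ℕ} [Fact p.Prime]

/-- the subgroup generated by the elements of `p`-power order is normal -/
theorem h2_normal (A : Type*) [Group A] :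
    (Subgroup.closure {a : A | ∃ k : ℕ, orderOf a = p ^ k}).Normal := by
  constructor
  intro n hn g
  have h : Subgroup.closure {a : A | ∃ k : ℕ, orderOf a = p ^ k} ≤
      (Subgroup.closure {a : A | ∃ k : ℕ, orderOf a = p ^ k}).comap (MulAut.conj g).toMonoidHom := by
    rw [Subgroup.closure_le]
    rintro a ⟨k, hk⟩
    refine Subgroup.subset_closure ⟨k, ?_⟩
    show orderOf ((MulAut.conj g) a) = p ^ k
    rw [MulEquiv.orderOf_eq]
    exact hk
  exact h hn

/-- the quotient by a normal subgroup containing all elements of `p`-power order has order prime to `p` -/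
theorem h2_coprime (A : Type*) [Group A] [Finite A] (K : Subgroup A) [K.Normal]
    (hK : ∀ a : A, (∃ k : ℕ, orderOf a = p ^ k) → a ∈ K) : (Nat.card (A ⧸ K)).Coprime p := by
  have hp := (Fact.out : p.Prime)
  rw [Nat.coprime_comm, Nat.Prime.coprime_iff_not_dvd hp]
  intro hdvd
  obtain ⟨x, hx⟩ := exists_prime_orderOf_dvd_card' p hdvd
  obtain ⟨a, rfl⟩ := QuotientGroup.mk_surjective x
  obtain ⟨e, m, hm, hn⟩ := Nat.exists_eq_pow_mul_and_not_dvd (orderOf_pos a).ne' p hp.ne_one
  have h1 : (a ^ m) ^ (p ^ e) = 1 := by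
    rw [← pow_mul, mul_comm, ← hn, pow_orderOf_eq_one]
  have h2 : a ^ m ∈ K := by
    apply hK
    obtain ⟨j, -, hj⟩ := (Nat.dvd_prime_pow hp).mp (orderOf_dvd_of_pow_eq_one h1)
    exact ⟨j, hj⟩
  have h3 : (QuotientGroup.mk a : A ⧸ K) ^ m = 1 := by
    rw [← QuotientGroup.mk_pow, QuotientGroup.eq_one_iff]
    exact h2
  have h4 := orderOf_dvd_of_pow_eq_one h3
  rw [hx] at h4
  exact hm h4

/-- **TRS-H2**. -/
theorem pElements_autGroup_eq_top [Finite S] (hS : IsPGroup p S) (E : FusionSystem S)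
    (hE : E.IsSaturated p) (hself : E.IsPPrimeResidual p E) {Q : Subgroup Ω} (hQ : E.IsNormal Q) :
    Subgroup.closure {a : ↥(E.autGroup Q) | ∃ k : ℕ, orderOf a = p ^ k} = ⊤ := by
  by_contra hK
  haveI : Finite Q := Cfsg.Agent.Lib.Helper87.finite_of_le hQ.1
  haveI hn := h2_normal (p := p) ↥(E.autGroup Q)
  haveI : Nontrivial (↥(E.autGroup Q) ⧸
      Subgroup.closure {a : ↥(E.autGroup Q) | ∃ k : ℕ, orderOf a = p ^ k}) := by
    rw [← not_subsingleton_iff_nontrivial]
    intro hs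
    exact hK (QuotientGroup.subgroup_eq_top_of_subsingleton _ hs)
  have hcop : (Nat.card (↥(E.autGroup Q) ⧸
      Subgroup.closure {a : ↥(E.autGroup Q) | ∃ k : ℕ, orderOf a = p ^ k})).Coprime p :=
    h2_coprime _ _ (fun a ha => Subgroup.subset_closure ha)
  have hker : ((innerFusionSystem Q).autGroup Q).subgroupOf (E.autGroup Q) ≤
      (QuotientGroup.mk' (Subgroup.closure
        {a : ↥(E.autGroup Q) | ∃ k : ℕ, orderOf a = p ^ k})).ker := by
    rw [QuotientGroup.ker_mk']
    intro a ha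
    rw [Subgroup.mem_subgroupOf,
      Cfsg.Agent.Lib.Helper87.mem_autGroup_iff (innerFusionSystem Q) le_rfl] at ha
    obtain ⟨-, g, hgQ, hg⟩ := ha
    apply Subgroup.subset_closure
    have h1 : (a : MulAut Q) = MulAut.conj (⟨g, hgQ⟩ : Q) := by
      ext x
      have := hg x
      simpa [MulAut.conj_apply] using this
    obtain ⟨k, hk⟩ := (hS.to_le hQ.1) (⟨g, hgQ⟩ : Q)
    have h2 : (a : MulAut Q) ^ (p ^ k) = 1 := by
      rw [h1, ← map_pow, hk, map_one]
    have h3 : a ^ (p ^ k) = 1 := by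
      apply Subtype.ext
      simpa using h2
    obtain ⟨j, -, hj⟩ := (Nat.dvd_prime_pow Fact.out).mp (orderOf_dvd_of_pow_eq_one h3)
    exact ⟨j, hj⟩
  obtain ⟨F₀, hF₀n, hne, -, -, hres⟩ :=
    Cfsg.Agent.S5243.result p hS E hE hQ.1 (innerFusionSystem Q) (inner_isNormalIn hS E hE hQ)
      hcop (QuotientGroup.mk' _) (QuotientGroup.mk'_surjective _) hker
  apply hne
  intro P
  exact Set.Subset.antisymm (hF₀n.1.2.2.1 P) (hres E hself P)

end Cfsg.Agent.Lib.Helper88.Trs
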