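import Mathlib
import Cfsg.Agent.Lib.Helper88.TrsDefs
import Cfsg.Agent.Lib.Helper87.FusionBasic
import Cfsg.Agent.Lib.Helper83.TrsK2

/-! # TRS-K3 (helper88's Trs hive, S5156): automorphisms in `Aut_D(L)`, `D ⊆ E` over the hyperfocal subgroup `T₀`,
fixing `Q_E ∩ T₀` pointwise (`Q_E` normal centric in `E`) form a `p`-group -/

set_option autoImplicit false

namespace Cfsg.Agent.Lib.Helper88.Trs

open Cfsg Cfsg.FusionSystem

universe u

variable {Ω : Type*} [Group Ω] {S : Subgroup Ω} {p : ℕ} [Fact p.Prime]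

omit [Fact p.Prime] in
/-- the hyperfocal subgroup lies in `S`. -/
theorem k3_hyp_le (E : FusionSystem S) : E.hyperfocalSubgroup p ≤ S := by
  unfold FusionSystem.hyperfocalSubgroup
  rw [Subgroup.closure_le]
  rintro y ⟨P, α, x, hPS, -, rfl⟩
  exact S.mul_mem (S.inv_mem (hPS x.2)) (hPS ((α : MulAut P) x).2)

omit [Fact p.Prime] in
/-- restriction to `L ≤ M` is compatible with powers. -/
theorem k3_restr_pow {L M : Subgroup Ω} (hLM : L ≤ M) (γ : MulAut M) (β : MulAut L)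
    (h : ∀ x : L, ((γ (Subgroup.inclusion hLM x) : M) : Ω) = ((β x : L) : Ω)) (n : ℕ) :
    ∀ x : L, (((γ ^ n) (Subgroup.inclusion hLM x) : M) : Ω) = (((β ^ n) x : L) : Ω) := by
  induction n with
  | zero => intro x; simp
  | succ n ih =>
    intro x
    rw [pow_succ, pow_succ, MulAut.mul_apply, MulAut.mul_apply]
    have e : γ (Subgroup.inclusion hLM x) = Subgroup.inclusion hLM (β x) := Subtype.ext (h x)
    rw [e]
    exact ih (β x)

omit [Fact p.Prime] in
/-- stabilising `Q` is compatible with powers. -/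
theorem k3_pres_pow {M Q : Subgroup Ω} (γ : MulAut M)
    (h : ∀ y : M, (y : Ω) ∈ Q → ((γ y : M) : Ω) ∈ Q) (n : ℕ) :
    ∀ y : M, (y : Ω) ∈ Q → (((γ ^ n) y : M) : Ω) ∈ Q := by
  induction n with
  | zero => intro y hy; simpa using hy
  | succ n ih =>
    intro y hy
    rw [pow_succ, MulAut.mul_apply]
    exact ih _ (h y hy)

/-- the core: an automorphism `γ` of `M ⊇ L, Q_E` in `E`, of order prime to `p`, stabilising `Q_E` and restricting on `L`
to an automorphism fixing `Q_E ∩ T₀` pointwise, is trivial. -/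
theorem k3_core [Finite S] (hS : IsPGroup p S) (E : FusionSystem S) {QE L M : Subgroup Ω}
    (hQEc : centralizerIn S QE ≤ QE) (hLM : L ≤ M) (hQM : QE ≤ M) (hMS : M ≤ S)
    (hQL : QE ⊓ E.hyperfocalSubgroup p ≤ L)
    (γ : MulAut M) (hγ : γ ∈ E.autGroup M) (hcop : (orderOf γ).Coprime p)
    (β' : MulAut L)
    (hres : ∀ x : L, ((γ (Subgroup.inclusion hLM x) : M) : Ω) = ((β' x : L) : Ω))
    (hfix : ∀ x : L, (x : Ω) ∈ QE ⊓ E.hyperfocalSubgroup p → β' x = x)
    (hpres : ∀ y : M, (y : Ω) ∈ QE → ((γ y : M) : Ω) ∈ QE) : γ = 1 := by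
  have : Finite ↥M := Finite.of_injective _ (Subgroup.inclusion_injective hMS)
  have hMp : IsPGroup p ↥M := hS.to_le hMS
  have hfixQ : ∀ y : M, (y : Ω) ∈ QE → γ y = y := by
    intro y hy
    have htT : ((y⁻¹ * γ y : M) : Ω) ∈ E.hyperfocalSubgroup p := by
      have := k2_mem_hyperfocal E hMS γ hγ hcop y
      simpa using this
    have htQ : ((y⁻¹ * γ y : M) : Ω) ∈ QE := by
      simp only [Subgroup.coe_mul, Subgroup.coe_inv]
      exact QE.mul_mem (QE.inv_mem hy) (hpres y hy)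
    have htL : ((y⁻¹ * γ y : M) : Ω) ∈ L := hQL ⟨htQ, htT⟩
    have hγt : γ (y⁻¹ * γ y) = y⁻¹ * γ y := by
      have h1 := hres ⟨_, htL⟩
      have h2 := hfix ⟨_, htL⟩ ⟨htQ, htT⟩
      rw [h2] at h1
      apply Subtype.ext
      have e : Subgroup.inclusion hLM ⟨((y⁻¹ * γ y : M) : Ω), htL⟩ = y⁻¹ * γ y := Subtype.ext rfl
      rw [e] at h1
      exact h1
    have hy' : γ y = y * (y⁻¹ * γ y) := by group
    have h3 := k1_eq_one_of_twist hMp γ hcop y _ hγt hy'
    rw [h3, mul_one] at hy'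
    exact hy'
  have key := k1_fix_of_fix_centric hMp ⊤ (QE.subgroupOf M) le_top ?_ γ hcop
    (fun _ _ => Subgroup.mem_top _) (fun q hq => hfixQ q (Subgroup.mem_subgroupOf.mp hq))
  · ext x
    rw [MulAut.one_apply]
    exact congrArg _ (key x (Subgroup.mem_top _))
  · intro x _ hx
    rw [Subgroup.mem_subgroupOf]
    apply hQEc
    refine ⟨hMS x.2, ?_⟩
    change (x : Ω) ∈ Subgroup.centralizer (QE : Set Ω)
    rw [Subgroup.mem_centralizer_iff]
    intro q hq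
    have := hx ⟨q, hQM hq⟩ (Subgroup.mem_subgroupOf.mpr hq)
    have h2 := congrArg (Subtype.val) this
    simpa using h2.symm

omit [Fact p.Prime] in
/-- an automorphism `β` of `L` in `E` extends to an automorphism of `L ⊔ Q_E` in `E` stabilising the normal `Q_E`. -/
theorem k3_exists_ext [Finite S] (E : FusionSystem S) {QE L : Subgroup Ω} (hQE : E.IsNormal QE)
    (hLS : L ≤ S) (β : MulAut L) (hβ : L.subtype.comp β.toMonoidHom ∈ E.Hom L) :
    ∃ γ : MulAut ↥(L ⊔ QE), γ ∈ E.autGroup (L ⊔ QE) ∧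
      (∀ x : L, ((γ (Subgroup.inclusion le_sup_left x) : ↥(L ⊔ QE)) : Ω) = ((β x : L) : Ω)) ∧
      (∀ y : ↥(L ⊔ QE), (y : Ω) ∈ QE → ((γ y : ↥(L ⊔ QE)) : Ω) ∈ QE) := by
  obtain ⟨ψ, hψ, hψL, hψQ⟩ := hQE.2 L _ hβ
  have hMS : L ⊔ QE ≤ S := sup_le hLS hQE.1
  have : Finite ↥(L ⊔ QE) := Finite.of_injective _ (Subgroup.inclusion_injective hMS)
  have hQmem : ∀ y : ↥(L ⊔ QE), (y : Ω) ∈ QE → ψ y ∈ QE := by
    intro y hy
    have h0 : ψ y ∈ (QE.subgroupOf (L ⊔ QE)).map ψ := ⟨y, Subgroup.mem_subgroupOf.mpr hy, rfl⟩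
    rw [hψQ] at h0
    exact h0
  have hmem : ∀ y : ↥(L ⊔ QE), ψ y ∈ L ⊔ QE := by
    have htop : (L ⊔ QE).comap ψ = ⊤ := by
      rw [eq_top_iff, ← codisjoint_iff.mp (Subgroup.codisjoint_subgroupOf_sup L QE), sup_le_iff]
      constructor
      · intro y hy
        rw [Subgroup.mem_subgroupOf] at hy
        rw [Subgroup.mem_comap]
        have h1 := hψL ⟨y, hy⟩
        have e : Subgroup.inclusion le_sup_left ⟨(y : Ω), hy⟩ = y := Subtype.ext rfl
        rw [e] at h1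
        rw [h1]
        exact (le_sup_left : L ≤ L ⊔ QE) (β ⟨y, hy⟩).2
      · intro y hy
        rw [Subgroup.mem_subgroupOf] at hy
        exact (le_sup_right : QE ≤ L ⊔ QE) (hQmem y hy)
    intro y
    have : y ∈ (L ⊔ QE).comap ψ := htop ▸ Subgroup.mem_top y
    exact this
  have hinj : Function.Injective (ψ.codRestrict (L ⊔ QE) hmem) := by
    intro a b hab
    apply E.injective_of_mem hψ
    exact congrArg Subtype.val hab
  refine ⟨MulEquiv.ofBijective (ψ.codRestrict (L ⊔ QE) hmem)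
    ⟨hinj, Finite.injective_iff_surjective.mp hinj⟩, ?_, ?_, ?_⟩
  · rw [Cfsg.Agent.Lib.Helper87.mem_autGroup_iff E hMS]
    have e : (L ⊔ QE).subtype.comp (MulEquiv.ofBijective (ψ.codRestrict (L ⊔ QE) hmem)
      ⟨hinj, Finite.injective_iff_surjective.mp hinj⟩ : MulAut ↥(L ⊔ QE)).toMonoidHom = ψ := by
      ext x
      rfl
    rw [e]
    exact hψ
  · intro x
    exact hψL x
  · intro y hy
    exact hQmem y hy

/-- **TRS-K3**. -/
theorem isPGroup_of_fix_inter [Finite S] (hS : IsPGroup p S) (E : FusionSystem S)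
    (hE : E.IsSaturated p) (D : FusionSystem (E.hyperfocalSubgroup p)) (hDE : D.IsSubsystemOf E)
    {QE : Subgroup Ω} (hQE : E.IsNormal QE) (hQEc : centralizerIn S QE ≤ QE) {L : Subgroup Ω}
    (hQL : QE ⊓ E.hyperfocalSubgroup p ≤ L) (hL : L ≤ E.hyperfocalSubgroup p)
    (B : Subgroup (MulAut L)) (hB : B ≤ D.autGroup L)
    (hfix : ∀ β ∈ B, ∀ x : L, (x : Ω) ∈ QE ⊓ E.hyperfocalSubgroup p → β x = x) : IsPGroup p B := by
  have _ := hE
  have hTS : E.hyperfocalSubgroup p ≤ S := k3_hyp_le E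
  have hLS : L ≤ S := hL.trans hTS
  have : Finite ↥L := Finite.of_injective _ (Subgroup.inclusion_injective hLS)
  apply k1_isPGroup_of_coprime_trivial
  intro β hβ hcop
  have hβD : L.subtype.comp β.toMonoidHom ∈ D.Hom L :=
    (Cfsg.Agent.Lib.Helper87.mem_autGroup_iff D hL β).mp (hB hβ)
  have hβE := hDE L hβD
  obtain ⟨γ₀, hγ₀, hres₀, hpres₀⟩ := k3_exists_ext E hQE hLS β hβE
  have hMS : L ⊔ QE ≤ S := sup_le hLS hQE.1
  have : Finite ↥(L ⊔ QE) := Finite.of_injective _ (Subgroup.inclusion_injective hMS)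
  obtain ⟨a, m, hm, ham⟩ :=
    Nat.exists_eq_pow_mul_and_not_dvd (orderOf_pos γ₀).ne' p (Fact.out : p.Prime).ne_one
  have hγcop : (orderOf (γ₀ ^ (p ^ a))).Coprime p := by
    have h1 : (γ₀ ^ (p ^ a)) ^ m = 1 := by rw [← pow_mul, ← ham, pow_orderOf_eq_one]
    have h2 := orderOf_dvd_of_pow_eq_one h1
    exact Nat.Coprime.coprime_dvd_left h2 ((Nat.Prime.coprime_iff_not_dvd Fact.out).mpr hm).symm
  have hγ1 : γ₀ ^ (p ^ a) = 1 :=
    k3_core hS E hQEc le_sup_left le_sup_right hMS hQL (γ₀ ^ (p ^ a))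
      ((E.autGroup _).pow_mem hγ₀ _) hγcop (β ^ (p ^ a))
      (k3_restr_pow le_sup_left γ₀ β hres₀ _) (hfix _ (B.pow_mem hβ _)) (k3_pres_pow γ₀ hpres₀ _)
  have hβ1 : β ^ (p ^ a) = 1 := by
    ext x
    have h5 := k3_restr_pow le_sup_left γ₀ β hres₀ (p ^ a) x
    rw [hγ1] at h5
    simpa using h5.symm
  have h3 := orderOf_dvd_of_pow_eq_one hβ1
  have h4 : orderOf β = 1 := Nat.Coprime.eq_one_of_dvd (Nat.Coprime.pow_right a hcop) h3
  exact orderOf_eq_one_iff.mp h4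

end Cfsg.Agent.Lib.Helper88.Trs
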