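import Mathlib
import Cfsg.Agent.Lib.Helper20.ConjMap
import Cfsg.Agent.Lib.Helper33.NormalPComp

set_option autoImplicit false
set_option linter.style.haveILetI false
set_option linter.unusedSimpArgs false

namespace Cfsg.Agent.Lib.Helper20

section

variable {G : Type*} [Group G]

/-- Sylow subgroups of a normal subgroup `K` are conjugates of `S ⊓ K` -/
theorem sylow_of_normal [Finite G] {p : ℕ} [Fact p.Prime] (S : Sylow p G) (K : Subgroup G)
    [hKn : K.Normal] (P : Sylow p K) :
    ∃ g : G, (P : Subgroup K) =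
      (((S : Subgroup G) ⊓ K).map (MulAut.conj g).toMonoidHom).subgroupOf K := by
  obtain ⟨S', hS'⟩ := P.exists_comap_subtype_eq
  obtain ⟨g, hg⟩ := MulAction.exists_smul_eq G S S'
  refine ⟨g, ?_⟩
  ext t
  rw [← hS', Subgroup.mem_comap, ← hg, sylow_smul_coe, Subgroup.mem_subgroupOf, mem_map_conj,
    mem_map_conj, Subgroup.mem_inf]
  constructor
  · intro h
    refine ⟨h, ?_⟩
    have := hKn.conj_mem _ t.2 g⁻¹
    simpa using this
  · intro h
    exact h.1

/-- a normal subgroup containing all squares, of even order, whose intersection with a Sylow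
`2`-subgroup is cyclic, yields a normal `2`-complement of the whole group -/
theorem hasNormalPComplement_of_cyclic_inf [Finite G] (S : Sylow 2 G) (K₀ : Subgroup G)
    [hKn : K₀.Normal] (hsq : ∀ g : G, g * g ∈ K₀) (hcyc : IsCyclic ((S : Subgroup G) ⊓ K₀ : Subgroup G))
    (heven : 2 ∣ Nat.card K₀) : Cfsg.HasNormalPComplement 2 G := by
  haveI : Fact (Nat.Prime 2) := ⟨Nat.prime_two⟩
  obtain ⟨P₀⟩ := (inferInstance : Nonempty (Sylow 2 K₀))
  obtain ⟨g, hP₀⟩ := sylow_of_normal S K₀ P₀
  have hle : ((S : Subgroup G) ⊓ K₀).map (MulAut.conj g).toMonoidHom ≤ K₀ := by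
    rintro _ ⟨t, ht, rfl⟩
    exact hKn.conj_mem t ht.2 g
  have hP₀cyc : IsCyclic (P₀ : Subgroup K₀) := by
    have e1 := MulEquiv.subgroupCongr hP₀
    have e2 := Subgroup.subgroupOfEquivOfLe hle
    have e3 := ((S : Subgroup G) ⊓ K₀).equivMapOfInjective (MulAut.conj g).toMonoidHom
      (MulAut.conj g).injective
    exact ((e1.trans e2).trans e3.symm).isCyclic.mpr hcyc
  have hmin : (Nat.card K₀).minFac = 2 := (Nat.minFac_eq_two_iff _).mpr heven
  have hcomp := IsCyclic.isComplement' hmin hP₀cyc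
  set L := (MonoidHom.transferSylow P₀ (hP₀cyc.normalizer_le_centralizer hmin)).ker with hL
  have hLcop : (Nat.card L).Coprime 2 := by
    rw [Nat.coprime_comm, Nat.Prime.coprime_iff_not_dvd Nat.prime_two]
    exact MonoidHom.not_dvd_card_ker_transferSylow P₀ _
  obtain ⟨n, hn⟩ := IsPGroup.iff_card.mp P₀.isPGroup'
  have hLidx : L.index = 2 ^ n := by
    rw [hcomp.symm.index_eq_card, hn]
  apply Cfsg.Agent.Lib.Helper33.hasNormalPComplement_of_coprime_elements (L.map K₀.subtype)
  intro a
  constructor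
  · rintro ⟨l, hl, rfl⟩
    have := (Cfsg.Agent.Lib.Helper33.mem_iff_coprime_of_normal_hall L hLcop hLidx l).mp hl
    rw [← Subgroup.orderOf_coe] at this
    exact this
  · intro ha
    -- a ∈ K₀ since a has odd order
    have hodd : ¬ 2 ∣ orderOf a := by
      intro h2
      have := Nat.Coprime.eq_one_of_dvd ha.symm h2
      omega
    have hm : orderOf a % 2 = 1 := by omega
    have haK : a ∈ K₀ := by
      have h1 : a = a ^ ((orderOf a + 1) / 2) * a ^ ((orderOf a + 1) / 2) := by
        rw [← pow_add]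
        have : (orderOf a + 1) / 2 + (orderOf a + 1) / 2 = orderOf a + 1 := by omega
        rw [this, pow_succ, pow_orderOf_eq_one, one_mul]
      rw [h1]
      exact hsq _
    refine ⟨⟨a, haK⟩, ?_, rfl⟩
    rw [SetLike.mem_coe,
      Cfsg.Agent.Lib.Helper33.mem_iff_coprime_of_normal_hall L hLcop hLidx ⟨a, haK⟩,
      Subgroup.orderOf_mk]
    exact ha

end

end Cfsg.Agent.Lib.Helper20
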