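import Cfsg.Agent.Lib.Helper6.Uni.Defs
import Cfsg.Agent.Lib.Helper18.StbGlue
import Cfsg.Agent.S2326

/-! # S2314 hive, leaf UNI-C4 (helper20): the structural hypotheses on `U` for a Chevalley group. -/

set_option autoImplicit false

namespace Cfsg.Agent.Lib.Helper6.Uni

open Cfsg Cfsg.Lie Cfsg.Agent.Lib.Helper36 Cfsg.Agent.Lib.Helper18.Stb Cfsg.Agent.Lib.Helper6

section
variable (D : ChevalleyDatum) (hD : D ∈ [chevG2, chevB2, chevD4, chevF4, chevE6, chevE7, chevE8])

variable (F : Type*) [Field F] [Fintype F]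

/-- UNI-C4. The structural hypotheses on `U`. -/
theorem chev_hU (p : ℕ) [Fact p.Prime] [CharP F p] :
    (D.posUnipotent F).subgroupOf (D.group F) ≤ (bnP D hD F).B ∧
    IsPGroup p ((D.posUnipotent F).subgroupOf (D.group F)) ∧
    (bnP D hD F).B ≤ Subgroup.normalizer (((D.posUnipotent F).subgroupOf (D.group F) : Subgroup ↥(D.group F)) :
      Set ↥(D.group F)) ∧
    (D.posUnipotent F).subgroupOf (D.group F) ⊔ ((bnP D hD F).B ⊓ (bnP D hD F).N) = (bnP D hD F).B ∧
    ¬ p ∣ ((D.posUnipotent F).subgroupOf (D.group F)).index := by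
  obtain ⟨S, hS⟩ := Cfsg.Agent.S2326.result (F := F) p D hD
  have hUB : D.posUnipotent F ≤ D.borelSubgroup F := le_sup_left
  have hHB : D.diagonalSubgroup F ≤ D.borelSubgroup F := le_sup_right
  have hHN : D.diagonalSubgroup F ≤ D.monomialSubgroup F := le_sup_left
  have hBn : D.borelSubgroup F ≤ Subgroup.normalizer (D.posUnipotent F : Set (GL D.Idx F)) :=
    sup_le Subgroup.le_normalizer (diagonal_le_normalizer_pos D hD F)
  refine ⟨?_, ?_, ?_, ?_, ?_⟩
  · rw [bnP_B]
    intro x hx
    exact hUB hx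
  · rw [← hS]
    exact S.isPGroup'
  · rw [bnP_B]
    intro x hx
    have h1 := hBn (Subgroup.mem_subgroupOf.1 hx)
    rw [Subgroup.mem_normalizer_iff]
    intro y
    have h2 := (Subgroup.mem_normalizer_iff.1 h1) (y : GL D.Idx F)
    simpa [Subgroup.mem_subgroupOf] using h2
  · rw [bnP_B, bnP_N]
    apply le_antisymm
    · refine sup_le ?_ inf_le_left
      intro x hx
      exact hUB hx
    · have h1 : (D.borelSubgroup F).subgroupOf (D.group F) =
          (D.posUnipotent F).subgroupOf (D.group F) ⊔ (D.diagonalSubgroup F).subgroupOf (D.group F) := by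
        unfold ChevalleyDatum.borelSubgroup
        exact Subgroup.subgroupOf_sup (posUnipotent_le_group D hD F) (diagonal_le_group D hD F)
      refine h1.le.trans ?_
      refine sup_le_sup le_rfl (le_inf ?_ ?_)
      · intro x hx
        exact hHB hx
      · intro x hx
        exact hHN hx
  · rw [← hS]
    exact S.not_dvd_index

end

end Cfsg.Agent.Lib.Helper6.Uni
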