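import Cfsg.Agent.Lib.Helper6.Uni.Defs
import Cfsg.Agent.Lib.Helper18.StbGlue
import Cfsg.Agent.S1048

/-! # S2314 hive, leaf UNI-C5 core (helper20): the data `V_J`, `n_J` from the existence of a long word in `W_J`. -/

set_option autoImplicit false

namespace Cfsg.Agent.Lib.Helper6.Uni

open Cfsg Cfsg.Lie Cfsg.Agent.Lib.Helper36 Cfsg.Agent.Lib.Helper18.Stb Cfsg.Agent.Lib.Helper6

section
variable (D : ChevalleyDatum) (hD : D ∈ [chevG2, chevB2, chevD4, chevF4, chevE6, chevE7, chevE8])

variable (F : Type*) [Field F]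

/-- the product of the distinguished generators along a word is `nWordGL` -/
theorem c5_prod_coe (l : List ℕ) (hl : ∀ i ∈ l, i < D.rank) :
    (((l.map (sGen D hD F)).prod : ↥(D.group F)) : GL D.Idx F) = nWordGL D hD F l := by
  induction l with
  | nil => simp [nWordGL]
  | cons i l ih =>
    have hl' : ∀ i' ∈ l, i' < D.rank := fun i' hi' => hl i' (List.mem_cons_of_mem _ hi')
    have hi := hl i (List.mem_cons_self ..)
    rw [List.map_cons, List.prod_cons, Subgroup.coe_mul, sGen_coe D hD F i hi, ih hl', nWordGL_cons]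

theorem c5_radical_le_pos (J : Set ℕ) : D.unipotentRadical F J ≤ D.posUnipotent F := by
  unfold ChevalleyDatum.unipotentRadical ChevalleyDatum.posUnipotent
  apply Subgroup.closure_mono
  rintro g ⟨r, t, hr, -, hg⟩
  exact ⟨r, t, hr, hg⟩

/-- UNI-C5 from the existence of the words `n_J` with a large cell. -/
theorem c5_core
    (h75 : ∀ J' : Finset ℕ, J' ⊆ Finset.range D.rank → ∃ l : List ℕ, (∀ i ∈ l, i ∈ J') ∧
      Nat.card (D.borelSubgroup F) * Nat.card (D.posUnipotent F) ≤
        Nat.card (D.unipotentRadical F (↑J' : Set ℕ)) * Nat.card (cell D F (nWordGL D hD F l)))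
    (J : Finset ↥(D.group F)) (hJ : J ⊆ stT D hD F) :
    ∃ (V : Subgroup ↥(D.group F)) (n1 : ↥(D.group F)),
      V ≤ (D.posUnipotent F).subgroupOf (D.group F) ∧
      (bnP D hD F).parabolic (↑J : Set ↥(D.group F)) ≤ Subgroup.normalizer (V : Set ↥(D.group F)) ∧
      n1 ∈ Subgroup.closure (↑J : Set ↥(D.group F)) ⊔ ((bnP D hD F).B ⊓ (bnP D hD F).N) ∧
      Nat.card ((D.posUnipotent F).subgroupOf (D.group F)) * Nat.card (bnP D hD F).B ≤
        Nat.card V * Nat.card (C (bnP D hD F) n1) ∧
      (J = stT D hD F → V = ⊥) := by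
  classical
  set J' : Finset ℕ := (Finset.range D.rank).filter (fun i => sGen D hD F i ∈ J) with hJ'
  have hJ'r : J' ⊆ Finset.range D.rank := Finset.filter_subset _ _
  have hJeq : J = J'.image (sGen D hD F) := by
    ext x
    simp only [hJ', Finset.mem_image, Finset.mem_filter, Finset.mem_range]
    constructor
    · intro hx
      have := hJ hx
      unfold stT at this
      obtain ⟨i, hi, rfl⟩ := Finset.mem_image.1 this
      exact ⟨i, ⟨Finset.mem_range.1 hi, hx⟩, rfl⟩
    · rintro ⟨i, ⟨-, hiK⟩, rfl⟩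
      exact hiK
  have hpar : (bnP D hD F).parabolic (↑J : Set ↥(D.group F)) = D.parabolicIn F J' := by
    rw [parabolicIn_eq D hD F J' hJ'r, ← hJeq]
  obtain ⟨l, hlJ, hcard⟩ := h75 J' hJ'r
  have hl : ∀ i ∈ l, i < D.rank := fun i hi => Finset.mem_range.1 (hJ'r (hlJ i hi))
  have hUJU := c5_radical_le_pos D F (↑J' : Set ℕ)
  have hUG := posUnipotent_le_group D hD F
  refine ⟨(D.unipotentRadical F (↑J' : Set ℕ)).subgroupOf (D.group F), (l.map (sGen D hD F)).prod,
    ?_, ?_, ?_, ?_, ?_⟩
  · intro x hx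
    exact hUJU hx
  · rw [hpar]
    unfold ChevalleyDatum.parabolicIn
    intro x hx
    have h1 := (Cfsg.Agent.S1048.result (F := F) D hD (↑J' : Set ℕ)).1 (Subgroup.mem_subgroupOf.1 hx)
    rw [Subgroup.mem_normalizer_iff]
    intro y
    have h2 := (Subgroup.mem_normalizer_iff.1 h1) (y : GL D.Idx F)
    simpa [Subgroup.mem_subgroupOf] using h2
  · apply Subgroup.mem_sup_left
    apply Subgroup.list_prod_mem
    intro g hg
    obtain ⟨i, hi, rfl⟩ := List.mem_map.1 hg
    apply Subgroup.subset_closure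
    have := hlJ i hi
    rw [hJ', Finset.mem_filter] at this
    exact this.2
  · rw [card_C_eq, c5_prod_coe D hD F l hl, card_bnP_B]
    have e1 : Nat.card ((D.posUnipotent F).subgroupOf (D.group F)) = Nat.card (D.posUnipotent F) :=
      Nat.card_congr (Subgroup.subgroupOfEquivOfLe hUG).toEquiv
    have e2 : Nat.card ((D.unipotentRadical F (↑J' : Set ℕ)).subgroupOf (D.group F)) =
        Nat.card (D.unipotentRadical F (↑J' : Set ℕ)) :=
      Nat.card_congr (Subgroup.subgroupOfEquivOfLe (hUJU.trans hUG)).toEquiv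
    rw [e1, e2, mul_comm (Nat.card (D.posUnipotent F))]
    exact hcard
  · intro hJt
    have hJ'all : J' = Finset.range D.rank := by
      rw [hJ']
      apply Finset.filter_true_of_mem
      intro i hi
      rw [hJt]
      unfold stT
      exact Finset.mem_image_of_mem _ hi
    have hbot : D.unipotentRadical F (↑J' : Set ℕ) = ⊥ := by
      unfold ChevalleyDatum.unipotentRadical
      rw [Subgroup.closure_eq_bot_iff]
      rintro g ⟨r, t, hr, hnr, -⟩
      exfalso
      apply hnr
      refine ⟨hr.1, fun i hi hiJ => ?_⟩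
      exfalso
      apply hiJ
      rw [hJ'all]
      exact Finset.mem_coe.2 (Finset.mem_range.2 hi)
    rw [hbot]
    exact Subgroup.bot_subgroupOf _

end

end Cfsg.Agent.Lib.Helper6.Uni
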