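import Cfsg.Agent.Lib.Helper20.UniC5
import Cfsg.Agent.Lib.Helper6.Uni.C1
import Cfsg.Agent.Lib.Helper72.UniC2
import Cfsg.Agent.Lib.Helper72.UniC3

/-! # S2314 hive, leaf UNI-C5 (helper20): the data `V_J`, `n_J` for each subset of the distinguished generators. -/

set_option autoImplicit false

namespace Cfsg.Agent.Lib.Helper6.Uni

open Cfsg Cfsg.Lie Cfsg.Agent.Lib.Helper36 Cfsg.Agent.Lib.Helper18.Stb Cfsg.Agent.Lib.Helper6

section
variable (D : ChevalleyDatum) (hD : D ∈ [chevG2, chevB2, chevD4, chevF4, chevE6, chevE7, chevE8])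

variable (F : Type*) [Field F] [Fintype F]

/-- UNI-C5. The data `V_J`, `n_J` for each subset of the distinguished generators. -/
theorem chev_VJ (J : Finset ↥(D.group F)) (hJ : J ⊆ stT D hD F) :
    ∃ (V : Subgroup ↥(D.group F)) (n1 : ↥(D.group F)),
      V ≤ (D.posUnipotent F).subgroupOf (D.group F) ∧
      (bnP D hD F).parabolic (↑J : Set ↥(D.group F)) ≤ Subgroup.normalizer (V : Set ↥(D.group F)) ∧
      n1 ∈ Subgroup.closure (↑J : Set ↥(D.group F)) ⊔ ((bnP D hD F).B ⊓ (bnP D hD F).N) ∧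
      Nat.card ((D.posUnipotent F).subgroupOf (D.group F)) * Nat.card (bnP D hD F).B ≤
        Nat.card V * Nat.card (C (bnP D hD F) n1) ∧
      (J = stT D hD F → V = ⊥) := by
  refine c5_core D hD F (fun J' hJ' => ?_) J hJ
  obtain ⟨l, hlJ, hw⟩ := exists_wJ D hD J' hJ'
  have hl : ∀ i ∈ l, i < D.rank := fun i hi => Finset.mem_range.1 (hJ' (hlJ i hi))
  refine ⟨l, hlJ, ?_⟩
  exact card_cell_ge D hD F (↑J' : Set ℕ) l hl
    (wRoot_wJ_neg D hD (↑J' : Set ℕ) l hl (fun j hj _ k hk => hw j (Finset.mem_coe.1 hj) k hk))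

end

end Cfsg.Agent.Lib.Helper6.Uni
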