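import Mathlib

set_option autoImplicit false
set_option linter.style.haveILetI false
set_option linter.unusedSimpArgs false
set_option linter.unusedSectionVars false

namespace Cfsg.Agent.Lib.Helper20

namespace UnipCent

open Module

variable {F : Type*} [Field F]

/-- no nontrivial `r`-th roots of the identity among matrices of size at most `k` -/
def Hyp (F : Type*) [Field F] (r k : ℕ) : Prop :=
  ∀ j : ℕ, j ≤ k → ∀ M : Matrix (Fin j) (Fin j) F, M ^ r = 1 → M = 1

section

variable {W : Type*} [AddCommGroup W] [Module F W]

/-- pointwise: a unipotent-looking vector for an element of order prime to the characteristic -/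
theorem fix_of_sq (Y : W →ₗ[F] W) {r : ℕ} (hY : Y ^ r = 1) (hr : (r : F) ≠ 0) (u : W)
    (h : Y (Y u - u) - (Y u - u) = 0) : Y u = u := by
  have hY2 : Y (Y u - u) = Y u - u := sub_eq_zero.mp h
  have key : ∀ j : ℕ, (Y ^ j) u = u + (j : F) • (Y u - u) := by
    intro j
    induction j with
    | zero => simp
    | succ j ih =>
      rw [pow_succ', Module.End.mul_apply, ih, map_add, map_smul, hY2]
      push_cast
      rw [add_smul, one_smul]
      abel
  have h1 := key r
  rw [hY, Module.End.one_apply] at h1
  have h2 : (r : F) • (Y u - u) = 0 := by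
    have : u + (r : F) • (Y u - u) = u + 0 := by rw [add_zero]; exact h1.symm
    exact add_left_cancel this
  rcases smul_eq_zero.mp h2 with h3 | h3
  · exact absurd h3 hr
  · exact sub_eq_zero.mp h3

variable [FiniteDimensional F W]

/-- an element of order dividing `r` fixes every invariant subspace of small dimension pointwise -/
theorem fix_of_finrank_le {r k : ℕ} (hyp : Hyp F r k) (Y : W →ₗ[F] W) (hY : Y ^ r = 1)
    (R : Submodule F W) (hR : ∀ u ∈ R, Y u ∈ R) (hk : finrank F R ≤ k) :
    ∀ u ∈ R, Y u = u := by
  classical
  obtain ⟨b⟩ : Nonempty (Basis (Fin (finrank F R)) F R) := ⟨Module.finBasis F R⟩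
  have h1 : (Y.restrict hR) ^ r = 1 := by
    rw [Module.End.pow_restrict r hR]
    ext x
    simp [hY]
  have h2 : (LinearMap.toMatrix b b (Y.restrict hR)) ^ r = 1 := by
    rw [LinearMap.toMatrix_pow, h1]
    exact LinearMap.toMatrix_one b
  have h3 := hyp _ hk _ h2
  have h4 : Y.restrict hR = 1 := by
    apply (LinearMap.toMatrix b b).injective
    rw [h3]
    exact (LinearMap.toMatrix_one b).symm
  intro u hu
  have := congrArg (fun f : R →ₗ[F] R => (f ⟨u, hu⟩ : W)) h4
  simpa using this

/-- the main linear algebra statement: an element of order `r` commuting with a nonzero nilpotent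
endomorphism is trivial, if matrices of size at most `dim - 2` have no elements of order `r` -/
theorem eq_one_of_commute_nilpotent {r n : ℕ} (hn : finrank F W = n) (hyp : Hyp F r (n - 2))
    (hn3 : 3 ≤ n)
    (hr : (r : F) ≠ 0) (N Y : W →ₗ[F] W) (hN : ∃ m : ℕ, N ^ m = 0) (hN0 : N ≠ 0)
    (hNY : N * Y = Y * N) (hY : Y ^ r = 1) : Y = 1 := by
  classical
  have hcomm : ∀ w, N (Y w) = Y (N w) := fun w => by
    have := congrArg (fun f : W →ₗ[F] W => f w) hNY
    simpa using this
  -- invariance of kernel and range
  have hKinv : ∀ u ∈ LinearMap.ker N, Y u ∈ LinearMap.ker N := by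
    intro u hu
    rw [LinearMap.mem_ker] at hu ⊢
    rw [hcomm, hu, map_zero]
  have hIinv : ∀ u ∈ LinearMap.range N, Y u ∈ LinearMap.range N := by
    rintro u ⟨w, rfl⟩
    exact ⟨Y w, hcomm w⟩
  have hrank := LinearMap.finrank_range_add_finrank_ker N
  rw [hn] at hrank
  have hKlt : finrank F (LinearMap.ker N) < n := by
    rw [← hn]
    apply Submodule.finrank_lt
    intro htop
    apply hN0
    exact LinearMap.ker_eq_top.mp htop
  apply LinearMap.ext
  intro w
  rw [Module.End.one_apply]
  by_cases hd : finrank F (LinearMap.ker N) ≤ n - 2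
  · -- kernel of small dimension: downward induction along the images of the powers of `N`
    have hKfix := fix_of_finrank_le hyp Y hY (LinearMap.ker N) hKinv hd
    obtain ⟨m, hm⟩ := hN
    have hpow_comm : ∀ i : ℕ, ∀ v, (N ^ i) (Y v) = Y ((N ^ i) v) := by
      intro i
      induction i with
      | zero => intro v; simp
      | succ i ih =>
        intro v
        rw [pow_succ', Module.End.mul_apply, Module.End.mul_apply, ih, hcomm]
    have C : ∀ j : ℕ, ∀ v : W, Y ((N ^ (m - j)) v) = (N ^ (m - j)) v := by
      intro j
      induction j with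
      | zero =>
        intro v
        rw [Nat.sub_zero, hm]
        simp
      | succ j ih =>
        intro v
        by_cases hj : j < m
        · have e1 : m - j = (m - (j + 1)) + 1 := by omega
          obtain ⟨u, hu⟩ : ∃ u, u = (N ^ (m - (j + 1))) v := ⟨_, rfl⟩
          rw [← hu]
          have h1 : N u = (N ^ (m - j)) v := by
            rw [hu, e1, pow_succ', Module.End.mul_apply]
          have h2 : N (Y u - u) = 0 := by
            rw [map_sub, hcomm, h1, ih v, sub_self]
          have h3 : Y (Y u - u) = Y u - u := hKfix _ (LinearMap.mem_ker.mpr h2)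
          exact fix_of_sq Y hY hr u (by rw [h3, sub_self])
        · have e1 : m - (j + 1) = m - j := by omega
          rw [e1]
          exact ih v
    have := C m w
    simpa using this
  · -- kernel of codimension one
    have hd1 : finrank F (LinearMap.ker N) = n - 1 := by omega
    have hI1 : finrank F (LinearMap.range N) = 1 := by omega
    have hIfix := fix_of_finrank_le hyp Y hY (LinearMap.range N) hIinv (by omega)
    -- a nonzero vector in the range
    obtain ⟨v, hv0⟩ : ∃ v : LinearMap.range N, v ≠ 0 := by
      have : 0 < finrank F (LinearMap.range N) := by omega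
      exact Module.finrank_pos_iff_exists_ne_zero.mp this
    have hvI : (v : W) ∈ LinearMap.range N := v.2
    have hv0' : (v : W) ≠ 0 := fun h => hv0 (Subtype.ext h)
    -- the range lies in the kernel
    have hNv : N (v : W) = 0 := by
      have hNvI : N (v : W) ∈ LinearMap.range N := ⟨_, rfl⟩
      obtain ⟨c, hc⟩ : ∃ c : F, c • (v : W) = N (v : W) := by
        have hspan := (finrank_eq_one_iff_of_nonzero' v hv0).mp hI1 ⟨N (v : W), hNvI⟩
        obtain ⟨c, hc⟩ := hspan
        exact ⟨c, by have := congrArg Subtype.val hc; simpa using this⟩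
      by_cases hc0 : c = 0
      · rw [← hc, hc0, zero_smul]
      · exfalso
        obtain ⟨m, hm⟩ := hN
        have hpow : ∀ i : ℕ, (N ^ i) (v : W) = c ^ i • (v : W) := by
          intro i
          induction i with
          | zero => simp
          | succ i ih =>
            rw [pow_succ', Module.End.mul_apply, ih, map_smul, ← hc, smul_smul, pow_succ]
        have := hpow m
        rw [hm, LinearMap.zero_apply] at this
        rcases smul_eq_zero.mp this.symm with h | h
        · exact hc0 (pow_eq_zero_iff (M₀ := F) (by
            rintro rfl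
            apply hv0'
            have := hpow 0
            simp at this
            rw [pow_zero] at hm
            have h1 : (1 : W →ₗ[F] W) (v : W) = 0 := by rw [hm]; rfl
            simpa using h1) |>.mp h)
        · exact hv0' h
    have hvK : (v : W) ∈ LinearMap.ker N := LinearMap.mem_ker.mpr hNv
    have hYv : Y (v : W) = (v : W) := hIfix _ hvI
    -- `Y` fixes the kernel pointwise
    obtain ⟨Z, hZ⟩ : ∃ Z : W →ₗ[F] W, Z = Y - 1 := ⟨_, rfl⟩
    have hZapp : ∀ u, Z u = Y u - u := fun u => by rw [hZ]; simp
    have hZY : ∀ u, Y (Z u) = Z (Y u) := fun u => by rw [hZapp, hZapp, map_sub]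
    obtain ⟨R₂, hR₂⟩ : ∃ R₂ : Submodule F W, R₂ = (LinearMap.ker N).map Z := ⟨_, rfl⟩
    have hR₂inv : ∀ u ∈ R₂, Y u ∈ R₂ := by
      rw [hR₂]
      rintro u ⟨u', hu', rfl⟩
      exact ⟨Y u', hKinv u' hu', (hZY u').symm⟩
    have hR₂rank : finrank F R₂ ≤ n - 2 := by
      have h1 := LinearMap.finrank_range_add_finrank_ker (Z.domRestrict (LinearMap.ker N))
      rw [LinearMap.range_domRestrict, ← hR₂, hd1] at h1
      have h2 : 0 < finrank F (LinearMap.ker (Z.domRestrict (LinearMap.ker N))) := by
        apply Module.finrank_pos_iff_exists_ne_zero.mpr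
        refine ⟨⟨⟨(v : W), hvK⟩, ?_⟩, ?_⟩
        · rw [LinearMap.mem_ker, LinearMap.domRestrict_apply]
          show Z (v : W) = 0
          rw [hZapp, hYv, sub_self]
        · intro h
          apply hv0'
          have := congrArg (fun x : LinearMap.ker (Z.domRestrict (LinearMap.ker N)) =>
            ((x : LinearMap.ker N) : W)) h
          simpa using this
      omega
    have hR₂fix := fix_of_finrank_le hyp Y hY R₂ hR₂inv hR₂rank
    have hKfix : ∀ u ∈ LinearMap.ker N, Y u = u := by
      intro u hu
      have h1 : Z u ∈ R₂ := by rw [hR₂]; exact ⟨u, hu, rfl⟩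
      have h2 := hR₂fix _ h1
      rw [hZapp] at h2
      exact fix_of_sq Y hY hr u (by rw [h2, sub_self])
    -- finally everything is fixed
    have h1 : N (Y w - w) = 0 := by
      rw [map_sub, hcomm, hIfix (N w) ⟨w, rfl⟩, sub_self]
    have h2 := hKfix _ (LinearMap.mem_ker.mpr h1)
    exact fix_of_sq Y hY hr w (by rw [h2, sub_self])

end

end UnipCent

end Cfsg.Agent.Lib.Helper20
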