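import Mathlib
import Cfsg.Agent.Lib.Helper20.UnipCent

set_option autoImplicit false
set_option linter.style.haveILetI false
set_option linter.unusedSimpArgs false
set_option linter.unusedSectionVars false

namespace Cfsg.Agent.Lib.Helper20

namespace UnipCent

open Matrix

variable {F : Type*} [Field F]

/-- the index equivalence used for the block embedding -/
def blockEquiv {j k : ℕ} (hjk : j ≤ k) : Fin j ⊕ Fin (k - j) ≃ Fin k :=
  finSumFinEquiv.trans (finCongr (Nat.add_sub_cancel' hjk))

/-- block embedding `M ↦ diag(M, 1)` of `j × j` matrices into `k × k` matrices -/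
def embed {j k : ℕ} (hjk : j ≤ k) : Matrix (Fin j) (Fin j) F →* Matrix (Fin k) (Fin k) F where
  toFun M := Matrix.reindex (blockEquiv hjk) (blockEquiv hjk) (Matrix.fromBlocks M 0 0 1)
  map_one' := by
    rw [Matrix.fromBlocks_one]
    simp
  map_mul' A B := by
    simp only [Matrix.reindex_apply]
    rw [Matrix.submatrix_mul_equiv, Matrix.fromBlocks_multiply]
    simp

theorem embed_apply {j k : ℕ} (hjk : j ≤ k) (M : Matrix (Fin j) (Fin j) F) :
    embed hjk M = Matrix.reindex (blockEquiv hjk) (blockEquiv hjk) (Matrix.fromBlocks M 0 0 1) :=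
  rfl

theorem det_embed {j k : ℕ} (hjk : j ≤ k) (M : Matrix (Fin j) (Fin j) F) :
    (embed hjk M).det = M.det := by
  rw [embed_apply, Matrix.det_reindex_self, Matrix.det_fromBlocks_zero₂₁, Matrix.det_one, mul_one]

theorem embed_injective {j k : ℕ} (hjk : j ≤ k) :
    Function.Injective (embed hjk : Matrix (Fin j) (Fin j) F →* Matrix (Fin k) (Fin k) F) := by
  intro A B hAB
  rw [embed_apply, embed_apply] at hAB
  have h1 := (Matrix.reindex (blockEquiv hjk) (blockEquiv hjk)).injective hAB
  exact (Matrix.fromBlocks_inj.mp h1).1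

theorem eq_one_of_pow_eq_one_of_not_dvd {G : Type*} [Group G] [Finite G] {r : ℕ} (hr : r.Prime)
    (h : ¬ r ∣ Nat.card G) (g : G) (hg : g ^ r = 1) : g = 1 := by
  have h1 : orderOf g ∣ r := orderOf_dvd_of_pow_eq_one hg
  rcases (Nat.dvd_prime hr).mp h1 with h2 | h2
  · exact orderOf_eq_one_iff.mp h2
  · exfalso
    apply h
    rw [← h2]
    exact orderOf_dvd_natCard g

variable [Fintype F] [DecidableEq F]

/-- matrices of determinant one embedded in `SL_k` -/
theorem embed_eq_one_of_pow {j k r : ℕ} (hjk : j ≤ k) (hr : r.Prime)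
    (h : ¬ r ∣ Nat.card (SpecialLinearGroup (Fin k) F)) (M : Matrix (Fin j) (Fin j) F)
    (hdet : M.det = 1) (hM : M ^ r = 1) : M = 1 := by
  obtain ⟨S, hS⟩ : ∃ S : SpecialLinearGroup (Fin k) F, S.1 = embed hjk M :=
    ⟨⟨embed hjk M, by rw [det_embed, hdet]⟩, rfl⟩
  have hSr : S ^ r = 1 := by
    apply Subtype.ext
    have e1 : (S ^ r).1 = S.1 ^ r := Matrix.SpecialLinearGroup.coe_pow S r
    rw [e1, hS, ← map_pow, hM, map_one]
    rfl
  have hS1 := eq_one_of_pow_eq_one_of_not_dvd hr h S hSr
  apply embed_injective hjk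
  rw [← hS, hS1, map_one]
  rfl

theorem no_root {k r : ℕ} (hk : 2 ≤ k) (hr : r.Prime)
    (h : ¬ r ∣ Nat.card (SpecialLinearGroup (Fin k) F)) (δ : F) (hδ : δ ^ r = 1) : δ = 1 := by
  have hδ0 : δ ≠ 0 := by
    rintro rfl
    rw [zero_pow hr.ne_zero] at hδ
    exact zero_ne_one hδ
  have h1 := embed_eq_one_of_pow hk hr h (Matrix.diagonal ![δ, δ⁻¹])
    (by rw [Matrix.det_diagonal, Fin.prod_univ_two]; simp [hδ0])
    (by
      rw [Matrix.diagonal_pow]
      have : (![δ, δ⁻¹] ^ r : Fin 2 → F) = 1 := by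
        funext i
        fin_cases i
        · simpa using hδ
        · simp [inv_pow, hδ]
      rw [this]
      exact Matrix.diagonal_one)
  have h2 := congrFun (congrFun h1 0) 0
  simpa using h2

theorem hyp_of_not_dvd {k r : ℕ} (hk : 2 ≤ k) (hr : r.Prime)
    (h : ¬ r ∣ Nat.card (SpecialLinearGroup (Fin k) F)) : Hyp F r k := by
  intro j hj M hM
  have hdet : M.det = 1 := by
    apply no_root hk hr h
    rw [← Matrix.det_pow, hM, Matrix.det_one]
  exact embed_eq_one_of_pow hj hr h M hdet hM

/-- the characteristic divides the order of `SL_k`, `k ≥ 2` -/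
theorem char_dvd_card {k p : ℕ} (hk : 2 ≤ k) [hp : Fact p.Prime] [CharP F p] :
    p ∣ Nat.card (SpecialLinearGroup (Fin k) F) := by
  by_contra h
  have hpow : ∀ m : ℕ, (!![1, 1; 0, 1] : Matrix (Fin 2) (Fin 2) F) ^ m = !![1, (m : F); 0, 1] := by
    intro m
    induction m with
    | zero =>
      ext i j
      fin_cases i <;> fin_cases j <;> simp
    | succ m ih =>
      rw [pow_succ, ih]
      ext i j
      fin_cases i <;> fin_cases j <;> simp [Matrix.mul_apply, Fin.sum_univ_two, add_comm]
  have h1 := embed_eq_one_of_pow hk hp.out h (!![1, 1; 0, 1] : Matrix (Fin 2) (Fin 2) F)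
    (by rw [Matrix.det_fin_two]; simp)
    (by
      rw [hpow, CharP.cast_eq_zero]
      ext i j
      fin_cases i <;> fin_cases j <;> simp)
  have h2 := congrFun (congrFun h1 0) 1
  simp at h2

end UnipCent

end Cfsg.Agent.Lib.Helper20
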