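import Mathlib
import Cfsg.Agent.Lib.Helper20.LinPGroup
import Cfsg.Agent.Lib.Helper20.WreathLin

set_option autoImplicit false
set_option linter.style.haveILetI false
set_option linter.unusedSimpArgs false
set_option linter.unusedSectionVars false

/-!
Sylow `p`-subgroups of `GL_n(q)`, `p` not dividing `q`: lower bound for the derived length.
-/

namespace Cfsg.Agent.Lib.Helper20.WreathLin

universe u

theorem exists_order_p {F : Type*} [Field F] [Fintype F] (q : ℕ) (hq : Fintype.card F = q)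
    (p : ℕ) [hp : Fact p.Prime] (hpq : ¬ p ∣ q) (e : ℕ) (he : e = orderOf (q : ZMod p)) :
    ∃ ζ : Matrix.GeneralLinearGroup (Fin e) F, orderOf ζ = p := by
  classical
  have he0 : 0 < e := by
    rw [he]
    exact Cfsg.Agent.Lib.Helper20.LinPGroup.orderOf_pos_of_not_dvd (p := p) q hpq
  have hq0 : 0 < q := by
    rw [← hq]
    exact Fintype.card_pos
  have h1 : (q : ZMod p) ^ e = 1 := by
    rw [he]
    exact pow_orderOf_eq_one _
  have hqe : 1 ≤ q ^ e := Nat.one_le_pow _ _ hq0
  have h2 : p ∣ q ^ e - 1 := by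
    rw [← ZMod.natCast_eq_zero_iff, Nat.cast_sub hqe, Nat.cast_pow, Nat.cast_one, h1, sub_self]
  have h3 : p ∣ Nat.card (Matrix.GeneralLinearGroup (Fin e) F) := by
    rw [Matrix.card_GL_field, hq]
    refine dvd_trans ?_ (Finset.dvd_prod_of_mem _ (Finset.mem_univ (⟨0, he0⟩ : Fin e)))
    simpa using h2
  exact exists_prime_orderOf_dvd_card' p h3

theorem sylow_derivedSeries_ne_bot {F : Type u} [Field F] [Fintype F] (q : ℕ)
    (hq : Fintype.card F = q) (p : ℕ) [hp : Fact p.Prime] (hpq : ¬ p ∣ q) (n : ℕ)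
    (hn : orderOf (q : ZMod p) ≤ n) (P : Sylow p (Matrix.GeneralLinearGroup (Fin n) F)) :
    derivedSeries ↥(P : Subgroup (Matrix.GeneralLinearGroup (Fin n) F))
      (Nat.log p (n / orderOf (q : ZMod p))) ≠ ⊥ := by
  classical
  have he0 : 0 < orderOf (q : ZMod p) :=
    Cfsg.Agent.Lib.Helper20.LinPGroup.orderOf_pos_of_not_dvd (p := p) q hpq
  obtain ⟨ζ, hζ⟩ := exists_order_p q hq p hpq (orderOf (q : ZMod p)) rfl
  have hne : n / orderOf (q : ZMod p) ≠ 0 := (Nat.div_pos hn he0).ne'
  have hk : orderOf (q : ZMod p) * p ^ (Nat.log p (n / orderOf (q : ZMod p))) ≤ n :=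
    le_trans (Nat.mul_le_mul_left _ (Nat.pow_log_le_self p hne)) (Nat.mul_div_le n _)
  obtain ⟨G, hG, hfin, V, hV1, hV2, hV3, ρ, hpG, hinj, hrank, hds⟩ :=
    exists_rep F p (orderOf (q : ZMod p)) he0 ζ hζ (Nat.log p (n / orderOf (q : ZMod p)))
  obtain ⟨φ, hφ⟩ := exists_embedding ρ hinj n (by rw [hrank]; exact hk)
  have hQ' : IsPGroup p φ.range := hpG.of_surjective φ.rangeRestrict φ.rangeRestrict_surjective
  obtain ⟨P', hP'⟩ := hQ'.exists_le_sylow
  let f : G →* ↥(P : Subgroup (Matrix.GeneralLinearGroup (Fin n) F)) :=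
    (Sylow.equiv P' P).toMonoidHom.comp ((Subgroup.inclusion hP').comp φ.rangeRestrict)
  have hf : Function.Injective f := by
    intro x y hxy
    have h1 : (Subgroup.inclusion hP') (φ.rangeRestrict x) =
        (Subgroup.inclusion hP') (φ.rangeRestrict y) := (Sylow.equiv P' P).injective hxy
    have h2 := Subgroup.inclusion_injective hP' h1
    apply hφ
    exact congrArg Subtype.val h2
  intro hbot
  apply hds
  have h1 := map_derivedSeries_le_derivedSeries f (Nat.log p (n / orderOf (q : ZMod p)))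
  rw [hbot, le_bot_iff] at h1
  exact (Subgroup.map_eq_bot_iff_of_injective _ hf).mp h1

end Cfsg.Agent.Lib.Helper20.WreathLin
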